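import Mathlib
import Cfsg.Prelude.Def_GeometricClasses
import Cfsg.Agent.Lib.Helper99.AschDefs
import Cfsg.Agent.Lib.Helper37.AschC8

/-!
# Project ASCH (helper99, S5630), module ASCH-[RESID] (helper11): a perfect minimal `P` that is simple modulo scalars gives
`Geo H` (subfield / form cases) or the residual class.  The statement of ASCH-[NDESC] (`geo_of_realisable`) enters as a
hypothesis in `residual_or_geo_of`.
-/

set_option autoImplicit false

namespace Cfsg.Agent.Lib.Helper11.AschResid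

open Cfsg Cfsg.Geo Cfsg.Agent.Lib.Helper99.Asch
open scoped MatrixGroups Matrix commutatorElement

variable {ι : Type} [Fintype ι] [DecidableEq ι] {F : Type*} [Field F]

/-- scalar matrices are central -/
theorem scalars_comm {z : GL ι F} (hz : z ∈ scalars ι F) (g : GL ι F) : z * g = g * z := by
  obtain ⟨c, hc⟩ := (mem_scalars_iff z).mp hz
  apply Units.ext
  rw [Units.val_mul, Units.val_mul, hc, Matrix.smul_mul, Matrix.mul_smul, Matrix.one_mul, Matrix.mul_one]

theorem commutatorElement_central_mul_left {G : Type*} [Group G] {z : G} (hz : ∀ g, z * g = g * z) (x b : G) :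
    ⁅z * x, b⁆ = ⁅x, b⁆ := by
  have h1 : ⁅z * x, b⁆ = z * (x * b * x⁻¹) * z⁻¹ * b⁻¹ := by
    rw [commutatorElement_def]
    group
  rw [h1, hz (x * b * x⁻¹), commutatorElement_def]
  group

theorem commutatorElement_central_mul_right {G : Type*} [Group G] {w : G} (hw : ∀ g, w * g = g * w) (a y : G) :
    ⁅a, w * y⁆ = ⁅a, y⁆ := by
  rw [← commutatorElement_inv (w * y) a, commutatorElement_central_mul_left hw, commutatorElement_inv]

/-- an element acting on the perfect group `P` by central scalars centralises `P` -/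
theorem commute_of_perfect {P : Subgroup (GL ι F)} (hperf : ⁅P, P⁆ = P) (h : GL ι F)
    (hh : ∀ x ∈ P, h * x * h⁻¹ * x⁻¹ ∈ scalars ι F) : ∀ x ∈ P, h * x = x * h := by
  have hle : P ≤ Subgroup.centralizer ({h} : Set (GL ι F)) := by
    rw [← hperf, Subgroup.commutator_le]
    intro x hx y hy
    rw [Subgroup.mem_centralizer_iff]
    intro g hg
    rw [Set.mem_singleton_iff] at hg
    subst hg
    -- conjugation by `g` fixes `⁅x, y⁆`
    have hx' : MulAut.conj g x = (g * x * g⁻¹ * x⁻¹) * x := by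
      rw [MulAut.conj_apply]
      group
    have hy' : MulAut.conj g y = (g * y * g⁻¹ * y⁻¹) * y := by
      rw [MulAut.conj_apply]
      group
    have key : MulAut.conj g ⁅x, y⁆ = ⁅x, y⁆ := by
      rw [map_commutatorElement, hx', hy',
        commutatorElement_central_mul_left (scalars_comm (hh x hx)),
        commutatorElement_central_mul_right (scalars_comm (hh y hy))]
    rw [MulAut.conj_apply] at key
    calc g * ⁅x, y⁆ = (g * ⁅x, y⁆ * g⁻¹) * g := by group
      _ = ⁅x, y⁆ * g := by rw [key]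
  intro x hx
  have := Subgroup.mem_centralizer_iff.mp (hle hx) h (Set.mem_singleton h)
  exact this

/-- a matrix of a unit commuting with an absolutely irreducible set is a scalar -/
theorem mem_scalars_of_commute [Nonempty ι] {P : Subgroup (GL ι F)}
    (habs : ActsAbsolutelyIrreducibly (matrixSet P)) (h : GL ι F) (hc : ∀ x ∈ P, h * x = x * h) :
    h ∈ scalars ι F := by
  obtain ⟨c, hcm⟩ := habs.2 (h : Matrix ι ι F) (by
    rintro s ⟨x, hx, rfl⟩
    have := congrArg (fun g : GL ι F => (g : Matrix ι ι F)) (hc x hx)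
    simpa using this)
  have hc0 : c ≠ 0 := by
    rintro rfl
    rw [zero_smul] at hcm
    have h1 : (h : Matrix ι ι F) * ((h⁻¹ : GL ι F) : Matrix ι ι F) = 1 := by
      rw [← Units.val_mul, mul_inv_cancel, Units.val_one]
    rw [hcm, Matrix.zero_mul] at h1
    obtain ⟨i⟩ := ‹Nonempty ι›
    have := congrFun (congrFun h1 i) i
    simp at this
  exact (mem_scalars_iff h).mpr ⟨Units.mk0 c hc0, hcm⟩

/-- `P` modulo its scalars is simple when every `P`-normalised subgroup of `P` is scalar or `P` -/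
theorem isSimpleGroup_quotient {P : Subgroup (GL ι F)} (hnot : ¬ P ≤ scalars ι F)
    (hsimple : ∀ M : Subgroup (GL ι F), M ≤ P → Nrm P M → M ≤ scalars ι F ∨ M = P) :
    IsSimpleGroup (P ⧸ (scalars ι F).subgroupOf P) := by
  have hnt : Nontrivial (P ⧸ (scalars ι F).subgroupOf P) := by
    obtain ⟨x, hxP, hxZ⟩ := Set.not_subset.mp hnot
    refine ⟨⟨((⟨x, hxP⟩ : P) : P ⧸ (scalars ι F).subgroupOf P), 1, ?_⟩⟩
    intro h
    rw [QuotientGroup.eq_one_iff, Subgroup.mem_subgroupOf] at h
    exact hxZ h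
  refine { toNontrivial := hnt, eq_bot_or_eq_top_of_normal := ?_ }
  intro Kbar hKbar
  set K : Subgroup P := Kbar.comap (QuotientGroup.mk' ((scalars ι F).subgroupOf P)) with hK
  have hKn : K.Normal := hKbar.comap _
  have hMle : K.map P.subtype ≤ P := Subgroup.map_subtype_le K
  have hMn : Nrm P (K.map P.subtype) := by
    rintro h hh _ ⟨k, hk, rfl⟩
    refine ⟨(⟨h, hh⟩ : P) * k * (⟨h, hh⟩ : P)⁻¹, hKn.conj_mem k hk _, ?_⟩
    simp
  rcases hsimple _ hMle hMn with hsc | htop
  · left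
    rw [eq_bot_iff]
    intro q hq
    obtain ⟨k, rfl⟩ := QuotientGroup.mk'_surjective ((scalars ι F).subgroupOf P) q
    have hkK : k ∈ K := hq
    have : (k : GL ι F) ∈ scalars ι F := hsc ⟨k, hkK, rfl⟩
    rw [Subgroup.mem_bot]
    exact (QuotientGroup.eq_one_iff k).mpr (Subgroup.mem_subgroupOf.mpr this)
  · right
    rw [eq_top_iff]
    intro q _
    obtain ⟨k, rfl⟩ := QuotientGroup.mk'_surjective ((scalars ι F).subgroupOf P) q
    have hkM : (k : GL ι F) ∈ K.map P.subtype := by rw [htop]; exact k.2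
    obtain ⟨k', hk', hkk⟩ := hkM
    have : k' = k := Subtype.ext hkk
    subst this
    exact hk'

/-- `P` modulo its scalars is not abelian when `P` is perfect and not scalar -/
theorem not_isMulCommutative_quotient {P : Subgroup (GL ι F)} (hnot : ¬ P ≤ scalars ι F)
    (hperf : ⁅P, P⁆ = P) : ¬ IsMulCommutative (P ⧸ (scalars ι F).subgroupOf P) := by
  intro hcomm
  apply hnot
  rw [← hperf, Subgroup.commutator_le]
  intro x hx y hy
  have h1 : (((⁅(⟨x, hx⟩ : P), (⟨y, hy⟩ : P)⁆ : P)) : P ⧸ (scalars ι F).subgroupOf P) = 1 := by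
    have h2 : (((⁅(⟨x, hx⟩ : P), (⟨y, hy⟩ : P)⁆ : P)) : P ⧸ (scalars ι F).subgroupOf P)
        = ⁅(((⟨x, hx⟩ : P)) : P ⧸ (scalars ι F).subgroupOf P), (((⟨y, hy⟩ : P)) : P ⧸ (scalars ι F).subgroupOf P)⁆ :=
      map_commutatorElement (QuotientGroup.mk' ((scalars ι F).subgroupOf P)) _ _
    rw [h2, commutatorElement_eq_one_iff_mul_comm]
    exact hcomm.is_comm.comm _ _
  rw [QuotientGroup.eq_one_iff, Subgroup.mem_subgroupOf] at h1
  have h3 : ((⁅(⟨x, hx⟩ : P), (⟨y, hy⟩ : P)⁆ : P) : GL ι F) = ⁅x, y⁆ :=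
    map_commutatorElement P.subtype _ _
  rw [h3] at h1
  exact h1

end Cfsg.Agent.Lib.Helper11.AschResid

namespace Cfsg.Agent.Lib.Helper11.AschResid

open Cfsg Cfsg.Geo Cfsg.Agent.Lib.Helper99.Asch
open scoped MatrixGroups Matrix Kronecker

variable {n : ℕ} {F : Type*} [Field F] [Fintype F]

/-- ASCH-[RESID], with the statement of ASCH-[NDESC] (`geo_of_realisable`) as a hypothesis -/
theorem residual_or_geo_of
    (hNDESC : ∀ (H S : Subgroup (GL (Fin n) F)), ActsAbsolutelyIrreducibly (matrixSet S) → Nrm H S →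
      ∀ F₀ : Subfield F, F₀ ≠ ⊤ → RealisableOver F₀ (matrixSet S) → Geo H)
    (hn : 3 ≤ n) (H P : Subgroup (GL (Fin n) F)) (hNAI : NAI H)
    (hP : PerfMin H P)
    (hsimple : ∀ M : Subgroup (GL (Fin n) F), M ≤ P → Nrm P M → M ≤ scalars (Fin n) F ∨ M = P) :
    Geo H ∨ InLinearResidualClass H := by
  have hne : Nonempty (Fin n) := ⟨⟨0, by omega⟩⟩
  have habs : ActsAbsolutelyIrreducibly (matrixSet P) := (hNAI P hP.nrm).resolve_left hP.not_le
  by_cases h1 : ∃ F₀ : Subfield F, F₀ ≠ ⊤ ∧ RealisableOver F₀ (matrixSet P)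
  · obtain ⟨F₀, hF₀, hreal⟩ := h1
    exact Or.inl (hNDESC H P habs hP.nrm F₀ hF₀ hreal)
  by_cases h2 : ∃ Q : (Fin n → F) → F, IsNondegenerateQuadraticForm Q ∧ FixesQuadForm (matrixSet P) Q
  · obtain ⟨Q, hQ, hfix⟩ := h2
    exact Or.inl (geo_of_fixes_quadratic hn H P habs hP.nrm Q hQ hfix)
  by_cases h3 : ∃ f : (Fin n → F) → (Fin n → F) → F, IsSymplecticForm f ∧ FixesForm (matrixSet P) f
  · obtain ⟨f, hf, hfix⟩ := h3
    exact Or.inl (geo_of_fixes_symplectic hn H P habs hP.nrm f hf hfix)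
  by_cases h4 : ∃ (σ : F ≃+* F) (f : (Fin n → F) → (Fin n → F) → F), IsUnitaryForm σ f ∧ FixesForm (matrixSet P) f
  · obtain ⟨σ, f, hf, hfix⟩ := h4
    exact Or.inl (geo_of_fixes_unitary hn H P habs hP.nrm σ f hf hfix)
  right
  refine ⟨P, ?_, h2, h3, h4⟩
  exact
    { le := hP.le
      normal := hP.nrm
      perfect := hP.perfect
      simple := isSimpleGroup_quotient hP.not_le hsimple
      nonabelian := not_isMulCommutative_quotient hP.not_le hP.perfect
      centralizer_scalar := fun h _ hh =>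
        mem_scalars_of_commute habs h (commute_of_perfect hP.perfect h hh)
      absIrred := habs
      no_subfield := fun F₀ hF₀ hreal => h1 ⟨F₀, hF₀, hreal⟩ }

end Cfsg.Agent.Lib.Helper11.AschResid
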