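import Cfsg.Agent.S0648

/-!
# Glauberman's replacement theorem: the algebra of `A* = (A ∩ A^b)[A, b]`

Helper lemmas for S0650 (and S0651, S0652).
-/

set_option autoImplicit false
open Cfsg
open scoped commutatorElement

namespace Cfsg.Agent.Lib.Helper11

variable {S : Type*} [Group S]

/-- `b⁻¹ A b`. -/
abbrev conjA (A : Subgroup S) (b : S) : Subgroup S := A.map (MulAut.conj (b⁻¹)).toMonoidHom

/-- `A ∩ b⁻¹ A b`. -/
abbrev interA (A : Subgroup S) (b : S) : Subgroup S := A ⊓ conjA A b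

/-- the generators `a b⁻¹ a⁻¹ b`. -/
abbrev gensA (A : Subgroup S) (b : S) : Set S := {g : S | ∃ a ∈ A, g = a * b⁻¹ * a⁻¹ * b}

/-- `[A, b]`. -/
abbrev commA (A : Subgroup S) (b : S) : Subgroup S := Subgroup.closure (gensA A b)

/-- `A* = (A ∩ A^b)[A, b]`. -/
abbrev starA (A : Subgroup S) (b : S) : Subgroup S := interA A b ⊔ commA A b

theorem mem_conjA (A : Subgroup S) (b x : S) : x ∈ conjA A b ↔ b * x * b⁻¹ ∈ A := by
  rw [Subgroup.mem_map_equiv, MulAut.conj_symm_apply, inv_inv]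

theorem conj_mem_conjA (A : Subgroup S) (b a : S) (ha : a ∈ A) : b⁻¹ * a * b ∈ conjA A b := by
  rw [mem_conjA]
  have : b * (b⁻¹ * a * b) * b⁻¹ = a := by group
  rw [this]; exact ha

theorem normalizer_inf_le (H K : Subgroup S) :
    Subgroup.normalizer (H : Set S) ⊓ Subgroup.normalizer (K : Set S)
      ≤ Subgroup.normalizer ((H ⊓ K : Subgroup S) : Set S) := by
  intro g hg
  rw [Subgroup.mem_normalizer_iff]
  intro x
  rw [Subgroup.mem_inf, Subgroup.mem_inf,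
    Subgroup.mem_normalizer_iff.mp hg.1 x, Subgroup.mem_normalizer_iff.mp hg.2 x]

/-- In class two: if `z = y⁻¹ x⁻¹ y x` commutes with `x` and `y`, then
`(x y)^n = x^n y^n z^(n choose 2)`. -/
theorem mul_pow_class_two (x y z : S) (hz : y * x = x * y * z) (hzx : z * x = x * z)
    (hzy : z * y = y * z) (n : ℕ) : (x * y) ^ n = x ^ n * y ^ n * z ^ (n.choose 2) := by
  have hzx' : Commute z x := hzx
  have hzy' : Commute z y := hzy
  have h1 : ∀ k : ℕ, y ^ k * x = x * y ^ k * z ^ k := by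
    intro k
    induction k with
    | zero => simp
    | succ k ih =>
      calc y ^ (k + 1) * x = y ^ k * (y * x) := by rw [pow_succ]; group
        _ = y ^ k * (x * y * z) := by rw [hz]
        _ = (y ^ k * x) * y * z := by group
        _ = (x * y ^ k * z ^ k) * y * z := by rw [ih]
        _ = x * y ^ k * (z ^ k * y) * z := by group
        _ = x * y ^ k * (y * z ^ k) * z := by rw [(hzy'.pow_left k).eq]
        _ = x * (y ^ k * y) * (z ^ k * z) := by group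
        _ = x * y ^ (k + 1) * z ^ (k + 1) := by rw [← pow_succ, ← pow_succ]
  induction n with
  | zero => simp
  | succ n ih =>
    have hc : (n + 1).choose 2 = n.choose 2 + n := by
      rw [Nat.choose_succ_succ' n 1, Nat.choose_one_right, add_comm]
    calc (x * y) ^ (n + 1) = (x * y) ^ n * (x * y) := pow_succ _ _
      _ = x ^ n * y ^ n * z ^ (n.choose 2) * (x * y) := by rw [ih]
      _ = x ^ n * y ^ n * (z ^ (n.choose 2) * x) * y := by group
      _ = x ^ n * y ^ n * (x * z ^ (n.choose 2)) * y := by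
          rw [(hzx'.pow_left (n.choose 2)).eq]
      _ = x ^ n * (y ^ n * x) * (z ^ (n.choose 2) * y) := by group
      _ = x ^ n * (x * y ^ n * z ^ n) * (y * z ^ (n.choose 2)) := by
          rw [h1 n, (hzy'.pow_left (n.choose 2)).eq]
      _ = x ^ n * x * y ^ n * (z ^ n * y) * z ^ (n.choose 2) := by group
      _ = x ^ n * x * y ^ n * (y * z ^ n) * z ^ (n.choose 2) := by
          rw [(hzy'.pow_left n).eq]
      _ = (x ^ n * x) * (y ^ n * y) * (z ^ n * z ^ (n.choose 2)) := by group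
      _ = x ^ (n + 1) * y ^ (n + 1) * z ^ ((n + 1).choose 2) := by
          rw [← pow_succ, ← pow_succ, ← pow_add, hc, add_comm n (n.choose 2)]

section setup

variable (A B : Subgroup S) (b : S)
  (hAc : ∀ x ∈ A, ∀ y ∈ A, x * y = y * x)
  (hbN : b ∈ Subgroup.normalizer ((Subgroup.normalizer (A : Set S) : Subgroup S) : Set S))

include hAc in
theorem conjA_comm : ∀ x ∈ conjA A b, ∀ y ∈ conjA A b, x * y = y * x := by
  intro x hx y hy
  rw [mem_conjA] at hx hy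
  have h := hAc _ hx _ hy
  have h1 : b * (x * y) * b⁻¹ = b * (y * x) * b⁻¹ := by
    calc b * (x * y) * b⁻¹ = (b * x * b⁻¹) * (b * y * b⁻¹) := by group
      _ = (b * y * b⁻¹) * (b * x * b⁻¹) := h
      _ = b * (y * x) * b⁻¹ := by group
  exact mul_left_cancel (mul_right_cancel h1)

include hbN in
/-- `N_S(A)` normalizes `b⁻¹ A b`. -/
theorem normalizer_le_normalizer_conjA :
    Subgroup.normalizer (A : Set S) ≤ Subgroup.normalizer ((conjA A b : Subgroup S) : Set S) := by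
  intro n hn
  rw [Subgroup.mem_normalizer_iff]
  intro x
  rw [mem_conjA, mem_conjA]
  have hn' : b * n * b⁻¹ ∈ Subgroup.normalizer (A : Set S) :=
    (Subgroup.mem_normalizer_iff.mp hbN n).mp hn
  have := Subgroup.mem_normalizer_iff.mp hn' (b * x * b⁻¹)
  rw [this]
  have e : b * n * b⁻¹ * (b * x * b⁻¹) * (b * n * b⁻¹)⁻¹ = b * (n * x * n⁻¹) * b⁻¹ := by group
  rw [e]

include hbN in
theorem conjA_le_normalizer : conjA A b ≤ Subgroup.normalizer (A : Set S) := by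
  intro x hx
  rw [mem_conjA] at hx
  exact (Subgroup.mem_normalizer_iff.mp hbN x).mpr (Subgroup.le_normalizer hx)

include hbN in
theorem le_normalizer_conjA : A ≤ Subgroup.normalizer ((conjA A b : Subgroup S) : Set S) :=
  Subgroup.le_normalizer.trans (normalizer_le_normalizer_conjA A b hbN)

include hbN in
/-- commutators between `A` and `A^b` lie in `A ∩ A^b`. -/
theorem comm_mem_interA (a y : S) (ha : a ∈ A) (hy : y ∈ conjA A b) :
    ⁅a, y⁆ ∈ interA A b ∧ ⁅y, a⁆ ∈ interA A b := by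
  have h1 : a * y * a⁻¹ ∈ conjA A b :=
    (Subgroup.mem_normalizer_iff.mp (le_normalizer_conjA A b hbN ha) y).mp hy
  have h2 : y * a * y⁻¹ ∈ A :=
    (Subgroup.mem_normalizer_iff.mp (conjA_le_normalizer A b hbN hy) a).mp ha
  have h3 : y * a⁻¹ * y⁻¹ ∈ A :=
    (Subgroup.mem_normalizer_iff.mp (conjA_le_normalizer A b hbN hy) a⁻¹).mp (A.inv_mem ha)
  have h4 : a * y⁻¹ * a⁻¹ ∈ conjA A b :=
    (Subgroup.mem_normalizer_iff.mp (le_normalizer_conjA A b hbN ha) y⁻¹).mp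
      (Subgroup.inv_mem _ hy)
  refine ⟨⟨?_, ?_⟩, ⟨?_, ?_⟩⟩
  · have : ⁅a, y⁆ = a * (y * a⁻¹ * y⁻¹) := by simp only [commutatorElement_def]; group
    rw [this]; exact A.mul_mem ha h3
  · have : ⁅a, y⁆ = (a * y * a⁻¹) * y⁻¹ := by simp only [commutatorElement_def]
    rw [this]; exact Subgroup.mul_mem _ h1 (Subgroup.inv_mem _ hy)
  · have : ⁅y, a⁆ = (y * a * y⁻¹) * a⁻¹ := by simp only [commutatorElement_def]
    rw [this]; exact A.mul_mem h2 (A.inv_mem ha)
  · have : ⁅y, a⁆ = y * (a * y⁻¹ * a⁻¹) := by simp only [commutatorElement_def]; group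
    rw [this]; exact Subgroup.mul_mem _ hy h4

include hAc in
/-- `A ∩ A^b` is centralized by `A ⊔ A^b`. -/
theorem sup_le_centralizer_interA :
    A ⊔ conjA A b ≤ Subgroup.centralizer ((interA A b : Subgroup S) : Set S) := by
  refine sup_le ?_ ?_
  · intro a ha
    rw [Subgroup.mem_centralizer_iff]
    intro m hm
    exact hAc m hm.1 a ha
  · intro y hy
    rw [Subgroup.mem_centralizer_iff]
    intro m hm
    exact conjA_comm A b hAc m hm.2 y hy

include hAc hbN in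
/-- `H = A A^b` has class at most two: `[H, H] ≤ A ∩ A^b`. -/
theorem commutator_sup_le_interA : ⁅A ⊔ conjA A b, A ⊔ conjA A b⁆ ≤ interA A b := by
  have hcl : A ⊔ conjA A b = Subgroup.closure ((A : Set S) ∪ (conjA A b : Set S)) :=
    Subgroup.sup_eq_closure _ _
  rw [hcl]
  apply Cfsg.Agent.S0648.commutator_closure_le
  · rw [← hcl]
    exact (sup_le_centralizer_interA A b hAc).trans (Subgroup.centralizer_le_normalizer _)
  · intro x hx y hy
    rcases hx with hx | hx <;> rcases hy with hy | hy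
    · have : ⁅x, y⁆ = 1 := commutatorElement_eq_one_iff_commute.mpr (hAc x hx y hy)
      rw [this]; exact Subgroup.one_mem _
    · exact (comm_mem_interA A b hbN x y hx hy).1
    · exact (comm_mem_interA A b hbN y x hy hx).2
    · have : ⁅x, y⁆ = 1 :=
        commutatorElement_eq_one_iff_commute.mpr (conjA_comm A b hAc x hx y hy)
      rw [this]; exact Subgroup.one_mem _

theorem gen_mem_sup (a : S) (ha : a ∈ A) : a * b⁻¹ * a⁻¹ * b ∈ A ⊔ conjA A b := by
  have : a * b⁻¹ * a⁻¹ * b = a * (b⁻¹ * a⁻¹ * b) := by group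
  rw [this]
  exact Subgroup.mul_mem _ (Subgroup.mem_sup_left ha)
    (Subgroup.mem_sup_right (conj_mem_conjA A b a⁻¹ (A.inv_mem ha)))

theorem gen_mem_B [hBn : B.Normal] (hb : b ∈ B) (a : S) : a * b⁻¹ * a⁻¹ * b ∈ B :=
  B.mul_mem (hBn.conj_mem _ (B.inv_mem hb) a) hb

theorem commA_le_sup : commA A b ≤ A ⊔ conjA A b := by
  rw [Subgroup.closure_le]
  rintro _ ⟨a, ha, rfl⟩
  exact gen_mem_sup A b a ha

theorem commA_le_B [B.Normal] (hb : b ∈ B) : commA A b ≤ B := by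
  rw [Subgroup.closure_le]
  rintro _ ⟨a, _, rfl⟩
  exact gen_mem_B B b hb a

theorem starA_le_sup : starA A b ≤ A ⊔ conjA A b :=
  sup_le (inf_le_left.trans le_sup_left) (commA_le_sup A b)

end setup

section setup2

variable (A B : Subgroup S) (b : S) [hBn : B.Normal]
  (hAc : ∀ x ∈ A, ∀ y ∈ A, x * y = y * x)
  (hBA : ⁅B, B⁆ ≤ A)
  (hb : b ∈ B)
  (hbN : b ∈ Subgroup.normalizer ((Subgroup.normalizer (A : Set S) : Subgroup S) : Set S))

include hBA in
/-- `B` normalizes `A ∩ B`. -/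
theorem conj_mem_inf (β : S) (hβ : β ∈ B) (x : S) (hx : x ∈ A ⊓ B) :
    β * x * β⁻¹ ∈ A ⊓ B := by
  have h1 : β * x * β⁻¹ = ⁅β, x⁆ * x := by simp only [commutatorElement_def]; group
  refine ⟨?_, hBn.conj_mem x hx.2 β⟩
  rw [h1]
  exact A.mul_mem (hBA (Subgroup.commutator_mem_commutator hβ hx.2)) hx.1

include hBA hb in
/-- `b⁻¹ M b ≤ M`. -/
theorem conj_inv_mem_interA (x : S) (hx : x ∈ interA A b) :
    b⁻¹ * x * b ∈ interA A b := by
  have hxA : x ∈ A := hx.1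
  have hxA1 : x ∈ conjA A b := hx.2
  rw [mem_conjA] at hxA1
  have hs : x⁻¹ * (b * x * b⁻¹) ∈ A ⊓ B := by
    refine ⟨A.mul_mem (A.inv_mem hxA) hxA1, ?_⟩
    have e : x⁻¹ * (b * x * b⁻¹) = (x⁻¹ * b * (x⁻¹)⁻¹) * b⁻¹ := by group
    rw [e]
    exact B.mul_mem (hBn.conj_mem b hb x⁻¹) (B.inv_mem hb)
  have ht := conj_mem_inf A B hBA b⁻¹ (B.inv_mem hb) _ (Subgroup.inv_mem _ hs)
  refine ⟨?_, conj_mem_conjA A b x hxA⟩
  have e : b⁻¹ * x * b = x * (b⁻¹ * (x⁻¹ * (b * x * b⁻¹))⁻¹ * (b⁻¹)⁻¹) := by group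
  rw [e]
  exact A.mul_mem hxA ht.1

include hBA hb in
theorem b_mem_normalizer_interA [Finite S] :
    b ∈ Subgroup.normalizer ((interA A b : Subgroup S) : Set S) := by
  have h1 : b⁻¹ ∈ Subgroup.normalizer ((interA A b : Subgroup S) : Set S) := by
    apply Subgroup.mem_normalizer_fintype
    intro n hn
    have := conj_inv_mem_interA A B b hBA hb n hn
    simpa using this
  simpa using Subgroup.inv_mem _ h1

include hBA hb in
theorem gen_mem_interA_iff [Finite S] (a : S) (ha : a ∈ A) :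
    a * b⁻¹ * a⁻¹ * b ∈ interA A b ↔ a ∈ interA A b := by
  have hbM := b_mem_normalizer_interA A B b hBA hb
  constructor
  · intro h
    have hy : b⁻¹ * a⁻¹ * b ∈ interA A b := by
      refine ⟨?_, conj_mem_conjA A b a⁻¹ (A.inv_mem ha)⟩
      have e : b⁻¹ * a⁻¹ * b = a⁻¹ * (a * b⁻¹ * a⁻¹ * b) := by group
      rw [e]; exact A.mul_mem (A.inv_mem ha) h.1
    have h2 := (Subgroup.mem_normalizer_iff.mp hbM (b⁻¹ * a⁻¹ * b)).mp hy
    have e : b * (b⁻¹ * a⁻¹ * b) * b⁻¹ = a⁻¹ := by group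
    rw [e] at h2
    simpa using Subgroup.inv_mem _ h2
  · intro h
    have h1 : b⁻¹ * a⁻¹ * b ∈ interA A b :=
      conj_inv_mem_interA A B b hBA hb a⁻¹ (Subgroup.inv_mem _ h)
    have e : a * b⁻¹ * a⁻¹ * b = a * (b⁻¹ * a⁻¹ * b) := by group
    rw [e]; exact Subgroup.mul_mem _ h h1

include hAc hbN in
/-- the map `a ↦ a b⁻¹ a⁻¹ b` is multiplicative modulo `A ∩ A^b`. -/
theorem gen_mul (a a' : S) (ha : a ∈ A) (ha' : a' ∈ A) :
    (a * a' * b⁻¹ * (a * a')⁻¹ * b)⁻¹ * ((a * b⁻¹ * a⁻¹ * b) * (a' * b⁻¹ * a'⁻¹ * b))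
      ∈ interA A b := by
  have hy : b⁻¹ * a⁻¹ * b ∈ conjA A b := conj_mem_conjA A b a⁻¹ (A.inv_mem ha)
  have hy' : b⁻¹ * a'⁻¹ * b ∈ conjA A b := conj_mem_conjA A b a'⁻¹ (A.inv_mem ha')
  have hcomm : (b⁻¹ * a⁻¹ * b)⁻¹ * (b⁻¹ * a'⁻¹ * b)⁻¹
      = (b⁻¹ * a'⁻¹ * b)⁻¹ * (b⁻¹ * a⁻¹ * b)⁻¹ :=
    conjA_comm A b hAc _ (Subgroup.inv_mem _ hy) _ (Subgroup.inv_mem _ hy')
  have hm0 : (b⁻¹ * a⁻¹ * b)⁻¹ * a'⁻¹ * (b⁻¹ * a⁻¹ * b) * a' ∈ interA A b := by
    have := (comm_mem_interA A b hbN a'⁻¹ (b⁻¹ * a⁻¹ * b)⁻¹ (A.inv_mem ha')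
      (Subgroup.inv_mem _ hy)).2
    simpa [commutatorElement_def] using this
  have hcen := sup_le_centralizer_interA A b hAc (Subgroup.mem_sup_right hy')
  have h3 := Subgroup.mem_centralizer_iff.mp hcen _ hm0
  have e : (a * a' * b⁻¹ * (a * a')⁻¹ * b)⁻¹ * ((a * b⁻¹ * a⁻¹ * b) * (a' * b⁻¹ * a'⁻¹ * b))
      = (b⁻¹ * a'⁻¹ * b)⁻¹ *
        (((b⁻¹ * a⁻¹ * b)⁻¹ * a'⁻¹ * (b⁻¹ * a⁻¹ * b) * a') * (b⁻¹ * a'⁻¹ * b)) := by
    calc (a * a' * b⁻¹ * (a * a')⁻¹ * b)⁻¹ * ((a * b⁻¹ * a⁻¹ * b) * (a' * b⁻¹ * a'⁻¹ * b))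
        = ((b⁻¹ * a⁻¹ * b)⁻¹ * (b⁻¹ * a'⁻¹ * b)⁻¹) * a'⁻¹ * (b⁻¹ * a⁻¹ * b) * a'
            * (b⁻¹ * a'⁻¹ * b) := by group
      _ = ((b⁻¹ * a'⁻¹ * b)⁻¹ * (b⁻¹ * a⁻¹ * b)⁻¹) * a'⁻¹ * (b⁻¹ * a⁻¹ * b) * a'
            * (b⁻¹ * a'⁻¹ * b) := by rw [hcomm]
      _ = _ := by group
  rw [e, h3]
  have e2 : (b⁻¹ * a'⁻¹ * b)⁻¹ * ((b⁻¹ * a'⁻¹ * b) *
      ((b⁻¹ * a⁻¹ * b)⁻¹ * a'⁻¹ * (b⁻¹ * a⁻¹ * b) * a'))
      = (b⁻¹ * a⁻¹ * b)⁻¹ * a'⁻¹ * (b⁻¹ * a⁻¹ * b) * a' := by group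
  rw [e2]; exact hm0

include hAc in
theorem interA_comm_gen (m : S) (hm : m ∈ interA A b) (a : S) (ha : a ∈ A) :
    m * (a * b⁻¹ * a⁻¹ * b) = (a * b⁻¹ * a⁻¹ * b) * m := by
  have hcen := sup_le_centralizer_interA A b hAc (gen_mem_sup A b a ha)
  exact Subgroup.mem_centralizer_iff.mp hcen m hm

include hAc hbN in
/-- every element of `A*` has the form `(a b⁻¹ a⁻¹ b) m`. -/
theorem starA_form (x : S) (hx : x ∈ starA A b) :
    ∃ a ∈ A, ∃ m ∈ interA A b, x = (a * b⁻¹ * a⁻¹ * b) * m := by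
  let T : Subgroup S :=
    { carrier := {x | ∃ a ∈ A, ∃ m ∈ interA A b, x = (a * b⁻¹ * a⁻¹ * b) * m}
      mul_mem' := by
        rintro x x' ⟨a, ha, m, hm, rfl⟩ ⟨a', ha', m', hm', rfl⟩
        refine ⟨a * a', A.mul_mem ha ha',
          (a * a' * b⁻¹ * (a * a')⁻¹ * b)⁻¹ * ((a * b⁻¹ * a⁻¹ * b) * (a' * b⁻¹ * a'⁻¹ * b))
            * m * m', ?_, ?_⟩
        · exact Subgroup.mul_mem _ (Subgroup.mul_mem _ (gen_mul A b hAc hbN a a' ha ha') hm) hm'
        · have hc := interA_comm_gen A b hAc m hm a' ha'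
          calc (a * b⁻¹ * a⁻¹ * b) * m * ((a' * b⁻¹ * a'⁻¹ * b) * m')
              = (a * b⁻¹ * a⁻¹ * b) * (m * (a' * b⁻¹ * a'⁻¹ * b)) * m' := by group
            _ = (a * b⁻¹ * a⁻¹ * b) * ((a' * b⁻¹ * a'⁻¹ * b) * m) * m' := by rw [hc]
            _ = _ := by group
      one_mem' := ⟨1, A.one_mem, 1, Subgroup.one_mem _, by group⟩
      inv_mem' := by
        rintro x ⟨a, ha, m, hm, rfl⟩
        have hμ := gen_mul A b hAc hbN a a⁻¹ ha (A.inv_mem ha)
        refine ⟨a⁻¹, A.inv_mem ha,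
          ((a * a⁻¹ * b⁻¹ * (a * a⁻¹)⁻¹ * b)⁻¹ *
            ((a * b⁻¹ * a⁻¹ * b) * (a⁻¹ * b⁻¹ * a⁻¹⁻¹ * b)) * m)⁻¹, ?_, ?_⟩
        · exact Subgroup.inv_mem _ (Subgroup.mul_mem _ hμ hm)
        · have hc := interA_comm_gen A b hAc m hm a⁻¹ (A.inv_mem ha)
          have h1 : ((a * b⁻¹ * a⁻¹ * b) * m) * ((a⁻¹ * b⁻¹ * a⁻¹⁻¹ * b) *
              ((a * a⁻¹ * b⁻¹ * (a * a⁻¹)⁻¹ * b)⁻¹ *
              ((a * b⁻¹ * a⁻¹ * b) * (a⁻¹ * b⁻¹ * a⁻¹⁻¹ * b)) * m)⁻¹) = 1 := by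
            calc ((a * b⁻¹ * a⁻¹ * b) * m) * ((a⁻¹ * b⁻¹ * a⁻¹⁻¹ * b) *
                ((a * a⁻¹ * b⁻¹ * (a * a⁻¹)⁻¹ * b)⁻¹ *
                ((a * b⁻¹ * a⁻¹ * b) * (a⁻¹ * b⁻¹ * a⁻¹⁻¹ * b)) * m)⁻¹)
                = (a * b⁻¹ * a⁻¹ * b) * (m * (a⁻¹ * b⁻¹ * a⁻¹⁻¹ * b)) * m⁻¹ *
                  (a⁻¹ * b⁻¹ * a⁻¹⁻¹ * b)⁻¹ * (a * b⁻¹ * a⁻¹ * b)⁻¹ := by group
              _ = (a * b⁻¹ * a⁻¹ * b) * ((a⁻¹ * b⁻¹ * a⁻¹⁻¹ * b) * m) * m⁻¹ *
                  (a⁻¹ * b⁻¹ * a⁻¹⁻¹ * b)⁻¹ * (a * b⁻¹ * a⁻¹ * b)⁻¹ := by rw [hc]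
              _ = 1 := by group
          exact inv_eq_of_mul_eq_one_right h1 }
  have hle : starA A b ≤ T := by
    refine sup_le ?_ ?_
    · intro m hm
      exact ⟨1, A.one_mem, m, hm, by group⟩
    · rw [Subgroup.closure_le]
      rintro _ ⟨a, ha, rfl⟩
      exact ⟨a, ha, 1, Subgroup.one_mem _, by group⟩
  exact hle hx

end setup2

theorem comm_of_isMulCommutative (A : Subgroup S) (hA : IsMulCommutative A) :
    ∀ x ∈ A, ∀ y ∈ A, x * y = y * x := fun x hx y hy =>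
  congrArg Subtype.val (hA.is_comm.comm (⟨x, hx⟩ : A) ⟨y, hy⟩)

section setup3

variable [Finite S] {p : ℕ} [hp : Fact p.Prime] (hS : IsPGroup p S)
  (A B : Subgroup S) (b : S) [hBn : B.Normal]
  (hB2 : p = 2 → IsMulCommutative B)
  (hA : IsMulCommutative A)
  (hBA : ⁅B, B⁆ ≤ A)
  (hb : b ∈ B)
  (hbN : b ∈ Subgroup.normalizer ((Subgroup.normalizer (A : Set S) : Subgroup S) : Set S))

include hS hB2 hA hBA hb hbN in
/-- `[A, b]` is abelian. -/
theorem commA_comm : ∀ x ∈ commA A b, ∀ y ∈ commA A b, x * y = y * x := by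
  have hAc := comm_of_isMulCommutative A hA
  by_cases hp2 : p = 2
  · have hBc := hB2 hp2
    intro x hx y hy
    have hxB := commA_le_B A B b hb hx
    have hyB := commA_le_B A B b hb hy
    exact congrArg Subtype.val (hBc.is_comm.comm (⟨x, hxB⟩ : B) ⟨y, hyB⟩)
  · have hAB : A ≤ Subgroup.normalizer (B : Set S) := by
      rw [Subgroup.normalizer_eq_top]; exact le_top
    have hAA : ⁅A, A⁆ = ⊥ := Subgroup.commutator_self_eq_bot_iff.mpr hA
    have hc : ⁅⁅B, B⁆, A⁆ = ⊥ := by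
      rw [eq_bot_iff, ← hAA]
      exact Subgroup.commutator_mono hBA le_rfl
    have hXeq : Subgroup.closure {g : S | ∃ a ∈ A, g = b⁻¹ * a * b * a⁻¹} = commA A b := by
      apply le_antisymm
      · rw [Subgroup.closure_le]
        rintro _ ⟨a, ha, rfl⟩
        have : b⁻¹ * a * b * a⁻¹ = (a * b⁻¹ * a⁻¹ * b)⁻¹ := by group
        rw [this]
        exact Subgroup.inv_mem _ (Subgroup.subset_closure ⟨a, ha, rfl⟩)
      · rw [Subgroup.closure_le]
        rintro _ ⟨a, ha, rfl⟩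
        have : a * b⁻¹ * a⁻¹ * b = (b⁻¹ * a * b * a⁻¹)⁻¹ := by group
        rw [this]
        exact Subgroup.inv_mem _ (Subgroup.subset_closure ⟨a, ha, rfl⟩)
    have hX : ⁅⁅commA A b, A⁆, A⁆ = ⊥ := by
      rw [eq_bot_iff, ← hAA]
      refine Subgroup.commutator_mono ?_ le_rfl
      exact ((Subgroup.commutator_mono (commA_le_sup A b) le_sup_left).trans
        (commutator_sup_le_interA A b hAc hbN)).trans inf_le_left
    have key := (Cfsg.Agent.S0648.result A B hAB hc).2 hA b hb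
    rw [hXeq] at key
    have key2 := key hX
    have hbot : ⁅commA A b, commA A b⁆ = ⊥ := by
      rw [eq_bot_iff]
      intro w hw
      rw [Subgroup.mem_bot]
      have h2 := key2 w hw
      obtain ⟨k, hk⟩ := hS w
      have hd1 : orderOf w ∣ 2 := orderOf_dvd_of_pow_eq_one h2
      have hd2 : orderOf w ∣ p ^ k := orderOf_dvd_of_pow_eq_one hk
      have hcop : Nat.Coprime 2 (p ^ k) :=
        Nat.Coprime.pow_right k ((Nat.coprime_primes Nat.prime_two hp.out).mpr (Ne.symm hp2))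
      have : orderOf w = 1 := Nat.eq_one_of_dvd_coprimes hcop hd1 hd2
      exact orderOf_eq_one_iff.mp this
    have hle := Subgroup.commutator_eq_bot_iff_le_centralizer.mp hbot
    intro x hx y hy
    exact (Subgroup.mem_centralizer_iff.mp (hle hx) y hy).symm

include hS hB2 hA hBA hb hbN in
/-- `A*` is abelian. -/
theorem starA_comm : ∀ x ∈ starA A b, ∀ y ∈ starA A b, x * y = y * x := by
  have hAc := comm_of_isMulCommutative A hA
  have hCc := commA_comm hS A B b hB2 hA hBA hb hbN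
  have hH := sup_le_centralizer_interA A b hAc
  have hM : interA A b ≤ Subgroup.centralizer ((A ⊔ conjA A b : Subgroup S) : Set S) :=
    Subgroup.le_centralizer_iff.mp hH
  have h1 : starA A b ≤ Subgroup.centralizer ((interA A b : Subgroup S) : Set S) :=
    (starA_le_sup A b).trans hH
  have h2 : starA A b ≤ Subgroup.centralizer ((commA A b : Subgroup S) : Set S) := by
    refine sup_le ?_ ?_
    · exact hM.trans (Subgroup.centralizer_le (commA_le_sup A b))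
    · intro x hx
      rw [Subgroup.mem_centralizer_iff]
      intro y hy
      exact hCc y hy x hx
  intro x hx y hy
  have hx' : starA A b ≤ Subgroup.centralizer ({x} : Set S) := by
    refine sup_le ?_ ?_
    · intro m hm
      rw [Subgroup.mem_centralizer_iff]
      rintro _ rfl
      exact (Subgroup.mem_centralizer_iff.mp (h1 hx) m hm).symm
    · intro c hc
      rw [Subgroup.mem_centralizer_iff]
      rintro _ rfl
      exact (Subgroup.mem_centralizer_iff.mp (h2 hx) c hc).symm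
  exact Subgroup.mem_centralizer_iff.mp (hx' hy) x rfl

include hS hB2 hA hBA hb hbN in
theorem starA_isMulCommutative : IsMulCommutative (starA A b) := by
  refine ⟨⟨fun x y => Subtype.ext ?_⟩⟩
  exact starA_comm hS A B b hB2 hA hBA hb hbN x.1 x.2 y.1 y.2

include hS hB2 hA hBA hb hbN in
/-- `|A*| = |A|`. -/
theorem card_starA : Nat.card (starA A b) = Nat.card A := by
  have hAc := comm_of_isMulCommutative A hA
  have hcomm := starA_comm hS A B b hB2 hA hBA hb hbN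
  have hMA : interA A b ≤ A := inf_le_left
  have hMstar : interA A b ≤ starA A b := le_sup_left
  have hnorm : ((interA A b).subgroupOf (starA A b)).Normal := by
    refine ⟨fun n hn g => ?_⟩
    have : g * n * g⁻¹ = n := by
      apply Subtype.ext
      have := hcomm g.1 g.2 n.1 n.2
      simp only [Subgroup.coe_mul, Subgroup.coe_inv]
      rw [this]; group
    rw [this]; exact hn
  have hgen : ∀ a : A, (a : S) * b⁻¹ * (a : S)⁻¹ * b ∈ starA A b := fun a =>
    Subgroup.mem_sup_right (Subgroup.subset_closure ⟨a.1, a.2, rfl⟩)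
  let f : A →* (starA A b) ⧸ ((interA A b).subgroupOf (starA A b)) :=
    MonoidHom.mk' (fun a => QuotientGroup.mk ⟨(a : S) * b⁻¹ * (a : S)⁻¹ * b, hgen a⟩) (by
      intro a a'
      rw [← QuotientGroup.mk_mul, QuotientGroup.eq, Subgroup.mem_subgroupOf]
      have := gen_mul A b hAc hbN a.1 a'.1 a.2 a'.2
      simpa using this)
  have hker : f.ker = (interA A b).subgroupOf A := by
    ext a
    rw [MonoidHom.mem_ker, Subgroup.mem_subgroupOf]
    change (QuotientGroup.mk _ : (starA A b) ⧸ ((interA A b).subgroupOf (starA A b))) = 1 ↔ _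
    rw [QuotientGroup.eq_one_iff, Subgroup.mem_subgroupOf]
    exact gen_mem_interA_iff A B b hBA hb a.1 a.2
  have hsurj : Function.Surjective f := by
    intro q
    induction q using QuotientGroup.induction_on with
    | H x =>
      obtain ⟨a, ha, m, hm, hx⟩ := starA_form A b hAc hbN x.1 x.2
      refine ⟨⟨a, ha⟩, ?_⟩
      change (QuotientGroup.mk _ : (starA A b) ⧸ ((interA A b).subgroupOf (starA A b))) = _
      rw [QuotientGroup.eq, Subgroup.mem_subgroupOf]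
      have : (a * b⁻¹ * a⁻¹ * b)⁻¹ * x.1 = m := by rw [hx]; group
      show (a * b⁻¹ * a⁻¹ * b)⁻¹ * x.1 ∈ interA A b
      rw [this]; exact hm
  have h1 : Nat.card f.ker * f.ker.index = Nat.card A := Subgroup.card_mul_index _
  rw [Subgroup.index_ker, MonoidHom.range_eq_top.mpr hsurj, Subgroup.card_top, hker,
    Nat.card_congr (Subgroup.subgroupOfEquivOfLe hMA).toEquiv] at h1
  have h2 := Subgroup.card_eq_card_quotient_mul_card_subgroup
    ((interA A b).subgroupOf (starA A b))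
  rw [Nat.card_congr (Subgroup.subgroupOfEquivOfLe hMstar).toEquiv] at h2
  rw [h2, ← h1, mul_comm]

include hS hB2 hA hBA hb hbN in
/-- for odd `p`, the exponent of `A*` divides that of `A`. -/
theorem exponent_starA (hp2 : p ≠ 2) :
    Monoid.exponent (starA A b) ∣ Monoid.exponent A := by
  have hAc := comm_of_isMulCommutative A hA
  have hcomm := starA_comm hS A B b hB2 hA hBA hb hbN
  set e := Monoid.exponent A with he
  have hpowA : ∀ x ∈ A, x ^ e = 1 := by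
    intro x hx
    have := Monoid.pow_exponent_eq_one (⟨x, hx⟩ : A)
    exact congrArg Subtype.val this
  -- e is odd
  have hodd : Odd e := by
    obtain ⟨k, hk⟩ := IsPGroup.iff_card.mp (hS.to_subgroup A)
    have hd : e ∣ p ^ k := hk ▸ Group.exponent_dvd_nat_card
    obtain ⟨j, _, hj⟩ := (Nat.dvd_prime_pow hp.out).mp hd
    rw [hj]
    exact (hp.out.odd_of_ne_two hp2).pow
  obtain ⟨t, ht⟩ := hodd
  have hchoose : e.choose 2 = e * t := by
    rw [Nat.choose_two_right, ht]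
    have : (2 * t + 1) * (2 * t + 1 - 1) = 2 * ((2 * t + 1) * t) := by
      rw [Nat.add_sub_cancel]; ring
    rw [this, Nat.mul_div_cancel_left _ (by norm_num : 0 < 2)]
  apply Monoid.exponent_dvd_of_forall_pow_eq_one
  intro x
  apply Subtype.ext
  rw [Subgroup.coe_pow, Subgroup.coe_one]
  obtain ⟨a, ha, m, hm, hx⟩ := starA_form A b hAc hbN x.1 x.2
  rw [hx]
  have hcm : Commute (a * b⁻¹ * a⁻¹ * b) m :=
    (interA_comm_gen A b hAc m hm a ha).symm
  rw [hcm.mul_pow, hpowA m hm.1, mul_one]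
  -- the class-two power formula
  have hy : b⁻¹ * a⁻¹ * b ∈ conjA A b := conj_mem_conjA A b a⁻¹ (A.inv_mem ha)
  have hz : (b⁻¹ * a⁻¹ * b)⁻¹ * a⁻¹ * (b⁻¹ * a⁻¹ * b) * a ∈ interA A b := by
    have := (comm_mem_interA A b hbN a⁻¹ (b⁻¹ * a⁻¹ * b)⁻¹ (A.inv_mem ha)
      (Subgroup.inv_mem _ hy)).2
    simpa [commutatorElement_def] using this
  have hcenA := sup_le_centralizer_interA A b hAc (Subgroup.mem_sup_left ha)
  have hceny := sup_le_centralizer_interA A b hAc (Subgroup.mem_sup_right hy)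
  have hzx := Subgroup.mem_centralizer_iff.mp hcenA _ hz
  have hzy := Subgroup.mem_centralizer_iff.mp hceny _ hz
  have hform := mul_pow_class_two a (b⁻¹ * a⁻¹ * b)
    ((b⁻¹ * a⁻¹ * b)⁻¹ * a⁻¹ * (b⁻¹ * a⁻¹ * b) * a) (by group) hzx hzy e
  have e1 : a * b⁻¹ * a⁻¹ * b = a * (b⁻¹ * a⁻¹ * b) := by group
  rw [e1, hform, hpowA a ha, hchoose, pow_mul, hpowA _ hz.1, one_pow, mul_one, one_mul]
  have : (b⁻¹ * a⁻¹ * b) ^ e = b⁻¹ * (a⁻¹) ^ e * b := by
    have h := map_pow (MulAut.conj b⁻¹) a⁻¹ e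
    simp only [MulAut.conj_apply, inv_inv] at h
    exact h.symm
  rw [this, hpowA _ (A.inv_mem ha)]; group

include hBA in
/-- `[B, B] ≤ A ∩ A^b`. -/
theorem commutator_le_interA : ⁅B, B⁆ ≤ interA A b := by
  intro x hx
  refine ⟨hBA hx, ?_⟩
  show x ∈ conjA A b
  rw [mem_conjA]
  have hn : (⁅B, B⁆ : Subgroup S).Normal := inferInstance
  exact hBA (hn.conj_mem x hx b)

include hBA hb in
/-- `A ∩ B ≤ A ∩ A^b`. -/
theorem inf_le_interA : A ⊓ B ≤ interA A b := by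
  intro x hx
  refine ⟨hx.1, ?_⟩
  show x ∈ conjA A b
  rw [mem_conjA]
  exact (conj_mem_inf A B hBA b hb x hx).1

include hbN in
theorem sup_le_normalizer : A ⊔ conjA A b ≤ Subgroup.normalizer (A : Set S) :=
  sup_le Subgroup.le_normalizer (conjA_le_normalizer A b hbN)

include hBA hb in
/-- conclusion (4). -/
theorem inf_lt_starA_inf (hbA : b ∉ Subgroup.normalizer (A : Set S)) :
    A ⊓ B < starA A b ⊓ B := by
  have hle : A ⊓ B ≤ starA A b ⊓ B :=
    le_inf ((inf_le_interA A B b hBA hb).trans le_sup_left) inf_le_right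
  have hex : ∃ a ∈ A, b⁻¹ * a * b ∉ A := by
    by_contra hcon
    push Not at hcon
    apply hbA
    have h1 : b⁻¹ ∈ Subgroup.normalizer (A : Set S) := by
      apply Subgroup.mem_normalizer_fintype
      intro n hn
      have := hcon n hn
      simpa using this
    simpa using Subgroup.inv_mem _ h1
  obtain ⟨a, ha, hna⟩ := hex
  refine lt_of_le_of_ne hle ?_
  intro heq
  have hmem : a⁻¹ * b⁻¹ * a⁻¹⁻¹ * b ∈ starA A b ⊓ B := by
    refine ⟨Subgroup.mem_sup_right (Subgroup.subset_closure ⟨a⁻¹, A.inv_mem ha, rfl⟩), ?_⟩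
    exact gen_mem_B B b hb a⁻¹
  rw [← heq] at hmem
  apply hna
  have : b⁻¹ * a * b = a * (a⁻¹ * b⁻¹ * a⁻¹⁻¹ * b) := by group
  rw [this]
  exact A.mul_mem ha hmem.1

include hbN in
/-- conclusion (5). -/
theorem starA_inf_lt (hnot : ¬ B ≤ Subgroup.normalizer (A : Set S)) :
    starA A b ⊓ B < B := by
  refine lt_of_le_of_ne inf_le_right ?_
  intro heq
  apply hnot
  have : B ≤ starA A b := by rw [← heq]; exact inf_le_left
  exact this.trans ((starA_le_sup A b).trans (sup_le_normalizer A b hbN))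

include hA hbN in
/-- `H = A A^b` normalizes `A*`. -/
theorem sup_le_normalizer_starA :
    A ⊔ conjA A b ≤ Subgroup.normalizer ((starA A b : Subgroup S) : Set S) := by
  have hAc := comm_of_isMulCommutative A hA
  rw [Subgroup.le_normalizer_iff]
  intro h hh k hk
  have e : h * k * h⁻¹ = ⁅h, k⁆ * k := by simp only [commutatorElement_def]; group
  rw [e]
  refine Subgroup.mul_mem _ ?_ hk
  have : ⁅h, k⁆ ∈ interA A b :=
    commutator_sup_le_interA A b hAc hbN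
      (Subgroup.commutator_mem_commutator hh (starA_le_sup A b hk))
  exact Subgroup.mem_sup_left this

include hA hBA hb hbN in
/-- conclusion (8). -/
theorem b_mem_normalizer_starA :
    b ∈ Subgroup.normalizer ((starA A b : Subgroup S) : Set S) := by
  have hAc := comm_of_isMulCommutative A hA
  have h1 : b⁻¹ ∈ Subgroup.normalizer ((starA A b : Subgroup S) : Set S) := by
    apply Subgroup.mem_normalizer_fintype
    intro x hx
    obtain ⟨a, ha, m, hm, rfl⟩ := starA_form A b hAc hbN x hx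
    have hm' := conj_inv_mem_interA A B b hBA hb m hm
    have hcB : a * b⁻¹ * a⁻¹ * b ∈ B := gen_mem_B B b hb a
    have hcomm : ⁅(a * b⁻¹ * a⁻¹ * b)⁻¹, b⁻¹⁆ ∈ ⁅B, B⁆ :=
      Subgroup.commutator_mem_commutator (B.inv_mem hcB) (B.inv_mem hb)
    have e : b⁻¹ * (a * b⁻¹ * a⁻¹ * b * m) * b⁻¹⁻¹
        = (a * b⁻¹ * a⁻¹ * b) * ⁅(a * b⁻¹ * a⁻¹ * b)⁻¹, b⁻¹⁆ * (b⁻¹ * m * b) := by
      simp only [commutatorElement_def]; group
    rw [e]
    refine Subgroup.mul_mem _ (Subgroup.mul_mem _ ?_ ?_) (Subgroup.mem_sup_left hm')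
    · exact Subgroup.mem_sup_right (Subgroup.subset_closure ⟨a, ha, rfl⟩)
    · exact Subgroup.mem_sup_left (commutator_le_interA A B b hBA hcomm)
  simpa using Subgroup.inv_mem _ h1

include hBA hb hbN in
/-- `A* = (A ∩ A^b) ((A A^b) ∩ B)`. -/
theorem starA_eq : starA A b = interA A b ⊔ ((A ⊔ conjA A b) ⊓ B) := by
  apply le_antisymm
  · exact sup_le le_sup_left
      ((le_inf (commA_le_sup A b) (commA_le_B A B b hb)).trans le_sup_right)
  · refine sup_le le_sup_left ?_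
    intro x hx
    have hxH : x ∈ ((A ⊔ conjA A b : Subgroup S) : Set S) := hx.1
    rw [Subgroup.coe_mul_of_left_le_normalizer_right A (conjA A b)
      (le_normalizer_conjA A b hbN)] at hxH
    obtain ⟨a₁, ha₁, y, hy, hxy⟩ := hxH
    have hxy' : x = a₁ * y := hxy.symm
    subst hxy'
    have hy' : b * y * b⁻¹ ∈ A := (mem_conjA A b y).mp hy
    set a₂ := b * y * b⁻¹ with ha₂
    have hgen : a₂⁻¹ * b⁻¹ * a₂⁻¹⁻¹ * b ∈ commA A b :=
      Subgroup.subset_closure ⟨a₂⁻¹, A.inv_mem hy', rfl⟩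
    have e : a₁ * y = (a₁ * a₂) * (a₂⁻¹ * b⁻¹ * a₂⁻¹⁻¹ * b) := by rw [ha₂]; group
    have hB : a₁ * a₂ ∈ B := by
      have : a₁ * a₂ = (a₁ * y) * (a₂⁻¹ * b⁻¹ * a₂⁻¹⁻¹ * b)⁻¹ := by rw [e]; group
      rw [this]
      exact B.mul_mem hx.2 (B.inv_mem (gen_mem_B B b hb a₂⁻¹))
    rw [e]
    refine Subgroup.mul_mem _ (Subgroup.mem_sup_left ?_) (Subgroup.mem_sup_right hgen)
    exact inf_le_interA A B b hBA hb ⟨A.mul_mem ha₁ hy', hB⟩

include hBA hb hbN in
/-- `N_S(A) ≤ N_S(A*)`. -/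
theorem normalizer_le_normalizer_starA :
    Subgroup.normalizer (A : Set S) ≤ Subgroup.normalizer ((starA A b : Subgroup S) : Set S) := by
  intro n hn
  have h1 : n ∈ Subgroup.normalizer ((conjA A b : Subgroup S) : Set S) :=
    normalizer_le_normalizer_conjA A b hbN hn
  have h2 : n ∈ Subgroup.normalizer ((B : Subgroup S) : Set S) := by
    rw [Subgroup.normalizer_eq_top]; trivial
  have h3 : n ∈ Subgroup.normalizer ((interA A b : Subgroup S) : Set S) :=
    normalizer_inf_le A (conjA A b) ⟨hn, h1⟩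
  have h4 : n ∈ Subgroup.normalizer ((A ⊔ conjA A b : Subgroup S) : Set S) :=
    Subgroup.normalizer_inf_normalizer_le_normalizer_sup A (conjA A b) ⟨hn, h1⟩
  have h5 : n ∈ Subgroup.normalizer (((A ⊔ conjA A b) ⊓ B : Subgroup S) : Set S) :=
    normalizer_inf_le _ B ⟨h4, h2⟩
  rw [starA_eq A B b hBA hb hbN]
  exact Subgroup.normalizer_inf_normalizer_le_normalizer_sup _ _ ⟨h3, h5⟩

end setup3

end Cfsg.Agent.Lib.Helper11
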