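import Mathlib
import Cfsg.Prelude.Def_PLocal
import Cfsg.Agent.S0651

/-!
# Families of (elementary) abelian subgroups of largest order, for the ZJ-theorem

`fam good T` is the set of subgroups `A ≤ T` with `good A` of largest order among such subgroups.
-/

set_option autoImplicit false
open Cfsg

namespace Cfsg.Agent.Lib.Helper11

section Fam

variable {G : Type*} [Group G] (good : Subgroup G → Prop)

/-- the `good` subgroups of `T` of largest order. -/
def fam (T : Subgroup G) : Set (Subgroup G) :=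
  {A | A ≤ T ∧ good A ∧ ∀ V : Subgroup G, V ≤ T → good V → Nat.card V ≤ Nat.card A}

/-- the intersection of the family. -/
def famInf (T : Subgroup G) : Subgroup G := sInf (fam good T)

theorem fam_nonempty [Finite G] (hbot : good ⊥) (T : Subgroup G) : (fam good T).Nonempty := by
  classical
  let E : Set (Subgroup G) := {A | A ≤ T ∧ good A}
  have hEfin : E.Finite := Set.toFinite E
  have hEne : E.Nonempty := ⟨⊥, bot_le, hbot⟩
  obtain ⟨A, hAE, hAmax⟩ := Set.exists_max_image E (fun A => Nat.card A) hEfin hEne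
  exact ⟨A, hAE.1, hAE.2, fun V hVT hV => hAmax V ⟨hVT, hV⟩⟩

variable {good}

theorem fam_mem_of_le {P T A : Subgroup G} (hA : A ∈ fam good P) (hAT : A ≤ T) (hTP : T ≤ P) :
    A ∈ fam good T :=
  ⟨hAT, hA.2.1, fun V hVT hV => hA.2.2 V (hVT.trans hTP) hV⟩

theorem fam_subset_of_le {P T A : Subgroup G} (hA : A ∈ fam good P) (hAT : A ≤ T) (hTP : T ≤ P) :
    fam good T ⊆ fam good P := by
  intro A' hA'
  refine ⟨hA'.1.trans hTP, hA'.2.1, fun V hVP hV => ?_⟩
  exact (hA.2.2 V hVP hV).trans (hA'.2.2 A hAT hA.2.1)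

theorem famInf_le_of_le [Finite G] {P T A : Subgroup G} (hA : A ∈ fam good P) (hAT : A ≤ T)
    (hTP : T ≤ P) : famInf good P ≤ famInf good T :=
  sInf_le_sInf (fam_subset_of_le hA hAT hTP)

theorem famInf_le_mem {T A : Subgroup G} (hA : A ∈ fam good T) : famInf good T ≤ A :=
  sInf_le hA

theorem famInf_le [Finite G] (hbot : good ⊥) (T : Subgroup G) : famInf good T ≤ T := by
  obtain ⟨A, hA⟩ := fam_nonempty good hbot T
  exact (famInf_le_mem hA).trans hA.1

theorem fam_map (hmap : ∀ (φ : G ≃* G) (A : Subgroup G), good A → good (A.map φ.toMonoidHom))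
    (φ : G ≃* G) {T A : Subgroup G} (hA : A ∈ fam good T) :
    A.map φ.toMonoidHom ∈ fam good (T.map φ.toMonoidHom) := by
  refine ⟨Subgroup.map_mono hA.1, hmap φ A hA.2.1, fun V hVT hV => ?_⟩
  have h1 : V.map φ.symm.toMonoidHom ≤ T := by
    have := Subgroup.map_mono (f := φ.symm.toMonoidHom) hVT
    rw [Subgroup.map_map] at this
    have h2 : φ.symm.toMonoidHom.comp φ.toMonoidHom = MonoidHom.id G := by
      ext x; simp
    rwa [h2, Subgroup.map_id] at this
  have h3 := hA.2.2 _ h1 (hmap φ.symm V hV)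
  rw [Subgroup.card_map_of_injective φ.symm.injective] at h3
  rw [Subgroup.card_map_of_injective φ.injective]
  exact h3

theorem normalizer_le_normalizer_famInf [Finite G]
    (hmap : ∀ (φ : G ≃* G) (A : Subgroup G), good A → good (A.map φ.toMonoidHom))
    (T : Subgroup G) :
    Subgroup.normalizer (T : Set G) ≤ Subgroup.normalizer ((famInf good T : Subgroup G) : Set G) := by
  intro g hg
  apply Subgroup.mem_normalizer_fintype
  intro x hx
  have hx' : x ∈ famInf good T := hx
  show g * x * g⁻¹ ∈ famInf good T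
  unfold famInf at hx' ⊢
  rw [Subgroup.mem_sInf] at hx' ⊢
  intro A hA
  have hg' : g⁻¹ ∈ Subgroup.normalizer (T : Set G) := Subgroup.inv_mem _ hg
  have hT : T.map (MulAut.conj g⁻¹).toMonoidHom = T :=
    Subgroup.mem_normalizer_iff_map_conj_eq.mp hg'
  have hA' : A.map (MulAut.conj g⁻¹).toMonoidHom ∈ fam good T := by
    have := fam_map hmap (MulAut.conj g⁻¹) hA
    rwa [hT] at this
  have h1 := hx' _ hA'
  obtain ⟨y, hy, hyx⟩ := h1
  have : g * x * g⁻¹ = y := by
    rw [← hyx]
    simp only [MulEquiv.coe_toMonoidHom, MulAut.conj_apply, inv_inv]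
    group
  rw [this]; exact hy

end Fam

end Cfsg.Agent.Lib.Helper11
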