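import Mathlib
import Cfsg.Prelude.Def_PLocal
import Cfsg.Agent.S0648
import Cfsg.Agent.Lib.Helper11.ZJFam
import Cfsg.Agent.Lib.Helper97.PCoreQuot
import Cfsg.Agent.Lib.Helper47.SylowLemmas

/-!
# Glauberman's ZJ-theorem, for a family of abelian subgroups closed under replacement
-/

set_option autoImplicit false
open Cfsg

namespace Cfsg.Agent.Lib.Helper11

open scoped commutatorElement

section ZJ

variable {G : Type*} [Group G]

/-- `good` is closed under Glauberman replacement inside every `p`-subgroup. -/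
def ReplClosed (p : ℕ) (good : Subgroup G → Prop) : Prop :=
  ∀ (P : Subgroup G), IsPGroup p P → ∀ (B A : Subgroup ↥P) [B.Normal] (b : ↥P),
    IsMulCommutative A → ⁅B, B⁆ ≤ A → b ∈ B →
    b ∈ Subgroup.normalizer ((Subgroup.normalizer (A : Set ↥P) : Subgroup ↥P) : Set ↥P) →
    good (A.map P.subtype) → good ((starA A b).map P.subtype)

theorem isMulCommutative_of_map_subtype (P : Subgroup G) (A : Subgroup ↥P)
    (h : IsMulCommutative (A.map P.subtype)) : IsMulCommutative A := by
  have hc := comm_of_isMulCommutative _ h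
  refine ⟨⟨fun x y => ?_⟩⟩
  apply Subtype.ext
  apply Subtype.ext
  have := hc (P.subtype x.1) (Subgroup.mem_map_of_mem _ x.2) (P.subtype y.1)
    (Subgroup.mem_map_of_mem _ y.2)
  simpa using this

theorem replacement_in [Finite G] {p : ℕ} [Fact p.Prime] (hp : p ≠ 2) {good : Subgroup G → Prop}
    (hcomm : ∀ A, good A → IsMulCommutative A) (hrep : ReplClosed p good)
    (P : Subgroup G) (hP : IsPGroup p P) (B : Subgroup G) [hBn : B.Normal] (hBP : B ≤ P)
    (U : Subgroup G) (hU : U ∈ fam good P) (hBU : ⁅B, B⁆ ≤ U) (hnBU : ¬ B ≤ U) :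
    ∃ A ∈ fam good P, ⁅B, B⁆ ≤ A ∧ ¬ B ≤ A ∧ B ≤ Subgroup.normalizer (A : Set G) := by
  classical
  let 𝒜 : Set (Subgroup ↥P) := {A' | A'.map P.subtype ∈ fam good P}
  have hB2 : p = 2 → IsMulCommutative (B.subgroupOf P) := fun h => absurd h hp
  have hab : ∀ A' ∈ 𝒜, IsMulCommutative A' := fun A' hA' =>
    isMulCommutative_of_map_subtype P A' (hcomm _ hA'.2.1)
  have hcomm_sub : ∀ (V : Subgroup G), ⁅B, B⁆ ≤ V → ⁅B.subgroupOf P, B.subgroupOf P⁆ ≤ V.subgroupOf P := by
    intro V hV
    rw [Subgroup.commutator_le]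
    intro x hx y hy
    rw [Subgroup.mem_subgroupOf] at hx hy ⊢
    exact hV (Subgroup.commutator_mem_commutator hx hy)
  have hstar : ∀ A' ∈ 𝒜, ∀ b ∈ B.subgroupOf P, ⁅B.subgroupOf P, B.subgroupOf P⁆ ≤ A' →
      b ∈ Subgroup.normalizer ((Subgroup.normalizer (A' : Set ↥P) : Subgroup ↥P) : Set ↥P) →
      b ∉ Subgroup.normalizer (A' : Set ↥P) → starA A' b ∈ 𝒜 := by
    intro A' hA' b hb hBA hbN _
    have hA'c := hab A' hA'
    refine ⟨Subgroup.map_subtype_le _, hrep P hP (B.subgroupOf P) A' b hA'c hBA hb hbN hA'.2.1, ?_⟩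
    intro V hVP hV
    rw [Subgroup.card_map_of_injective P.subtype_injective,
      card_starA hP A' (B.subgroupOf P) b hB2 hA'c hBA hb hbN,
      ← Subgroup.card_map_of_injective (K := A') P.subtype_injective]
    exact hA'.2.2 V hVP hV
  have hUmap : (U.subgroupOf P).map P.subtype = U := Subgroup.map_subgroupOf_eq_of_le hU.1
  have hex : ∃ U' ∈ 𝒜, ⁅B.subgroupOf P, B.subgroupOf P⁆ ≤ U' ∧ ¬ B.subgroupOf P ≤ U' := by
    refine ⟨U.subgroupOf P, ?_, hcomm_sub U hBU, ?_⟩
    · show (U.subgroupOf P).map P.subtype ∈ fam good P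
      rw [hUmap]; exact hU
    · intro hle
      apply hnBU
      intro x hx
      have : (⟨x, hBP hx⟩ : ↥P) ∈ U.subgroupOf P := hle (by rw [Subgroup.mem_subgroupOf]; exact hx)
      rw [Subgroup.mem_subgroupOf] at this
      exact this
  obtain ⟨A', hA', h1, h2, h3⟩ :=
    Cfsg.Agent.S0651.replacement_max hP 𝒜 (B.subgroupOf P) hB2 hab hstar hex
  refine ⟨A'.map P.subtype, hA', ?_, ?_, ?_⟩
  · rw [Subgroup.commutator_le]
    intro x hx y hy
    have : ⁅(⟨x, hBP hx⟩ : ↥P), (⟨y, hBP hy⟩ : ↥P)⁆ ∈ A' := by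
      apply h1
      apply Subgroup.commutator_mem_commutator
      · rw [Subgroup.mem_subgroupOf]; exact hx
      · rw [Subgroup.mem_subgroupOf]; exact hy
    exact ⟨_, this, rfl⟩
  · intro hle
    apply h2
    intro x hx
    rw [Subgroup.mem_subgroupOf] at hx
    obtain ⟨y, hy, hyx⟩ := hle hx
    have : y = x := Subtype.ext hyx
    rw [← this]; exact hy
  · intro x hx
    have hx' : (⟨x, hBP hx⟩ : ↥P) ∈ Subgroup.normalizer (A' : Set ↥P) :=
      h3 (by rw [Subgroup.mem_subgroupOf]; exact hx)
    exact Subgroup.le_normalizer_map P.subtype ⟨_, hx', rfl⟩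

theorem commutator_lt_of_isPGroup [Finite G] {p : ℕ} [Fact p.Prime] (B : Subgroup G)
    (hB : IsPGroup p B) (hne : B ≠ ⊥) : ⁅B, B⁆ < B := by
  have : Group.IsNilpotent ↥B := hB.isNilpotent
  have : Nontrivial ↥B := (Subgroup.nontrivial_iff_ne_bot B).mpr hne
  have h := Group.IsSolvable.commutator_lt_top_of_nontrivial ↥B
  have h2 : (commutator ↥B).map B.subtype < (⊤ : Subgroup ↥B).map B.subtype :=
    Subgroup.map_subtype_lt_map_subtype.mpr h
  rw [commutator_def, Subgroup.map_commutator, ← MonoidHom.range_eq_map, B.range_subtype] at h2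
  exact h2

theorem card_lt_of_lt [Finite G] {H K : Subgroup G} (h : H < K) : Nat.card H < Nat.card K := by
  by_contra hcon
  push Not at hcon
  exact (ne_of_lt h) (Subgroup.eq_of_le_of_card_ge h.le hcon)

/-- The key step of the ZJ-theorem: `Z ⊓ B` is normal for every normal `p`-subgroup `B`. -/
theorem famInf_inf_normal [Finite G] {p : ℕ} [Fact p.Prime] (hp : p ≠ 2)
    {good : Subgroup G → Prop} (hbot : good ⊥)
    (hcomm : ∀ A, good A → IsMulCommutative A)
    (hmap : ∀ (φ : G ≃* G) (A : Subgroup G), good A → good (A.map φ.toMonoidHom))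
    (hrep : ReplClosed p good)
    (hst : ∀ (V : Subgroup G) [V.Normal], IsPGroup p V → IsPStableOn p V) (P : Sylow p G) :
    ∀ (n : ℕ) (B : Subgroup G), Nat.card B ≤ n → B.Normal → IsPGroup p B →
      (famInf good (P : Subgroup G) ⊓ B).Normal := by
  intro n
  induction n with
  | zero =>
    intro B hn
    have := Nat.card_pos (α := B)
    omega
  | succ n ih =>
    intro B hcard hBn hBp
    have := hBn
    have hZP : famInf good (P : Subgroup G) ≤ P := famInf_le hbot _
    have hPNZ : (P : Subgroup G) ≤ Subgroup.normalizer (famInf good (P : Subgroup G) : Set G) :=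
      Subgroup.le_normalizer.trans (normalizer_le_normalizer_famInf hmap _)
    have hBP : B ≤ P := hBp.le_sylow_of_normal P
    by_cases hBbot : B = ⊥
    · rw [hBbot, inf_bot_eq]; infer_instance
    have hB₁B : Subgroup.normalClosure ((famInf good (P : Subgroup G) ⊓ B : Subgroup G) : Set G) ≤ B :=
      Subgroup.normalClosure_le_normal (fun x hx => hx.2)
    have hZ₁B₁ : famInf good (P : Subgroup G) ⊓ B ≤
        Subgroup.normalClosure ((famInf good (P : Subgroup G) ⊓ B : Subgroup G) : Set G) :=
      Subgroup.subset_normalClosure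
    by_cases hB₁ : Subgroup.normalClosure ((famInf good (P : Subgroup G) ⊓ B : Subgroup G) : Set G) = B
    swap
    · have hlt : Nat.card (Subgroup.normalClosure
          ((famInf good (P : Subgroup G) ⊓ B : Subgroup G) : Set G)) < Nat.card B :=
        card_lt_of_lt (lt_of_le_of_ne hB₁B hB₁)
      have hn1 := ih _ (by omega) Subgroup.normalClosure_normal (hBp.to_le hB₁B)
      have : famInf good (P : Subgroup G) ⊓ Subgroup.normalClosure
          ((famInf good (P : Subgroup G) ⊓ B : Subgroup G) : Set G) =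
          famInf good (P : Subgroup G) ⊓ B :=
        le_antisymm (inf_le_inf_left _ hB₁B) (le_inf inf_le_left hZ₁B₁)
      rw [this] at hn1; exact hn1
    -- now B is the normal closure of Z ⊓ B
    have hDlt : ⁅B, B⁆ < B := commutator_lt_of_isPGroup B hBp hBbot
    have hDn : (⁅B, B⁆).Normal := Subgroup.commutator_normal B B
    have hDcard : Nat.card ↥⁅B, B⁆ < Nat.card B := card_lt_of_lt hDlt
    have hYn : (famInf good (P : Subgroup G) ⊓ ⁅B, B⁆).Normal :=
      ih _ (by omega) hDn (hBp.to_le hDlt.le)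
    -- Claim 1
    have hc1 : ∀ z ∈ famInf good (P : Subgroup G) ⊓ B, ∀ b ∈ B,
        ⁅z, b⁆ ∈ famInf good (P : Subgroup G) ⊓ ⁅B, B⁆ := by
      intro z hz b hb
      refine ⟨?_, Subgroup.commutator_mem_commutator hz.2 hb⟩
      have hbN : b ∈ Subgroup.normalizer (famInf good (P : Subgroup G) : Set G) := hPNZ (hBP hb)
      have h1 : b * z⁻¹ * b⁻¹ ∈ famInf good (P : Subgroup G) :=
        (Subgroup.mem_normalizer_iff.mp hbN z⁻¹).mp (Subgroup.inv_mem _ hz.1)
      have h2 : ⁅z, b⁆ = z * (b * z⁻¹ * b⁻¹) := by rw [commutatorElement_def]; group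
      show ⁅z, b⁆ ∈ famInf good (P : Subgroup G)
      rw [h2]; exact Subgroup.mul_mem _ hz.1 h1
    -- Claim 2
    have hc2 : ⁅B, B⁆ ≤ famInf good (P : Subgroup G) ⊓ ⁅B, B⁆ := by
      have hcl : Subgroup.closure (Group.conjugatesOfSet
          ((famInf good (P : Subgroup G) ⊓ B : Subgroup G) : Set G)) = B := hB₁
      have key := Cfsg.Agent.S0648.commutator_closure_le (Group.conjugatesOfSet
          ((famInf good (P : Subgroup G) ⊓ B : Subgroup G) : Set G))
          (famInf good (P : Subgroup G) ⊓ ⁅B, B⁆)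
          (by rw [Subgroup.normalizer_eq_top]; exact le_top) ?_
      · rwa [hcl] at key
      · intro x hx y hy
        have hyB : y ∈ B := by rw [← hcl]; exact Subgroup.subset_closure hy
        rw [Group.mem_conjugatesOfSet_iff] at hx
        obtain ⟨z, hz, hzx⟩ := hx
        obtain ⟨g, rfl⟩ := isConj_iff.mp hzx
        have h1 := hc1 z hz (g⁻¹ * y * g) (by
          have := hBn.conj_mem y hyB g⁻¹
          simpa using this)
        have h2 : ⁅g * z * g⁻¹, y⁆ = g * ⁅z, g⁻¹ * y * g⁆ * g⁻¹ := by
          simp only [commutatorElement_def]; group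
        rw [h2]; exact hYn.conj_mem _ h1 g
    -- Claim 3
    by_cases hall : ∀ U ∈ fam good (P : Subgroup G), B ≤ U
    · have hBZ : B ≤ famInf good (P : Subgroup G) := le_sInf hall
      rw [inf_of_le_right hBZ]; exact hBn
    push Not at hall
    obtain ⟨U, hU, hnBU⟩ := hall
    have hDU : ⁅B, B⁆ ≤ U := hc2.trans (inf_le_left.trans (famInf_le_mem hU))
    obtain ⟨A, hA, hDA, hnBA, hBNA⟩ :=
      replacement_in hp hcomm hrep P P.isPGroup' B hBP U hU hDU hnBU
    exfalso; apply hnBA
    have hAc : IsMulCommutative A := hcomm A hA.2.1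
    -- p-stability
    have hquad : ∀ a ∈ A, (QuotientGroup.mk a : G ⧸ Subgroup.centralizer (B : Set G)) ∈
        pCore p (G ⧸ Subgroup.centralizer (B : Set G)) := by
      intro a ha
      apply hst B hBp a
      have hza : Subgroup.zpowers a ≤ A := (Subgroup.zpowers_le).mpr ha
      have h1 : ⁅B, Subgroup.zpowers a⁆ ≤ A :=
        (Subgroup.commutator_mono le_rfl hza).trans
          (Subgroup.le_normalizer_iff_commutator_le_right.mp hBNA)
      rw [eq_bot_iff]
      calc ⁅⁅B, Subgroup.zpowers a⁆, Subgroup.zpowers a⁆ ≤ ⁅A, A⁆ := Subgroup.commutator_mono h1 hza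
        _ = ⊥ := Subgroup.commutator_self_eq_bot_iff.mpr hAc
    have hCn : (Subgroup.centralizer (B : Set G)).Normal := Subgroup.normal_centralizer
    have hKn : ((pCore p (G ⧸ Subgroup.centralizer (B : Set G))).comap
        (QuotientGroup.mk' (Subgroup.centralizer (B : Set G)))).Normal := inferInstance
    have hAK : A ≤ (pCore p (G ⧸ Subgroup.centralizer (B : Set G))).comap
        (QuotientGroup.mk' (Subgroup.centralizer (B : Set G))) := fun a ha => hquad a ha
    have hCK : Subgroup.centralizer (B : Set G) ≤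
        (pCore p (G ⧸ Subgroup.centralizer (B : Set G))).comap
        (QuotientGroup.mk' (Subgroup.centralizer (B : Set G))) := by
      intro c hc
      rw [Subgroup.mem_comap, QuotientGroup.mk'_apply, (QuotientGroup.eq_one_iff c).mpr hc]
      exact one_mem _
    generalize hK : (pCore p (G ⧸ Subgroup.centralizer (B : Set G))).comap
        (QuotientGroup.mk' (Subgroup.centralizer (B : Set G))) = K at hKn hAK hCK
    have := hKn
    obtain ⟨T', hT'⟩ := Cfsg.Agent.Lib.Helper47.exists_sylow_eq_subgroupOf_of_normal P K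
    have hfrat := Sylow.normalizer_sup_eq_top T'
    have hTmap : (T' : Subgroup ↥K).map K.subtype = (P : Subgroup G) ⊓ K := by
      rw [hT', Subgroup.subgroupOf_map_subtype]
    rw [hTmap] at hfrat
    have hAT : A ≤ (P : Subgroup G) ⊓ K := le_inf hA.1 hAK
    have hTP : (P : Subgroup G) ⊓ K ≤ P := inf_le_left
    have hKTC : K ≤ ((P : Subgroup G) ⊓ K) ⊔ Subgroup.centralizer (B : Set G) := by
      intro k hk
      have hk' : (QuotientGroup.mk k : G ⧸ Subgroup.centralizer (B : Set G)) ∈
          pCore p (G ⧸ Subgroup.centralizer (B : Set G)) := by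
        rw [← hK] at hk; exact hk
      obtain ⟨s, hs, c, hc, rfl⟩ := Cfsg.Agent.Lib.Helper97.exists_mem_sylow_mk_eq
        (Subgroup.centralizer (B : Set G)) (pCore p (G ⧸ Subgroup.centralizer (B : Set G)))
        (Cfsg.Agent.Lib.Helper97.isPGroup_pCore p _) P hk'
      have hsK : s ∈ K := by
        have : s = (s * c) * c⁻¹ := by group
        rw [this]; exact K.mul_mem hk (K.inv_mem (hCK hc))
      exact Subgroup.mul_mem_sup ⟨hs, hsK⟩ hc
    have hZX : famInf good (P : Subgroup G) ≤ famInf good ((P : Subgroup G) ⊓ K) :=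
      famInf_le_of_le hA hAT hTP
    have hXA : famInf good ((P : Subgroup G) ⊓ K) ≤ A := famInf_le_mem (fam_mem_of_le hA hAT hTP)
    have hNT : Subgroup.normalizer (((P : Subgroup G) ⊓ K : Subgroup G) : Set G) ≤
        Subgroup.normalizer ((famInf good ((P : Subgroup G) ⊓ K) ⊓ B : Subgroup G) : Set G) := by
      intro g hg
      have hgX := normalizer_le_normalizer_famInf hmap _ hg
      rw [Subgroup.mem_normalizer_iff] at hgX ⊢
      intro x
      constructor
      · rintro ⟨hx1, hx2⟩; exact ⟨(hgX x).mp hx1, hBn.conj_mem x hx2 g⟩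
      · rintro ⟨hx1, hx2⟩
        refine ⟨(hgX x).mpr hx1, ?_⟩
        have := hBn.conj_mem _ hx2 g⁻¹
        simpa [mul_assoc] using this
    have hNC : Subgroup.centralizer (B : Set G) ≤
        Subgroup.normalizer ((famInf good ((P : Subgroup G) ⊓ K) ⊓ B : Subgroup G) : Set G) := by
      intro c hc
      apply Subgroup.mem_normalizer_fintype
      intro x hx
      have hxB : x ∈ B := hx.2
      have h1 : x * c = c * x := Subgroup.mem_centralizer_iff.mp hc x hxB
      have : c * x * c⁻¹ = x := by rw [← h1]; group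
      rw [this]; exact hx
    have hNX : (famInf good ((P : Subgroup G) ⊓ K) ⊓ B).Normal := by
      rw [← Subgroup.normalizer_eq_top_iff, eq_top_iff, ← hfrat]
      apply sup_le hNT
      exact hKTC.trans (sup_le (Subgroup.le_normalizer.trans hNT) hNC)
    have hfin := Subgroup.normalClosure_le_normal (N := famInf good ((P : Subgroup G) ⊓ K) ⊓ B)
      (s := ((famInf good (P : Subgroup G) ⊓ B : Subgroup G) : Set G))
      (fun x hx => ⟨hZX hx.1, hx.2⟩)
    rw [hB₁] at hfin
    exact hfin.trans (inf_le_left.trans hXA)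

theorem famInf_isMulCommutative [Finite G] {good : Subgroup G → Prop} (hbot : good ⊥)
    (hcomm : ∀ A, good A → IsMulCommutative A) (T : Subgroup G) :
    IsMulCommutative (famInf good T) := by
  obtain ⟨A, hA⟩ := fam_nonempty good hbot T
  have hAc := hcomm A hA.2.1
  rw [← Subgroup.commutator_self_eq_bot_iff] at hAc ⊢
  rw [eq_bot_iff, ← hAc]
  exact Subgroup.commutator_mono (famInf_le_mem hA) (famInf_le_mem hA)

/-- The ZJ-theorem, normal version. -/
theorem famInf_normal [Finite G] {p : ℕ} [Fact p.Prime] (hp : p ≠ 2)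
    {good : Subgroup G → Prop} (hbot : good ⊥)
    (hcomm : ∀ A, good A → IsMulCommutative A)
    (hmap : ∀ (φ : G ≃* G) (A : Subgroup G), good A → good (A.map φ.toMonoidHom))
    (hrep : ReplClosed p good)
    (hc : Subgroup.centralizer (pCore p G : Set G) ≤ pCore p G)
    (hst : ∀ (V : Subgroup G) [V.Normal], IsPGroup p V → IsPStableOn p V) (P : Sylow p G) :
    (famInf good (P : Subgroup G)).Normal := by
  have hQn : (pCore p G).Normal := inferInstance
  have hQp : IsPGroup p (pCore p G) := Cfsg.Agent.Lib.Helper97.isPGroup_pCore p G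
  have h1 := famInf_inf_normal hp hbot hcomm hmap hrep hst P _ (pCore p G) le_rfl hQn hQp
  have hPNZ : (P : Subgroup G) ≤ Subgroup.normalizer (famInf good (P : Subgroup G) : Set G) :=
    Subgroup.le_normalizer.trans (normalizer_le_normalizer_famInf hmap _)
  have hQP : pCore p G ≤ P := Cfsg.Agent.Lib.Helper97.pCore_le_sylow' P
  have hZc := famInf_isMulCommutative hbot hcomm (P : Subgroup G)
  have hZQ : famInf good (P : Subgroup G) ≤ pCore p G := by
    intro z hz
    have hquad : ⁅⁅pCore p G, Subgroup.zpowers z⁆, Subgroup.zpowers z⁆ = ⊥ := by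
      have hzz : Subgroup.zpowers z ≤ famInf good (P : Subgroup G) := (Subgroup.zpowers_le).mpr hz
      have h2 : ⁅pCore p G, Subgroup.zpowers z⁆ ≤ famInf good (P : Subgroup G) :=
        (Subgroup.commutator_mono le_rfl hzz).trans
          (Subgroup.le_normalizer_iff_commutator_le_right.mp (hQP.trans hPNZ))
      rw [eq_bot_iff]
      calc ⁅⁅pCore p G, Subgroup.zpowers z⁆, Subgroup.zpowers z⁆
          ≤ ⁅famInf good (P : Subgroup G), famInf good (P : Subgroup G)⁆ :=
            Subgroup.commutator_mono h2 hzz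
        _ = ⊥ := Subgroup.commutator_self_eq_bot_iff.mpr hZc
    have hmk := hst (pCore p G) hQp z hquad
    have hCn : (Subgroup.centralizer (pCore p G : Set G)).Normal := Subgroup.normal_centralizer
    have hLn : ((pCore p (G ⧸ Subgroup.centralizer (pCore p G : Set G))).comap
        (QuotientGroup.mk' (Subgroup.centralizer (pCore p G : Set G)))).Normal := inferInstance
    have hLp : IsPGroup p ((pCore p (G ⧸ Subgroup.centralizer (pCore p G : Set G))).comap
        (QuotientGroup.mk' (Subgroup.centralizer (pCore p G : Set G)))) := by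
      apply (Cfsg.Agent.Lib.Helper97.isPGroup_pCore p _).comap_of_ker_isPGroup
      rw [QuotientGroup.ker_mk']
      exact hQp.to_le hc
    exact Cfsg.Agent.Lib.Helper97.le_pCore_of_normal hLn hLp hmk
  rw [inf_of_le_left hZQ] at h1; exact h1

theorem famInf_map_equiv {good : Subgroup G → Prop}
    (hmap : ∀ (φ : G ≃* G) (A : Subgroup G), good A → good (A.map φ.toMonoidHom))
    (φ : G ≃* G) (T : Subgroup G) :
    famInf good (T.map φ.toMonoidHom) = (famInf good T).map φ.toMonoidHom := by
  have hback : (T.map φ.toMonoidHom).map φ.symm.toMonoidHom = T := by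
    rw [Subgroup.map_map]
    have h2 : φ.symm.toMonoidHom.comp φ.toMonoidHom = MonoidHom.id G := by
      ext x; simp
    rw [h2, Subgroup.map_id]
  ext x
  rw [Subgroup.mem_map_equiv]
  unfold famInf
  rw [Subgroup.mem_sInf, Subgroup.mem_sInf]
  constructor
  · intro h A hA
    have := h _ (fam_map hmap φ hA)
    rwa [Subgroup.mem_map_equiv] at this
  · intro h A' hA'
    have h1 := fam_map hmap φ.symm hA'
    rw [hback] at h1
    have h2 := h _ h1
    rw [Subgroup.mem_map_equiv] at h2
    simpa using h2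

/-- The ZJ-theorem, characteristic version. -/
theorem famInf_characteristic [Finite G] {p : ℕ} [Fact p.Prime] (hp : p ≠ 2)
    {good : Subgroup G → Prop} (hbot : good ⊥)
    (hcomm : ∀ A, good A → IsMulCommutative A)
    (hmap : ∀ (φ : G ≃* G) (A : Subgroup G), good A → good (A.map φ.toMonoidHom))
    (hrep : ReplClosed p good)
    (hc : Subgroup.centralizer (pCore p G : Set G) ≤ pCore p G)
    (hst : ∀ (V : Subgroup G) [V.Normal], IsPGroup p V → IsPStableOn p V) (P : Sylow p G) :
    (famInf good (P : Subgroup G)).Characteristic := by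
  have hn := famInf_normal hp hbot hcomm hmap hrep hc hst P
  rw [Subgroup.characteristic_iff_map_eq]
  intro φ
  obtain ⟨g, hg⟩ := MulAction.exists_smul_eq G P ((φ : MulAut G) • P)
  have h1 : ((g • P : Sylow p G) : Subgroup G) = (P : Subgroup G).map (MulAut.conj g).toMonoidHom := by
    rw [Sylow.coe_subgroup_smul]; rfl
  have h2 : (((φ : MulAut G) • P : Sylow p G) : Subgroup G) = (P : Subgroup G).map φ.toMonoidHom := by
    rw [Sylow.pointwise_smul_def]; rfl
  have h3 : (P : Subgroup G).map φ.toMonoidHom = (P : Subgroup G).map (MulAut.conj g).toMonoidHom := by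
    rw [← h1, ← h2, hg]
  rw [← famInf_map_equiv hmap φ, h3, famInf_map_equiv hmap]
  have hg' : g ∈ Subgroup.normalizer (famInf good (P : Subgroup G) : Set G) := by
    rw [Subgroup.normalizer_eq_top_iff.mpr hn]; exact Subgroup.mem_top g
  exact Subgroup.mem_normalizer_iff_map_conj_eq.mp hg'

theorem map_sInf_eq_famInf [Finite G] {good : Subgroup G → Prop} (hbot : good ⊥) (D : Subgroup G)
    (𝒜 : Set (Subgroup ↥D))
    (h : ∀ U : Subgroup G, U ∈ Set.image (fun A : Subgroup ↥D => A.map D.subtype) 𝒜 ↔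
      U ∈ fam good D) :
    (sInf 𝒜).map D.subtype = famInf good D := by
  ext x
  unfold famInf
  rw [Subgroup.mem_sInf]
  constructor
  · rintro ⟨y, hy, rfl⟩ A hA
    rw [SetLike.mem_coe, Subgroup.mem_sInf] at hy
    obtain ⟨A', hA', rfl⟩ := (h A).mpr hA
    exact ⟨y, hy A' hA', rfl⟩
  · intro hx
    obtain ⟨A₀, hA₀⟩ := fam_nonempty good hbot D
    have hxD : x ∈ D := hA₀.1 (hx A₀ hA₀)
    refine ⟨⟨x, hxD⟩, ?_, rfl⟩
    rw [SetLike.mem_coe, Subgroup.mem_sInf]
    intro A' hA'
    have h1 : A'.map D.subtype ∈ fam good D := (h _).mp ⟨A', hA', rfl⟩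
    obtain ⟨y, hy, hyx⟩ := hx _ h1
    have : y = ⟨x, hxD⟩ := Subtype.ext hyx
    rw [← this]; exact hy

theorem replClosed_comm {p : ℕ} [Fact p.Prime] [Finite G] (hp : p ≠ 2) :
    ReplClosed p (fun A : Subgroup G => IsMulCommutative A) := by
  intro P hP B A _ b hAc hBA hb hbN _
  have hB2 : p = 2 → IsMulCommutative B := fun h => absurd h hp
  have := starA_isMulCommutative hP A B b hB2 hAc hBA hb hbN
  exact Subgroup.map_isMulCommutative _ _

theorem replClosed_elem {p : ℕ} [Fact p.Prime] [Finite G] (hp : p ≠ 2) :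
    ReplClosed p (fun A : Subgroup G => IsElementaryAbelian p A) := by
  intro P hP B A _ b hAc hBA hb hbN hgood
  have hB2 : p = 2 → IsMulCommutative B := fun h => absurd h hp
  have hsc := starA_isMulCommutative hP A B b hB2 hAc hBA hb hbN
  refine ⟨Subgroup.map_isMulCommutative _ _, ?_⟩
  rintro _ ⟨x, hx, rfl⟩
  have hexp := exponent_starA hP A B b hB2 hAc hBA hb hbN hp
  have hAexp : Monoid.exponent A ∣ p := by
    apply Monoid.exponent_dvd_of_forall_pow_eq_one
    intro a
    apply Subtype.ext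
    apply Subtype.ext
    have := hgood.2 (P.subtype a.1) (Subgroup.mem_map_of_mem _ a.2)
    simpa using this
  have h1 : (⟨x, hx⟩ : starA A b) ^ p = 1 :=
    Monoid.exponent_dvd_iff_forall_pow_eq_one.mp (hexp.trans hAexp) _
  have h2 : x ^ p = 1 := congrArg Subtype.val h1
  rw [← map_pow, h2, map_one]

end ZJ

end Cfsg.Agent.Lib.Helper11
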