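import Mathlib
import Cfsg.Agent.Lib.Helper97.Quadratic
import Cfsg.Agent.Lib.Helper97.NilpotentAction
import Cfsg.Agent.Lib.Helper34.SylowConj
import Cfsg.Agent.Lib.Helper11.ZJ

/-!
# p-stability of groups with a normal series `p-group ≤ abelian p' ≤ p-group` (helper11)

* `ring_quadratic_comm`: the ring computation behind quadratic action (`p` odd).
* `comm_of_quadratic`, `commutator_mem_centralizer_of_quadratic`,
  `commutator_mem_secCent_of_quadratic`: an element `y` of `p'`-order modulo `C(V)` commuting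
  (mod `C(V)`) with its conjugates by `a^{±1}`, where `a` acts quadratically on the abelian
  `p`-section `V/V₁`, commutes with `a` modulo `C(V/V₁)`.
* `secCent V V₁ = C_X(V/V₁)`, `stabCore p V` = preimage of `O_p(X/C_X(V))`.
* `hst_of_series`: if `L ⊴ X`, `X/L` a `p`-group, `[L,L] ≤ O_p(X)` and `y^n ∈ O_p(X)` for `y ∈ L`
  (`n` prime to `p`, `p` odd), then every `p`-element acting quadratically on a normal `p`-subgroup `V`
  lies in `O_p(X/C_X(V))` modulo `C_X(V)`.
-/

set_option autoImplicit false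

namespace Cfsg.Agent.Lib.Helper11

open Cfsg
open scoped commutatorElement

/-- Pure ring form of the "quadratic action" lemma: `d` a unit of order dividing `n`
commuting with its conjugates by `1 + x` and `1 - x`, no `2`- or `n`-torsion: then `d` commutes
with `x`. -/
theorem ring_quadratic_comm {R : Type*} [Ring R] (n : ℕ)
    (h2 : ∀ r : R, r + r = 0 → r = 0) (hn : ∀ r : R, n • r = 0 → r = 0)
    (x d e : R) (hde : d * e = 1) (hed : e * d = 1) (hdn : d ^ n = 1)
    (h1 : d * ((1 - x) * d * (1 + x)) = ((1 - x) * d * (1 + x)) * d)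
    (h2' : d * ((1 + x) * d * (1 - x)) = ((1 + x) * d * (1 - x)) * d) :
    d * x = x * d := by
  -- u = d x - x d commutes with d
  have hu : d * (d * x - x * d) = (d * x - x * d) * d := by
    apply sub_eq_zero.mp
    apply h2
    have e1 : d * ((1 - x) * d * (1 + x)) - ((1 - x) * d * (1 + x)) * d = 0 := sub_eq_zero.mpr h1
    have e2 : d * ((1 + x) * d * (1 - x)) - ((1 + x) * d * (1 - x)) * d = 0 := sub_eq_zero.mpr h2'
    have : (d * (d * x - x * d) - (d * x - x * d) * d) + (d * (d * x - x * d) - (d * x - x * d) * d)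
        = (d * ((1 - x) * d * (1 + x)) - ((1 - x) * d * (1 + x)) * d)
          - (d * ((1 + x) * d * (1 - x)) - ((1 + x) * d * (1 - x)) * d) := by
      noncomm_ring
    rw [this, e1, e2, sub_zero]
  have hstar : d * d * x - 2 • (d * x * d) + x * d * d = 0 := by
    have := sub_eq_zero.mpr hu
    rw [← this]
    noncomm_ring
  set z : R := e * x * d - x with hz
  have hzc : e * z * d = z := by
    have h3 : e * z * d - z = e * e * (d * d * x - 2 • (d * x * d) + x * d * d) := by
      have a1 : e * e * (d * d * x) = x := by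
        calc e * e * (d * d * x) = e * (e * d) * d * x := by noncomm_ring
          _ = x := by rw [hed, mul_one, hed, one_mul]
      have a2 : e * e * (d * x * d) = e * x * d := by
        calc e * e * (d * x * d) = e * (e * d) * x * d := by noncomm_ring
          _ = e * x * d := by rw [hed, mul_one]
      have : e * e * (d * d * x - 2 • (d * x * d) + x * d * d)
          = e * e * (d * d * x) - 2 • (e * e * (d * x * d)) + e * e * (x * d * d) := by
        noncomm_ring
      rw [this, a1, a2, hz]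
      noncomm_ring
    rw [hstar, mul_zero] at h3
    exact sub_eq_zero.mp h3
  have hk : ∀ k : ℕ, e ^ k * x * d ^ k = x + k • z := by
    intro k
    induction k with
    | zero => simp
    | succ k ih =>
      calc e ^ (k + 1) * x * d ^ (k + 1) = e * (e ^ k * x * d ^ k) * d := by
            rw [pow_succ', pow_succ]; noncomm_ring
        _ = e * (x + k • z) * d := by rw [ih]
        _ = e * x * d + k • (e * z * d) := by
            rw [mul_add, add_mul, mul_smul_comm, smul_mul_assoc]
        _ = x + (k + 1) • z := by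
            rw [hzc, hz]; rw [add_smul, one_smul]; abel
  have hen : e ^ n = 1 := by
    calc e ^ n = e ^ n * d ^ n := by rw [hdn, mul_one]
      _ = 1 := by
        have hc : Commute e d := by
          show e * d = d * e
          rw [hed, hde]
        rw [← hc.mul_pow, hed, one_pow]
  have hnz : n • z = 0 := by
    have := hk n
    rw [hen, hdn, one_mul, mul_one] at this
    have h' : x + n • z = x + 0 := by rw [add_zero]; exact this.symm
    exact add_left_cancel h'
  have hz0 : z = 0 := hn z hnz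
  have h4 : e * x * d = x := sub_eq_zero.mp hz0
  calc d * x = d * (e * x * d) := by rw [h4]
    _ = (d * e) * x * d := by noncomm_ring
    _ = x * d := by rw [hde, one_mul]

/-- the endomorphism of `Additive A` induced by an automorphism. -/
noncomputable def endOf {A : Type*} [CommGroup A] (f : MulAut A) : AddMonoid.End (Additive A) :=
  MonoidHom.toAdditive f.toMonoidHom

theorem endOf_apply {A : Type*} [CommGroup A] (f : MulAut A) (m : Additive A) :
    endOf f m = Additive.ofMul (f m.toMul) := rfl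

theorem endOf_mul {A : Type*} [CommGroup A] (f g : MulAut A) : endOf (f * g) = endOf f * endOf g := by
  ext m; rfl

theorem endOf_one {A : Type*} [CommGroup A] : endOf (1 : MulAut A) = 1 := by
  ext m; rfl

theorem endOf_injective {A : Type*} [CommGroup A] : Function.Injective (endOf (A := A)) := by
  intro f g h
  ext v
  have := DFunLike.congr_fun h (Additive.ofMul v)
  rw [endOf_apply, endOf_apply] at this
  exact Additive.ofMul.injective this

noncomputable def endHom {X A : Type*} [Group X] [CommGroup A] (φ : X →* MulAut A) :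
    X →* AddMonoid.End (Additive A) where
  toFun g := endOf (φ g)
  map_one' := by rw [map_one, endOf_one]
  map_mul' g h := by rw [map_mul, endOf_mul]

theorem endHom_apply {X A : Type*} [Group X] [CommGroup A] (φ : X →* MulAut A) (g : X)
    (m : Additive A) : endHom φ g m = Additive.ofMul (φ g m.toMul) := rfl

theorem endHom_eq_iff {X A : Type*} [Group X] [CommGroup A] (φ : X →* MulAut A) (g h : X) :
    endHom φ g = endHom φ h ↔ φ g = φ h :=
  ⟨fun e => endOf_injective e, fun e => by show endOf (φ g) = endOf (φ h); rw [e]⟩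

theorem comm_of_quadratic {X A : Type*} [Group X] [CommGroup A] (φ : X →* MulAut A) (n : ℕ)
    (h2 : ∀ v : A, v * v = 1 → v = 1) (hn : ∀ v : A, v ^ n = 1 → v = 1)
    (a y : X) (hquad : ∀ v : A, φ a (φ a v) * v = φ a v * φ a v)
    (hyn : φ (y ^ n) = 1)
    (h1 : φ (y * (a⁻¹ * y * a)) = φ ((a⁻¹ * y * a) * y))
    (h2' : φ (y * (a * y * a⁻¹)) = φ ((a * y * a⁻¹) * y)) :
    φ (y * a) = φ (a * y) := by
  set ρ := endHom φ with hρ
  set x : AddMonoid.End (Additive A) := ρ a - 1 with hx
  have hxx : x * x = 0 := by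
    ext m
    have := hquad m.toMul
    change (ρ a - 1) ((ρ a - 1) m) = 0
    change ρ a (ρ a m - m) - (ρ a m - m) = 0
    rw [map_sub, hρ, endHom_apply, endHom_apply]
    apply Additive.toMul.injective
    simp only [toMul_sub, toMul_ofMul, toMul_zero]
    rw [div_div_eq_mul_div, div_mul_eq_mul_div, div_div, div_eq_one]
    exact this
  have ha : ρ a = 1 + x := by rw [hx]; abel
  have hainv : ρ a⁻¹ = 1 - x := by
    have h3 : ρ a * (1 - x) = 1 := by
      rw [ha]
      have : (1 + x) * (1 - x) = 1 - x * x := by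
        rw [add_mul, one_mul, mul_sub, mul_one]; abel
      rw [this, hxx, sub_zero]
    calc ρ a⁻¹ = ρ a⁻¹ * (ρ a * (1 - x)) := by rw [h3, mul_one]
      _ = (ρ a⁻¹ * ρ a) * (1 - x) := by rw [mul_assoc]
      _ = 1 - x := by rw [← map_mul, inv_mul_cancel, map_one, one_mul]
  have key : ρ y * x = x * ρ y := by
    apply ring_quadratic_comm n ?_ ?_ x (ρ y) (ρ y⁻¹)
    · rw [← map_mul, mul_inv_cancel, map_one]
    · rw [← map_mul, inv_mul_cancel, map_one]
    · rw [← map_pow, ← map_one ρ, hρ, endHom_eq_iff, hyn, map_one]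
    · rw [← hainv, ← ha, ← map_mul, ← map_mul, ← map_mul, ← map_mul, hρ, endHom_eq_iff]
      exact h1
    · rw [← hainv, ← ha]
      have : ρ a * ρ y * ρ a⁻¹ = ρ (a * y * a⁻¹) := by rw [map_mul, map_mul]
      rw [this, ← map_mul, ← map_mul, hρ, endHom_eq_iff]
      exact h2'
    · intro r hr
      ext m
      have := DFunLike.congr_fun hr m
      change r m + r m = 0 at this
      change r m = 0
      apply Additive.toMul.injective
      have h4 := congrArg Additive.toMul this
      simp only [toMul_add, toMul_zero] at h4 ⊢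
      exact h2 _ h4
    · intro r hr
      ext m
      have := DFunLike.congr_fun hr m
      change n • r m = 0 at this
      change r m = 0
      apply Additive.toMul.injective
      have h4 := congrArg Additive.toMul this
      simp only [toMul_nsmul, toMul_zero] at h4 ⊢
      exact hn _ h4
  have : ρ (y * a) = ρ (a * y) := by
    rw [map_mul, map_mul, ha]
    rw [mul_add, add_mul, mul_one, one_mul, key]
  exact (endHom_eq_iff φ _ _).mp this

theorem eq_one_of_pow_eq_one_of_coprime {A : Type*} [Group A] {p : ℕ} [Fact p.Prime]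
    (hA : IsPGroup p A) {n : ℕ} (hn : n.Coprime p) (v : A) (hv : v ^ n = 1) : v = 1 := by
  obtain ⟨k, hk⟩ := hA v
  have h1 : orderOf v ∣ n := orderOf_dvd_of_pow_eq_one hv
  have h2 : orderOf v ∣ p ^ k := orderOf_dvd_of_pow_eq_one hk
  have h3 : Nat.Coprime n (p ^ k) := Nat.Coprime.pow_right k hn
  have h4 : orderOf v = 1 := Nat.eq_one_of_dvd_coprimes h3 h1 h2
  exact orderOf_eq_one_iff.mp h4

theorem mem_ker_conjNormal {X : Type*} [Group X] (V : Subgroup X) [V.Normal] (g : X) :
    (MulAut.conjNormal (H := V)) g = 1 ↔ g ∈ Subgroup.centralizer (V : Set X) := by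
  rw [Subgroup.mem_centralizer_iff]
  constructor
  · intro h v hv
    have := DFunLike.congr_fun h ⟨v, hv⟩
    have h3 := congrArg Subtype.val this
    rw [MulAut.conjNormal_apply] at h3
    simp only [MulAut.one_apply] at h3
    calc v * g = (g * v * g⁻¹) * g := by rw [h3]
      _ = g * v := by group
  · intro h
    ext ⟨v, hv⟩
    rw [MulAut.conjNormal_apply]
    simp only [MulAut.one_apply]
    rw [← h v hv]
    group

/-- Quadratic action of `a` on an abelian normal `p`-subgroup (`p` odd): an element `y` whose `n`-th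
power (`n` prime to `p`) centralizes `V` and which commutes modulo `C(V)` with its conjugates by
`a` and `a⁻¹` commutes with `a` modulo `C(V)`. -/
theorem commutator_mem_centralizer_of_quadratic {X : Type*} [Group X] {p : ℕ} [Fact p.Prime]
    (hp : p ≠ 2) (V : Subgroup X) [hVn : V.Normal] (hVc : ∀ v ∈ V, ∀ w ∈ V, v * w = w * v)
    (hVp : IsPGroup p V) (n : ℕ) (hn : n.Coprime p) (a y : X)
    (hquad : ⁅⁅V, Subgroup.zpowers a⁆, Subgroup.zpowers a⁆ = ⊥)
    (hyn : y ^ n ∈ Subgroup.centralizer (V : Set X))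
    (h1 : ⁅y, a⁻¹ * y * a⁆ ∈ Subgroup.centralizer (V : Set X))
    (h2 : ⁅y, a * y * a⁻¹⁆ ∈ Subgroup.centralizer (V : Set X)) :
    ⁅y, a⁆ ∈ Subgroup.centralizer (V : Set X) := by
  letI : CommGroup V :=
    { (inferInstance : Group V) with
      mul_comm := fun v w => Subtype.ext (hVc v v.2 w w.2) }
  set φ : X →* MulAut V := MulAut.conjNormal with hφ
  have hker : ∀ g h : X, ⁅g, h⁆ ∈ Subgroup.centralizer (V : Set X) → φ (g * h) = φ (h * g) := by
    intro g h hgh
    have := (mem_ker_conjNormal V _).mpr hgh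
    rw [map_commutatorElement, commutatorElement_eq_one_iff_mul_comm] at this
    rw [map_mul, map_mul]
    exact this
  have h2odd : (2 : ℕ).Coprime p := by
    have hp' : p.Prime := Fact.out
    rw [Nat.coprime_comm]
    exact (Nat.coprime_primes hp' Nat.prime_two).mpr hp
  have key := comm_of_quadratic φ n
    (fun v hv => eq_one_of_pow_eq_one_of_coprime hVp h2odd v (by rw [pow_two]; exact hv))
    (fun v hv => eq_one_of_pow_eq_one_of_coprime hVp hn v hv)
    a y ?_ ((mem_ker_conjNormal V _).mpr hyn) (hker _ _ h1) (hker _ _ h2)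
  · rw [← mem_ker_conjNormal V, map_commutatorElement, commutatorElement_eq_one_iff_mul_comm,
      ← map_mul, ← map_mul]
    exact key
  · intro v
    have hq := (Cfsg.Agent.Lib.Helper97.quad_iff V a).mp hquad
    have hc : ⁅⁅(v : X), a⁆, a⁆ = 1 :=
      hq v v.2 a (Subgroup.mem_zpowers a) a (Subgroup.mem_zpowers a)
    rw [commutatorElement_eq_one_iff_mul_comm, commutatorElement_def] at hc
    set w := φ a v with hw
    set u := φ a w with hu
    have h5 : φ a (v * w⁻¹) = v * w⁻¹ := by
      apply Subtype.ext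
      rw [hφ, MulAut.conjNormal_apply, Subgroup.coe_mul, Subgroup.coe_inv, hw, hφ,
        MulAut.conjNormal_apply]
      have e : (v : X) * (a * v * a⁻¹)⁻¹ = v * a * (v : X)⁻¹ * a⁻¹ := by group
      rw [e]
      calc a * (v * a * (v : X)⁻¹ * a⁻¹) * a⁻¹ = (a * (v * a * (v : X)⁻¹ * a⁻¹)) * a⁻¹ := rfl
        _ = ((v * a * (v : X)⁻¹ * a⁻¹) * a) * a⁻¹ := by rw [hc]
        _ = v * a * (v : X)⁻¹ * a⁻¹ := by group
    rw [map_mul, map_inv, ← hw, ← hu, mul_inv_eq_iff_eq_mul] at h5
    -- h5 : w = v * w⁻¹ * u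
    calc u * v = v * u := mul_comm _ _
      _ = (v * w⁻¹ * u) * w := by
          rw [mul_assoc, mul_assoc, mul_comm u w, inv_mul_cancel_left]
      _ = w * w := by rw [← h5]

variable {X : Type*} [Group X]

/-- `C_X(V / V₁)`: the elements of `X` acting trivially on the section `V / V₁`. -/
def secCent (V V₁ : Subgroup X) [V₁.Normal] : Subgroup X :=
  (Subgroup.centralizer ((V.map (QuotientGroup.mk' V₁) : Subgroup (X ⧸ V₁)) : Set (X ⧸ V₁))).comap
    (QuotientGroup.mk' V₁)

theorem mem_secCent_iff (V V₁ : Subgroup X) [V₁.Normal] (g : X) :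
    g ∈ secCent V V₁ ↔ ∀ v ∈ V, ⁅g, v⁆ ∈ V₁ := by
  unfold secCent
  rw [Subgroup.mem_comap, Subgroup.mem_centralizer_iff]
  constructor
  · intro h v hv
    have h1 := h _ (Subgroup.mem_map_of_mem (QuotientGroup.mk' V₁) hv)
    rw [← QuotientGroup.eq_one_iff, ← QuotientGroup.mk'_apply, map_commutatorElement,
      commutatorElement_eq_one_iff_mul_comm]
    exact h1.symm
  · rintro h _ ⟨v, hv, rfl⟩
    have h1 := h v hv
    rw [← QuotientGroup.eq_one_iff, ← QuotientGroup.mk'_apply, map_commutatorElement,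
      commutatorElement_eq_one_iff_mul_comm] at h1
    exact h1.symm

instance secCent_normal (V V₁ : Subgroup X) [hV : V.Normal] [V₁.Normal] : (secCent V V₁).Normal := by
  unfold secCent
  have : (V.map (QuotientGroup.mk' V₁)).Normal := hV.map _ (QuotientGroup.mk'_surjective V₁)
  exact Subgroup.Normal.comap Subgroup.normal_centralizer _

/-- Section form of the quadratic lemma. -/
theorem commutator_mem_secCent_of_quadratic {p : ℕ} [Fact p.Prime] (hp : p ≠ 2)
    (V V₁ : Subgroup X) [hVn : V.Normal] [hV₁n : V₁.Normal] (hab : ⁅V, V⁆ ≤ V₁)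
    (hVp : IsPGroup p V) (n : ℕ) (hn : n.Coprime p) (a y : X)
    (hquad : ⁅⁅V, Subgroup.zpowers a⁆, Subgroup.zpowers a⁆ = ⊥)
    (hyn : y ^ n ∈ secCent V V₁)
    (h1 : ⁅y, a⁻¹ * y * a⁆ ∈ secCent V V₁)
    (h2 : ⁅y, a * y * a⁻¹⁆ ∈ secCent V V₁) :
    ⁅y, a⁆ ∈ secCent V V₁ := by
  have hnorm : (V.map (QuotientGroup.mk' V₁)).Normal := hVn.map _ (QuotientGroup.mk'_surjective V₁)
  unfold secCent at hyn h1 h2 ⊢
  rw [Subgroup.mem_comap] at hyn h1 h2 ⊢
  rw [map_commutatorElement] at h1 h2 ⊢
  rw [map_pow] at hyn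
  simp only [map_mul, map_inv] at h1 h2
  apply commutator_mem_centralizer_of_quadratic hp (V.map (QuotientGroup.mk' V₁)) ?_
    (hVp.map _) n hn _ _ ?_ hyn h1 h2
  · rintro _ ⟨v, hv, rfl⟩ _ ⟨w, hw, rfl⟩
    have h3 : ⁅v, w⁆ ∈ V₁ := hab (Subgroup.commutator_mem_commutator hv hw)
    rw [← QuotientGroup.eq_one_iff, ← QuotientGroup.mk'_apply, map_commutatorElement,
      commutatorElement_eq_one_iff_mul_comm] at h3
    exact h3
  · exact Cfsg.Agent.Lib.Helper97.quad_map _ hquad

/-- preimage in `X` of `O_p(X / C_X(V))`. -/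
def stabCore (p : ℕ) (V : Subgroup X) [V.Normal] : Subgroup X :=
  (pCore p (X ⧸ Subgroup.centralizer (V : Set X))).comap
    (QuotientGroup.mk' (Subgroup.centralizer (V : Set X)))

theorem mem_stabCore_iff (p : ℕ) (V : Subgroup X) [V.Normal] (g : X) :
    g ∈ stabCore p V ↔
      (QuotientGroup.mk g : X ⧸ Subgroup.centralizer (V : Set X)) ∈
        pCore p (X ⧸ Subgroup.centralizer (V : Set X)) := Iff.rfl

instance stabCore_normal (p : ℕ) (V : Subgroup X) [V.Normal] : (stabCore p V).Normal := by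
  unfold stabCore
  exact Subgroup.Normal.comap (Cfsg.Agent.Lib.Helper97.pCore_normal p) _

theorem exists_pow_mem_centralizer_of_mem_stabCore (p : ℕ) (V : Subgroup X) [V.Normal] {g : X}
    (hg : g ∈ stabCore p V) : ∃ k : ℕ, g ^ (p ^ k) ∈ Subgroup.centralizer (V : Set X) := by
  rw [mem_stabCore_iff] at hg
  obtain ⟨k, hk⟩ := (Cfsg.Agent.Lib.Helper97.isPGroup_pCore p _) ⟨_, hg⟩
  refine ⟨k, ?_⟩
  have h1 := congrArg Subtype.val hk
  rw [Subgroup.coe_pow, Subgroup.coe_one] at h1
  simp only [] at h1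
  rw [← QuotientGroup.mk_pow, QuotientGroup.eq_one_iff] at h1
  exact h1

/-- A normal subgroup acting on `V` as a `p`-group lies in `stabCore`. -/
theorem le_stabCore {p : ℕ} (V : Subgroup X) [V.Normal] (N : Subgroup X) [hN : N.Normal]
    (h : ∀ g ∈ N, ∃ k : ℕ, g ^ (p ^ k) ∈ Subgroup.centralizer (V : Set X)) : N ≤ stabCore p V := by
  have h1 : N.map (QuotientGroup.mk' (Subgroup.centralizer (V : Set X))) ≤
      pCore p (X ⧸ Subgroup.centralizer (V : Set X)) := by
    apply Cfsg.Agent.Lib.Helper97.le_pCore_of_normal (hN.map _ (QuotientGroup.mk'_surjective _))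
    rintro ⟨_, ⟨g, hg, rfl⟩⟩
    obtain ⟨k, hk⟩ := h g hg
    refine ⟨k, ?_⟩
    apply Subtype.ext
    rw [Subgroup.coe_pow, Subgroup.coe_one]
    simp only [QuotientGroup.mk'_apply]
    rw [← QuotientGroup.mk_pow, QuotientGroup.eq_one_iff]
    exact hk
  intro g hg
  exact h1 (Subgroup.mem_map_of_mem _ hg)

/-- The stability-group step: acting as a `p`-group on `V₁` and trivially on `V/V₁`
forces acting as a `p`-group on `V`. -/
theorem stabCore_inf_secCent_le [Finite X] {p : ℕ} [Fact p.Prime] (V V₁ : Subgroup X) [V.Normal]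
    [V₁.Normal] (hV₁p : IsPGroup p V₁) :
    stabCore p V₁ ⊓ secCent V V₁ ≤ stabCore p V := by
  apply le_stabCore
  rintro g ⟨hg1, hg2⟩
  obtain ⟨j, hj⟩ := exists_pow_mem_centralizer_of_mem_stabCore p V₁ hg1
  obtain ⟨i, hi⟩ := IsPGroup.iff_card.mp hV₁p
  refine ⟨j + i, ?_⟩
  set g' := g ^ (p ^ j) with hg'
  have hg'2 : g' ∈ secCent V V₁ := Subgroup.pow_mem _ hg2 _
  rw [pow_add, pow_mul, ← hg']
  rw [Subgroup.mem_centralizer_iff]
  intro v hv
  have hc : ⁅g', v⁆ ∈ V₁ := (mem_secCent_iff V V₁ g').mp hg'2 v hv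
  have hcomm : ⁅g', v⁆ * g' = g' * ⁅g', v⁆ := Subgroup.mem_centralizer_iff.mp hj _ hc
  have key : ∀ m : ℕ, g' ^ m * v = ⁅g', v⁆ ^ m * v * g' ^ m := by
    intro m
    induction m with
    | zero => simp
    | succ m ih =>
      have hcm : ⁅g', v⁆ ^ m * g' = g' * ⁅g', v⁆ ^ m := by
        have : Commute (⁅g', v⁆) g' := hcomm
        exact (this.pow_left m).eq
      calc g' ^ (m + 1) * v = g' * (g' ^ m * v) := by rw [pow_succ']; group
        _ = g' * (⁅g', v⁆ ^ m * v * g' ^ m) := by rw [ih]
        _ = (g' * ⁅g', v⁆ ^ m) * v * g' ^ m := by group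
        _ = (⁅g', v⁆ ^ m * g') * v * g' ^ m := by rw [hcm]
        _ = ⁅g', v⁆ ^ m * (g' * v * g'⁻¹ * v⁻¹) * v * g' * g' ^ m := by group
        _ = ⁅g', v⁆ ^ m * ⁅g', v⁆ * v * g' * g' ^ m := by rw [commutatorElement_def]
        _ = ⁅g', v⁆ ^ (m + 1) * v * g' ^ (m + 1) := by rw [pow_succ, pow_succ']; group
  have h1 : ⁅g', v⁆ ^ (p ^ i) = 1 := by
    have := pow_card_eq_one' (G := V₁) (x := ⟨_, hc⟩)
    rw [hi] at this
    have h2 := congrArg Subtype.val this
    rw [Subgroup.coe_pow, Subgroup.coe_one] at h2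
    exact h2
  have := key (p ^ i)
  rw [h1, one_mul] at this
  exact this.symm

theorem stabCore_bot (p : ℕ) : stabCore p (⊥ : Subgroup X) = ⊤ := by
  rw [eq_top_iff]
  apply le_stabCore
  intro g _
  refine ⟨0, ?_⟩
  rw [Subgroup.mem_centralizer_iff]
  intro v hv
  have : v = 1 := hv
  rw [this, one_mul, mul_one]

/-- Step (i): commutators `[y, a]`, `y ∈ L`, act as `p`-elements on every normal `p`-subgroup on
which `a` acts quadratically, when `L' ≤ O_p(X)` and `L / (L ∩ O_p(X))` is a `p'`-group. -/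
theorem commutator_mem_stabCore [Finite X] {p : ℕ} [Fact p.Prime] (hp : p ≠ 2)
    (L : Subgroup X) [hL : L.Normal] (hLL : ⁅L, L⁆ ≤ pCore p X) (n : ℕ) (hn : n.Coprime p)
    (hLn : ∀ y ∈ L, y ^ n ∈ pCore p X) (a : X) :
    ∀ (k : ℕ) (V : Subgroup X) [V.Normal], Nat.card V = k → IsPGroup p V →
      ⁅⁅V, Subgroup.zpowers a⁆, Subgroup.zpowers a⁆ = ⊥ → ∀ y ∈ L, ⁅y, a⁆ ∈ stabCore p V := by
  intro k
  induction k using Nat.strong_induction_on with
  | _ k ih =>
    intro V hVn hk hVp hquad y hy
    by_cases hbot : V = ⊥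
    · subst hbot
      rw [stabCore_bot]
      exact Subgroup.mem_top _
    set O := pCore p X with hO
    have hOn : O.Normal := Cfsg.Agent.Lib.Helper97.pCore_normal p
    have hOp : IsPGroup p O := Cfsg.Agent.Lib.Helper97.isPGroup_pCore p X
    have hVO : V ≤ O := Cfsg.Agent.Lib.Helper97.le_pCore_of_normal hVn hVp
    set V₁ : Subgroup X := ⁅V, O⁆ with hV₁
    have hV₁n : V₁.Normal := Subgroup.commutator_normal V O
    have hV₁V : V₁ ≤ V := Subgroup.commutator_le_left V O
    have hlt : V₁ < V := by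
      refine lt_of_le_of_ne hV₁V ?_
      intro heq
      apply hbot
      apply Cfsg.Agent.Lib.Helper97.eq_bot_of_le_commutator_of_pGroup_action (A := O) hVp ?_ ?_
        le_rfl ?_
      · rw [Subgroup.normalizer_eq_top]; exact le_top
      · intro o ho
        obtain ⟨j, hj⟩ := hOp ⟨o, ho⟩
        refine ⟨j, ?_⟩
        have h1 := congrArg Subtype.val hj
        rw [Subgroup.coe_pow, Subgroup.coe_one] at h1
        simp only [] at h1
        rw [h1]
        exact Subgroup.one_mem _
      · rw [← hV₁, heq]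
    have hV₁p : IsPGroup p V₁ := hVp.to_le hV₁V
    have hcard : Nat.card V₁ < k := by rw [← hk]; exact card_lt_of_lt hlt
    have hquad₁ := Cfsg.Agent.Lib.Helper97.quad_of_subgroup_le hV₁V hquad
    have h1 : ⁅y, a⁆ ∈ stabCore p V₁ := ih _ hcard V₁ rfl hV₁p hquad₁ y hy
    -- O acts trivially on V / V₁
    have hOsec : O ≤ secCent V V₁ := by
      intro o ho
      rw [mem_secCent_iff]
      intro v hv
      rw [hV₁, Subgroup.commutator_comm]
      exact Subgroup.commutator_mem_commutator ho hv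
    have h2 : ⁅y, a⁆ ∈ secCent V V₁ := by
      apply commutator_mem_secCent_of_quadratic hp V V₁ ?_ hVp n hn a y hquad
      · exact hOsec (hLn y hy)
      · apply hOsec
        apply hLL
        exact Subgroup.commutator_mem_commutator hy (by
          have := hL.conj_mem y hy a⁻¹
          simpa using this)
      · apply hOsec
        apply hLL
        exact Subgroup.commutator_mem_commutator hy (hL.conj_mem y hy a)
      · exact Subgroup.commutator_mono le_rfl hVO
    exact stabCore_inf_secCent_le V V₁ hV₁p ⟨h1, h2⟩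

theorem le_normalizer_of_forall_map_conj_le (S N : Subgroup X)
    (h : ∀ t ∈ S, N.map (MulAut.conj t).toMonoidHom ≤ N) : S ≤ Subgroup.normalizer (N : Set X) := by
  intro t ht
  rw [Subgroup.mem_normalizer_iff]
  intro x
  constructor
  · intro hx
    exact h t ht ⟨x, hx, rfl⟩
  · intro hx
    have := h t⁻¹ (inv_mem ht) ⟨_, hx, rfl⟩
    simpa [MulAut.conj_apply, mul_assoc] using this

theorem sup_sylow_eq_top_of_pow_mem [Finite X] {p : ℕ} [Fact p.Prime] (L : Subgroup X) [L.Normal]
    (hXL : ∀ x : X, ∃ k : ℕ, x ^ (p ^ k) ∈ L) (T : Sylow p X) : L ⊔ (T : Subgroup X) = ⊤ := by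
  have hq : IsPGroup p (X ⧸ L) := by
    intro x
    obtain ⟨g, rfl⟩ := QuotientGroup.mk_surjective x
    obtain ⟨k, hk⟩ := hXL g
    exact ⟨k, by rw [← QuotientGroup.mk_pow, QuotientGroup.eq_one_iff]; exact hk⟩
  obtain ⟨k, hk⟩ := IsPGroup.iff_card.mp hq
  have h1 : (L ⊔ (T : Subgroup X)).index ∣ p ^ k := by
    rw [← hk, ← Subgroup.index_eq_card]
    exact Subgroup.index_dvd_of_le le_sup_left
  have h2 : (L ⊔ (T : Subgroup X)).index ∣ (T : Subgroup X).index :=
    Subgroup.index_dvd_of_le le_sup_right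
  have hp : p.Prime := Fact.out
  rw [← Subgroup.index_eq_one]
  obtain ⟨j, _, hj⟩ := (Nat.dvd_prime_pow hp).mp h1
  rcases Nat.eq_zero_or_pos j with h0 | hpos
  · rw [hj, h0, pow_zero]
  · exfalso
    apply T.not_dvd_index
    apply dvd_trans _ h2
    rw [hj]
    exact dvd_pow_self p hpos.ne'

/-- Step (ii): if `X / L` is a `p`-group and all `[y, a]`, `y ∈ L`, lie in `stabCore p V` for the
`p`-element `a`, then so does `a`. -/
theorem mem_stabCore_of_commutator [Finite X] {p : ℕ} [Fact p.Prime]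
    (L : Subgroup X) [hL : L.Normal] (hXL : ∀ x : X, ∃ k : ℕ, x ^ (p ^ k) ∈ L)
    (V : Subgroup X) [V.Normal] (a : X) (ha : IsPGroup p (Subgroup.zpowers a))
    (h : ∀ y ∈ L, ⁅y, a⁆ ∈ stabCore p V) : a ∈ stabCore p V := by
  obtain ⟨T, hT⟩ := ha.exists_le_sylow
  set W := stabCore p V with hW
  set D := secCent L W with hD
  set N : Subgroup X := ((T : Subgroup X) ⊓ D) ⊔ W with hN
  have haT : a ∈ (T : Subgroup X) := hT (Subgroup.mem_zpowers a)
  have haD : a ∈ D := by
    rw [hD, mem_secCent_iff]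
    intro y hy
    have := W.inv_mem (h y hy)
    rwa [commutatorElement_inv] at this
  -- N is normal
  have hTn : (T : Subgroup X) ≤ Subgroup.normalizer (N : Set X) := by
    apply le_normalizer_of_forall_map_conj_le
    intro t ht
    rw [hN, Subgroup.map_sup]
    apply sup_le
    · rintro _ ⟨g, ⟨hg1, hg2⟩, rfl⟩
      apply Subgroup.mem_sup_left
      refine ⟨?_, ?_⟩
      · simp only [MulEquiv.coe_toMonoidHom, MulAut.conj_apply]
        exact (T : Subgroup X).mul_mem ((T : Subgroup X).mul_mem ht hg1) ((T : Subgroup X).inv_mem ht)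
      · simp only [MulEquiv.coe_toMonoidHom, MulAut.conj_apply]
        exact (secCent_normal L W).conj_mem g hg2 t
    · rintro _ ⟨w, hw, rfl⟩
      apply Subgroup.mem_sup_right
      simp only [MulEquiv.coe_toMonoidHom, MulAut.conj_apply]
      exact (stabCore_normal p V).conj_mem w hw t
  have hLn : L ≤ Subgroup.normalizer (N : Set X) := by
    apply le_normalizer_of_forall_map_conj_le
    intro y hy
    rw [hN, Subgroup.map_sup]
    apply sup_le
    · rintro _ ⟨g, ⟨hg1, hg2⟩, rfl⟩
      simp only [MulEquiv.coe_toMonoidHom, MulAut.conj_apply]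
      have h1 : ⁅g, y⁆ ∈ W := (mem_secCent_iff L W g).mp hg2 y hy
      have h2 : ⁅y, g⁆ ∈ W := by
        have := W.inv_mem h1
        rwa [commutatorElement_inv] at this
      have e : y * g * y⁻¹ = ⁅y, g⁆ * g := by rw [commutatorElement_def]; group
      rw [e]
      -- W normal: ⁅y,g⁆ * g = g * (g⁻¹ ⁅y,g⁆ g)
      have h3 : g⁻¹ * ⁅y, g⁆ * g ∈ W := by
        have := (stabCore_normal p V).conj_mem _ h2 g⁻¹
        simpa using this
      have e2 : ⁅y, g⁆ * g = g * (g⁻¹ * ⁅y, g⁆ * g) := by group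
      rw [e2]
      exact mul_mem (Subgroup.mem_sup_left ⟨hg1, hg2⟩) (Subgroup.mem_sup_right h3)
    · rintro _ ⟨w, hw, rfl⟩
      apply Subgroup.mem_sup_right
      simp only [MulEquiv.coe_toMonoidHom, MulAut.conj_apply]
      exact (stabCore_normal p V).conj_mem w hw y
  have hNn : N.Normal := by
    rw [← Subgroup.normalizer_eq_top_iff, eq_top_iff, ← sup_sylow_eq_top_of_pow_mem L hXL T]
    exact sup_le hLn hTn
  -- N acts as a p-group on V
  have hNW : N ≤ W := by
    apply le_stabCore
    intro g hg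
    set C := Subgroup.centralizer (V : Set X) with hC
    have hp1 : IsPGroup p (((T : Subgroup X) ⊓ D).map (QuotientGroup.mk' C)) :=
      (T.isPGroup'.to_le inf_le_left).map _
    have hp2 : IsPGroup p (((T : Subgroup X) ⊓ D).map (QuotientGroup.mk' C) ⊔ pCore p (X ⧸ C) :
        Subgroup (X ⧸ C)) :=
      hp1.to_sup_of_normal_right (Cfsg.Agent.Lib.Helper97.isPGroup_pCore p _)
    have hmem : (QuotientGroup.mk' C) g ∈
        (((T : Subgroup X) ⊓ D).map (QuotientGroup.mk' C) ⊔ pCore p (X ⧸ C) : Subgroup (X ⧸ C)) := by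
      have h1 : N.map (QuotientGroup.mk' C) ≤
          ((T : Subgroup X) ⊓ D).map (QuotientGroup.mk' C) ⊔ pCore p (X ⧸ C) := by
        rw [hN, Subgroup.map_sup]
        apply sup_le_sup_left
        rw [hW]
        unfold stabCore
        exact Subgroup.map_comap_le _ _
      exact h1 (Subgroup.mem_map_of_mem _ hg)
    obtain ⟨k, hk⟩ := hp2 ⟨_, hmem⟩
    refine ⟨k, ?_⟩
    have h1 := congrArg Subtype.val hk
    rw [Subgroup.coe_pow, Subgroup.coe_one] at h1
    simp only [QuotientGroup.mk'_apply] at h1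
    rw [← QuotientGroup.mk_pow, QuotientGroup.eq_one_iff] at h1
    exact h1
  exact hNW (Subgroup.mem_sup_left ⟨haT, haD⟩)

/-- `p`-stability (element form) for groups `X` with `L ⊴ X`, `X/L` a `p`-group,
`[L, L] ≤ O_p(X)`, and `L O_p(X) / O_p(X)` of exponent prime to `p`; `p` odd. -/
theorem hst_of_series [Finite X] {p : ℕ} [Fact p.Prime] (hp : p ≠ 2)
    (L : Subgroup X) [hL : L.Normal] (hLL : ⁅L, L⁆ ≤ pCore p X) (n : ℕ) (hn : n.Coprime p)
    (hLn : ∀ y ∈ L, y ^ n ∈ pCore p X) (hXL : ∀ x : X, ∃ k : ℕ, x ^ (p ^ k) ∈ L) :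
    ∀ (V : Subgroup X) [V.Normal], IsPGroup p V → ∀ a : X, IsPGroup p (Subgroup.zpowers a) →
      ⁅⁅V, Subgroup.zpowers a⁆, Subgroup.zpowers a⁆ = ⊥ →
      (QuotientGroup.mk a : X ⧸ Subgroup.centralizer (V : Set X)) ∈
        pCore p (X ⧸ Subgroup.centralizer (V : Set X)) := by
  intro V hVn hVp a ha hquad
  rw [← mem_stabCore_iff]
  apply mem_stabCore_of_commutator L hXL V a ha
  intro y hy
  exact commutator_mem_stabCore hp L hLL n hn hLn a _ V rfl hVp hquad y hy

end Cfsg.Agent.Lib.Helper11
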