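import Mathlib

set_option autoImplicit false

namespace Cfsg.Agent.Lib.Helper11

open Matrix

universe u

section TwoDim

variable {L : Type*} [Field L] {H : Type u} [Group H]

/-- `u` spans a line invariant under `φ(S)`. -/
def IsEig (φ : H →* Matrix (Fin 2) (Fin 2) L) (S : Subgroup H) (u : Fin 2 → L) : Prop :=
  ∀ k ∈ S, ∃ c : L, (φ k).mulVec u = c • u

theorem mulVec_hom_mul (φ : H →* Matrix (Fin 2) (Fin 2) L) (g h : H) (u : Fin 2 → L) :
    (φ (g * h)).mulVec u = (φ g).mulVec ((φ h).mulVec u) := by
  rw [map_mul, Matrix.mulVec_mulVec]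

theorem mulVec_hom_inv_cancel (φ : H →* Matrix (Fin 2) (Fin 2) L) (g : H) (u : Fin 2 → L) :
    (φ g⁻¹).mulVec ((φ g).mulVec u) = u := by
  rw [← mulVec_hom_mul, inv_mul_cancel, map_one, Matrix.one_mulVec]

theorem mulVec_hom_ne_zero (φ : H →* Matrix (Fin 2) (Fin 2) L) (g : H) {u : Fin 2 → L}
    (hu : u ≠ 0) : (φ g).mulVec u ≠ 0 := by
  intro h
  apply hu
  rw [← mulVec_hom_inv_cancel φ g u, h, Matrix.mulVec_zero]

/-- The stabilizer of the line through `u`, as a subgroup. -/
def lineStab (φ : H →* Matrix (Fin 2) (Fin 2) L) (u : Fin 2 → L) (hu : u ≠ 0) : Subgroup H where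
  carrier := {h | ∃ c : L, (φ h).mulVec u = c • u}
  one_mem' := ⟨1, by rw [map_one, Matrix.one_mulVec, one_smul]⟩
  mul_mem' := by
    rintro g h ⟨c, hc⟩ ⟨d, hd⟩
    refine ⟨d * c, ?_⟩
    rw [mulVec_hom_mul, hd, Matrix.mulVec_smul, hc, smul_smul]
  inv_mem' := by
    rintro g ⟨c, hc⟩
    have hc0 : c ≠ 0 := by
      rintro rfl
      rw [zero_smul] at hc
      exact mulVec_hom_ne_zero φ g hu hc
    refine ⟨c⁻¹, ?_⟩
    have h1 := mulVec_hom_inv_cancel φ g u
    rw [hc, Matrix.mulVec_smul] at h1
    calc (φ g⁻¹).mulVec u = c⁻¹ • (c • (φ g⁻¹).mulVec u) := by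
          rw [smul_smul, inv_mul_cancel₀ hc0, one_smul]
      _ = c⁻¹ • u := by rw [h1]

theorem mem_lineStab (φ : H →* Matrix (Fin 2) (Fin 2) L) (u : Fin 2 → L) (hu : u ≠ 0) (h : H) :
    h ∈ lineStab φ u hu ↔ ∃ c : L, (φ h).mulVec u = c • u := Iff.rfl

/-- Transport of eigenvectors of a normal subgroup. -/
theorem isEig_mulVec (φ : H →* Matrix (Fin 2) (Fin 2) L) (S : Subgroup H) [hS : S.Normal]
    {u : Fin 2 → L} (hu : IsEig φ S u) (h : H) : IsEig φ S ((φ h).mulVec u) := by
  intro k hk
  obtain ⟨c, hc⟩ := hu (h⁻¹ * k * h) (by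
    have := hS.conj_mem k hk h⁻¹
    simpa using this)
  refine ⟨c, ?_⟩
  have e : k * h = h * (h⁻¹ * k * h) := by group
  rw [← mulVec_hom_mul, e, mulVec_hom_mul, hc, Matrix.mulVec_smul]

/-- Cramer: two vectors with nonzero determinant span. -/
theorem exists_smul_add_smul {v w : Fin 2 → L} (hD : v 0 * w 1 - v 1 * w 0 ≠ 0) (u : Fin 2 → L) :
    ∃ α β : L, u = α • v + β • w := by
  refine ⟨(u 0 * w 1 - u 1 * w 0) / (v 0 * w 1 - v 1 * w 0),
    (v 0 * u 1 - v 1 * u 0) / (v 0 * w 1 - v 1 * w 0), ?_⟩
  funext i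
  fin_cases i
  · simp only [Fin.zero_eta, Fin.isValue, Pi.add_apply, Pi.smul_apply, smul_eq_mul]
    rw [div_mul_eq_mul_div, div_mul_eq_mul_div, ← add_div, eq_div_iff hD]
    ring
  · simp only [Fin.mk_one, Fin.isValue, Pi.add_apply, Pi.smul_apply, smul_eq_mul]
    rw [div_mul_eq_mul_div, div_mul_eq_mul_div, ← add_div, eq_div_iff hD]
    ring

theorem eq_zero_of_smul_add_smul {v w : Fin 2 → L} (hD : v 0 * w 1 - v 1 * w 0 ≠ 0) {α β : L}
    (h : α • v + β • w = 0) : α = 0 ∧ β = 0 := by
  have h0 := congrFun h 0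
  have h1 := congrFun h 1
  simp only [Fin.isValue, Pi.add_apply, Pi.smul_apply, smul_eq_mul, Pi.zero_apply] at h0 h1
  have e1 : α * (v 0 * w 1 - v 1 * w 0) = 0 := by
    linear_combination w 1 * h0 - w 0 * h1
  have e2 : β * (v 0 * w 1 - v 1 * w 0) = 0 := by
    linear_combination v 0 * h1 - v 1 * h0
  exact ⟨(mul_eq_zero.mp e1).resolve_right hD, (mul_eq_zero.mp e2).resolve_right hD⟩

theorem det_ne_zero_of_not_smul {v w : Fin 2 → L} (hv : v ≠ 0) (hw : ∀ c : L, w ≠ c • v) :
    v 0 * w 1 - v 1 * w 0 ≠ 0 := by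
  intro hD
  by_cases h0 : v 0 = 0
  · have h1 : v 1 ≠ 0 := by
      intro h1
      apply hv
      funext i
      fin_cases i
      · exact h0
      · exact h1
    apply hw (w 1 / v 1)
    rw [h0, zero_mul, zero_sub, neg_eq_zero] at hD
    have hw0 : w 0 = 0 := (mul_eq_zero.mp hD).resolve_left h1
    funext i
    fin_cases i
    · simp [h0, hw0]
    · simp only [Fin.mk_one, Fin.isValue, Pi.smul_apply, smul_eq_mul]
      field_simp
  · apply hw (w 0 / v 0)
    funext i
    fin_cases i
    · simp only [Fin.zero_eta, Fin.isValue, Pi.smul_apply, smul_eq_mul]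
      field_simp
    · simp only [Fin.mk_one, Fin.isValue, Pi.smul_apply, smul_eq_mul]
      field_simp
      linear_combination hD

/-- **Common eigenvector**: a finite solvable group of odd order acting on `L²`, `L`
algebraically closed, leaves a line invariant. -/
theorem exists_common_eigenvector [IsAlgClosed L] :
    ∀ (n : ℕ) (H : Type u) [Group H] [Finite H] [Group.IsSolvable H], Nat.card H = n →
      Odd (Nat.card H) → ∀ φ : H →* Matrix (Fin 2) (Fin 2) L,
      ∃ v : Fin 2 → L, v ≠ 0 ∧ ∀ h : H, ∃ c : L, (φ h).mulVec v = c • v := by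
  intro n
  induction n using Nat.strong_induction_on with
  | _ n ih =>
    intro H _ _ _ hn hodd φ
    by_cases htriv : Subsingleton H
    · refine ⟨![1, 0], ?_, fun h => ⟨1, ?_⟩⟩
      · intro h0
        have := congrFun h0 0
        simp at this
      · rw [Subsingleton.elim h 1, map_one, Matrix.one_mulVec, one_smul]
    · rw [not_subsingleton_iff_nontrivial] at htriv
      have hlt : commutator H < ⊤ := Group.IsSolvable.commutator_lt_top_of_nontrivial H
      obtain ⟨K, hK, hcK⟩ := (eq_top_or_exists_le_coatom (commutator H)).resolve_left hlt.ne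
      have hKn : K.Normal := Subgroup.Normal.of_commutator_le (G := H) hcK
      have hKcard : Nat.card K < n := by
        rw [← hn]
        exact lt_of_le_of_ne (Subgroup.card_le_card_group K)
          (mt (Subgroup.card_eq_iff_eq_top K).mp hK.1)
      have hKodd : Odd (Nat.card K) := Odd.of_dvd_nat hodd (Subgroup.card_subgroup_dvd_card K)
      obtain ⟨v, hv, hvK⟩ := ih _ hKcard ↥K rfl hKodd (φ.comp K.subtype)
      have hEv : IsEig φ K v := fun k hk => hvK ⟨k, hk⟩
      obtain ⟨h₀, hh₀⟩ : ∃ h₀ : H, h₀ ∉ K := by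
        by_contra hcon
        push Not at hcon
        exact hK.1 (eq_top_iff.mpr fun x _ => hcon x)
      have hsup : K ⊔ Subgroup.zpowers h₀ = ⊤ :=
        hK.2 _ (left_lt_sup.mpr fun hle => hh₀ (hle (Subgroup.mem_zpowers h₀)))
      by_cases hall : ∀ h : H, ∃ c : L, (φ h).mulVec v = c • v
      · exact ⟨v, hv, hall⟩
      push Not at hall
      obtain ⟨h₁, hh₁⟩ := hall
      have hD := det_ne_zero_of_not_smul hv hh₁
      have hEw : IsEig φ K ((φ h₁).mulVec v) := isEig_mulVec φ K hEv h₁
      generalize (φ h₁).mulVec v = w at hD hEw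
      by_cases hscal : ∀ k ∈ K, ∀ c d : L, (φ k).mulVec v = c • v → (φ k).mulVec w = d • w → c = d
      · -- `K` acts by scalars
        obtain ⟨μ, hμ⟩ := Module.End.exists_eigenvalue (Matrix.toLin' (φ h₀))
        obtain ⟨u, hu⟩ := hμ.exists_hasEigenvector
        have hu0 : u ≠ 0 := hu.2
        have hue : (φ h₀).mulVec u = μ • u := by
          have := hu.apply_eq_smul
          simpa [Matrix.toLin'_apply] using this
        refine ⟨u, hu0, ?_⟩
        have hKle : K ≤ lineStab φ u hu0 := by
          intro k hk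
          obtain ⟨c, hc⟩ := hEv k hk
          obtain ⟨d, hd⟩ := hEw k hk
          have hcd := hscal k hk c d hc hd
          obtain ⟨α, β, rfl⟩ := exists_smul_add_smul hD u
          refine ⟨c, ?_⟩
          rw [Matrix.mulVec_add, Matrix.mulVec_smul, Matrix.mulVec_smul, hc, hd, ← hcd, smul_add,
            smul_comm c α, smul_comm c β]
        have hzle : Subgroup.zpowers h₀ ≤ lineStab φ u hu0 := by
          rw [Subgroup.zpowers_le]
          exact ⟨μ, hue⟩
        have htop : (⊤ : Subgroup H) ≤ lineStab φ u hu0 := hsup ▸ sup_le hKle hzle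
        intro h
        exact htop (Subgroup.mem_top h)
      · push Not at hscal
        obtain ⟨k₀, hk₀, c₀, d₀, hc₀, hd₀, hne⟩ := hscal
        have key : ∀ u : Fin 2 → L, IsEig φ K u → (∃ α : L, u = α • v) ∨ (∃ β : L, u = β • w) := by
          intro u hu
          obtain ⟨e, he⟩ := hu k₀ hk₀
          obtain ⟨α, β, rfl⟩ := exists_smul_add_smul hD u
          rw [Matrix.mulVec_add, Matrix.mulVec_smul, Matrix.mulVec_smul, hc₀, hd₀] at he
          have h0 : (α * (c₀ - e)) • v + (β * (d₀ - e)) • w = 0 := by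
            have h1 : α • c₀ • v + β • d₀ • w - e • (α • v + β • w) = 0 := sub_eq_zero.mpr he
            rw [← h1]
            module
          obtain ⟨h1, h2⟩ := eq_zero_of_smul_add_smul hD h0
          by_cases hα : α = 0
          · right
            exact ⟨β, by rw [hα, zero_smul, zero_add]⟩
          · left
            have hce : c₀ = e := sub_eq_zero.mp ((mul_eq_zero.mp h1).resolve_left hα)
            have hβ : β = 0 := by
              rcases mul_eq_zero.mp h2 with h | h
              · exact h
              · exfalso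
                apply hne
                rw [hce]
                exact (sub_eq_zero.mp h).symm
            exact ⟨α, by rw [hβ, zero_smul, add_zero]⟩
        refine ⟨v, hv, ?_⟩
        have hsq : ∀ h : H, h * h ∈ lineStab φ v hv := by
          intro h
          rcases key _ (isEig_mulVec φ K hEv h) with ⟨α, hα⟩ | ⟨β, hβ⟩
          · exact mul_mem (⟨α, hα⟩ : h ∈ lineStab φ v hv) ⟨α, hα⟩
          · rcases key _ (isEig_mulVec φ K hEw h) with ⟨α', hα'⟩ | ⟨β', hβ'⟩
            · refine ⟨β * α', ?_⟩
              rw [mulVec_hom_mul, hβ, Matrix.mulVec_smul, hα', smul_smul]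
            · exfalso
              have h0 : (φ h).mulVec (β' • v - β • w) = 0 := by
                rw [Matrix.mulVec_sub, Matrix.mulVec_smul, Matrix.mulVec_smul, hβ, hβ', smul_smul,
                  smul_smul, mul_comm, sub_self]
              have h1 : β' • v - β • w = 0 := by
                by_contra hne0
                exact mulVec_hom_ne_zero φ h hne0 h0
              have h2 : β' • v + (-β) • w = 0 := by
                rw [neg_smul, ← sub_eq_add_neg]
                exact h1
              obtain ⟨-, h3⟩ := eq_zero_of_smul_add_smul hD h2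
              have hβ0 : β = 0 := neg_eq_zero.mp h3
              rw [hβ0, zero_smul] at hβ
              exact mulVec_hom_ne_zero φ h hv hβ
        intro h
        obtain ⟨m, hm⟩ := hodd
        have h1 : h ^ (2 * m + 1) = 1 := by
          rw [← hm]
          exact pow_card_eq_one'
        have h2 : h = (h * h) ^ (m + 1) := by
          calc h = h ^ (2 * m + 1) * h := by rw [h1, one_mul]
            _ = (h * h) ^ (m + 1) := by
              rw [← pow_succ, ← pow_two, ← pow_mul]
              rfl
        have h3 := pow_mem (hsq h) (m + 1)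
        rw [← h2] at h3
        exact h3

/-- No finite solvable group of odd order maps onto a pair of opposite transvections. -/
theorem false_of_transvection_pair {K : Type*} [Field K] {H : Type u} [Group H] [Finite H]
    [Group.IsSolvable H] (hodd : Odd (Nat.card H)) (φ : H →* Matrix (Fin 2) (Fin 2) K)
    (a b : H) (s : K) (hs : s ≠ 0) (ha : φ a = !![1, s; 0, 1]) (hb : φ b = !![1, 0; 1, 1]) :
    False := by
  set ι : K →+* AlgebraicClosure K := algebraMap K (AlgebraicClosure K) with hι
  set ψ : H →* Matrix (Fin 2) (Fin 2) (AlgebraicClosure K) :=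
    (ι.mapMatrix (m := Fin 2)).toMonoidHom.comp φ
    with hψ
  obtain ⟨v, hv, hall⟩ := exists_common_eigenvector (L := AlgebraicClosure K) _ H rfl hodd ψ
  have hιs : ι s ≠ 0 := by
    rw [hι]
    exact (map_ne_zero_iff _ (algebraMap K (AlgebraicClosure K)).injective).mpr hs
  have hψa : ψ a = !![1, ι s; 0, 1] := by
    rw [hψ, MonoidHom.comp_apply, ha]
    ext i j
    fin_cases i <;> fin_cases j <;> simp
  have hψb : ψ b = !![1, 0; 1, 1] := by
    rw [hψ, MonoidHom.comp_apply, hb]
    ext i j
    fin_cases i <;> fin_cases j <;> simp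
  obtain ⟨c, hc⟩ := hall a
  obtain ⟨d, hd⟩ := hall b
  rw [hψa] at hc
  rw [hψb] at hd
  have hc0 := congrFun hc 0
  have hc1 := congrFun hc 1
  have hd0 := congrFun hd 0
  have hd1 := congrFun hd 1
  simp [Matrix.mulVec, dotProduct, Fin.sum_univ_two] at hc0 hc1 hd0 hd1
  -- hc0 : v 0 + ι s * v 1 = c * v 0 ; hc1 : v 1 = c * v 1 ; hd0 : v 0 = d * v 0 ; hd1 : v 0 + v 1 = d * v 1
  have hv1 : v 1 = 0 := by
    by_contra h1
    have hc' : c = 1 := by
      have : (c - 1) * v 1 = 0 := by linear_combination -hc1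
      exact sub_eq_zero.mp ((mul_eq_zero.mp this).resolve_right h1)
    rw [hc', one_mul] at hc0
    have : ι s * v 1 = 0 := by linear_combination hc0
    rcases mul_eq_zero.mp this with h | h
    · exact hιs h
    · exact h1 h
  have hv0 : v 0 = 0 := by
    by_contra h0
    have hd' : d = 1 := by
      have : (d - 1) * v 0 = 0 := by linear_combination -hd0
      exact sub_eq_zero.mp ((mul_eq_zero.mp this).resolve_right h0)
    rw [hd', one_mul, hv1] at hd1
    exact h0 (by linear_combination hd1)
  apply hv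
  funext i
  fin_cases i
  · exact hv0
  · exact hv1

end TwoDim

end Cfsg.Agent.Lib.Helper11
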