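import Mathlib
import Cfsg.Agent.Lib.Helper11.TwoDim

set_option autoImplicit false
set_option linter.style.haveILetI false
set_option linter.deprecated false

namespace Cfsg.Agent.Lib.Helper11

open Module

universe u

theorem false_of_basis {K' : Type*} [Field K'] {M : Type*} [AddCommGroup M] [Module K' M]
    {H : Type u} [Group H] [Finite H] [Group.IsSolvable H] (hodd : Odd (Nat.card H))
    (ρK : H →* Module.End K' M) (bs : Module.Basis (Fin 2) K' M) (a b : H) (σ : K') (hσ : σ ≠ 0)
    (hav : ρK a (bs 0) = bs 0) (haw : ρK a (bs 1) = bs 1 + σ • bs 0)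
    (hbv : ρK b (bs 0) = bs 0 + bs 1) (hbw : ρK b (bs 1) = bs 1) : False := by
  refine false_of_transvection_pair hodd
    ((LinearMap.toMatrixAlgEquiv bs).toAlgHom.toRingHom.toMonoidHom.comp ρK) a b σ hσ ?_ ?_
  · ext i j
    rw [MonoidHom.comp_apply]
    show (LinearMap.toMatrixAlgEquiv bs) (ρK a) i j = _
    rw [LinearMap.toMatrixAlgEquiv_apply]
    fin_cases i <;> fin_cases j <;> simp [hav, haw]
  · ext i j
    rw [MonoidHom.comp_apply]
    show (LinearMap.toMatrixAlgEquiv bs) (ρK b) i j = _
    rw [LinearMap.toMatrixAlgEquiv_apply]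
    fin_cases i <;> fin_cases j <;> simp [hbv, hbw]

section QuadPair

variable {p : ℕ} [hp : Fact p.Prime] {M : Type*} [AddCommGroup M] [Module (ZMod p) M]
  {H : Type u} [Group H] (ρ : H →* Module.End (ZMod p) M)

/-- invariant submodules -/
def InvSub (N : Submodule (ZMod p) M) : Prop := ∀ (h : H) (m : M), m ∈ N → ρ h m ∈ N

theorem invSub_ker_of_commute (k : Module.End (ZMod p) M) (hk : ∀ h : H, k * ρ h = ρ h * k) :
    InvSub ρ (LinearMap.ker k) := by
  intro h m hm
  rw [LinearMap.mem_ker] at hm ⊢
  have := DFunLike.congr_fun (hk h) m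
  simp only [Module.End.mul_apply] at this
  rw [this, hm, map_zero]

/-- something commuting with the two generators commutes with everything -/
theorem commute_of_closure (a b : H) (hgen : Subgroup.closure ({a, b} : Set H) = ⊤)
    (k : Module.End (ZMod p) M) (ha : k * ρ a = ρ a * k) (hb : k * ρ b = ρ b * k) :
    ∀ h : H, k * ρ h = ρ h * k := by
  intro h
  have hmem : h ∈ Subgroup.closure ({a, b} : Set H) := by rw [hgen]; exact Subgroup.mem_top h
  induction hmem using Subgroup.closure_induction with
  | mem x hx =>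
    rcases hx with rfl | rfl
    · exact ha
    · exact hb
  | one => rw [map_one, mul_one, one_mul]
  | mul x y _ _ hx hy =>
    rw [map_mul, ← mul_assoc, hx, mul_assoc, hy, mul_assoc]
  | inv x _ hx =>
    have h1 : ρ x⁻¹ * ρ x = 1 := by rw [← map_mul, inv_mul_cancel, map_one]
    have h2 : ρ x * ρ x⁻¹ = 1 := by rw [← map_mul, mul_inv_cancel, map_one]
    calc k * ρ x⁻¹ = (ρ x⁻¹ * ρ x) * (k * ρ x⁻¹) := by rw [h1, one_mul]
      _ = ρ x⁻¹ * (ρ x * k) * ρ x⁻¹ := by simp only [mul_assoc]
      _ = ρ x⁻¹ * (k * ρ x) * ρ x⁻¹ := by rw [hx]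
      _ = ρ x⁻¹ * k * (ρ x * ρ x⁻¹) := by simp only [mul_assoc]
      _ = ρ x⁻¹ * k := by rw [h2, mul_one]

/-- fixed vectors of both generators are fixed by everything -/
theorem fixed_of_closure (a b : H) (hgen : Subgroup.closure ({a, b} : Set H) = ⊤) (m : M)
    (ha : ρ a m = m) (hb : ρ b m = m) : ∀ h : H, ρ h m = m := by
  intro h
  have hmem : h ∈ Subgroup.closure ({a, b} : Set H) := by rw [hgen]; exact Subgroup.mem_top h
  induction hmem using Subgroup.closure_induction with
  | mem x hx =>
    rcases hx with rfl | rfl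
    · exact ha
    · exact hb
  | one => rw [map_one]; rfl
  | mul x y _ _ hx hy =>
    rw [map_mul, Module.End.mul_apply, hy, hx]
  | inv x _ hx =>
    have h1 : ρ x⁻¹ * ρ x = 1 := by rw [← map_mul, inv_mul_cancel, map_one]
    have := DFunLike.congr_fun h1 m
    simp only [Module.End.mul_apply, Module.End.one_apply] at this
    rw [hx] at this
    exact this

/-- invariance under the generators suffices (finite group) -/
theorem invSub_of_gens [Finite H] (a b : H) (hgen : Subgroup.closure ({a, b} : Set H) = ⊤)
    (N : Submodule (ZMod p) M) (ha : ∀ m ∈ N, ρ a m ∈ N) (hb : ∀ m ∈ N, ρ b m ∈ N) :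
    InvSub ρ N := by
  intro h
  have hmem : h ∈ Subgroup.closure ({a, b} : Set H) := by rw [hgen]; exact Subgroup.mem_top h
  induction hmem using Subgroup.closure_induction with
  | mem x hx =>
    rcases hx with rfl | rfl
    · exact ha
    · exact hb
  | one => intro m hm; rw [map_one]; exact hm
  | mul x y _ _ hx hy =>
    intro m hm
    rw [map_mul, Module.End.mul_apply]
    exact hx _ (hy m hm)
  | inv x _ hx =>
    have hpow : ∀ n : ℕ, ∀ m ∈ N, ρ (x ^ n) m ∈ N := by
      intro n
      induction n with
      | zero => intro m hm; rw [pow_zero, map_one]; exact hm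
      | succ n ih =>
        intro m hm
        rw [pow_succ, map_mul, Module.End.mul_apply]
        exact ih _ (hx m hm)
    have hinv : x⁻¹ = x ^ (Nat.card H - 1) := by
      have h1 : x ^ (Nat.card H - 1) * x = 1 := by
        rw [← pow_succ, Nat.sub_add_cancel Nat.card_pos]
        exact pow_card_eq_one'
      exact (eq_inv_of_mul_eq_one_left h1).symm
    rw [hinv]
    exact hpow _

/-- Irreducible case, `xy + yx = 0`: the action is trivial. -/
theorem trivial_of_irreducible_of_anticomm (a b : H)
    (hgen : Subgroup.closure ({a, b} : Set H) = ⊤)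
    (hx : (ρ a - 1) * (ρ a - 1) = 0) (hy : (ρ b - 1) * (ρ b - 1) = 0)
    (hs : (ρ a - 1) * (ρ b - 1) + (ρ b - 1) * (ρ a - 1) = 0)
    (hirr : ∀ N : Submodule (ZMod p) M, InvSub ρ N → N = ⊥ ∨ N = ⊤) : ∀ h : H, ρ h = 1 := by
  set x := ρ a - 1 with hxdef
  set y := ρ b - 1 with hydef
  have hxa : ∀ m, ρ a m = m + x m := by
    intro m; rw [hxdef, LinearMap.sub_apply, Module.End.one_apply]; abel
  have hyb : ∀ m, ρ b m = m + y m := by
    intro m; rw [hydef, LinearMap.sub_apply, Module.End.one_apply]; abel
  set F : Submodule (ZMod p) M := LinearMap.ker x ⊓ LinearMap.ker y with hF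
  have hfix : ∀ m ∈ F, ∀ h : H, ρ h m = m := by
    intro m hm h
    rw [hF, Submodule.mem_inf, LinearMap.mem_ker, LinearMap.mem_ker] at hm
    apply fixed_of_closure ρ a b hgen m
    · rw [hxa, hm.1, add_zero]
    · rw [hyb, hm.2, add_zero]
  have hFinv : InvSub ρ F := by
    intro h m hm
    rw [hfix m hm h]; exact hm
  have hxx : ∀ m, x (x m) = 0 := fun m => by
    have := DFunLike.congr_fun hx m
    simpa using this
  have hyy : ∀ m, y (y m) = 0 := fun m => by
    have := DFunLike.congr_fun hy m
    simpa using this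
  have hxy : ∀ m, x (y m) = - y (x m) := fun m => by
    have := DFunLike.congr_fun hs m
    simp only [LinearMap.add_apply, Module.End.mul_apply, LinearMap.zero_apply] at this
    exact eq_neg_of_add_eq_zero_left this
  rcases hirr F hFinv with h0 | h1
  · -- F = ⊥ : then M is trivial
    have hM : ∀ m : M, m = 0 := by
      by_contra hne
      push Not at hne
      obtain ⟨m₀, hm₀⟩ := hne
      -- m₁ ≠ 0 with x m₁ = 0
      obtain ⟨m₁, hm₁, hxm₁⟩ : ∃ m₁ : M, m₁ ≠ 0 ∧ x m₁ = 0 := by
        by_cases h : x m₀ = 0
        · exact ⟨m₀, hm₀, h⟩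
        · exact ⟨x m₀, h, hxx m₀⟩
      by_cases hym : y m₁ = 0
      · have : m₁ ∈ F := by
          rw [hF, Submodule.mem_inf, LinearMap.mem_ker, LinearMap.mem_ker]; exact ⟨hxm₁, hym⟩
        rw [h0, Submodule.mem_bot] at this
        exact hm₁ this
      · have : y m₁ ∈ F := by
          rw [hF, Submodule.mem_inf, LinearMap.mem_ker, LinearMap.mem_ker]
          refine ⟨?_, hyy m₁⟩
          rw [hxy, hxm₁, map_zero, neg_zero]
        rw [h0, Submodule.mem_bot] at this
        exact hym this
    intro h
    ext m
    rw [hM m, map_zero, map_zero]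
  · intro h
    ext m
    rw [Module.End.one_apply]
    exact hfix m (by rw [h1]; exact Submodule.mem_top) h


/-- Irreducible case, `xy + yx ≠ 0`: impossible for solvable groups of odd order. -/
theorem false_of_irreducible_of_ne_zero [Finite M] [Finite H] [Group.IsSolvable H]
    (hodd : Odd (Nat.card H)) (a b : H)
    (hgen : Subgroup.closure ({a, b} : Set H) = ⊤)
    (hx : (ρ a - 1) * (ρ a - 1) = 0) (hy : (ρ b - 1) * (ρ b - 1) = 0)
    (hs : (ρ a - 1) * (ρ b - 1) + (ρ b - 1) * (ρ a - 1) ≠ 0)
    (hirr : ∀ N : Submodule (ZMod p) M, InvSub ρ N → N = ⊥ ∨ N = ⊤) : False := by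
  classical
  obtain ⟨x, hxdef⟩ : ∃ x, x = ρ a - 1 := ⟨_, rfl⟩
  obtain ⟨y, hydef⟩ : ∃ y, y = ρ b - 1 := ⟨_, rfl⟩
  rw [← hxdef] at hx hs
  rw [← hydef] at hy hs
  obtain ⟨s, hsdef⟩ : ∃ s, s = x * y + y * x := ⟨_, rfl⟩
  rw [← hsdef] at hs
  have hρa : ρ a = x + 1 := by rw [hxdef, sub_add_cancel]
  have hρb : ρ b = y + 1 := by rw [hydef, sub_add_cancel]
  have hsx : s * x = x * s := by
    rw [hsdef, add_mul, mul_add, mul_assoc y x x, hx, mul_zero, add_zero, ← mul_assoc x x y, hx,
      zero_mul, zero_add, mul_assoc]
  have hsy : s * y = y * s := by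
    rw [hsdef, add_mul, mul_add, mul_assoc x y y, hy, mul_zero, zero_add, ← mul_assoc y y x, hy,
      zero_mul, add_zero, mul_assoc]
  have hsa : s * ρ a = ρ a * s := by rw [hρa, mul_add, add_mul, hsx, mul_one, one_mul]
  have hsb : s * ρ b = ρ b * s := by rw [hρb, mul_add, add_mul, hsy, mul_one, one_mul]
  have hsc : ∀ h : H, s * ρ h = ρ h * s := commute_of_closure ρ a b hgen s hsa hsb
  set K' := Subring.closure ({s} : Set (Module.End (ZMod p) M)) with hK'
  have hK'c : ∀ k ∈ K', ∀ h : H, k * ρ h = ρ h * k := by
    intro k hk h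
    have hle : K' ≤ Subring.centralizer {ρ h} := by
      rw [hK', Subring.closure_le]
      intro z hz
      rw [Set.mem_singleton_iff] at hz
      subst hz
      rw [SetLike.mem_coe, Subring.mem_centralizer_iff]
      intro g hg
      rw [Set.mem_singleton_iff] at hg
      subst hg
      exact (hsc h).symm
    exact (Subring.mem_centralizer_iff.mp (hle hk) (ρ h) rfl).symm
  have hinj : ∀ k ∈ K', k ≠ 0 → Function.Injective k := by
    intro k hk hk0
    have hinv := invSub_ker_of_commute ρ k (hK'c k hk)
    rcases hirr _ hinv with h | h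
    · exact LinearMap.ker_eq_bot.mp h
    · exact absurd (LinearMap.ker_eq_top.mp h) hk0
  -- `x ≠ 0`, hence a vector `v ≠ 0` with `x v = 0`
  have hx0 : x ≠ 0 := by
    intro h0
    apply hs
    rw [hsdef, h0, zero_mul, mul_zero, add_zero]
  obtain ⟨m₀, hm₀⟩ : ∃ m : M, x m ≠ 0 := by
    by_contra hcon
    push Not at hcon
    apply hx0
    ext m
    rw [hcon m, LinearMap.zero_apply]
  have hxx : ∀ m, x (x m) = 0 := fun m => by
    have := DFunLike.congr_fun hx m
    simpa using this
  have hyy : ∀ m, y (y m) = 0 := fun m => by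
    have := DFunLike.congr_fun hy m
    simpa using this
  set v := x m₀ with hvdef
  have hxv : x v = 0 := hxx m₀
  set w := y v with hwdef
  have hyw : y w = 0 := hyy v
  have hxw : x w = s v := by
    rw [hsdef, LinearMap.add_apply, Module.End.mul_apply, Module.End.mul_apply, hxv, map_zero,
      add_zero]
  have hav : ρ a v = v := by rw [hρa, LinearMap.add_apply, hxv, zero_add, Module.End.one_apply]
  have haw : ρ a w = w + s v := by
    rw [hρa, LinearMap.add_apply, hxw, Module.End.one_apply, add_comm]
  have hbv : ρ b v = v + w := by rw [hρb, LinearMap.add_apply, Module.End.one_apply, add_comm]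
  have hbw : ρ b w = w := by rw [hρb, LinearMap.add_apply, hyw, zero_add, Module.End.one_apply]
  -- the field structure
  letI : CommRing K' := Subring.closureCommRingOfComm (by
    intro z hz z' hz'
    rw [Set.mem_singleton_iff] at hz hz'
    rw [hz, hz'])
  haveI : Finite (Module.End (ZMod p) M) :=
    Finite.of_injective (fun f => (f : M → M)) DFunLike.coe_injective
  haveI : Finite K' := inferInstance
  haveI : Nontrivial M := ⟨⟨v, 0, hm₀⟩⟩
  haveI : Nontrivial K' := inferInstance
  haveI : NoZeroDivisors K' := by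
    constructor
    intro k₁ k₂ h
    by_cases h1 : k₁ = 0
    · exact Or.inl h1
    · right
      have hinj' := hinj k₁.1 k₁.2 (fun h0 => h1 (Subtype.ext h0))
      apply Subtype.ext
      ext m
      apply hinj'
      have := congrArg (fun k : K' => (k : Module.End (ZMod p) M) m) h
      simpa using this
  haveI : IsDomain K' := NoZeroDivisors.to_isDomain K'
  letI : Field K' := (Finite.isField_of_domain K').toField
  have hsmul : ∀ (k : K') (m : M), k • m = (k : Module.End (ZMod p) M) m := fun k m => rfl
  set σ : K' := ⟨s, Subring.subset_closure rfl⟩ with hσdef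
  have hσ : σ ≠ 0 := by
    intro h0
    apply hs
    have := congrArg Subtype.val h0
    exact this
  have hσv : σ • v = s v := rfl
  have hlin : ∀ (h : H) (k : K') (m : M), ρ h (k • m) = k • ρ h m := by
    intro h k m
    rw [hsmul, hsmul]
    have := DFunLike.congr_fun (hK'c k.1 k.2 h) m
    simp only [Module.End.mul_apply] at this
    exact this.symm
  let ρK : H →* Module.End K' M :=
    { toFun := fun h =>
        { toFun := ρ h
          map_add' := map_add _
          map_smul' := fun k m => hlin h k m }
      map_one' := by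
        ext m
        show ρ 1 m = m
        rw [map_one, Module.End.one_apply]
      map_mul' := by
        intro g h
        ext m
        show ρ (g * h) m = ρ g (ρ h m)
        rw [map_mul, Module.End.mul_apply] }
  have hρK : ∀ (h : H) (m : M), ρK h m = ρ h m := fun h m => rfl
  have hsm : ∀ k : K', k • v = 0 → k = 0 := by
    intro k hk
    by_contra hk0
    have hinj' := hinj k.1 k.2 (fun h0 => hk0 (Subtype.ext h0))
    apply hm₀
    apply hinj'
    rw [map_zero]
    exact hk
  have hxk : ∀ (k : K') (m : M), x (k • m) = k • x m := by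
    intro k m
    rw [hxdef, LinearMap.sub_apply, LinearMap.sub_apply, hlin, Module.End.one_apply,
      Module.End.one_apply, smul_sub]
  have hli : LinearIndependent K' ![v, w] := by
    rw [LinearIndependent.pair_iff]
    intro α β h
    have h1 : (β * σ) • v = 0 := by
      have h2 := congrArg x h
      rw [map_add, hxk, hxk, hxv, smul_zero, zero_add, hxw, map_zero] at h2
      rw [mul_smul, hσv]
      exact h2
    have hβ : β = 0 := by
      rcases mul_eq_zero.mp (hsm _ h1) with h | h
      · exact h
      · exact absurd h hσ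
    rw [hβ, zero_smul, add_zero] at h
    exact ⟨hsm _ h, hβ⟩
  have hsp : ⊤ ≤ Submodule.span K' (Set.range ![v, w]) := by
    let N' : AddSubgroup M :=
      { carrier := {m | ∃ α β : K', m = α • v + β • w}
        add_mem' := by
          rintro _ _ ⟨α, β, rfl⟩ ⟨α', β', rfl⟩
          exact ⟨α + α', β + β', by module⟩
        zero_mem' := ⟨0, 0, by rw [zero_smul, zero_smul, add_zero]⟩
        neg_mem' := by
          rintro _ ⟨α, β, rfl⟩
          exact ⟨-α, -β, by module⟩ }
    have hN'a : ∀ m ∈ AddSubgroup.toZModSubmodule p N', ρ a m ∈ AddSubgroup.toZModSubmodule p N' := by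
      rintro _ ⟨α, β, rfl⟩
      refine ⟨α + β * σ, β, ?_⟩
      rw [map_add, hlin, hlin, hav, haw, ← hσv]
      module
    have hN'b : ∀ m ∈ AddSubgroup.toZModSubmodule p N', ρ b m ∈ AddSubgroup.toZModSubmodule p N' := by
      rintro _ ⟨α, β, rfl⟩
      refine ⟨α, α + β, ?_⟩
      rw [map_add, hlin, hlin, hbv, hbw]
      module
    have hNinv := invSub_of_gens ρ a b hgen _ hN'a hN'b
    have hvN : v ∈ AddSubgroup.toZModSubmodule p N' := ⟨1, 0, by rw [one_smul, zero_smul, add_zero]⟩
    have hNtop : AddSubgroup.toZModSubmodule p N' = ⊤ := by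
      rcases hirr _ hNinv with h | h
      · rw [h, Submodule.mem_bot] at hvN
        exact absurd hvN hm₀
      · exact h
    intro m _
    have hm : m ∈ AddSubgroup.toZModSubmodule p N' := by rw [hNtop]; exact Submodule.mem_top
    obtain ⟨α, β, rfl⟩ := hm
    exact Submodule.add_mem _ (Submodule.smul_mem _ _ (Submodule.subset_span ⟨0, rfl⟩))
      (Submodule.smul_mem _ _ (Submodule.subset_span ⟨1, rfl⟩))
  set bs := Module.Basis.mk hli hsp with hbs
  have hb0 : bs 0 = v := by rw [hbs, Module.Basis.mk_apply]; rfl
  have hb1 : bs 1 = w := by rw [hbs, Module.Basis.mk_apply]; rfl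
  refine false_of_basis hodd ρK bs a b σ hσ ?_ ?_ ?_ ?_
  · rw [hb0, hρK, hav]
  · rw [hb1, hb0, hρK, haw, hσv]
  · rw [hb0, hb1, hρK, hbv]
  · rw [hb1, hρK, hbw]


/-- pointwise form of quadratic action -/
def QuadEnd (f : Module.End (ZMod p) M) : Prop := ∀ m : M, f (f m) + m = f m + f m

theorem quadEnd_iff (f : Module.End (ZMod p) M) : QuadEnd f ↔ (f - 1) * (f - 1) = 0 := by
  constructor
  · intro h
    ext m
    have := h m
    simp only [Module.End.mul_apply, LinearMap.sub_apply, Module.End.one_apply, map_sub,
      LinearMap.zero_apply]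
    have e : f (f m) - f m - (f m - m) = f (f m) + m - (f m + f m) := by abel
    rw [e, this, sub_self]
  · intro h m
    have := DFunLike.congr_fun h m
    simp only [Module.End.mul_apply, LinearMap.sub_apply, Module.End.one_apply, map_sub,
      LinearMap.zero_apply] at this
    have h2 : f (f m) + m - (f m + f m) = 0 := by
      rw [← this]
      abel
    exact sub_eq_zero.mp h2

/-- gluing: trivial on `N` and on `M ⧸ N` gives `p`-th power trivial. -/
theorem pow_p_eq_one_of_trivial (f : Module.End (ZMod p) M) (N : Submodule (ZMod p) M)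
    (h1 : ∀ m ∈ N, f m = m) (h2 : ∀ m : M, f m - m ∈ N) : f ^ p = 1 := by
  have key : ∀ (k : ℕ) (m : M), (f ^ k) m = m + k • (f m - m) := by
    intro k
    induction k with
    | zero => intro m; rw [pow_zero, zero_smul, add_zero, Module.End.one_apply]
    | succ k ih =>
      intro m
      rw [pow_succ', Module.End.mul_apply, ih, map_add, map_nsmul, h1 _ (h2 m), succ_nsmul]
      abel
  ext m
  rw [key, ZModModule.char_nsmul_eq_zero p, add_zero, Module.End.one_apply]

/-- restriction of the action to an invariant submodule -/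
def resHom (N : Submodule (ZMod p) M) (hN : InvSub ρ N) : H →* Module.End (ZMod p) N where
  toFun h := (ρ h).restrict (hN h)
  map_one' := by
    ext m
    rw [LinearMap.restrict_coe_apply, map_one, Module.End.one_apply, Module.End.one_apply]
  map_mul' g h := by
    ext m
    rw [LinearMap.restrict_coe_apply, map_mul, Module.End.mul_apply, Module.End.mul_apply,
      LinearMap.restrict_coe_apply, LinearMap.restrict_coe_apply]

theorem resHom_apply (N : Submodule (ZMod p) M) (hN : InvSub ρ N) (h : H) (m : N) :
    ((resHom ρ N hN h m : N) : M) = ρ h m := rfl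

/-- the action on the quotient by an invariant submodule -/
def quotHom (N : Submodule (ZMod p) M) (hN : InvSub ρ N) : H →* Module.End (ZMod p) (M ⧸ N) where
  toFun h := N.mapQ N (ρ h) (fun m hm => hN h m hm)
  map_one' := by
    apply Submodule.linearMap_qext
    ext m
    simp
  map_mul' g h := by
    apply Submodule.linearMap_qext
    ext m
    simp

theorem quotHom_apply (N : Submodule (ZMod p) M) (hN : InvSub ρ N) (h : H) (m : M) :
    quotHom ρ N hN h (Submodule.Quotient.mk m) = Submodule.Quotient.mk (ρ h m) := rfl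

end QuadPair

section QuadPairMain

universe v

variable {p : ℕ} [hp : Fact p.Prime] {H : Type u} [Group H]

/-- **Pair lemma**: a finite solvable group of odd order generated by two elements acting
quadratically on a finite `𝔽_p`-module acts as a `p`-group. -/
theorem quadPair [Finite H] [Group.IsSolvable H] (hodd : Odd (Nat.card H)) (a b : H)
    (hgen : Subgroup.closure ({a, b} : Set H) = ⊤) :
    ∀ (n : ℕ) (M : Type v) [AddCommGroup M] [Module (ZMod p) M] [Finite M]
      (ρ : H →* Module.End (ZMod p) M), Nat.card M = n → QuadEnd (ρ a) → QuadEnd (ρ b) →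
      ∀ h : H, ∃ k : ℕ, ρ (h ^ (p ^ k)) = 1 := by
  intro n
  induction n using Nat.strong_induction_on with
  | _ n ih =>
    intro M _ _ _ ρ hn ha hb h
    by_cases hirr : ∀ N : Submodule (ZMod p) M, InvSub ρ N → N = ⊥ ∨ N = ⊤
    · refine ⟨0, ?_⟩
      rw [pow_zero, pow_one]
      by_cases hs : (ρ a - 1) * (ρ b - 1) + (ρ b - 1) * (ρ a - 1) = 0
      · exact trivial_of_irreducible_of_anticomm ρ a b hgen ((quadEnd_iff _).mp ha)
          ((quadEnd_iff _).mp hb) hs hirr h
      · exact (false_of_irreducible_of_ne_zero ρ hodd a b hgen ((quadEnd_iff _).mp ha)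
          ((quadEnd_iff _).mp hb) hs hirr).elim
    · push Not at hirr
      obtain ⟨N, hN, hNbot, hNtop⟩ := hirr
      have hcard := Submodule.card_eq_card_quotient_mul_card N
      haveI : Finite (M ⧸ N) := Finite.of_surjective _ (Submodule.Quotient.mk_surjective N)
      have hN1 : 1 < Nat.card N := by
        haveI : Nontrivial N := (Submodule.nontrivial_iff_ne_bot).mpr hNbot
        exact Finite.one_lt_card
      have hQ1 : 1 < Nat.card (M ⧸ N) := by
        haveI : Nontrivial (M ⧸ N) := Submodule.Quotient.nontrivial_iff.mpr hNtop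
        exact Finite.one_lt_card
      have hcN : Nat.card N < n := by
        rw [← hn, hcard]
        nlinarith
      have hcQ : Nat.card (M ⧸ N) < n := by
        rw [← hn, hcard]
        nlinarith
      have haN : QuadEnd (resHom ρ N hN a) := by
        intro m
        apply Subtype.ext
        exact ha m
      have hbN : QuadEnd (resHom ρ N hN b) := by
        intro m
        apply Subtype.ext
        exact hb m
      have haQ : QuadEnd (quotHom ρ N hN a) := by
        intro m
        induction m using Submodule.Quotient.induction_on with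
        | H m =>
          rw [quotHom_apply, quotHom_apply, ← Submodule.Quotient.mk_add, ← Submodule.Quotient.mk_add,
            ha m]
      have hbQ : QuadEnd (quotHom ρ N hN b) := by
        intro m
        induction m using Submodule.Quotient.induction_on with
        | H m =>
          rw [quotHom_apply, quotHom_apply, ← Submodule.Quotient.mk_add, ← Submodule.Quotient.mk_add,
            hb m]
      obtain ⟨k₁, hk₁⟩ := ih _ hcN ↥N (resHom ρ N hN) rfl haN hbN h
      obtain ⟨k₂, hk₂⟩ := ih _ hcQ (M ⧸ N) (quotHom ρ N hN) rfl haQ hbQ h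
      refine ⟨k₁ + k₂ + 1, ?_⟩
      obtain ⟨g, hg⟩ : ∃ g : H, g = h ^ (p ^ (k₁ + k₂)) := ⟨_, rfl⟩
      have hgN : resHom ρ N hN g = 1 := by
        rw [hg, pow_add, pow_mul, map_pow, hk₁, one_pow]
      have hgQ : quotHom ρ N hN g = 1 := by
        rw [hg, pow_add, mul_comm, pow_mul, map_pow, hk₂, one_pow]
      have hg1 : ∀ m ∈ N, ρ g m = m := by
        intro m hm
        have := congrArg Subtype.val (DFunLike.congr_fun hgN ⟨m, hm⟩)
        exact this
      have hg2 : ∀ m : M, ρ g m - m ∈ N := by
        intro m
        have := DFunLike.congr_fun hgQ (Submodule.Quotient.mk m)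
        rw [quotHom_apply, Module.End.one_apply] at this
        exact (Submodule.Quotient.eq N).mp this
      have hfin : ρ (g ^ p) = 1 := by
        rw [map_pow]
        exact pow_p_eq_one_of_trivial (ρ g) N hg1 hg2
      rw [pow_succ, pow_mul, ← hg]
      exact hfin

end QuadPairMain


end Cfsg.Agent.Lib.Helper11
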