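import Mathlib
import Cfsg.Agent.Lib.Helper11.QuadPair
import Cfsg.Agent.Lib.Helper11.PStab
import Cfsg.Agent.Lib.Helper97.PStable
import Cfsg.Agent.S0199

set_option autoImplicit false
set_option linter.style.haveILetI false

namespace Cfsg.Agent.Lib.Helper11

open Cfsg
open scoped commutatorElement

universe u v

/-- the linear representation on `Additive A` attached to an action by automorphisms. -/
noncomputable def linHom {X A : Type*} [Group X] [CommGroup A] (p : ℕ)
    [Module (ZMod p) (Additive A)] (φ : X →* MulAut A) :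
    X →* Module.End (ZMod p) (Additive A) where
  toFun g := AddMonoidHom.toZModLinearMap p (MonoidHom.toAdditive (φ g).toMonoidHom)
  map_one' := by
    apply LinearMap.ext
    intro m
    show Additive.ofMul (φ 1 m.toMul) = m
    rw [map_one]
    rfl
  map_mul' g h := by
    apply LinearMap.ext
    intro m
    show Additive.ofMul (φ (g * h) m.toMul) = Additive.ofMul (φ g (φ h m.toMul))
    rw [map_mul, MulAut.mul_apply]

theorem linHom_apply {X A : Type*} [Group X] [CommGroup A] (p : ℕ)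
    [Module (ZMod p) (Additive A)] (φ : X →* MulAut A) (g : X) (m : Additive A) :
    linHom p φ g m = Additive.ofMul (φ g m.toMul) := rfl

theorem linHom_eq_one_iff {X A : Type*} [Group X] [CommGroup A] (p : ℕ)
    [Module (ZMod p) (Additive A)] (φ : X →* MulAut A) (g : X) :
    linHom p φ g = 1 ↔ φ g = 1 := by
  constructor
  · intro h
    ext v
    have := DFunLike.congr_fun h (Additive.ofMul v)
    rw [linHom_apply, Module.End.one_apply] at this
    exact Additive.ofMul.injective this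
  · intro h
    apply LinearMap.ext
    intro m
    rw [linHom_apply, h, Module.End.one_apply]
    rfl

/-- Pair lemma in terms of automorphisms of an elementary abelian group. -/
theorem exists_pow_eq_one_of_quad_pair {G : Type u} [Group G] [Finite G] [Group.IsSolvable G]
    (hodd : Odd (Nat.card G)) {p : ℕ} [Fact p.Prime] {A : Type v} [CommGroup A] [Finite A]
    (hA : ∀ x : A, x ^ p = 1) (φ : G →* MulAut A) (a b : G)
    (hqa : ∀ v : A, φ a (φ a v) * v = φ a v * φ a v)
    (hqb : ∀ v : A, φ b (φ b v) * v = φ b v * φ b v) :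
    ∀ h ∈ Subgroup.closure ({a, b} : Set G), ∃ k : ℕ, φ (h ^ (p ^ k)) = 1 := by
  have hVexp : ∀ m : Additive A, p • m = 0 := by
    intro m
    have h2 : Additive.ofMul ((m.toMul) ^ p) = p • m := rfl
    rw [← h2, hA]
    rfl
  letI : Module (ZMod p) (Additive A) := AddCommGroup.zmodModule hVexp
  obtain ⟨H₀, hH₀⟩ : ∃ H₀ : Subgroup G, H₀ = Subgroup.closure ({a, b} : Set G) := ⟨_, rfl⟩
  have haH : a ∈ H₀ := by rw [hH₀]; exact Subgroup.subset_closure (by simp)
  have hbH : b ∈ H₀ := by rw [hH₀]; exact Subgroup.subset_closure (by simp)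
  have hgen : Subgroup.closure ({⟨a, haH⟩, ⟨b, hbH⟩} : Set ↥H₀) = ⊤ := by
    have h1 := Subgroup.closure_closure_coe_preimage (k := ({a, b} : Set G))
    rw [← hH₀] at h1
    have h2 : ((↑) : ↥H₀ → G) ⁻¹' ({a, b} : Set G) = {⟨a, haH⟩, ⟨b, hbH⟩} := by
      ext ⟨x, hx⟩
      simp [Subtype.ext_iff]
    rw [h2] at h1
    exact h1
  have hoddH : Odd (Nat.card H₀) := Odd.of_dvd_nat hodd (Subgroup.card_subgroup_dvd_card H₀)
  have key := quadPair (p := p) hoddH ⟨a, haH⟩ ⟨b, hbH⟩ hgen _ (Additive A)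
    (linHom p (φ.comp H₀.subtype)) rfl
    (by
      intro m
      exact congrArg Additive.ofMul (hqa m.toMul))
    (by
      intro m
      exact congrArg Additive.ofMul (hqb m.toMul))
  intro h hh
  rw [← hH₀] at hh
  obtain ⟨k, hk⟩ := key ⟨h, hh⟩
  rw [linHom_eq_one_iff] at hk
  exact ⟨k, hk⟩

/-- **Odd order solvable groups are `p`-stable on elementary abelian normal subgroups.** -/
theorem mem_stabCore_of_quadratic_of_odd_solvable {G : Type u} [Group G] [Finite G]
    [Group.IsSolvable G] (hodd : Odd (Nat.card G)) {p : ℕ} [Fact p.Prime] (V : Subgroup G)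
    [hVn : V.Normal] (hV : IsElementaryAbelian p V) (a : G)
    (ha : ⁅⁅V, Subgroup.zpowers a⁆, Subgroup.zpowers a⁆ = ⊥) : a ∈ stabCore p V := by
  classical
  have hcV : ∀ x y : ↥V, x * y = y * x := fun x y => hV.1.is_comm.comm x y
  have hVexp : ∀ v : ↥V, v ^ p = 1 := fun v => Subtype.ext (by simpa using hV.2 _ v.2)
  obtain ⟨φ, hφ⟩ : ∃ φ : G →* MulAut ↥V, φ = MulAut.conjNormal := ⟨_, rfl⟩
  have hφa : ∀ (g : G) (v : ↥V), ((φ g v : ↥V) : G) = g * v * g⁻¹ := by
    intro g v
    rw [hφ]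
    exact MulAut.conjNormal_apply g v
  have hquad : ∀ c : G, ⁅⁅V, Subgroup.zpowers c⁆, Subgroup.zpowers c⁆ = ⊥ →
      ∀ v : ↥V, φ c (φ c v) * v = φ c v * φ c v := by
    intro c hc v
    have hq1 := (Cfsg.Agent.Lib.Helper97.quad_iff V c).mp hc v v.2 c
      (Subgroup.mem_zpowers c) c (Subgroup.mem_zpowers c)
    have e1 : ⁅⁅(v : G), c⁆, c⁆ =
        (v : G) * (c * v * c⁻¹)⁻¹ * ((c * (c * v * c⁻¹) * c⁻¹) * (c * v * c⁻¹)⁻¹) := by
      rw [commutatorElement_def, commutatorElement_def]
      group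
    rw [e1] at hq1
    have hq2 : v * (φ c v)⁻¹ * (φ c (φ c v) * (φ c v)⁻¹) = 1 := by
      apply Subtype.ext
      simp only [Subgroup.coe_mul, Subgroup.coe_inv, hφa, Subgroup.coe_one]
      exact hq1
    exact Cfsg.Agent.Lib.Helper97.comm_rearr hcV _ _ _ hq2
  set C := Subgroup.centralizer (V : Set G) with hC
  have hpair : ∀ g : G, ∀ h ∈ Subgroup.closure ({a, g * a * g⁻¹} : Set G),
      ∃ k : ℕ, h ^ (p ^ k) ∈ C := by
    intro g h hh
    letI : CommGroup ↥V := { (inferInstance : Group ↥V) with mul_comm := hcV }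
    obtain ⟨k, hk⟩ := exists_pow_eq_one_of_quad_pair hodd (p := p) (A := ↥V) hVexp φ a (g * a * g⁻¹)
      (hquad a ha) (hquad _ (Cfsg.Agent.Lib.Helper97.quad_conj ha g)) h hh
    refine ⟨k, ?_⟩
    rw [hφ] at hk
    exact (mem_ker_conjNormal V _).mp hk
  set π := QuotientGroup.mk' C with hπ
  have hBS : ∀ g' : G ⧸ C, IsPGroup p ↥(Subgroup.zpowers (π a) ⊔
      (Subgroup.zpowers (π a)).map (MulAut.conj g').toMonoidHom) := by
    intro g'
    obtain ⟨g, rfl⟩ := QuotientGroup.mk'_surjective C g'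
    have hle : Subgroup.zpowers (π a) ⊔
        (Subgroup.zpowers (π a)).map (MulAut.conj (QuotientGroup.mk' C g)).toMonoidHom ≤
        (Subgroup.closure ({a, g * a * g⁻¹} : Set G)).map π := by
      apply sup_le
      · rw [Subgroup.zpowers_le]
        exact Subgroup.mem_map_of_mem _ (Subgroup.subset_closure (by simp))
      · rw [MonoidHom.map_zpowers, Subgroup.zpowers_le]
        refine ⟨g * a * g⁻¹, Subgroup.subset_closure (by simp), ?_⟩
        simp [hπ, MulAut.conj_apply]
    refine IsPGroup.to_le ?_ hle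
    rintro ⟨_, h, hh, rfl⟩
    obtain ⟨k, hk⟩ := hpair g h hh
    refine ⟨k, Subtype.ext ?_⟩
    rw [Subgroup.coe_pow, Subgroup.coe_one]
    show (π h) ^ (p ^ k) = 1
    rw [← map_pow]
    exact (QuotientGroup.eq_one_iff _).mpr hk
  have hX : IsPGroup p ↥(Subgroup.zpowers (π a)) := IsPGroup.to_le (hBS 1) le_sup_left
  obtain ⟨N, hNn, hNp, hXN⟩ := Cfsg.Agent.S0199.result (Subgroup.zpowers (π a)) hX hBS
  rw [mem_stabCore_iff]
  exact Cfsg.Agent.Lib.Helper97.le_pCore_of_normal hNn hNp (hXN (Subgroup.mem_zpowers _))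


end Cfsg.Agent.Lib.Helper11
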