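import Mathlib
import Cfsg.Agent.Lib.Helper41.SL2OddMat
import Cfsg.Agent.Lib.Helper41.SL2OddSylow
import Cfsg.Agent.Lib.Helper41.SL2Borel

set_option autoImplicit false

/-!
# Matrix lemmas in `SL₂(F)` for Dickson's theorem (helper11)

The unitriangular subgroup `uniSub F`, and the facts about centralizers / normalizers needed to
verify the hypotheses `CAData` of the class equation for a subgroup of `SL₂(F)`.
-/

namespace Cfsg.Agent.Lib.Helper11

open Cfsg.Agent.Lib.Helper41

variable {F : Type*} [Field F]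

/-- the upper unitriangular subgroup of `SL₂(F)` -/
def uniSub (F : Type*) [Field F] : Subgroup (Matrix.SpecialLinearGroup (Fin 2) F) where
  carrier := {g | (g : Matrix (Fin 2) (Fin 2) F) 1 0 = 0 ∧ (g : Matrix (Fin 2) (Fin 2) F) 0 0 = 1}
  one_mem' := by simp
  mul_mem' := by
    rintro g h ⟨hg1, hg2⟩ ⟨hh1, hh2⟩
    refine ⟨?_, ?_⟩
    · rw [mul_apply_10, hg1, hh1]; ring
    · rw [mul_apply_00, hg2, hh2, hh1]; ring
  inv_mem' := by
    rintro g ⟨hg1, hg2⟩
    refine ⟨by rw [inv_apply_10, hg1]; ring, ?_⟩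
    rw [inv_apply_00]
    have := sl2_det g
    rw [hg1, hg2] at this
    linear_combination this

theorem mem_uniSub {g : Matrix.SpecialLinearGroup (Fin 2) F} :
    g ∈ uniSub F ↔ (g : Matrix (Fin 2) (Fin 2) F) 1 0 = 0 ∧ (g : Matrix (Fin 2) (Fin 2) F) 0 0 = 1 :=
  Iff.rfl

theorem uniSub_apply_11 {g : Matrix.SpecialLinearGroup (Fin 2) F} (hg : g ∈ uniSub F) :
    (g : Matrix (Fin 2) (Fin 2) F) 1 1 = 1 := by
  have := sl2_det g
  rw [hg.1, hg.2] at this
  linear_combination this

theorem uniSub_le_borelSub : uniSub F ≤ borelSub F := fun _ hg => hg.1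

theorem tr2_of_mem_uniSub {g : Matrix.SpecialLinearGroup (Fin 2) F} (hg : g ∈ uniSub F) :
    tr2 g = 2 := by
  unfold tr2
  rw [hg.2, uniSub_apply_11 hg]; norm_num

/-- an upper triangular element of trace `2` is unitriangular -/
theorem mem_uniSub_of_tr2 {g : Matrix.SpecialLinearGroup (Fin 2) F}
    (hg : g ∈ borelSub F) (ht : tr2 g = 2) : g ∈ uniSub F := by
  refine ⟨hg, ?_⟩
  have h1 := borel_mul_diag hg
  unfold tr2 at ht
  have : ((g : Matrix (Fin 2) (Fin 2) F) 0 0 - 1) ^ 2 = 0 := by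
    linear_combination (g : Matrix (Fin 2) (Fin 2) F) 0 0 * ht - h1
  have := pow_eq_zero_iff (two_ne_zero) |>.mp this
  linear_combination this

theorem eq_one_of_mem_uniSub_of_mem_center (h2 : (2 : F) ≠ 0)
    {g : Matrix.SpecialLinearGroup (Fin 2) F} (hg : g ∈ uniSub F)
    (hc : g ∈ Subgroup.center (Matrix.SpecialLinearGroup (Fin 2) F)) : g = 1 := by
  rcases (mem_center_iff_pm g).mp hc with h | h
  · exact Subtype.ext (by rw [h]; simp)
  · exfalso
    have := hg.2
    rw [h] at this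
    simp at this
    apply h2
    linear_combination -this

theorem uniSub_comm {x y : Matrix.SpecialLinearGroup (Fin 2) F} (hx : x ∈ uniSub F)
    (hy : y ∈ uniSub F) : x * y = y * x := by
  apply sl2_ext
  · rw [mul_apply_00, mul_apply_00, hx.1, hy.1, hx.2, hy.2]; ring
  · rw [mul_apply_01, mul_apply_01, hx.2, hy.2, uniSub_apply_11 hx, uniSub_apply_11 hy]; ring
  · rw [mul_apply_10, mul_apply_10, hx.1, hy.1]; ring
  · rw [mul_apply_11, mul_apply_11, hx.1, hy.1, uniSub_apply_11 hx, uniSub_apply_11 hy]; ring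

theorem borel_conj_uniSub {n x : Matrix.SpecialLinearGroup (Fin 2) F} (hn : n ∈ borelSub F)
    (hx : x ∈ uniSub F) : n * x * n⁻¹ ∈ uniSub F := by
  have hn' : (n : Matrix (Fin 2) (Fin 2) F) 1 0 = 0 := hn
  refine ⟨?_, ?_⟩
  · rw [mul_apply_10, mul_apply_10, mul_apply_11, inv_apply_00, inv_apply_10, hn', hx.1]; ring
  · rw [mul_apply_00, mul_apply_00, mul_apply_01, inv_apply_00, inv_apply_10, hn', hx.1, hx.2]
    have := borel_mul_diag hn
    linear_combination this

theorem borel_mul_apply_00 {g h : Matrix.SpecialLinearGroup (Fin 2) F} (hh : h ∈ borelSub F) :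
    ((g * h : Matrix.SpecialLinearGroup (Fin 2) F) : Matrix (Fin 2) (Fin 2) F) 0 0
      = (g : Matrix (Fin 2) (Fin 2) F) 0 0 * (h : Matrix (Fin 2) (Fin 2) F) 0 0 := by
  have hh' : (h : Matrix (Fin 2) (Fin 2) F) 1 0 = 0 := hh
  rw [mul_apply_00, hh']; ring

theorem borel_commutator_mem_uniSub {n m : Matrix.SpecialLinearGroup (Fin 2) F}
    (hn : n ∈ borelSub F) (hm : m ∈ borelSub F) : n * m * n⁻¹ * m⁻¹ ∈ uniSub F := by
  have hni := (borelSub F).inv_mem hn
  have hmi := (borelSub F).inv_mem hm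
  refine ⟨?_, ?_⟩
  · exact (borelSub F).mul_mem ((borelSub F).mul_mem ((borelSub F).mul_mem hn hm) hni) hmi
  · rw [borel_mul_apply_00 hmi, borel_mul_apply_00 hni, borel_mul_apply_00 hm, inv_apply_00,
      inv_apply_00]
    have h1 := borel_mul_diag hn
    have h2 := borel_mul_diag hm
    linear_combination (m : Matrix (Fin 2) (Fin 2) F) 0 0 * (m : Matrix (Fin 2) (Fin 2) F) 1 1 * h1 + h2

theorem isScalarMat_iff_mem_center (y : Matrix.SpecialLinearGroup (Fin 2) F) :
    IsScalarMat (y : Matrix (Fin 2) (Fin 2) F) ↔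
      y ∈ Subgroup.center (Matrix.SpecialLinearGroup (Fin 2) F) := by
  constructor
  · rintro ⟨h01, h10, h00⟩
    apply mem_center_of_scalar y ((y : Matrix (Fin 2) (Fin 2) F) 0 0)
    ext i j
    fin_cases i <;> fin_cases j <;> simp [h01, h10, h00]
  · intro h
    rcases (mem_center_iff_pm y).mp h with h | h
    · rw [h]; exact ⟨by simp, by simp, by simp⟩
    · rw [h]; exact ⟨by simp, by simp, by simp⟩

theorem coe_mul_comm_of_comm {a y : Matrix.SpecialLinearGroup (Fin 2) F} (h : a * y = y * a) :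
    (a : Matrix (Fin 2) (Fin 2) F) * (y : Matrix (Fin 2) (Fin 2) F)
      = (y : Matrix (Fin 2) (Fin 2) F) * (a : Matrix (Fin 2) (Fin 2) F) := by
  rw [← Matrix.SpecialLinearGroup.coe_mul, h, Matrix.SpecialLinearGroup.coe_mul]

/-- centralizers of non-central elements are commutative -/
theorem comm_of_comm_noncentral {y a b : Matrix.SpecialLinearGroup (Fin 2) F}
    (hy : y ∉ Subgroup.center (Matrix.SpecialLinearGroup (Fin 2) F))
    (ha : a * y = y * a) (hb : b * y = y * b) : a * b = b * a := by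
  have hns : ¬ IsScalarMat (y : Matrix (Fin 2) (Fin 2) F) :=
    fun h => hy ((isScalarMat_iff_mem_center y).mp h)
  obtain ⟨α, β, hα⟩ := exists_eq_smul_add _ _ hns (coe_mul_comm_of_comm ha)
  obtain ⟨α', β', hα'⟩ := exists_eq_smul_add _ _ hns (coe_mul_comm_of_comm hb)
  apply Subtype.ext
  rw [Matrix.SpecialLinearGroup.coe_mul, Matrix.SpecialLinearGroup.coe_mul, hα, hα']
  simp only [mul_add, add_mul, Matrix.smul_mul, Matrix.mul_smul, Matrix.one_mul, Matrix.mul_one,
    smul_smul]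
  rw [mul_comm β' β, mul_comm α' α, mul_comm β' α, mul_comm α' β]
  abel

theorem ne_one_not_mem_center_of_mem_uniSub (h2 : (2 : F) ≠ 0)
    {x : Matrix.SpecialLinearGroup (Fin 2) F} (hx : x ∈ uniSub F) (hx1 : x ≠ 1) :
    x ∉ Subgroup.center (Matrix.SpecialLinearGroup (Fin 2) F) :=
  fun hc => hx1 (eq_one_of_mem_uniSub_of_mem_center h2 hx hc)

/-- the centralizer of a nontrivial unitriangular element is `± uniSub` -/
theorem centralizer_uniSub (h2 : (2 : F) ≠ 0) {x c : Matrix.SpecialLinearGroup (Fin 2) F}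
    (hx : x ∈ uniSub F) (hx1 : x ≠ 1) (hc : c * x = x * c) :
    c ∈ uniSub F ∨ c * (-1) ∈ uniSub F := by
  have hns : ¬ IsScalarMat (x : Matrix (Fin 2) (Fin 2) F) :=
    fun h => ne_one_not_mem_center_of_mem_uniSub h2 hx hx1 ((isScalarMat_iff_mem_center x).mp h)
  obtain ⟨α, β, hα⟩ := exists_eq_smul_add _ _ hns (coe_mul_comm_of_comm hc)
  have c10 : (c : Matrix (Fin 2) (Fin 2) F) 1 0 = 0 := by
    rw [hα]; simp [hx.1]
  have c00 : (c : Matrix (Fin 2) (Fin 2) F) 0 0 = α + β := by
    rw [hα]; simp [hx.2]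
  have c11 : (c : Matrix (Fin 2) (Fin 2) F) 1 1 = α + β := by
    rw [hα]; simp [uniSub_apply_11 hx]
  have hd := sl2_det c
  rw [c10, c00, c11] at hd
  have : (α + β - 1) * (α + β + 1) = 0 := by linear_combination hd
  rcases mul_eq_zero.mp this with h | h
  · left
    exact ⟨c10, by rw [c00]; linear_combination h⟩
  · right
    refine ⟨?_, ?_⟩
    · rw [mul_apply_10, c10]; simp
    · rw [mul_apply_00, c00]; simp
      linear_combination -h

/-- if a conjugate of a nontrivial unitriangular element is upper triangular, so is the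
conjugating element -/
theorem mem_borelSub_of_conj (x k : Matrix.SpecialLinearGroup (Fin 2) F)
    (hx : x ∈ uniSub F) (hx1 : x ≠ 1) (hk : k * x * k⁻¹ ∈ borelSub F) : k ∈ borelSub F := by
  have hk' : ((k * x * k⁻¹ : Matrix.SpecialLinearGroup (Fin 2) F) :
      Matrix (Fin 2) (Fin 2) F) 1 0 = 0 := hk
  rw [mul_apply_10, mul_apply_10, mul_apply_11, inv_apply_00, inv_apply_10, hx.1, hx.2,
    uniSub_apply_11 hx] at hk'
  have he : (x : Matrix (Fin 2) (Fin 2) F) 0 1 ≠ 0 := by
    intro he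
    apply hx1
    apply sl2_ext
    · rw [hx.2]; simp
    · rw [he]; simp
    · rw [hx.1]; simp
    · rw [uniSub_apply_11 hx]; simp
  have : (x : Matrix (Fin 2) (Fin 2) F) 0 1 * ((k : Matrix (Fin 2) (Fin 2) F) 1 0) ^ 2 = 0 := by
    linear_combination -hk'
  rcases mul_eq_zero.mp this with h | h
  · exact absurd h he
  · exact pow_eq_zero_iff (two_ne_zero) |>.mp h

/-- the centralizer of a non-central upper triangular element is upper triangular -/
theorem centralizer_le_borelSub {d c : Matrix.SpecialLinearGroup (Fin 2) F}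
    (hd : d ∈ borelSub F) (hdc : d ∉ Subgroup.center (Matrix.SpecialLinearGroup (Fin 2) F))
    (hc : c * d = d * c) : c ∈ borelSub F := by
  have hns : ¬ IsScalarMat (d : Matrix (Fin 2) (Fin 2) F) :=
    fun h => hdc ((isScalarMat_iff_mem_center d).mp h)
  obtain ⟨α, β, hα⟩ := exists_eq_smul_add _ _ hns (coe_mul_comm_of_comm hc)
  have hd' : (d : Matrix (Fin 2) (Fin 2) F) 1 0 = 0 := hd
  show (c : Matrix (Fin 2) (Fin 2) F) 1 0 = 0
  rw [hα]; simp [hd']

end Cfsg.Agent.Lib.Helper11
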