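import Mathlib
import Cfsg.Agent.Lib.Helper11.DicksonMat

set_option autoImplicit false

/-!
# Embedding `SL₂(𝔽_p)` into a subgroup of `SL₂(F)` containing `u(e)` and `l(e⁻¹)` (helper11)
-/

namespace Cfsg.Agent.Lib.Helper11

open Cfsg.Agent.Lib.Helper41

variable {F : Type*} [Field F]

/-- conjugation by `diag(e, 1)` on `SL₂(F)`, as a function -/
def diagConjFun (e : F) (he : e ≠ 0) (g : Matrix.SpecialLinearGroup (Fin 2) F) :
    Matrix.SpecialLinearGroup (Fin 2) F :=
  ⟨!![(g : Matrix (Fin 2) (Fin 2) F) 0 0, e * (g : Matrix (Fin 2) (Fin 2) F) 0 1;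
      e⁻¹ * (g : Matrix (Fin 2) (Fin 2) F) 1 0, (g : Matrix (Fin 2) (Fin 2) F) 1 1], by
    rw [Matrix.det_fin_two_of]
    have := sl2_det g
    field_simp
    linear_combination this⟩

theorem coe_diagConjFun (e : F) (he : e ≠ 0) (g : Matrix.SpecialLinearGroup (Fin 2) F) :
    ((diagConjFun e he g : Matrix.SpecialLinearGroup (Fin 2) F) : Matrix (Fin 2) (Fin 2) F)
      = !![(g : Matrix (Fin 2) (Fin 2) F) 0 0, e * (g : Matrix (Fin 2) (Fin 2) F) 0 1;
      e⁻¹ * (g : Matrix (Fin 2) (Fin 2) F) 1 0, (g : Matrix (Fin 2) (Fin 2) F) 1 1] := rfl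

/-- conjugation by `diag(e, 1)` on `SL₂(F)` -/
def diagConj (e : F) (he : e ≠ 0) :
    Matrix.SpecialLinearGroup (Fin 2) F →* Matrix.SpecialLinearGroup (Fin 2) F where
  toFun := diagConjFun e he
  map_one' := by
    apply sl2_ext <;> simp [coe_diagConjFun]
  map_mul' g h := by
    apply sl2_ext
    · rw [mul_apply_00]
      simp only [coe_diagConjFun, mul_apply_00]
      simp
      field_simp
    · rw [mul_apply_01]
      simp only [coe_diagConjFun, mul_apply_01]
      simp
      ring
    · rw [mul_apply_10]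
      simp only [coe_diagConjFun, mul_apply_10]
      simp
      ring
    · rw [mul_apply_11]
      simp only [coe_diagConjFun, mul_apply_11]
      simp
      field_simp

theorem coe_diagConj (e : F) (he : e ≠ 0) (g : Matrix.SpecialLinearGroup (Fin 2) F) :
    ((diagConj e he g : Matrix.SpecialLinearGroup (Fin 2) F) : Matrix (Fin 2) (Fin 2) F)
      = !![(g : Matrix (Fin 2) (Fin 2) F) 0 0, e * (g : Matrix (Fin 2) (Fin 2) F) 0 1;
      e⁻¹ * (g : Matrix (Fin 2) (Fin 2) F) 1 0, (g : Matrix (Fin 2) (Fin 2) F) 1 1] := rfl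

theorem diagConj_injective (e : F) (he : e ≠ 0) : Function.Injective (diagConj e he) := by
  intro g h hgh
  have h' := congrArg (fun t : Matrix.SpecialLinearGroup (Fin 2) F =>
    (t : Matrix (Fin 2) (Fin 2) F)) hgh
  simp only [coe_diagConj] at h'
  have h00 := congrFun (congrFun h' 0) 0
  have h01 := congrFun (congrFun h' 0) 1
  have h10 := congrFun (congrFun h' 1) 0
  have h11 := congrFun (congrFun h' 1) 1
  simp at h00 h01 h10 h11
  apply sl2_ext
  · exact h00
  · rcases h01 with h | h
    · exact h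
    · exact absurd h he
  · rcases h10 with h | h
    · exact h
    · exact absurd h he
  · exact h11

theorem upperU_add (a b : F) : upperU (a + b) = upperU a * upperU b := by
  apply sl2_ext
  · rw [mul_apply_00]; simp [coe_upperU]
  · rw [mul_apply_01]; simp [coe_upperU, add_comm]
  · rw [mul_apply_10]; simp [coe_upperU]
  · rw [mul_apply_11]; simp [coe_upperU]

theorem lowerU_add (a b : F) : lowerU (a + b) = lowerU a * lowerU b := by
  apply sl2_ext
  · rw [mul_apply_00]; simp [coe_lowerU]
  · rw [mul_apply_01]; simp [coe_lowerU]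
  · rw [mul_apply_10]; simp [coe_lowerU]
  · rw [mul_apply_11]; simp [coe_lowerU]

theorem upperU_zero : upperU (0 : F) = 1 := by
  apply sl2_ext <;> simp [coe_upperU]

theorem lowerU_zero : lowerU (0 : F) = 1 := by
  apply sl2_ext <;> simp [coe_lowerU]

theorem upperU_nat_mul (H : Subgroup (Matrix.SpecialLinearGroup (Fin 2) F)) (e : F)
    (h : upperU e ∈ H) (n : ℕ) : upperU (e * (n : F)) ∈ H := by
  induction n with
  | zero => simp [upperU_zero, H.one_mem]
  | succ n ih =>
    have : e * ((n + 1 : ℕ) : F) = e * (n : F) + e := by push_cast; ring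
    rw [this, upperU_add]
    exact H.mul_mem ih h

theorem lowerU_nat_mul (H : Subgroup (Matrix.SpecialLinearGroup (Fin 2) F)) (e : F)
    (h : lowerU e ∈ H) (n : ℕ) : lowerU (e * (n : F)) ∈ H := by
  induction n with
  | zero => simp [lowerU_zero, H.one_mem]
  | succ n ih =>
    have : e * ((n + 1 : ℕ) : F) = e * (n : F) + e := by push_cast; ring
    rw [this, lowerU_add]
    exact H.mul_mem ih h

/-- `SL₂` of a field is generated by the elementary unitriangular matrices -/
theorem sl2_generated {k : Type*} [Field k] (H : Subgroup (Matrix.SpecialLinearGroup (Fin 2) k))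
    (hu : ∀ b : k, upperU b ∈ H) (hl : ∀ c : k, lowerU c ∈ H) : H = ⊤ := by
  rw [eq_top_iff]
  intro g _
  -- case c ≠ 0
  have key : ∀ g : Matrix.SpecialLinearGroup (Fin 2) k,
      (g : Matrix (Fin 2) (Fin 2) k) 1 0 ≠ 0 → g ∈ H := by
    intro g hc
    have hdet := sl2_det g
    have : g = upperU (((g : Matrix (Fin 2) (Fin 2) k) 0 0 - 1) / (g : Matrix (Fin 2) (Fin 2) k) 1 0)
        * lowerU ((g : Matrix (Fin 2) (Fin 2) k) 1 0)
        * upperU (((g : Matrix (Fin 2) (Fin 2) k) 1 1 - 1) / (g : Matrix (Fin 2) (Fin 2) k) 1 0) := by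
      apply sl2_ext
      · rw [mul_apply_00, mul_apply_00, mul_apply_01]
        simp [coe_upperU, coe_lowerU]
        field_simp
        ring
      · rw [mul_apply_01, mul_apply_00, mul_apply_01]
        simp [coe_upperU, coe_lowerU]
        field_simp
        linear_combination -hdet
      · rw [mul_apply_10, mul_apply_10, mul_apply_11]
        simp [coe_upperU, coe_lowerU]
      · rw [mul_apply_11, mul_apply_10, mul_apply_11]
        simp [coe_upperU, coe_lowerU]
        field_simp
        ring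
    rw [this]
    exact H.mul_mem (H.mul_mem (hu _) (hl _)) (hu _)
  by_cases hc : (g : Matrix (Fin 2) (Fin 2) k) 1 0 = 0
  · -- multiply by lowerU 1
    have ha : (g : Matrix (Fin 2) (Fin 2) k) 0 0 ≠ 0 := by
      intro ha
      have := sl2_det g
      rw [ha, hc] at this
      simp at this
    have h1 : lowerU 1 * g ∈ H := by
      apply key
      rw [mul_apply_10]
      simp [coe_lowerU, hc, ha]
    have : g = (lowerU 1)⁻¹ * (lowerU 1 * g) := by group
    rw [this]
    exact H.mul_mem (H.inv_mem (hl 1)) h1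
  · exact key g hc

/-- the embedding of `SL₂(𝔽_p)` into `SL₂(F)` twisted by `diag(e, 1)` -/
noncomputable def primeHom (p : ℕ) [Fact p.Prime] [CharP F p] (e : F) (he : e ≠ 0) :
    Matrix.SpecialLinearGroup (Fin 2) (ZMod p) →* Matrix.SpecialLinearGroup (Fin 2) F :=
  (diagConj e he).comp (Matrix.SpecialLinearGroup.map (ZMod.castHom (dvd_refl p) F))

theorem coe_primeHom (p : ℕ) [Fact p.Prime] [CharP F p] (e : F) (he : e ≠ 0)
    (g : Matrix.SpecialLinearGroup (Fin 2) (ZMod p)) :
    ((primeHom p e he g : Matrix.SpecialLinearGroup (Fin 2) F) : Matrix (Fin 2) (Fin 2) F)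
      = !![ZMod.castHom (dvd_refl p) F ((g : Matrix (Fin 2) (Fin 2) (ZMod p)) 0 0),
          e * ZMod.castHom (dvd_refl p) F ((g : Matrix (Fin 2) (Fin 2) (ZMod p)) 0 1);
        e⁻¹ * ZMod.castHom (dvd_refl p) F ((g : Matrix (Fin 2) (Fin 2) (ZMod p)) 1 0),
          ZMod.castHom (dvd_refl p) F ((g : Matrix (Fin 2) (Fin 2) (ZMod p)) 1 1)] := by
  unfold primeHom
  rw [MonoidHom.comp_apply, coe_diagConj]
  simp [Matrix.SpecialLinearGroup.map_apply_coe]

theorem primeHom_injective (p : ℕ) [Fact p.Prime] [CharP F p] (e : F) (he : e ≠ 0) :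
    Function.Injective (primeHom p e he) := by
  intro g h hgh
  have hinj : Function.Injective (ZMod.castHom (dvd_refl p) F) := RingHom.injective _
  have h' := congrArg (fun t : Matrix.SpecialLinearGroup (Fin 2) F =>
    (t : Matrix (Fin 2) (Fin 2) F)) hgh
  simp only [coe_primeHom] at h'
  have h00 := congrFun (congrFun h' 0) 0
  have h01 := congrFun (congrFun h' 0) 1
  have h10 := congrFun (congrFun h' 1) 0
  have h11 := congrFun (congrFun h' 1) 1
  simp only [Matrix.of_apply, Matrix.cons_val', Matrix.cons_val_zero, Matrix.cons_val_one,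
    Matrix.cons_val_fin_one] at h00 h01 h10 h11
  apply sl2_ext
  · exact hinj h00
  · exact hinj (mul_left_cancel₀ he h01)
  · exact hinj (mul_left_cancel₀ (inv_ne_zero he) h10)
  · exact hinj h11

/-- **Embedding step**: a subgroup of `SL₂(F)` containing `u(e)` and `l(e⁻¹)`, `e ≠ 0`, contains a
copy of `SL₂(𝔽_p)`. -/
theorem exists_subgroup_equiv_of_pair (p : ℕ) [Fact p.Prime] [CharP F p]
    (H : Subgroup (Matrix.SpecialLinearGroup (Fin 2) F)) (e : F) (he : e ≠ 0)
    (hu : upperU e ∈ H) (hl : lowerU e⁻¹ ∈ H) :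
    ∃ K : Subgroup (Matrix.SpecialLinearGroup (Fin 2) F), K ≤ H ∧
      Nonempty (K ≃* Matrix.SpecialLinearGroup (Fin 2) (ZMod p)) := by
  refine ⟨(primeHom p e he).range, ?_, ⟨(MonoidHom.ofInjective (primeHom_injective p e he)).symm⟩⟩
  have hcast : ∀ b : ZMod p, ZMod.castHom (dvd_refl p) F b = ((b.val : ℕ) : F) := by
    intro b
    simp [ZMod.natCast_val]
  have htop : H.comap (primeHom p e he) = ⊤ := by
    apply sl2_generated
    · intro b
      rw [Subgroup.mem_comap]
      have : primeHom p e he (upperU b) = upperU (e * ((b.val : ℕ) : F)) := by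
        apply sl2_ext <;> simp [coe_primeHom, coe_upperU, hcast]
      rw [this]
      exact upperU_nat_mul H e hu _
    · intro c
      rw [Subgroup.mem_comap]
      have : primeHom p e he (lowerU c) = lowerU (e⁻¹ * ((c.val : ℕ) : F)) := by
        apply sl2_ext <;> simp [coe_primeHom, coe_lowerU, hcast]
      rw [this]
      exact lowerU_nat_mul H e⁻¹ hl _
  rintro _ ⟨g, rfl⟩
  have : g ∈ H.comap (primeHom p e he) := by rw [htop]; exact Subgroup.mem_top _
  exact this

end Cfsg.Agent.Lib.Helper11
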