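import Mathlib

set_option autoImplicit false

/-!
# Class equation for groups with abelian centralizers modulo a central subgroup (helper11)

`coverZ Z A` is the set of elements outside `Z` lying in a conjugate of `A`.  If `Z ≤ A` is central,
`N` normalises `A` and every `k` conjugating an element of `A \ Z` into `A` lies in `N`, then
`|coverZ Z A| = [K : N] * (|A| - |Z|)`.  (Adapts helper41's `card_conjCover`.)
-/

namespace Cfsg.Agent.Lib.Helper11

section CoverZ

variable {K : Type*} [Group K]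

/-- elements outside `Z` lying in a conjugate of `A` -/
def coverZ (Z A : Subgroup K) : Set K :=
  {y | y ∉ Z ∧ ∃ k : K, k⁻¹ * y * k ∈ A}

theorem mem_coverZ {Z A : Subgroup K} {y : K} :
    y ∈ coverZ Z A ↔ y ∉ Z ∧ ∃ k : K, k⁻¹ * y * k ∈ A := Iff.rfl

theorem conj_mem_central_iff {Z : Subgroup K} (hZ : Z ≤ Subgroup.center K) (k y : K) :
    k * y * k⁻¹ ∈ Z ↔ y ∈ Z := by
  constructor
  · intro h
    have hc := Subgroup.mem_center_iff.mp (hZ h) k
    -- k * (k y k⁻¹) = (k y k⁻¹) * k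
    have h2 : k * y = k * y * k⁻¹ * k := by group
    have h3 : k * y = k * (k * y * k⁻¹) := h2.trans hc.symm
    have h4 : y = k * y * k⁻¹ := mul_left_cancel h3
    rw [h4]; exact h
  · intro h
    have hc := Subgroup.mem_center_iff.mp (hZ h) k
    have : k * y * k⁻¹ = y := by rw [hc]; group
    rw [this]; exact h

theorem card_coverZ [Finite K] (Z A N : Subgroup K) (hZ : Z ≤ Subgroup.center K) (hZA : Z ≤ A)
    (hN : ∀ n ∈ N, ∀ x ∈ A, n * x * n⁻¹ ∈ A)
    (hTI : ∀ k : K, ∀ x ∈ A, x ∉ Z → k * x * k⁻¹ ∈ A → k ∈ N) :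
    Nat.card (coverZ Z A) = N.index * (Nat.card A - Nat.card Z) := by
  have hcard2 : Nat.card {x : A // (x : K) ∉ Z} = Nat.card A - Nat.card Z := by
    classical
    have := Fintype.ofFinite A
    have e : {x : A // (x : K) ∈ Z} ≃ Z :=
      { toFun := fun x => ⟨x.1.1, x.2⟩
        invFun := fun z => ⟨⟨z.1, hZA z.2⟩, z.2⟩
        left_inv := fun x => rfl
        right_inv := fun z => rfl }
    rw [Nat.card_eq_fintype_card, Nat.card_eq_fintype_card, Fintype.card_subtype_compl,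
      ← Nat.card_eq_fintype_card (α := {x : A // (x : K) ∈ Z}), Nat.card_congr e]
  rw [Subgroup.index, ← hcard2, ← Nat.card_prod]
  symm
  let f : (K ⧸ N) × {x : A // (x : K) ∉ Z} → coverZ Z A := fun qz =>
    ⟨qz.1.out * (qz.2.1 : K) * qz.1.out⁻¹, by
      refine ⟨?_, qz.1.out, ?_⟩
      · rw [conj_mem_central_iff hZ]
        exact qz.2.2
      · have h2 : qz.1.out⁻¹ * (qz.1.out * (qz.2.1 : K) * qz.1.out⁻¹) * qz.1.out = (qz.2.1 : K) := by
          group
        rw [h2]; exact qz.2.1.2⟩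
  apply Nat.card_eq_of_bijective f
  constructor
  · rintro ⟨q, z, hz⟩ ⟨q', z', hz'⟩ h
    have h' : q.out * (z : K) * q.out⁻¹ = q'.out * (z' : K) * q'.out⁻¹ := congrArg Subtype.val h
    have hk : q'.out⁻¹ * q.out ∈ N := by
      apply hTI (q'.out⁻¹ * q.out) (z : K) z.2 hz
      have : q'.out⁻¹ * q.out * (z : K) * (q'.out⁻¹ * q.out)⁻¹
          = q'.out⁻¹ * (q.out * (z : K) * q.out⁻¹) * q'.out := by group
      rw [this, h']
      have : q'.out⁻¹ * (q'.out * (z' : K) * q'.out⁻¹) * q'.out = (z' : K) := by group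
      rw [this]; exact z'.2
    have hq : q' = q := by
      rw [← QuotientGroup.out_eq' q', ← QuotientGroup.out_eq' q]
      exact QuotientGroup.eq.mpr hk
    subst hq
    have hz2 : (z : K) = z' := by
      have : (z : K) = q'.out⁻¹ * (q'.out * (z : K) * q'.out⁻¹) * q'.out := by group
      rw [this, h']; group
    have : z = z' := Subtype.ext hz2
    subst this
    rfl
  · rintro ⟨y, hyZ, k, hk⟩
    obtain ⟨u, hu⟩ := QuotientGroup.mk_out_eq_mul N k
    have hzmem : (QuotientGroup.mk k : K ⧸ N).out⁻¹ * y * (QuotientGroup.mk k : K ⧸ N).out ∈ A := by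
      rw [hu]
      have : (k * (u : K))⁻¹ * y * (k * (u : K)) = (u : K)⁻¹ * (k⁻¹ * y * k) * ((u : K)⁻¹)⁻¹ := by
        group
      rw [this]
      exact hN _ (N.inv_mem u.2) _ hk
    refine ⟨⟨QuotientGroup.mk k, ⟨⟨_, hzmem⟩, ?_⟩⟩, ?_⟩
    · intro h
      apply hyZ
      have h2 := (conj_mem_central_iff hZ ((QuotientGroup.mk k : K ⧸ N).out)⁻¹ y).mp (by
        rw [inv_inv]; exact h)
      exact h2
    · apply Subtype.ext
      show (QuotientGroup.mk k : K ⧸ N).out *
          ((QuotientGroup.mk k : K ⧸ N).out⁻¹ * y * (QuotientGroup.mk k : K ⧸ N).out) *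
          (QuotientGroup.mk k : K ⧸ N).out⁻¹ = y
      group

theorem ncard_coverZ [Finite K] (Z A N : Subgroup K) (hZ : Z ≤ Subgroup.center K) (hZA : Z ≤ A)
    (hN : ∀ n ∈ N, ∀ x ∈ A, n * x * n⁻¹ ∈ A)
    (hTI : ∀ k : K, ∀ x ∈ A, x ∉ Z → k * x * k⁻¹ ∈ A → k ∈ N) :
    (coverZ Z A).ncard = N.index * (Nat.card A - Nat.card Z) := by
  rw [← card_coverZ Z A N hZ hZA hN hTI, Nat.card_coe_set_eq]

end CoverZ

end Cfsg.Agent.Lib.Helper11
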