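import Mathlib
import Cfsg.Agent.Lib.Helper11.CAClass

set_option autoImplicit false

/-!
# Groups with abelian centralizers modulo a central subgroup: structure lemmas (helper11)
-/

namespace Cfsg.Agent.Lib.Helper11

/-- abstract hypotheses satisfied by a subgroup `K` of `SL₂(F)` containing `-1`, with
`Z = {±1}`, `P = K ∩ U` and `N = K ∩ B`. -/
structure CAData {K : Type*} [Group K] (Z P N : Subgroup K) : Prop where
  hZ : Z ≤ Subgroup.center K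
  hPZ : ∀ x ∈ P, x ∈ Z → x = 1
  hPN : P ≤ N
  hZN : Z ≤ N
  hPab : ∀ x ∈ P, ∀ y ∈ P, x * y = y * x
  hNP : ∀ n ∈ N, ∀ x ∈ P, n * x * n⁻¹ ∈ P
  hcomm : ∀ n ∈ N, ∀ m ∈ N, n * m * n⁻¹ * m⁻¹ ∈ P
  hCA : ∀ y, y ∉ Z → ∀ a b, a * y = y * a → b * y = y * b → a * b = b * a
  hCP : ∀ x ∈ P, x ≠ 1 → ∀ c, c * x = x * c → ∃ u ∈ P, ∃ z ∈ Z, c = u * z
  hTI : ∀ x ∈ P, x ≠ 1 → ∀ k, k * x * k⁻¹ ∈ N → k ∈ N
  hT : ∀ d ∈ N, (¬ ∃ u ∈ P, ∃ z ∈ Z, d = u * z) → ∀ c, c * d = d * c → c ∈ N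
  hinv : ∀ y, y ∉ Z → (¬ ∃ k, ∃ u ∈ P, ∃ z ∈ Z, k⁻¹ * y * k = u * z) →
    ∀ n, (n * y * n⁻¹) * y = y * (n * y * n⁻¹) → n * y * n⁻¹ = y ∨ n * y * n⁻¹ = y⁻¹

section

variable {K : Type*} [Group K] {Z P N : Subgroup K}

theorem central_comm (hZ : Z ≤ Subgroup.center K) {z : K} (hz : z ∈ Z) (g : K) : g * z = z * g :=
  Subgroup.mem_center_iff.mp (hZ hz) g

/-- the subgroup `P Z` -/
def pz (Z P : Subgroup K) (hZ : Z ≤ Subgroup.center K) : Subgroup K where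
  carrier := {c | ∃ u ∈ P, ∃ z ∈ Z, c = u * z}
  one_mem' := ⟨1, P.one_mem, 1, Z.one_mem, by simp⟩
  mul_mem' := by
    rintro a b ⟨u, hu, z, hz, rfl⟩ ⟨u', hu', z', hz', rfl⟩
    refine ⟨u * u', P.mul_mem hu hu', z * z', Z.mul_mem hz hz', ?_⟩
    have := central_comm hZ hz u'
    calc u * z * (u' * z') = u * (z * u') * z' := by group
      _ = u * (u' * z) * z' := by rw [this]
      _ = u * u' * (z * z') := by group
  inv_mem' := by
    rintro a ⟨u, hu, z, hz, rfl⟩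
    refine ⟨u⁻¹, P.inv_mem hu, z⁻¹, Z.inv_mem hz, ?_⟩
    have := central_comm hZ (Z.inv_mem hz) u⁻¹
    rw [mul_inv_rev, this]

theorem mem_pz {hZ : Z ≤ Subgroup.center K} {c : K} :
    c ∈ pz Z P hZ ↔ ∃ u ∈ P, ∃ z ∈ Z, c = u * z := Iff.rfl

theorem le_pz_left (hZ : Z ≤ Subgroup.center K) : P ≤ pz Z P hZ :=
  fun u hu => ⟨u, hu, 1, Z.one_mem, by simp⟩

theorem le_pz_right (hZ : Z ≤ Subgroup.center K) : Z ≤ pz Z P hZ :=
  fun z hz => ⟨1, P.one_mem, z, hz, by simp⟩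

theorem card_pz [Finite K] (hZ : Z ≤ Subgroup.center K) (hPZ : ∀ x ∈ P, x ∈ Z → x = 1) :
    Nat.card (pz Z P hZ) = Nat.card P * Nat.card Z := by
  rw [← Nat.card_prod]
  symm
  let f : P × Z → pz Z P hZ := fun uz => ⟨uz.1.1 * uz.2.1, uz.1.1, uz.1.2, uz.2.1, uz.2.2, rfl⟩
  apply Nat.card_eq_of_bijective f
  constructor
  · rintro ⟨⟨u, hu⟩, ⟨z, hz⟩⟩ ⟨⟨u', hu'⟩, ⟨z', hz'⟩⟩ h
    have h' : u * z = u' * z' := congrArg Subtype.val h
    have h1 : u'⁻¹ * u = z' * z⁻¹ := by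
      have : u'⁻¹ * (u * z) * z⁻¹ = u'⁻¹ * (u' * z') * z⁻¹ := by rw [h']
      calc u'⁻¹ * u = u'⁻¹ * (u * z) * z⁻¹ := by group
        _ = u'⁻¹ * (u' * z') * z⁻¹ := this
        _ = z' * z⁻¹ := by group
    have h2 : u'⁻¹ * u = 1 := hPZ _ (P.mul_mem (P.inv_mem hu') hu) (by
      rw [h1]; exact Z.mul_mem hz' (Z.inv_mem hz))
    have hu1 : u = u' := by
      have := inv_mul_eq_one.mp h2
      exact this.symm
    subst hu1
    have hz1 : z = z' := mul_left_cancel h'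
    subst hz1
    rfl
  · rintro ⟨c, u, hu, z, hz, rfl⟩
    exact ⟨⟨⟨u, hu⟩, ⟨z, hz⟩⟩, rfl⟩

/-- `y` is conjugate into `P Z` -/
def InSp (Z P : Subgroup K) (y : K) : Prop := ∃ k, ∃ u ∈ P, ∃ z ∈ Z, k⁻¹ * y * k = u * z

theorem inSp_conj {y : K} (g : K) (h : InSp Z P (g * y * g⁻¹)) : InSp Z P y := by
  obtain ⟨k, u, hu, z, hz, hk⟩ := h
  refine ⟨g⁻¹ * k, u, hu, z, hz, ?_⟩
  rw [← hk]; group

/-- the centralizer of an element -/
abbrev cen (y : K) : Subgroup K := Subgroup.centralizer ({y} : Set K)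

theorem mem_cen {y c : K} : c ∈ cen y ↔ c * y = y * c := Subgroup.mem_centralizer_singleton_iff

theorem self_mem_cen (y : K) : y ∈ cen y := mem_cen.mpr rfl

theorem le_cen (hZ : Z ≤ Subgroup.center K) (y : K) : Z ≤ cen y := fun z hz =>
  mem_cen.mpr (central_comm hZ hz y).symm

variable (h : CAData Z P N)
include h

theorem CAData.cen_eq {y c : K} (hy : y ∉ Z) (hc : c ∈ cen y) (hcZ : c ∉ Z) : cen c = cen y := by
  have hcy : c * y = y * c := mem_cen.mp hc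
  ext b
  rw [mem_cen, mem_cen]
  constructor
  · intro hb
    exact h.hCA c hcZ b y hb hcy.symm
  · intro hb
    exact h.hCA y hy b c hb hcy

theorem CAData.not_inSp_of_mem_cen {y c : K} (hy : y ∉ Z) (hys : ¬ InSp Z P y) (hc : c ∈ cen y)
    (hcZ : c ∉ Z) : ¬ InSp Z P c := by
  rintro ⟨k, u, hu, z, hz, hk⟩
  apply hys
  have hu1 : u ≠ 1 := by
    rintro rfl
    apply hcZ
    rw [one_mul] at hk
    have h1 : k⁻¹ * c * k⁻¹⁻¹ ∈ Z := by rw [inv_inv, hk]; exact hz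
    exact (conj_mem_central_iff h.hZ k⁻¹ c).mp h1
  have hcy : c * y = y * c := mem_cen.mp hc
  -- y' = k⁻¹ y k commutes with u z hence with u
  have h1 : (k⁻¹ * y * k) * (u * z) = (u * z) * (k⁻¹ * y * k) := by
    rw [← hk]
    calc k⁻¹ * y * k * (k⁻¹ * c * k) = k⁻¹ * (y * c) * k := by group
      _ = k⁻¹ * (c * y) * k := by rw [hcy]
      _ = k⁻¹ * c * k * (k⁻¹ * y * k) := by group
  have hzc := central_comm h.hZ hz
  have h2 : (k⁻¹ * y * k) * u = u * (k⁻¹ * y * k) := by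
    have e1 : (k⁻¹ * y * k) * (u * z) = (k⁻¹ * y * k) * u * z := by group
    have e2 : (u * z) * (k⁻¹ * y * k) = u * (k⁻¹ * y * k) * z := by
      rw [mul_assoc, ← hzc (k⁻¹ * y * k), ← mul_assoc]
    rw [e1, e2] at h1
    exact mul_right_cancel h1
  obtain ⟨u', hu', z', hz', he⟩ := h.hCP u hu hu1 _ h2
  exact ⟨k, u', hu', z', hz', he⟩

end

end Cfsg.Agent.Lib.Helper11
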