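import Mathlib
import Cfsg.Agent.Lib.Helper11.CAClass2

set_option autoImplicit false

/-!
# Groups with abelian centralizers modulo a central subgroup: counting lemmas (helper11)
-/

namespace Cfsg.Agent.Lib.Helper11

section

variable {K : Type*} [Group K] {Z P N : Subgroup K}
variable (h : CAData Z P N)
include h

theorem CAData.pz_le : pz Z P h.hZ ≤ N := by
  rintro c ⟨u, hu, z, hz, rfl⟩
  exact N.mul_mem (h.hPN hu) (h.hZN hz)

/-- the `p`-singular part has `[K:N] (|P Z| - |Z|)` elements -/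
theorem CAData.ncard_sp [Finite K] :
    (coverZ Z (pz Z P h.hZ)).ncard = N.index * (Nat.card (pz Z P h.hZ) - Nat.card Z) := by
  apply ncard_coverZ Z _ N h.hZ (le_pz_right h.hZ)
  · rintro n hn x ⟨u, hu, z, hz, rfl⟩
    refine ⟨n * u * n⁻¹, h.hNP n hn u hu, z, hz, ?_⟩
    have := central_comm h.hZ hz n⁻¹
    calc n * (u * z) * n⁻¹ = n * u * (z * n⁻¹) := by group
      _ = n * u * (n⁻¹ * z) := by rw [this]
      _ = n * u * n⁻¹ * z := by group
  · rintro k x ⟨u, hu, z, hz, rfl⟩ hxZ hk
    have hu1 : u ≠ 1 := by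
      rintro rfl
      apply hxZ
      rw [one_mul]; exact hz
    apply h.hTI u hu hu1 k
    have e : k * u * k⁻¹ = k * (u * z) * k⁻¹ * z⁻¹ := by
      have := central_comm h.hZ hz k⁻¹
      calc k * u * k⁻¹ = k * u * (k⁻¹ * z) * z⁻¹ := by group
        _ = k * u * (z * k⁻¹) * z⁻¹ := by rw [this]
        _ = k * (u * z) * k⁻¹ * z⁻¹ := by group
    rw [e]
    exact N.mul_mem (h.pz_le hk) (N.inv_mem (h.hZN hz))

theorem mem_coverZ_pz_iff {y : K} :
    y ∈ coverZ Z (pz Z P h.hZ) ↔ y ∉ Z ∧ InSp Z P y := Iff.rfl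

/-- counting conjugates of a centralizer -/
theorem CAData.ncard_cover_cen [Finite K] {y : K} (hy : y ∉ Z) :
    (coverZ Z (cen y)).ncard
      = (Subgroup.normalizer (cen y : Set K)).index * (Nat.card (cen y) - Nat.card Z) := by
  apply ncard_coverZ Z _ _ h.hZ (le_cen h.hZ y)
  · intro n hn x hx
    exact (Subgroup.mem_normalizer_iff.mp hn x).mp hx
  · intro k c hc hcZ hk
    have hkcZ : k * c * k⁻¹ ∉ Z := fun hh => hcZ ((conj_mem_central_iff h.hZ k c).mp hh)
    have e1 := h.cen_eq hy hc hcZ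
    have e2 := h.cen_eq hy hk hkcZ
    rw [Subgroup.mem_normalizer_iff]
    intro b
    have hb1 : b ∈ cen y ↔ b ∈ cen c := by rw [e1]
    have hb2 : k * b * k⁻¹ ∈ cen y ↔ k * b * k⁻¹ ∈ cen (k * c * k⁻¹) := by rw [e2]
    rw [hb1, hb2, mem_cen, mem_cen]
    constructor
    · intro hb
      calc k * b * k⁻¹ * (k * c * k⁻¹) = k * (b * c) * k⁻¹ := by group
        _ = k * (c * b) * k⁻¹ := by rw [hb]
        _ = k * c * k⁻¹ * (k * b * k⁻¹) := by group
    · intro hb
      have : k * (b * c) * k⁻¹ = k * (c * b) * k⁻¹ := by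
        calc k * (b * c) * k⁻¹ = k * b * k⁻¹ * (k * c * k⁻¹) := by group
          _ = k * c * k⁻¹ * (k * b * k⁻¹) := hb
          _ = k * (c * b) * k⁻¹ := by group
      exact mul_left_cancel (mul_right_cancel this)

/-- the normalizer of a "semisimple" centralizer has index at most two over it -/
theorem CAData.normalizer_cen [Finite K] {y : K} (hy : y ∉ Z) (hys : ¬ InSp Z P y) :
    Subgroup.normalizer (cen y : Set K) = cen y ∨
      Nat.card (Subgroup.normalizer (cen y : Set K)) = 2 * Nat.card (cen y) := by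
  set M := Subgroup.normalizer (cen y : Set K) with hM
  have hAM : cen y ≤ M := Subgroup.le_normalizer
  by_cases hle : M ≤ cen y
  · left; exact le_antisymm hle hAM
  right
  obtain ⟨n₀, hn₀M, hn₀A⟩ := SetLike.not_le_iff_exists.mp hle
  -- elements of M either centralize or invert y
  have key : ∀ b ∈ M, b ∉ cen y → b * y * b⁻¹ = y⁻¹ := by
    intro b hb hbA
    have hmem : b * y * b⁻¹ ∈ cen y := (Subgroup.mem_normalizer_iff.mp hb y).mp (self_mem_cen y)
    rcases h.hinv y hy hys b (mem_cen.mp hmem) with h1 | h1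
    · exfalso; apply hbA
      rw [mem_cen]
      calc b * y = b * y * b⁻¹ * b := by group
        _ = y * b := by rw [h1]
    · exact h1
  have hidx : ((cen y).subgroupOf M).index = 2 := by
    rw [Subgroup.index_eq_two_iff]
    refine ⟨⟨n₀, hn₀M⟩, ?_⟩
    rintro ⟨b, hb⟩
    simp only [Subgroup.mem_subgroupOf, Subgroup.coe_mul]
    by_cases hbA : b ∈ cen y
    · refine Or.inr ⟨hbA, ?_⟩
      intro hbn
      apply hn₀A
      have : n₀ = b⁻¹ * (b * n₀) := by group
      rw [this]
      exact (cen y).mul_mem ((cen y).inv_mem hbA) hbn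
    · refine Or.inl ⟨?_, hbA⟩
      have h1 := key b hb hbA
      have h2 := key n₀ hn₀M hn₀A
      rw [mem_cen]
      have : b * n₀ * y * (b * n₀)⁻¹ = y := by
        calc b * n₀ * y * (b * n₀)⁻¹ = b * (n₀ * y * n₀⁻¹) * b⁻¹ := by group
          _ = b * y⁻¹ * b⁻¹ := by rw [h2]
          _ = (b * y * b⁻¹)⁻¹ := by group
          _ = y := by rw [h1, inv_inv]
      calc b * n₀ * y = b * n₀ * y * (b * n₀)⁻¹ * (b * n₀) := by group
        _ = y * (b * n₀) := by rw [this]
  have h3 := Subgroup.index_mul_card ((cen y).subgroupOf M)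
  rw [hidx, Nat.card_congr (Subgroup.subgroupOfEquivOfLe hAM).toEquiv] at h3
  exact h3.symm

/-- a non-central centralizer has at least `2 |Z|` elements -/
theorem CAData.two_mul_card_le_card_cen [Finite K] {y : K} (hy : y ∉ Z) :
    2 * Nat.card Z ≤ Nat.card (cen y) := by
  have hle : Z ≤ cen y := le_cen h.hZ y
  obtain ⟨m, hm⟩ := Subgroup.card_dvd_of_le hle
  have hApos : 0 < Nat.card (cen y) := Nat.card_pos
  have hne : Z ≠ cen y := fun he => hy (he ▸ self_mem_cen y)
  have : 2 ≤ m := by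
    by_contra hm2
    interval_cases m
    · simp at hm; omega
    · apply hne
      exact Subgroup.eq_of_le_of_card_ge hle (by rw [hm]; simp)
  rw [hm]
  calc 2 * Nat.card Z = Nat.card Z * 2 := by ring
    _ ≤ Nat.card Z * m := Nat.mul_le_mul_left _ this

end

end Cfsg.Agent.Lib.Helper11
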