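import Mathlib
import Cfsg.Agent.Lib.Helper11.CAClass3

set_option autoImplicit false

/-!
# Groups with abelian centralizers modulo a central subgroup: partition lemmas (helper11)
-/

namespace Cfsg.Agent.Lib.Helper11

section

variable {K : Type*} [Group K] {Z P N : Subgroup K}

/-- the "semisimple" part -/
def xs (Z P : Subgroup K) : Set K := {w | w ∉ Z ∧ ¬ InSp Z P w}

theorem mem_xs {w : K} : w ∈ xs Z P ↔ w ∉ Z ∧ ¬ InSp Z P w := Iff.rfl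

theorem self_mem_cover {y : K} (hy : y ∉ Z) : y ∈ coverZ Z (cen y) :=
  ⟨hy, 1, by simpa using self_mem_cen y⟩

variable (h : CAData Z P N)
include h

theorem CAData.cover_subset_xs {y : K} (hy : y ∈ xs Z P) : coverZ Z (cen y) ⊆ xs Z P := by
  rintro w ⟨hwZ, k, hk⟩
  refine ⟨hwZ, ?_⟩
  have hcZ : k⁻¹ * w * k ∉ Z := by
    intro hh
    apply hwZ
    have : k⁻¹ * w * k⁻¹⁻¹ ∈ Z := by rw [inv_inv]; exact hh
    exact (conj_mem_central_iff h.hZ k⁻¹ w).mp this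
  have h1 := h.not_inSp_of_mem_cen hy.1 hy.2 hk hcZ
  intro hw
  apply h1
  apply inSp_conj k
  have : k * (k⁻¹ * w * k) * k⁻¹ = w := by group
  rw [this]; exact hw

theorem CAData.cover_disjoint {y y' : K} (hy : y ∈ xs Z P) (hy' : y' ∈ xs Z P)
    (hn : y' ∉ coverZ Z (cen y)) : Disjoint (coverZ Z (cen y)) (coverZ Z (cen y')) := by
  rw [Set.disjoint_left]
  rintro w ⟨hwZ, k, hk⟩ ⟨-, k', hk'⟩
  apply hn
  have hcZ : ∀ g : K, g⁻¹ * w * g ∉ Z := by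
    intro g hh
    apply hwZ
    have : g⁻¹ * w * g⁻¹⁻¹ ∈ Z := by rw [inv_inv]; exact hh
    exact (conj_mem_central_iff h.hZ g⁻¹ w).mp this
  have e1 := h.cen_eq hy.1 hk (hcZ k)
  have e2 := h.cen_eq hy'.1 hk' (hcZ k')
  -- y' commutes with c' = k'⁻¹ w k'
  have hy'c : y' * (k'⁻¹ * w * k') = (k'⁻¹ * w * k') * y' := by
    have : y' ∈ cen (k'⁻¹ * w * k') := by rw [e2]; exact self_mem_cen y'
    exact mem_cen.mp this
  refine ⟨hy'.1, (k⁻¹ * k')⁻¹, ?_⟩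
  rw [← e1, mem_cen]
  have hw : k⁻¹ * w * k = (k⁻¹ * k') * (k'⁻¹ * w * k') * (k⁻¹ * k')⁻¹ := by group
  rw [hw, inv_inv]
  calc k⁻¹ * k' * y' * (k⁻¹ * k')⁻¹ * (k⁻¹ * k' * (k'⁻¹ * w * k') * (k⁻¹ * k')⁻¹)
      = k⁻¹ * k' * (y' * (k'⁻¹ * w * k')) * (k⁻¹ * k')⁻¹ := by group
    _ = k⁻¹ * k' * ((k'⁻¹ * w * k') * y') * (k⁻¹ * k')⁻¹ := by rw [hy'c]
    _ = k⁻¹ * k' * (k'⁻¹ * w * k') * (k⁻¹ * k')⁻¹ * (k⁻¹ * k' * y' * (k⁻¹ * k')⁻¹) := by group

/-- the basic partition `K = Z ⊔ S_p ⊔ X_s` -/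
theorem CAData.card_eq [Finite K] :
    Nat.card K = Nat.card Z + (coverZ Z (pz Z P h.hZ)).ncard + (xs Z P).ncard := by
  classical
  have hu : (Set.univ : Set K) = ((Z : Set K) ∪ coverZ Z (pz Z P h.hZ)) ∪ xs Z P := by
    ext w
    simp only [Set.mem_univ, Set.mem_union, SetLike.mem_coe, true_iff]
    by_cases hw : w ∈ Z
    · exact Or.inl (Or.inl hw)
    · by_cases hs : InSp Z P w
      · exact Or.inl (Or.inr ⟨hw, hs⟩)
      · exact Or.inr ⟨hw, hs⟩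
  have hd1 : Disjoint (Z : Set K) (coverZ Z (pz Z P h.hZ)) := by
    rw [Set.disjoint_left]
    intro w hw hw'
    exact hw'.1 hw
  have hd2 : Disjoint ((Z : Set K) ∪ coverZ Z (pz Z P h.hZ)) (xs Z P) := by
    rw [Set.disjoint_left]
    rintro w (hw | hw) hw'
    · exact hw'.1 hw
    · exact hw'.2 hw.2
  rw [← Set.ncard_univ, hu, Set.ncard_union_eq hd2 (Set.toFinite _) (Set.toFinite _),
    Set.ncard_union_eq hd1 (Set.toFinite _) (Set.toFinite _)]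
  rfl

end

end Cfsg.Agent.Lib.Helper11
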