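import Mathlib
import Cfsg.Agent.Lib.Helper11.CAClass4

set_option autoImplicit false

/-!
# Groups with abelian centralizers modulo a central subgroup: the point stabilizer (helper11)
-/

namespace Cfsg.Agent.Lib.Helper11

section

variable {K : Type*} [Group K] {Z P N : Subgroup K}
variable (h : CAData Z P N)
include h

/-- Burnside count for `P` acting on `K ⧸ N`: `[K : N] ≡ 1 mod |P|`. -/
theorem CAData.index_eq [Finite K] : ∃ r : ℕ, N.index = 1 + r * Nat.card P := by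
  classical
  have := Fintype.ofFinite K
  have := Fintype.ofFinite P
  have hB := MulAction.sum_card_fixedBy_eq_card_orbits_mul_card_group (↥P) (K ⧸ N)
  have hfix : ∀ x : P, Fintype.card (MulAction.fixedBy (K ⧸ N) x)
      = if x = 1 then N.index else 1 := by
    intro x
    split_ifs with hx
    · subst hx
      rw [Subgroup.index, Nat.card_eq_fintype_card]
      apply Fintype.card_congr
      exact
        { toFun := fun c => c.1
          invFun := fun c => ⟨c, by simp⟩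
          left_inv := fun c => rfl
          right_inv := fun c => rfl }
    · rw [Fintype.card_eq_one_iff]
      refine ⟨⟨((1 : K) : K ⧸ N), ?_⟩, ?_⟩
      · rw [MulAction.mem_fixedBy]
        change ((((x : K) * 1 : K)) : K ⧸ N) = ((1 : K) : K ⧸ N)
        rw [mul_one, QuotientGroup.eq]
        simpa using h.hPN x.2
      · rintro ⟨c, hc⟩
        apply Subtype.ext
        induction c using QuotientGroup.induction_on with
        | H g =>
          rw [MulAction.mem_fixedBy] at hc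
          change ((((x : K) * g : K)) : K ⧸ N) = (g : K ⧸ N) at hc
          rw [QuotientGroup.eq] at hc
          show (g : K ⧸ N) = ((1 : K) : K ⧸ N)
          rw [QuotientGroup.eq]
          have hx1 : (x : K) ≠ 1 := fun hh => hx (Subtype.ext hh)
          have hmem : g⁻¹ * (x : K) * g⁻¹⁻¹ ∈ N := by
            have : g⁻¹ * (x : K) * g⁻¹⁻¹ = (((x : K) * g)⁻¹ * g)⁻¹ := by group
            rw [this]
            exact N.inv_mem hc
          have := h.hTI x x.2 hx1 g⁻¹ hmem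
          simpa using this
  simp_rw [hfix] at hB
  rw [Finset.sum_ite, Finset.sum_const, Finset.sum_const, Finset.filter_eq', Finset.filter_ne'] at hB
  simp only [Finset.mem_univ, if_true, Finset.card_singleton, one_smul, smul_eq_mul, mul_one,
    Finset.card_erase_of_mem, Finset.card_univ] at hB
  rw [← Nat.card_eq_fintype_card (α := P)] at hB
  have hq : 0 < Nat.card P := Nat.card_pos
  set o := Fintype.card (Quotient (MulAction.orbitRel (↥P) (K ⧸ N))) with ho
  have ho1 : 1 ≤ o := by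
    by_contra hh
    have : o = 0 := by omega
    rw [this] at hB
    have hi : 0 < N.index := Nat.pos_of_ne_zero Subgroup.index_ne_zero_of_finite
    omega
  refine ⟨o - 1, ?_⟩
  have : (o - 1) * Nat.card P + Nat.card P = o * Nat.card P := by
    rw [← Nat.succ_mul]
    congr 1
    omega
  omega

theorem CAData.not_mem_Z_of_not_mem_pz {d : K} (hd : d ∉ pz Z P h.hZ) : d ∉ Z :=
  fun hh => hd (le_pz_right h.hZ hh)

theorem CAData.not_inSp_of_mem_N {d : K} (hdN : d ∈ N) (hd : d ∉ pz Z P h.hZ) : ¬ InSp Z P d := by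
  rintro ⟨k, u, hu, z, hz, hk⟩
  have hzc := central_comm h.hZ hz
  have hd' : d = k * u * k⁻¹ * z := by
    calc d = k * (k⁻¹ * d * k) * k⁻¹ := by group
      _ = k * (u * z) * k⁻¹ := by rw [hk]
      _ = k * u * (z * k⁻¹) := by group
      _ = k * u * (k⁻¹ * z) := by rw [hzc k⁻¹]
      _ = k * u * k⁻¹ * z := by group
  have hu1 : u ≠ 1 := by
    rintro rfl
    apply h.not_mem_Z_of_not_mem_pz hd
    rw [hd']; simpa using hz
  have e : k * u * k⁻¹ = d * z⁻¹ := by rw [hd']; group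
  have hkN : k ∈ N := h.hTI u hu hu1 k (by rw [e]; exact N.mul_mem hdN (N.inv_mem (h.hZN hz)))
  exact hd ⟨k * u * k⁻¹, h.hNP k hkN u hu, z, hz, hd'⟩

theorem CAData.cen_le_N {d : K} (hdN : d ∈ N) (hd : d ∉ pz Z P h.hZ) : cen d ≤ N :=
  fun c hc => h.hT d hdN hd c (mem_cen.mp hc)

theorem CAData.mem_Z_of_mem_cen_of_mem_pz {d c : K} (hdN : d ∈ N) (hd : d ∉ pz Z P h.hZ)
    (hc : c ∈ cen d) (hcp : c ∈ pz Z P h.hZ) : c ∈ Z := by
  by_contra hcZ
  apply h.not_inSp_of_mem_cen (h.not_mem_Z_of_not_mem_pz hd) (h.not_inSp_of_mem_N hdN hd) hc hcZ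
  obtain ⟨u, hu, z, hz, rfl⟩ := hcp
  exact ⟨1, u, hu, z, hz, by simp⟩

theorem CAData.eq_one_of_mem_cen_of_mem_P {d c : K} (hdN : d ∈ N) (hd : d ∉ pz Z P h.hZ)
    (hc : c ∈ cen d) (hcp : c ∈ P) : c = 1 :=
  h.hPZ c hcp (h.mem_Z_of_mem_cen_of_mem_pz hdN hd hc (le_pz_left h.hZ hcp))

/-- `N = P ⋊ C(d)` for `d ∈ N \ P Z` -/
theorem CAData.card_N [Finite K] {d : K} (hdN : d ∈ N) (hd : d ∉ pz Z P h.hZ) :
    Nat.card N = Nat.card P * Nat.card (cen d) := by
  rw [← Nat.card_prod]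
  symm
  let f : P × cen d → N := fun xc =>
    ⟨xc.1.1 * xc.2.1, N.mul_mem (h.hPN xc.1.2) (h.cen_le_N hdN hd xc.2.2)⟩
  apply Nat.card_eq_of_bijective f
  constructor
  · rintro ⟨⟨x, hx⟩, ⟨c, hc⟩⟩ ⟨⟨x', hx'⟩, ⟨c', hc'⟩⟩ hh
    have h' : x * c = x' * c' := congrArg Subtype.val hh
    have h1 : x'⁻¹ * x = c' * c⁻¹ := by
      calc x'⁻¹ * x = x'⁻¹ * (x * c) * c⁻¹ := by group
        _ = x'⁻¹ * (x' * c') * c⁻¹ := by rw [h']
        _ = c' * c⁻¹ := by group
    have h2 : x'⁻¹ * x = 1 := h.eq_one_of_mem_cen_of_mem_P hdN hd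
      (by rw [h1]; exact (cen d).mul_mem hc' ((cen d).inv_mem hc)) (P.mul_mem (P.inv_mem hx') hx)
    have hx1 : x = x' := (inv_mul_eq_one.mp h2).symm
    subst hx1
    have hc1 : c = c' := mul_left_cancel h'
    subst hc1
    rfl
  · rintro ⟨m, hm⟩
    -- the map x ↦ x d x⁻¹ d⁻¹ on P is injective hence surjective
    let φ : P → P := fun x => ⟨x.1 * d * x.1⁻¹ * d⁻¹, by
      have h1 : d * x.1⁻¹ * d⁻¹ ∈ P := h.hNP d hdN _ (P.inv_mem x.2)
      have : x.1 * d * x.1⁻¹ * d⁻¹ = x.1 * (d * x.1⁻¹ * d⁻¹) := by group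
      rw [this]; exact P.mul_mem x.2 h1⟩
    have hinj : Function.Injective φ := by
      rintro ⟨x, hx⟩ ⟨x', hx'⟩ hh
      have h' : x * d * x⁻¹ * d⁻¹ = x' * d * x'⁻¹ * d⁻¹ := congrArg Subtype.val hh
      have h1 : x * d * x⁻¹ = x' * d * x'⁻¹ := mul_right_cancel h'
      have h2 : (x'⁻¹ * x) * d = d * (x'⁻¹ * x) := by
        calc (x'⁻¹ * x) * d = x'⁻¹ * (x * d * x⁻¹) * x := by group
          _ = x'⁻¹ * (x' * d * x'⁻¹) * x := by rw [h1]
          _ = d * (x'⁻¹ * x) := by group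
      have h3 := h.eq_one_of_mem_cen_of_mem_P hdN hd (mem_cen.mpr h2)
        (P.mul_mem (P.inv_mem hx') hx)
      exact Subtype.ext (inv_mul_eq_one.mp h3).symm
    have hsurj : Function.Surjective φ := Finite.injective_iff_surjective.mp hinj
    obtain ⟨⟨x, hx⟩, hxe⟩ := hsurj ⟨m * d * m⁻¹ * d⁻¹, h.hcomm m hm d hdN⟩
    have h' : x * d * x⁻¹ * d⁻¹ = m * d * m⁻¹ * d⁻¹ := congrArg Subtype.val hxe
    have h1 : x * d * x⁻¹ = m * d * m⁻¹ := mul_right_cancel h'
    have h2 : (x⁻¹ * m) * d = d * (x⁻¹ * m) := by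
      calc (x⁻¹ * m) * d = x⁻¹ * (m * d * m⁻¹) * m := by group
        _ = x⁻¹ * (x * d * x⁻¹) * m := by rw [h1]
        _ = d * (x⁻¹ * m) := by group
    refine ⟨⟨⟨x, hx⟩, ⟨x⁻¹ * m, mem_cen.mpr h2⟩⟩, ?_⟩
    apply Subtype.ext
    show x * (x⁻¹ * m) = m
    group

/-- `|C(d) / Z| ≤ |P| - 1` -/
theorem CAData.card_cen_le [Finite K] {d : K} (hdN : d ∈ N) (hd : d ∉ pz Z P h.hZ)
    (hP : 2 ≤ Nat.card P) : Nat.card (cen d) ≤ Nat.card Z * (Nat.card P - 1) := by
  classical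
  have := Fintype.ofFinite K
  -- a nontrivial element of P
  obtain ⟨x₀, hx₀P, hx₀1⟩ : ∃ x₀ ∈ P, x₀ ≠ 1 := by
    by_contra hh
    push Not at hh
    have : P = ⊥ := by
      rw [eq_bot_iff]
      intro x hx
      exact Subgroup.mem_bot.mpr (hh x hx)
    rw [this] at hP
    simp at hP
  let φ : cen d → {x : P // x ≠ 1} := fun c =>
    ⟨⟨c.1 * x₀ * c.1⁻¹, h.hNP c.1 (h.cen_le_N hdN hd c.2) x₀ hx₀P⟩, by
      intro hh
      apply hx₀1
      have h1 : c.1 * x₀ * c.1⁻¹ = 1 := congrArg Subtype.val hh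
      calc x₀ = c.1⁻¹ * (c.1 * x₀ * c.1⁻¹) * c.1 := by group
        _ = 1 := by rw [h1]; group⟩
  have hfib : ∀ b ∈ Finset.image φ Finset.univ,
      (Finset.univ.filter (fun a => φ a = b)).card ≤ Nat.card Z := by
    intro b hb
    obtain ⟨c', -, rfl⟩ := Finset.mem_image.mp hb
    have hmemZ : ∀ a : cen d, φ a = φ c' → c'.1⁻¹ * a.1 ∈ Z := by
      intro a ha
      have h1 : a.1 * x₀ * a.1⁻¹ = c'.1 * x₀ * c'.1⁻¹ :=
        congrArg (fun t => ((t : {x : P // x ≠ 1}).1 : K)) ha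
      have h2 : (c'.1⁻¹ * a.1) * x₀ = x₀ * (c'.1⁻¹ * a.1) := by
        calc (c'.1⁻¹ * a.1) * x₀ = c'.1⁻¹ * (a.1 * x₀ * a.1⁻¹) * a.1 := by group
          _ = c'.1⁻¹ * (c'.1 * x₀ * c'.1⁻¹) * a.1 := by rw [h1]
          _ = x₀ * (c'.1⁻¹ * a.1) := by group
      obtain ⟨u, hu, z, hz, he⟩ := h.hCP x₀ hx₀P hx₀1 _ h2
      exact h.mem_Z_of_mem_cen_of_mem_pz hdN hd
        ((cen d).mul_mem ((cen d).inv_mem c'.2) a.2) ⟨u, hu, z, hz, he⟩
    rw [Nat.card_eq_fintype_card, ← Finset.card_univ]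
    apply Finset.card_le_card_of_injOn
      (fun a => if ha : φ a = φ c' then (⟨c'.1⁻¹ * a.1, hmemZ a ha⟩ : Z) else 1)
    · intro a _
      exact Finset.mem_univ _
    · intro a ha a' ha' hh
      simp only [Finset.coe_filter, Finset.mem_univ, true_and] at ha ha'
      have ha1 : φ a = φ c' := ha
      have ha2 : φ a' = φ c' := ha'
      simp only [dif_pos ha1, dif_pos ha2] at hh
      have h1 : c'.1⁻¹ * a.1 = c'.1⁻¹ * a'.1 := congrArg Subtype.val hh
      exact Subtype.ext (mul_left_cancel h1)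
  have h1 := Finset.card_le_mul_card_image (f := φ) Finset.univ (Nat.card Z) hfib
  rw [Finset.card_univ, ← Nat.card_eq_fintype_card] at h1
  refine h1.trans (Nat.mul_le_mul_left _ ?_)
  calc (Finset.image φ Finset.univ).card ≤ Fintype.card {x : P // x ≠ 1} := Finset.card_le_univ _
    _ = Nat.card P - 1 := by
      rw [Fintype.card_subtype_compl, Fintype.card_subtype_eq, Nat.card_eq_fintype_card]

end

end Cfsg.Agent.Lib.Helper11
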