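import Mathlib
import Cfsg.Agent.Lib.Helper11.CAClass5

set_option autoImplicit false

/-!
# Groups with abelian centralizers modulo a central subgroup: the class equation (helper11)

Main result `CAData.card_eq_mul`: `|K| = |N| (|P| + 1)` when `|P| ≥ 5` and `N ≠ K`.
-/

namespace Cfsg.Agent.Lib.Helper11

theorem arith_final (q ω r t' a' : ℕ) (hq : 5 ≤ q) (hω : ω = 1 + r * q) (hr : 1 ≤ r)
    (ht : t' ≤ q - 1) (ht1 : 1 ≤ t') (heq : ω * q * t' = a' * (2 + ω * (q - 2))) : r = 1 := by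
  obtain ⟨Q, rfl⟩ : ∃ Q, q = Q + 2 := ⟨q - 2, by omega⟩
  have hQ : 3 ≤ Q := by omega
  simp only [Nat.add_sub_cancel] at heq
  set m := 1 + r * Q with hm
  have h1 : 2 + ω * Q = (Q + 2) * m := by rw [hω, hm]; ring
  rw [h1] at heq
  have h2 : ω * t' = a' * m := by
    have : (Q + 2) * (ω * t') = (Q + 2) * (a' * m) := by
      calc (Q + 2) * (ω * t') = ω * (Q + 2) * t' := by ring
        _ = a' * ((Q + 2) * m) := heq
        _ = (Q + 2) * (a' * m) := by ring
    exact Nat.eq_of_mul_eq_mul_left (by omega) this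
  have h3 : ω = m + 2 * r := by rw [hω, hm]; ring
  rw [h3] at h2
  have h4 : m ∣ r * (2 * t') := by
    have h5 : m ∣ m * t' + r * (2 * t') := ⟨a', by rw [mul_comm m a', ← h2]; ring⟩
    exact (Nat.dvd_add_right (dvd_mul_right m t')).mp h5
  have hcop : Nat.Coprime m r := by rw [hm]; simp
  have h6 : m ∣ 2 * t' := hcop.dvd_of_dvd_mul_left h4
  have h7 : m ≤ 2 * t' := Nat.le_of_dvd (by omega) h6
  by_contra hr1
  have hr2 : 2 ≤ r := by omega
  rcases Nat.lt_or_ge r 3 with hlt | hge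
  · have hr' : r = 2 := by omega
    subst hr'
    have hcop2 : Nat.Coprime m 2 := by
      rw [hm]
      rw [Nat.coprime_comm, Nat.Prime.coprime_iff_not_dvd Nat.prime_two]
      omega
    have h8 : m ∣ t' := hcop2.dvd_of_dvd_mul_left h6
    have h9 : m ≤ t' := Nat.le_of_dvd (by omega) h8
    omega
  · have : 1 + 3 * Q ≤ m := by
      rw [hm]
      have := Nat.mul_le_mul_right Q hge
      omega
    omega


theorem arithA (k z q n ω sp xsn : ℕ) (hz : 0 < z) (hq : 5 ≤ q) (hω : 2 ≤ ω)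
    (h1 : ω * n = k) (h2 : sp = ω * (q * z - z)) (h3 : k = z + sp + xsn) (h4 : n = q * z) :
    0 < xsn ∧ ¬ (k ≤ 4 * xsn) := by
  have hzq : z ≤ q * z := Nat.le_mul_of_pos_left z (by omega)
  have h2Z : (sp : ℤ) = (ω : ℤ) * ((q : ℤ) * z - z) := by
    rw [h2]; push_cast [Nat.cast_sub hzq]; ring
  have h3Z : (k : ℤ) = z + sp + xsn := by rw [h3]; push_cast; ring
  have h1Z : (k : ℤ) = (ω : ℤ) * (q * z) := by rw [← h1, h4]; push_cast; ring
  have hq5 : (5 : ℤ) ≤ q := by exact_mod_cast hq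
  have hω2 : (2 : ℤ) ≤ ω := by exact_mod_cast hω
  have hz1 : (1 : ℤ) ≤ z := by exact_mod_cast hz
  have hx : (xsn : ℤ) = (ω : ℤ) * z - z := by
    rw [h1Z, h2Z] at h3Z; linarith
  constructor
  · have : (0 : ℤ) < xsn := by rw [hx]; nlinarith
    exact_mod_cast this
  · intro h5
    have h5Z : (k : ℤ) ≤ 4 * xsn := by exact_mod_cast h5
    rw [h1Z, hx] at h5Z
    have : (0 : ℤ) ≤ (ω : ℤ) * z := by positivity
    nlinarith

theorem arithB1 (k z q n ω sp xsn t id covd : ℕ) (hz : 0 < z) (hq : 5 ≤ q) (hω : 2 ≤ ω)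
    (h1 : ω * n = k) (h2 : sp = ω * (q * z - z)) (h3 : k = z + sp + xsn) (h4 : n = q * t)
    (ht2 : 2 * z ≤ t) (h5 : id * t = k) (h6 : covd = id * (t - z)) :
    ¬ (xsn ≤ covd) ∧ ∀ covy : ℕ, covd + covy ≤ xsn → ¬ (k ≤ 4 * covy) := by
  have hzq : z ≤ q * z := Nat.le_mul_of_pos_left z (by omega)
  have hzt : z ≤ t := by omega
  have h2Z : (sp : ℤ) = (ω : ℤ) * ((q : ℤ) * z - z) := by
    rw [h2]; push_cast [Nat.cast_sub hzq]; ring
  have h3Z : (k : ℤ) = z + sp + xsn := by rw [h3]; push_cast; ring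
  have h1Z : (k : ℤ) = (ω : ℤ) * (q * t) := by rw [← h1, h4]; push_cast; ring
  have hq5 : (5 : ℤ) ≤ q := by exact_mod_cast hq
  have hω2 : (2 : ℤ) ≤ ω := by exact_mod_cast hω
  have hz1 : (1 : ℤ) ≤ z := by exact_mod_cast hz
  have ht2Z : (2 : ℤ) * z ≤ t := by exact_mod_cast ht2
  have hid : id = ω * q := by
    have : id * t = ω * q * t := by rw [h5, ← h1, h4]; ring
    exact Nat.eq_of_mul_eq_mul_right (by omega) this
  have h6Z : (covd : ℤ) = (ω : ℤ) * q * ((t : ℤ) - z) := by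
    rw [h6, hid]; push_cast [Nat.cast_sub hzt]; ring
  have hdiff : (xsn : ℤ) - covd = (ω : ℤ) * z - z := by
    rw [h1Z, h2Z] at h3Z; rw [h6Z]; linarith
  constructor
  · intro hle
    have : (xsn : ℤ) ≤ covd := by exact_mod_cast hle
    nlinarith
  · intro covy hle h4
    have hleZ : (covd : ℤ) + covy ≤ xsn := by exact_mod_cast hle
    have h4Z : (k : ℤ) ≤ 4 * covy := by exact_mod_cast h4
    have hωz : (0 : ℤ) ≤ (ω : ℤ) * z := by positivity
    have h7 : (ω : ℤ) * (q * t) ≥ 10 * (ω * z) := by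
      have : (q : ℤ) * t ≥ 10 * z := by nlinarith
      nlinarith
    rw [h1Z] at h4Z
    linarith

theorem arithB2 (k z q n ω sp xsn t id covd : ℕ) (hz : 0 < z) (hq : 5 ≤ q) (hω : 2 ≤ ω)
    (h1 : ω * n = k) (h2 : sp = ω * (q * z - z)) (h3 : k = z + sp + xsn) (h4 : n = q * t)
    (ht2 : 2 * z ≤ t) (h5 : id * (2 * t) = k) (h6 : covd = id * (t - z)) :
    ¬ (xsn ≤ covd) ∧ (∀ covy : ℕ, covd + covy ≤ xsn → ¬ (k ≤ 2 * covy)) ∧
    (∀ covy covy' : ℕ, covd + covy + covy' ≤ xsn → k ≤ 4 * covy → ¬ (k ≤ 4 * covy')) ∧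
    (∀ covy iy a t' a' : ℕ, xsn = covd + covy → iy * (2 * a) = k → covy = iy * (a - z) → z ≤ a →
      t = z * t' → a = z * a' → ω * q * t' = a' * (2 + ω * (q - 2))) := by
  have hzq : z ≤ q * z := Nat.le_mul_of_pos_left z (by omega)
  have hzt : z ≤ t := by omega
  have h2Z : (sp : ℤ) = (ω : ℤ) * ((q : ℤ) * z - z) := by
    rw [h2]; push_cast [Nat.cast_sub hzq]; ring
  have h3Z : (k : ℤ) = z + sp + xsn := by rw [h3]; push_cast; ring
  have h1Z : (k : ℤ) = (ω : ℤ) * (q * t) := by rw [← h1, h4]; push_cast; ring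
  have hq5 : (5 : ℤ) ≤ q := by exact_mod_cast hq
  have hω2 : (2 : ℤ) ≤ ω := by exact_mod_cast hω
  have hz1 : (1 : ℤ) ≤ z := by exact_mod_cast hz
  have ht2Z : (2 : ℤ) * z ≤ t := by exact_mod_cast ht2
  have hid : 2 * id = ω * q := by
    have : (2 * id) * t = ω * q * t := by
      have : id * (2 * t) = ω * (q * t) := by rw [h5, ← h1, h4]
      linarith
    exact Nat.eq_of_mul_eq_mul_right (by omega) this
  have hidZ : 2 * (id : ℤ) = (ω : ℤ) * q := by exact_mod_cast hid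
  have h6Z : 2 * (covd : ℤ) = (ω : ℤ) * q * ((t : ℤ) - z) := by
    rw [h6]; push_cast [Nat.cast_sub hzt]; rw [← hidZ]; ring
  have hdiff : 2 * ((xsn : ℤ) - covd) = (ω : ℤ) * q * t - 2 * z - ω * q * z + 2 * ω * z := by
    rw [h1Z, h2Z] at h3Z; linarith
  have hωz0 : (0 : ℤ) ≤ (ω : ℤ) * z := by positivity
  have hωqz : (ω : ℤ) * q * z ≥ 5 * (ω * z) := by
    have h8 := mul_nonneg (sub_nonneg.mpr hq5) hωz0
    have e : ((q : ℤ) - 5) * ((ω : ℤ) * z) = ω * q * z - 5 * (ω * z) := by ring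
    linarith
  have hωqt : (ω : ℤ) * q * t ≥ 2 * (ω * q * z) := by
    have h9 : (0 : ℤ) ≤ (ω : ℤ) * q := by positivity
    have h8 := mul_nonneg h9 (sub_nonneg.mpr ht2Z)
    have e : (ω : ℤ) * q * ((t : ℤ) - 2 * z) = ω * q * t - 2 * (ω * q * z) := by ring
    linarith
  have hωz2 : (ω : ℤ) * z ≥ 2 * z := by
    have h8 := mul_nonneg (sub_nonneg.mpr hω2) (by linarith : (0 : ℤ) ≤ z)
    have e : ((ω : ℤ) - 2) * z = ω * z - 2 * z := by ring
    linarith
  have hlt : 2 * ((xsn : ℤ) - covd) < k := by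
    rw [hdiff, h1Z]
    have e : (ω : ℤ) * (q * t) = ω * q * t := by ring
    rw [e]
    linarith
  refine ⟨?_, ?_, ?_, ?_⟩
  · intro hle
    have : (xsn : ℤ) ≤ covd := by exact_mod_cast hle
    have h9 : 2 * ((xsn : ℤ) - covd) > 0 := by
      rw [hdiff]; linarith
    linarith
  · intro covy hle h4
    have hleZ : (covd : ℤ) + covy ≤ xsn := by exact_mod_cast hle
    have h4Z : (k : ℤ) ≤ 2 * covy := by exact_mod_cast h4
    linarith
  · intro covy covy' hle h4 h4'
    have hleZ : (covd : ℤ) + covy + covy' ≤ xsn := by exact_mod_cast hle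
    have h4Z : (k : ℤ) ≤ 4 * covy := by exact_mod_cast h4
    have h4Z' : (k : ℤ) ≤ 4 * covy' := by exact_mod_cast h4'
    linarith
  · intro covy iy a t' a' hx hky hcovy hza ht' ha'
    have hxZ : (xsn : ℤ) = covd + covy := by exact_mod_cast hx
    have hcovyZ : (covy : ℤ) = (iy : ℤ) * ((a : ℤ) - z) := by
      rw [hcovy]; push_cast [Nat.cast_sub hza]; ring
    have hkyZ : (iy : ℤ) * (2 * a) = (ω : ℤ) * q * t := by
      have : ((iy * (2 * a) : ℕ) : ℤ) = (k : ℤ) := by rw [hky]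
      push_cast at this
      rw [this, h1Z]; ring
    have h5' : 2 * (iy : ℤ) * z = 2 * z + (ω : ℤ) * q * z - 2 * ω * z := by
      have h6' : 2 * (covy : ℤ) = 2 * ((xsn : ℤ) - covd) := by linarith
      rw [hdiff, hcovyZ] at h6'
      linarith
    have h7 : 2 * (iy : ℤ) = 2 + (ω : ℤ) * q - 2 * ω := by
      have : (2 * (iy : ℤ) - (2 + (ω : ℤ) * q - 2 * ω)) * z = 0 := by linarith
      rcases mul_eq_zero.mp this with h8 | h8
      · linarith
      · exfalso; linarith
    have hq2 : 2 ≤ q := by omega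
    have hfinalZ : ((ω * q * t' : ℕ) : ℤ) = ((a' * (2 + ω * (q - 2)) : ℕ) : ℤ) := by
      push_cast [Nat.cast_sub hq2]
      have hta : (ω : ℤ) * q * t = a * (2 + ω * q - 2 * ω) := by
        rw [← hkyZ, ← h7]; ring
      have htZ : (t : ℤ) = z * t' := by rw [ht']; push_cast; ring
      have haZ : (a : ℤ) = z * a' := by rw [ha']; push_cast; ring
      rw [htZ, haZ] at hta
      have : (z : ℤ) * ((ω : ℤ) * q * t' - a' * (2 + ω * (q - 2))) = 0 := by linarith
      rcases mul_eq_zero.mp this with h8 | h8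
      · exfalso; linarith
      · linarith
    exact_mod_cast hfinalZ

section

variable {K : Type*} [Group K] {Z P N : Subgroup K}
variable (h : CAData Z P N)
include h

/-- each class of "semisimple" maximal abelian subgroups covers at least a quarter of `K` -/
theorem CAData.quarter [Finite K] {y : K} (hy : y ∈ xs Z P) :
    Nat.card K ≤ 4 * (coverZ Z (cen y)).ncard ∧
      (Subgroup.normalizer (cen y : Set K) = cen y →
        Nat.card K ≤ 2 * (coverZ Z (cen y)).ncard) := by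
  have hcov := h.ncard_cover_cen hy.1
  have ha := h.two_mul_card_le_card_cen hy.1
  have hk := Subgroup.index_mul_card (Subgroup.normalizer (cen y : Set K))
  set i := (Subgroup.normalizer (cen y : Set K)).index
  set a := Nat.card (cen y)
  set z := Nat.card Z
  have h2 : a ≤ 2 * (a - z) := by omega
  have hcase1 : Subgroup.normalizer (cen y : Set K) = cen y →
      Nat.card K ≤ 2 * (coverZ Z (cen y)).ncard := by
    intro hM
    rw [hM] at hk
    rw [hcov, ← hk]
    calc i * a ≤ i * (2 * (a - z)) := Nat.mul_le_mul_left _ h2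
      _ = 2 * (i * (a - z)) := by ring
  refine ⟨?_, hcase1⟩
  rcases h.normalizer_cen hy.1 hy.2 with hM | hM
  · have := hcase1 hM
    omega
  · rw [hM] at hk
    rw [hcov, ← hk]
    calc i * (2 * a) ≤ i * (2 * (2 * (a - z))) :=
          Nat.mul_le_mul_left _ (Nat.mul_le_mul_left _ h2)
      _ = 4 * (i * (a - z)) := by ring

theorem CAData.cov_add_le [Finite K] {y y' : K} (hy : y ∈ xs Z P) (hy' : y' ∈ xs Z P)
    (hn : y' ∉ coverZ Z (cen y)) :
    (coverZ Z (cen y)).ncard + (coverZ Z (cen y')).ncard ≤ (xs Z P).ncard := by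
  rw [← Set.ncard_union_eq (h.cover_disjoint hy hy' hn) (Set.toFinite _) (Set.toFinite _)]
  exact Set.ncard_le_ncard (Set.union_subset (h.cover_subset_xs hy) (h.cover_subset_xs hy'))
    (Set.toFinite _)

theorem CAData.cov_add_add_le [Finite K] {y y' y'' : K} (hy : y ∈ xs Z P) (hy' : y' ∈ xs Z P)
    (hy'' : y'' ∈ xs Z P) (hn : y' ∉ coverZ Z (cen y)) (hn' : y'' ∉ coverZ Z (cen y))
    (hn'' : y'' ∉ coverZ Z (cen y')) :
    (coverZ Z (cen y)).ncard + (coverZ Z (cen y')).ncard + (coverZ Z (cen y'')).ncard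
      ≤ (xs Z P).ncard := by
  have hd1 := h.cover_disjoint hy hy' hn
  have hd2 := h.cover_disjoint hy hy'' hn'
  have hd3 := h.cover_disjoint hy' hy'' hn''
  have hd : Disjoint (coverZ Z (cen y) ∪ coverZ Z (cen y')) (coverZ Z (cen y'')) :=
    Set.disjoint_union_left.mpr ⟨hd2, hd3⟩
  rw [← Set.ncard_union_eq hd1 (Set.toFinite _) (Set.toFinite _),
    ← Set.ncard_union_eq hd (Set.toFinite _) (Set.toFinite _)]
  exact Set.ncard_le_ncard (Set.union_subset (Set.union_subset (h.cover_subset_xs hy)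
    (h.cover_subset_xs hy')) (h.cover_subset_xs hy'')) (Set.toFinite _)

end

end Cfsg.Agent.Lib.Helper11
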