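import Mathlib
import Cfsg.Agent.Lib.Helper11.CAClass6

set_option autoImplicit false

/-!
# The class equation: `|K| = |N| (|P| + 1)` (helper11)
-/

namespace Cfsg.Agent.Lib.Helper11

section

variable {K : Type*} [Group K] {Z P N : Subgroup K}

/-- Main counting theorem: for a group with abelian centralizers modulo the central subgroup `Z`
(in the sense of `CAData`), `|P| ≥ 5` and `N ≠ K`, we have `|K| = |N| (|P| + 1)`. -/
theorem CAData.card_eq_mul [Finite K] (h : CAData Z P N) (hq : 5 ≤ Nat.card P) (hne : N ≠ ⊤) :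
    Nat.card K = Nat.card N * (Nat.card P + 1) := by
  classical
  have hzpos : 0 < Nat.card Z := Nat.card_pos
  have hkωn : N.index * Nat.card N = Nat.card K := Subgroup.index_mul_card N
  obtain ⟨r, hr⟩ := h.index_eq
  have hω2 : 2 ≤ N.index := by
    have h1 : N.index ≠ 1 := fun h1 => hne (Subgroup.index_eq_one.mp h1)
    have h0 : N.index ≠ 0 := Subgroup.index_ne_zero_of_finite
    omega
  have hr1 : 1 ≤ r := by
    by_contra hh
    have : r = 0 := by omega
    rw [this] at hr
    omega
  have hsp := h.ncard_sp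
  rw [card_pz h.hZ h.hPZ] at hsp
  have hcard := h.card_eq
  by_cases hNpz : ∀ d ∈ N, d ∈ pz Z P h.hZ
  · -- Case A: N = P Z
    exfalso
    have hNeq : N = pz Z P h.hZ := le_antisymm hNpz h.pz_le
    have hnqz : Nat.card N = Nat.card P * Nat.card Z := by
      conv_lhs => rw [hNeq]
      exact card_pz h.hZ h.hPZ
    obtain ⟨hpos, hA⟩ := arithA _ _ _ _ _ _ _ hzpos hq hω2 hkωn hsp hcard hnqz
    obtain ⟨y, hy⟩ := (Set.ncard_pos (Set.toFinite _)).mp hpos
    have h4 := (h.quarter hy).1
    have hle := Set.ncard_le_ncard (h.cover_subset_xs hy) (Set.toFinite _)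
    exact hA (h4.trans (Nat.mul_le_mul_left _ hle))
  · -- Case B
    push Not at hNpz
    obtain ⟨d, hdN, hd⟩ := hNpz
    have hdZ := h.not_mem_Z_of_not_mem_pz hd
    have hdS := h.not_inSp_of_mem_N hdN hd
    have hdxs : d ∈ xs Z P := ⟨hdZ, hdS⟩
    have hnqt := h.card_N hdN hd
    have ht2 := h.two_mul_card_le_card_cen hdZ
    have htle := h.card_cen_le hdN hd (by omega)
    obtain ⟨t', ht'⟩ := Subgroup.card_dvd_of_le (le_cen h.hZ d)
    have hcovd := h.ncard_cover_cen hdZ
    have hkd := Subgroup.index_mul_card (Subgroup.normalizer (cen d : Set K))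
    -- existence of a further class
    have hexists : ¬ ((xs Z P).ncard ≤ (coverZ Z (cen d)).ncard) →
        ∃ y ∈ xs Z P, y ∉ coverZ Z (cen d) := by
      intro hlt
      by_contra hno
      push Not at hno
      exact hlt (Set.ncard_le_ncard (fun y hy => hno y hy) (Set.toFinite _))
    rcases h.normalizer_cen hdZ hdS with hM | hM
    · -- B1 : N(T) = T
      exfalso
      rw [hM] at hkd hcovd
      obtain ⟨hB1, hB2⟩ := arithB1 _ _ _ _ _ _ _ _ _ _ hzpos hq hω2 hkωn hsp hcard hnqt ht2 hkd hcovd
      obtain ⟨y, hy, hyd⟩ := hexists hB1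
      exact hB2 _ (h.cov_add_le hdxs hy hyd) (h.quarter hy).1
    · -- B2 : |N(T)| = 2 |T|
      rw [hM] at hkd
      obtain ⟨hB1, hB2, hB3, hB4⟩ :=
        arithB2 _ _ _ _ _ _ _ _ _ _ hzpos hq hω2 hkωn hsp hcard hnqt ht2 hkd hcovd
      obtain ⟨y, hy, hyd⟩ := hexists hB1
      have hle := h.cov_add_le hdxs hy hyd
      have hquart := h.quarter hy
      rcases h.normalizer_cen hy.1 hy.2 with hMy | hMy
      · exfalso
        exact hB2 _ hle (hquart.2 hMy)
      · by_cases hex : ∃ y' ∈ xs Z P, y' ∉ coverZ Z (cen d) ∧ y' ∉ coverZ Z (cen y)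
        · exfalso
          obtain ⟨y', hy', hy'd, hy'y⟩ := hex
          exact hB3 _ _ (h.cov_add_add_le hdxs hy hy' hyd hy'd hy'y) hquart.1 (h.quarter hy').1
        · push Not at hex
          have hsub : xs Z P ⊆ coverZ Z (cen d) ∪ coverZ Z (cen y) := by
            intro w hw
            by_cases hwd : w ∈ coverZ Z (cen d)
            · exact Or.inl hwd
            · exact Or.inr (hex w hw hwd)
          have hle2 : (xs Z P).ncard ≤ (coverZ Z (cen d)).ncard + (coverZ Z (cen y)).ncard :=
            (Set.ncard_le_ncard hsub (Set.toFinite _)).trans (Set.ncard_union_le _ _)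
          have hcovy := h.ncard_cover_cen hy.1
          have hky := Subgroup.index_mul_card (Subgroup.normalizer (cen y : Set K))
          rw [hMy] at hky
          have ha2 := h.two_mul_card_le_card_cen hy.1
          obtain ⟨a', ha'⟩ := Subgroup.card_dvd_of_le (le_cen h.hZ y)
          have hfinal := hB4 _ _ _ t' a' (le_antisymm hle2 hle) hky hcovy (by omega) ht' ha'
          have ht'le : t' ≤ Nat.card P - 1 := by
            rw [ht'] at htle
            exact Nat.le_of_mul_le_mul_left htle hzpos
          have ht'1 : 1 ≤ t' := by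
            by_contra hh
            have : t' = 0 := by omega
            rw [this] at ht'
            omega
          have hr' := arith_final _ _ r t' a' hq hr hr1 ht'le ht'1 hfinal
          rw [hr'] at hr
          rw [← hkωn, hr]; ring

end

end Cfsg.Agent.Lib.Helper11
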