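import Mathlib
import Cfsg.Agent.Lib.Helper11.CAClass7

set_option autoImplicit false

/-!
# Bruhat decomposition from the class equation (helper11)
-/

namespace Cfsg.Agent.Lib.Helper11

section

variable {K : Type*} [Group K] {Z P N : Subgroup K}

/-- If `|K| = |N| (|P| + 1)` then `K = N ∪ P h₀ N` for every `h₀ ∉ N`. -/
theorem CAData.bruhat [Finite K] (h : CAData Z P N)
    (hcard : Nat.card K = Nat.card N * (Nat.card P + 1)) {h₀ : K} (hh₀ : h₀ ∉ N) {l : K}
    (hl : l ∉ N) : ∃ x ∈ P, ∃ n ∈ N, l = x * h₀ * n := by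
  classical
  have := Fintype.ofFinite K
  have := Fintype.ofFinite P
  have := Fintype.ofFinite (K ⧸ N)
  have hidx : Fintype.card (K ⧸ N) = Nat.card P + 1 := by
    have h1 := Subgroup.index_mul_card N
    rw [hcard, mul_comm] at h1
    have hN : 0 < Nat.card N := Nat.card_pos
    have := Nat.eq_of_mul_eq_mul_left hN h1
    rw [← this, Subgroup.index, Nat.card_eq_fintype_card]
  let f : P → K ⧸ N := fun x => ((x.1 * h₀ : K) : K ⧸ N)
  have hinj : Function.Injective f := by
    rintro ⟨x, hx⟩ ⟨x', hx'⟩ hh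
    have h1 : (x * h₀)⁻¹ * (x' * h₀) ∈ N := QuotientGroup.eq.mp hh
    by_contra hne
    have hne' : x⁻¹ * x' ≠ 1 := by
      intro h2
      apply hne
      have : x = x' := by
        have := inv_mul_eq_one.mp h2
        exact this
      exact Subtype.ext this
    have h2 : h₀⁻¹ * (x⁻¹ * x') * h₀⁻¹⁻¹ ∈ N := by
      have : h₀⁻¹ * (x⁻¹ * x') * h₀⁻¹⁻¹ = (x * h₀)⁻¹ * (x' * h₀) := by group
      rw [this]; exact h1
    have h3 := h.hTI _ (P.mul_mem (P.inv_mem hx) hx') hne' _ h2
    exact hh₀ (by simpa using N.inv_mem h3)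
  have hnot : ((1 : K) : K ⧸ N) ∉ Finset.image f Finset.univ := by
    intro hmem
    obtain ⟨⟨x, hx⟩, -, hxe⟩ := Finset.mem_image.mp hmem
    have h1 : (x * h₀)⁻¹ * 1 ∈ N := QuotientGroup.eq.mp hxe
    have h2 : x * h₀ ∈ N := by simpa using N.inv_mem h1
    apply hh₀
    have : h₀ = x⁻¹ * (x * h₀) := by group
    rw [this]
    exact N.mul_mem (N.inv_mem (h.hPN hx)) h2
  have hcardS : (insert ((1 : K) : K ⧸ N) (Finset.image f Finset.univ)).card
      = Fintype.card (K ⧸ N) := by
    rw [Finset.card_insert_of_notMem hnot, Finset.card_image_of_injective _ hinj, Finset.card_univ,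
      hidx, Nat.card_eq_fintype_card]
  have huniv := Finset.eq_univ_of_card _ hcardS
  have hlmem : (l : K ⧸ N) ∈ insert ((1 : K) : K ⧸ N) (Finset.image f Finset.univ) := by
    rw [huniv]; exact Finset.mem_univ _
  rcases Finset.mem_insert.mp hlmem with h1 | h1
  · exfalso
    apply hl
    have : (1 : K)⁻¹ * l ∈ N := QuotientGroup.eq.mp h1.symm
    simpa using this
  · obtain ⟨⟨x, hx⟩, -, hxe⟩ := Finset.mem_image.mp h1
    have h2 : (x * h₀)⁻¹ * l ∈ N := QuotientGroup.eq.mp hxe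
    exact ⟨x, hx, (x * h₀)⁻¹ * l, h2, by group⟩

end

end Cfsg.Agent.Lib.Helper11
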