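import Mathlib
import Cfsg.Agent.Lib.Helper11.DicksonMat

set_option autoImplicit false

/-!
# Sylow `p`-subgroups of subgroups of `SL₂(F)` in characteristic `p` (helper11)

If `H ≤ SL₂(F)` contains a nontrivial unitriangular element, then every element of `H` of trace `2`
is `H`-conjugate into `H ∩ U`.
-/

namespace Cfsg.Agent.Lib.Helper11

open Cfsg.Agent.Lib.Helper41

variable {F : Type*} [Field F]

theorem neg_one_mem_center :
    (-1 : Matrix.SpecialLinearGroup (Fin 2) F) ∈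
      Subgroup.center (Matrix.SpecialLinearGroup (Fin 2) F) :=
  (mem_center_iff_pm _).mpr (Or.inr (by simp))

theorem center_le_borelSub :
    Subgroup.center (Matrix.SpecialLinearGroup (Fin 2) F) ≤ borelSub F := by
  intro z hz
  rcases (mem_center_iff_pm z).mp hz with h | h
  · show (z : Matrix (Fin 2) (Fin 2) F) 1 0 = 0
    rw [h]; simp
  · show (z : Matrix (Fin 2) (Fin 2) F) 1 0 = 0
    rw [h]; simp

theorem mem_borelSub_of_mul_neg_one {c : Matrix.SpecialLinearGroup (Fin 2) F}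
    (h : c * (-1) ∈ borelSub F) : c ∈ borelSub F := by
  have := (borelSub F).mul_mem h (center_le_borelSub (neg_one_mem_center (F := F)))
  have e : c * (-1) * (-1) = c := by
    rw [mul_assoc]; simp
  rwa [e] at this

/-- something commuting with a nontrivial unitriangular element and of trace `2` is unitriangular -/
theorem mem_uniSub_of_comm (h2 : (2 : F) ≠ 0) {x c : Matrix.SpecialLinearGroup (Fin 2) F}
    (hx : x ∈ uniSub F) (hx1 : x ≠ 1) (hc : c * x = x * c) (ht : tr2 c = 2) : c ∈ uniSub F := by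
  apply mem_uniSub_of_tr2 _ ht
  rcases centralizer_uniSub h2 hx hx1 hc with h | h
  · exact uniSub_le_borelSub h
  · exact mem_borelSub_of_mul_neg_one (uniSub_le_borelSub h)

theorem isPGroup_uniSub_subgroupOf (p : ℕ) [Fact p.Prime] [CharP F p] (H : Subgroup (Matrix.SpecialLinearGroup (Fin 2) F)) :
    IsPGroup p ((uniSub F).subgroupOf H) := by
  rintro ⟨g, hg⟩
  refine ⟨1, ?_⟩
  apply Subtype.ext
  apply Subtype.ext
  rw [pow_one]
  have : tr2 (g : Matrix.SpecialLinearGroup (Fin 2) F) = 2 := tr2_of_mem_uniSub hg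
  have := pow_char_eq_one_of_tr2 p _ this
  simpa using this

/-- every trace-2 element of `H` is `H`-conjugate into `H ∩ U`, if the latter is nontrivial -/
theorem exists_conj_mem_uniSub (p : ℕ) [Fact p.Prime] [CharP F p] (h2 : (2 : F) ≠ 0)
    (H : Subgroup (Matrix.SpecialLinearGroup (Fin 2) F)) [Finite H]
    (x₀ : Matrix.SpecialLinearGroup (Fin 2) F) (hx₀H : x₀ ∈ H) (hx₀ : x₀ ∈ uniSub F) (hx₀1 : x₀ ≠ 1)
    (y : Matrix.SpecialLinearGroup (Fin 2) F) (hyH : y ∈ H) (hy : tr2 y = 2) :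
    ∃ k ∈ H, k⁻¹ * y * k ∈ uniSub F := by
  classical
  have hPs := isPGroup_uniSub_subgroupOf p H
  obtain ⟨Q, hQ⟩ := hPs.exists_le_sylow
  -- Q ≤ Ps
  have hQle : (Q : Subgroup H) ≤ (uniSub F).subgroupOf H := by
    have hx₀Q : (⟨x₀, hx₀H⟩ : H) ∈ (Q : Subgroup H) := hQ (by
      rw [Subgroup.mem_subgroupOf]; exact hx₀)
    have hnt : Nontrivial (Q : Subgroup H) := by
      refine ⟨⟨⟨⟨x₀, hx₀H⟩, hx₀Q⟩, 1, ?_⟩⟩
      intro hh
      apply hx₀1
      have := congrArg (fun t : (Q : Subgroup H) => ((t : H) : Matrix.SpecialLinearGroup (Fin 2) F)) hh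
      simpa using this
    have hcn := IsPGroup.center_nontrivial (Q.isPGroup')
    obtain ⟨⟨c, hcc⟩, hc1⟩ := exists_ne (1 : Subgroup.center (Q : Subgroup H))
    have hc1' : ((c : H) : Matrix.SpecialLinearGroup (Fin 2) F) ≠ 1 := by
      intro hh
      apply hc1
      apply Subtype.ext
      apply Subtype.ext
      apply Subtype.ext
      simpa using hh
    -- trace of p-elements of Q
    have htr : ∀ r : (Q : Subgroup H), tr2 ((r : H) : Matrix.SpecialLinearGroup (Fin 2) F) = 2 := by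
      intro r
      obtain ⟨k, hk⟩ := Q.isPGroup' r
      apply tr2_eq_two_of_pow p _ k
      have := congrArg (fun t : (Q : Subgroup H) => ((t : H) : Matrix.SpecialLinearGroup (Fin 2) F)) hk
      simpa using this
    -- c commutes with x₀
    have hcx : ((c : H) : Matrix.SpecialLinearGroup (Fin 2) F) * x₀
        = x₀ * ((c : H) : Matrix.SpecialLinearGroup (Fin 2) F) := by
      have := Subgroup.mem_center_iff.mp hcc ⟨⟨x₀, hx₀H⟩, hx₀Q⟩
      have := congrArg (fun t : (Q : Subgroup H) => ((t : H) : Matrix.SpecialLinearGroup (Fin 2) F)) this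
      simpa using this.symm
    have hcU : ((c : H) : Matrix.SpecialLinearGroup (Fin 2) F) ∈ uniSub F :=
      mem_uniSub_of_comm h2 hx₀ hx₀1 hcx (htr c)
    intro r hr
    rw [Subgroup.mem_subgroupOf]
    have hrc : (r : Matrix.SpecialLinearGroup (Fin 2) F) * ((c : H) : Matrix.SpecialLinearGroup (Fin 2) F)
        = ((c : H) : Matrix.SpecialLinearGroup (Fin 2) F) * (r : Matrix.SpecialLinearGroup (Fin 2) F) := by
      have := Subgroup.mem_center_iff.mp hcc ⟨r, hr⟩
      have := congrArg (fun t : (Q : Subgroup H) => ((t : H) : Matrix.SpecialLinearGroup (Fin 2) F)) this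
      simpa using this
    exact mem_uniSub_of_comm h2 hcU hc1' hrc (htr ⟨r, hr⟩)
  -- the cyclic group generated by y is a p-group
  have hyp : (y : Matrix.SpecialLinearGroup (Fin 2) F) ^ p = 1 := pow_char_eq_one_of_tr2 p y hy
  have hzp : IsPGroup p (Subgroup.zpowers (⟨y, hyH⟩ : H)) := by
    rintro ⟨g, hg⟩
    obtain ⟨m, rfl⟩ := Subgroup.mem_zpowers_iff.mp hg
    refine ⟨1, ?_⟩
    apply Subtype.ext
    apply Subtype.ext
    simp only [pow_one, Subgroup.coe_pow, Subgroup.coe_zpow, Subgroup.coe_one]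
    rw [← zpow_natCast, ← zpow_mul, mul_comm, zpow_mul, zpow_natCast, hyp, one_zpow]
  obtain ⟨Q', hQ'⟩ := hzp.exists_le_sylow
  obtain ⟨k, hk⟩ := MulAction.exists_smul_eq H Q' Q
  have hyQ' : (⟨y, hyH⟩ : H) ∈ (Q' : Subgroup H) := hQ' (Subgroup.mem_zpowers _)
  have hmem : k * (⟨y, hyH⟩ : H) * k⁻¹ ∈ (Q : Subgroup H) := by
    rw [← hk, Sylow.coe_subgroup_smul]
    have := Subgroup.smul_mem_pointwise_smul (⟨y, hyH⟩ : H) (MulAut.conj k) (Q' : Subgroup H) hyQ'
    simpa [MulAut.smul_def] using this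
  have hmem2 := hQle hmem
  rw [Subgroup.mem_subgroupOf] at hmem2
  refine ⟨((k⁻¹ : H) : Matrix.SpecialLinearGroup (Fin 2) F), (k⁻¹ : H).2, ?_⟩
  have e : (((k⁻¹ : H) : Matrix.SpecialLinearGroup (Fin 2) F))⁻¹ * y * ((k⁻¹ : H) : Matrix.SpecialLinearGroup (Fin 2) F)
      = ((k * (⟨y, hyH⟩ : H) * k⁻¹ : H) : Matrix.SpecialLinearGroup (Fin 2) F) := by
    simp
  rw [e]
  exact hmem2

end Cfsg.Agent.Lib.Helper11
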