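import Mathlib
import Cfsg.Agent.Lib.Helper11.CAClass8
import Cfsg.Agent.Lib.Helper11.DicksonSylow

set_option autoImplicit false

/-!
# Dickson's theorem, core step (helper11)

For `H ≤ SL₂(F)` (char `p` odd, `F` finite) containing `-1`, a nontrivial upper unitriangular
element, and an element `h₀` with `(h₀)₀₀ = 0`, if `|H ∩ U| ≥ 5` then there is `e ≠ 0` with
`upperU e ∈ H` and `lowerU e⁻¹ ∈ H`.
-/

namespace Cfsg.Agent.Lib.Helper11

open Cfsg.Agent.Lib.Helper41

variable {F : Type*} [Field F]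

theorem inSp_of_tr2_sq (p : ℕ) [Fact p.Prime] [CharP F p] (h2 : (2 : F) ≠ 0)
    (H : Subgroup (Matrix.SpecialLinearGroup (Fin 2) F)) [Finite H]
    (hZH : Subgroup.center (Matrix.SpecialLinearGroup (Fin 2) F) ≤ H)
    (x₀ : Matrix.SpecialLinearGroup (Fin 2) F) (hx₀H : x₀ ∈ H) (hx₀ : x₀ ∈ uniSub F) (hx₀1 : x₀ ≠ 1)
    (y : H) (hy : (tr2 (y : Matrix.SpecialLinearGroup (Fin 2) F)) ^ 2 = 4) :
    InSp ((Subgroup.center (Matrix.SpecialLinearGroup (Fin 2) F)).subgroupOf H)
      ((uniSub F).subgroupOf H) y := by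
  have hfac : (tr2 (y : Matrix.SpecialLinearGroup (Fin 2) F) - 2) *
      (tr2 (y : Matrix.SpecialLinearGroup (Fin 2) F) + 2) = 0 := by linear_combination hy
  have hneg1H : (-1 : Matrix.SpecialLinearGroup (Fin 2) F) ∈ H := hZH neg_one_mem_center
  rcases mul_eq_zero.mp hfac with ht | ht
  · have ht' : tr2 (y : Matrix.SpecialLinearGroup (Fin 2) F) = 2 := by linear_combination ht
    obtain ⟨k, hkH, hk⟩ := exists_conj_mem_uniSub p h2 H x₀ hx₀H hx₀ hx₀1 y y.2 ht'
    let kk : H := ⟨k, hkH⟩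
    refine ⟨kk, kk⁻¹ * y * kk, ?_, 1, Subgroup.one_mem _, by simp⟩
    rw [Subgroup.mem_subgroupOf]; exact hk
  · have ht' : tr2 ((y : Matrix.SpecialLinearGroup (Fin 2) F) * (-1)) = 2 := by
      unfold tr2 at ht ⊢
      rw [mul_apply_00, mul_apply_11]
      simp
      linear_combination -ht
    have hyH : (y : Matrix.SpecialLinearGroup (Fin 2) F) * (-1) ∈ H := H.mul_mem y.2 hneg1H
    obtain ⟨k, hkH, hk⟩ := exists_conj_mem_uniSub p h2 H x₀ hx₀H hx₀ hx₀1 _ hyH ht'
    let kk : H := ⟨k, hkH⟩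
    let m1 : H := ⟨-1, hneg1H⟩
    refine ⟨kk, kk⁻¹ * (y * m1) * kk, ?_, m1, ?_, ?_⟩
    · rw [Subgroup.mem_subgroupOf]; exact hk
    · rw [Subgroup.mem_subgroupOf]; exact neg_one_mem_center
    · apply Subtype.ext
      simp only [Subgroup.coe_mul, Subgroup.coe_inv]
      have hc := Subgroup.mem_center_iff.mp (neg_one_mem_center (F := F))
      have e1 : (-1 : Matrix.SpecialLinearGroup (Fin 2) F) * (-1) = 1 := by simp
      calc k⁻¹ * (y : Matrix.SpecialLinearGroup (Fin 2) F) * k
          = k⁻¹ * (y : Matrix.SpecialLinearGroup (Fin 2) F) * k * ((-1) * (-1)) := by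
            rw [e1, mul_one]
        _ = k⁻¹ * (y : Matrix.SpecialLinearGroup (Fin 2) F) * (k * (-1)) * (-1) := by group
        _ = k⁻¹ * (y : Matrix.SpecialLinearGroup (Fin 2) F) * ((-1) * k) * (-1) := by rw [hc k]
        _ = k⁻¹ * ((y : Matrix.SpecialLinearGroup (Fin 2) F) * (-1)) * k * (-1) := by group

/-- the hypotheses of the class equation hold for subgroups of `SL₂(F)` containing `-1` -/
theorem caData_of_subgroup (p : ℕ) [Fact p.Prime] [CharP F p] (h2 : (2 : F) ≠ 0)
    (H : Subgroup (Matrix.SpecialLinearGroup (Fin 2) F)) [Finite H]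
    (hZH : Subgroup.center (Matrix.SpecialLinearGroup (Fin 2) F) ≤ H)
    (x₀ : Matrix.SpecialLinearGroup (Fin 2) F) (hx₀H : x₀ ∈ H) (hx₀ : x₀ ∈ uniSub F)
    (hx₀1 : x₀ ≠ 1) :
    CAData ((Subgroup.center (Matrix.SpecialLinearGroup (Fin 2) F)).subgroupOf H)
      ((uniSub F).subgroupOf H) ((borelSub F).subgroupOf H) := by
  have hneg1H : (-1 : Matrix.SpecialLinearGroup (Fin 2) F) ∈ H := hZH neg_one_mem_center
  have hnc : ∀ y : H, y ∉ (Subgroup.center (Matrix.SpecialLinearGroup (Fin 2) F)).subgroupOf H →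
      (y : Matrix.SpecialLinearGroup (Fin 2) F) ∉
        Subgroup.center (Matrix.SpecialLinearGroup (Fin 2) F) := fun y hy => hy
  refine
    { hZ := ?_, hPZ := ?_, hPN := ?_, hZN := ?_, hPab := ?_, hNP := ?_, hcomm := ?_, hCA := ?_,
      hCP := ?_, hTI := ?_, hT := ?_, hinv := ?_ }
  · intro z hz
    rw [Subgroup.mem_center_iff]
    intro g
    apply Subtype.ext
    simp only [Subgroup.coe_mul]
    exact Subgroup.mem_center_iff.mp hz g
  · intro x hx hxz
    apply Subtype.ext
    exact eq_one_of_mem_uniSub_of_mem_center h2 hx hxz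
  · intro x hx
    exact uniSub_le_borelSub hx
  · intro z hz
    exact center_le_borelSub hz
  · intro x hx y hy
    apply Subtype.ext
    simp only [Subgroup.coe_mul]
    exact uniSub_comm hx hy
  · intro n hn x hx
    rw [Subgroup.mem_subgroupOf]
    simp only [Subgroup.coe_mul, Subgroup.coe_inv]
    exact borel_conj_uniSub hn hx
  · intro n hn m hm
    rw [Subgroup.mem_subgroupOf]
    simp only [Subgroup.coe_mul, Subgroup.coe_inv]
    exact borel_commutator_mem_uniSub hn hm
  · intro y hy a b ha hb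
    apply Subtype.ext
    simp only [Subgroup.coe_mul]
    apply comm_of_comm_noncentral (hnc y hy)
    · have := congrArg (Subtype.val) ha
      simpa using this
    · have := congrArg (Subtype.val) hb
      simpa using this
  · intro x hx hx1 c hc
    have hx1' : (x : Matrix.SpecialLinearGroup (Fin 2) F) ≠ 1 := fun hh => hx1 (Subtype.ext hh)
    have hc' : (c : Matrix.SpecialLinearGroup (Fin 2) F) * x = x * c := by
      have := congrArg (Subtype.val) hc
      simpa using this
    rcases centralizer_uniSub h2 hx hx1' hc' with hcu | hcu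
    · exact ⟨c, hcu, 1, Subgroup.one_mem _, by simp⟩
    · refine ⟨c * ⟨-1, hneg1H⟩, hcu, ⟨-1, hneg1H⟩, neg_one_mem_center, ?_⟩
      apply Subtype.ext
      simp only [Subgroup.coe_mul]
      rw [mul_assoc]; simp
  · intro x hx hx1 k hk
    have hx1' : (x : Matrix.SpecialLinearGroup (Fin 2) F) ≠ 1 := fun hh => hx1 (Subtype.ext hh)
    rw [Subgroup.mem_subgroupOf] at hk ⊢
    simp only [Subgroup.coe_mul, Subgroup.coe_inv] at hk
    exact mem_borelSub_of_conj _ _ hx hx1' hk
  · intro d hd hdn c hc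
    have hdc : (d : Matrix.SpecialLinearGroup (Fin 2) F) ∉
        Subgroup.center (Matrix.SpecialLinearGroup (Fin 2) F) := by
      intro hh
      exact hdn ⟨1, Subgroup.one_mem _, d, hh, by simp⟩
    have hc' : (c : Matrix.SpecialLinearGroup (Fin 2) F) * d = d * c := by
      have := congrArg (Subtype.val) hc
      simpa using this
    exact centralizer_le_borelSub hd hdc hc'
  · intro y hy hys n hc
    have hs : (tr2 (y : Matrix.SpecialLinearGroup (Fin 2) F)) ^ 2 ≠ 4 :=
      fun hh => hys (inSp_of_tr2_sq p h2 H hZH x₀ hx₀H hx₀ hx₀1 y hh)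
    have hc' : ((n : Matrix.SpecialLinearGroup (Fin 2) F) * y * (n : Matrix.SpecialLinearGroup (Fin 2) F)⁻¹) * y
        = y * ((n : Matrix.SpecialLinearGroup (Fin 2) F) * y * (n : Matrix.SpecialLinearGroup (Fin 2) F)⁻¹) := by
      have := congrArg (Subtype.val) hc
      simpa using this
    rcases eq_or_eq_inv_of_commute _ _ h2 hs (tr2_conj _ _) hc' with h1 | h1
    · left; apply Subtype.ext; simpa using h1
    · right; apply Subtype.ext; simpa using h1

end Cfsg.Agent.Lib.Helper11
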