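import Mathlib
import Cfsg.Agent.Lib.Helper11.DicksonCA

set_option autoImplicit false

/-!
# Dickson's theorem, core step (helper11)
-/

namespace Cfsg.Agent.Lib.Helper11

open Cfsg.Agent.Lib.Helper41

variable {F : Type*} [Field F]

theorem eq_upperU_of_mem_uniSub {x : Matrix.SpecialLinearGroup (Fin 2) F} (hx : x ∈ uniSub F) :
    x = upperU ((x : Matrix (Fin 2) (Fin 2) F) 0 1) := by
  apply sl2_ext
  · rw [hx.2, coe_upperU]; simp
  · rw [coe_upperU]; simp
  · rw [hx.1, coe_upperU]; simp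
  · rw [uniSub_apply_11 hx, coe_upperU]; simp

/-- Core step of Dickson's theorem. -/
theorem dickson_core (p : ℕ) [Fact p.Prime] [CharP F p] (h2 : (2 : F) ≠ 0)
    (H : Subgroup (Matrix.SpecialLinearGroup (Fin 2) F)) [Finite H]
    (hZH : Subgroup.center (Matrix.SpecialLinearGroup (Fin 2) F) ≤ H)
    (x₀ : Matrix.SpecialLinearGroup (Fin 2) F) (hx₀H : x₀ ∈ H) (hx₀ : x₀ ∈ uniSub F)
    (hx₀1 : x₀ ≠ 1)
    (h₀ : Matrix.SpecialLinearGroup (Fin 2) F) (hh₀H : h₀ ∈ H)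
    (hh₀ : (h₀ : Matrix (Fin 2) (Fin 2) F) 0 0 = 0)
    (hq : 5 ≤ Nat.card ((uniSub F).subgroupOf H)) :
    ∃ e : F, e ≠ 0 ∧ upperU e ∈ H ∧ lowerU e⁻¹ ∈ H := by
  have hCA := caData_of_subgroup p h2 H hZH x₀ hx₀H hx₀ hx₀1
  -- entries
  set γ := (h₀ : Matrix (Fin 2) (Fin 2) F) 1 0 with hγ
  set e₀ := (x₀ : Matrix (Fin 2) (Fin 2) F) 0 1 with he₀
  have hdet := sl2_det h₀
  rw [hh₀, zero_mul, zero_sub] at hdet
  have hγ0 : γ ≠ 0 := by
    intro h
    rw [← hγ, h, mul_zero, neg_zero] at hdet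
    exact zero_ne_one hdet
  have he₀0 : e₀ ≠ 0 := by
    intro h
    apply hx₀1
    rw [eq_upperU_of_mem_uniSub hx₀, ← he₀, h]
    apply sl2_ext <;> simp [coe_upperU]
  have hh₀N : (⟨h₀, hh₀H⟩ : H) ∉ (borelSub F).subgroupOf H := by
    rw [Subgroup.mem_subgroupOf]
    exact hγ0
  have hne : (borelSub F).subgroupOf H ≠ ⊤ := by
    intro h
    apply hh₀N
    rw [h]; exact Subgroup.mem_top _
  have hcard := hCA.card_eq_mul hq hne
  -- the lower unitriangular element l₀ = h₀ x₀ h₀⁻¹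
  set d := -(γ ^ 2 * e₀) with hd
  have hd0 : d ≠ 0 := by
    rw [hd]
    exact neg_ne_zero.mpr (mul_ne_zero (pow_ne_zero 2 hγ0) he₀0)
  have hl₀ : h₀ * x₀ * h₀⁻¹ = lowerU d := by
    apply sl2_ext
    · rw [mul_apply_00, mul_apply_00, mul_apply_01, inv_apply_00, inv_apply_10, hh₀, hx₀.1, hx₀.2,
        uniSub_apply_11 hx₀, coe_lowerU]
      simp
      linear_combination hdet
    · rw [mul_apply_01, mul_apply_00, mul_apply_01, inv_apply_01, inv_apply_11, hh₀, hx₀.1, hx₀.2,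
        uniSub_apply_11 hx₀, coe_lowerU]
      simp
    · rw [mul_apply_10, mul_apply_10, mul_apply_11, inv_apply_00, inv_apply_10, hx₀.1, hx₀.2,
        uniSub_apply_11 hx₀, coe_lowerU]
      simp
      rw [hd, hγ, he₀]
      ring
    · rw [mul_apply_11, mul_apply_10, mul_apply_11, inv_apply_01, inv_apply_11, hh₀, hx₀.1, hx₀.2,
        uniSub_apply_11 hx₀, coe_lowerU]
      simp
      linear_combination hdet
  have hl₀H : lowerU d ∈ H := by
    rw [← hl₀]
    exact H.mul_mem (H.mul_mem hh₀H hx₀H) (H.inv_mem hh₀H)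
  have hl₀N : (⟨lowerU d, hl₀H⟩ : H) ∉ (borelSub F).subgroupOf H := by
    rw [Subgroup.mem_subgroupOf]
    show ¬ ((lowerU d : Matrix.SpecialLinearGroup (Fin 2) F) : Matrix (Fin 2) (Fin 2) F) 1 0 = 0
    rw [coe_lowerU]
    simpa using hd0
  obtain ⟨x, hx, n, hn, hxn⟩ := hCA.bruhat hcard hh₀N hl₀N
  rw [Subgroup.mem_subgroupOf] at hx hn
  have hxn' : lowerU d = (x : Matrix.SpecialLinearGroup (Fin 2) F) * h₀ * n := by
    have := congrArg Subtype.val hxn
    simpa using this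
  set e := ((x : Matrix.SpecialLinearGroup (Fin 2) F) : Matrix (Fin 2) (Fin 2) F) 0 1 with he
  set a := ((n : Matrix.SpecialLinearGroup (Fin 2) F) : Matrix (Fin 2) (Fin 2) F) 0 0 with ha
  have hn10 : ((n : Matrix.SpecialLinearGroup (Fin 2) F) : Matrix (Fin 2) (Fin 2) F) 1 0 = 0 := hn
  have h00 := congrArg (fun g : Matrix.SpecialLinearGroup (Fin 2) F =>
    (g : Matrix (Fin 2) (Fin 2) F) 0 0) hxn'
  have h10 := congrArg (fun g : Matrix.SpecialLinearGroup (Fin 2) F =>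
    (g : Matrix (Fin 2) (Fin 2) F) 1 0) hxn'
  simp only [coe_lowerU] at h00 h10
  rw [mul_apply_00, mul_apply_00, mul_apply_01, hn10, hh₀, hx.2] at h00
  rw [mul_apply_10, mul_apply_10, mul_apply_11, hn10, hh₀, hx.1, uniSub_apply_11 hx] at h10
  simp at h00 h10
  -- h00 : 1 = e * γ * a, h10 : d = γ * a
  have hde : d * e = 1 := by
    rw [← hγ, ← he, ← ha] at h00
    rw [← hγ, ← ha] at h10
    rw [h10]
    linear_combination -h00
  have he0 : e ≠ 0 := by
    intro h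
    rw [h, mul_zero] at hde
    exact zero_ne_one hde
  refine ⟨e, he0, ?_, ?_⟩
  · have := eq_upperU_of_mem_uniSub hx
    rw [← he] at this
    rw [← this]
    exact x.2
  · have : e⁻¹ = d := by
      field_simp
      linear_combination -hde
    rw [this]
    exact hl₀H

end Cfsg.Agent.Lib.Helper11
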