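import Mathlib
import Cfsg.Agent.Lib.Helper11.DicksonCore
import Cfsg.Agent.Lib.Helper11.DicksonEmbed

set_option autoImplicit false

/-!
# Dickson's theorem for `p ≥ 5` (helper11)

A finite subgroup of `SL₂(F)`, `char F = p ≥ 5`, containing two non-commuting elements of trace `2`
contains a copy of `SL₂(𝔽_p)`.
-/

namespace Cfsg.Agent.Lib.Helper11

open Cfsg.Agent.Lib.Helper41

variable {F : Type*} [Field F]

/-- the conclusion of Dickson's theorem -/
def HasPrimeSL2 (p : ℕ) (H : Subgroup (Matrix.SpecialLinearGroup (Fin 2) F)) : Prop :=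
  ∃ K : Subgroup (Matrix.SpecialLinearGroup (Fin 2) F), K ≤ H ∧
    Nonempty (K ≃* Matrix.SpecialLinearGroup (Fin 2) (ZMod p))

/-- transport along conjugation -/
theorem hasPrimeSL2_of_conj (p : ℕ) (H : Subgroup (Matrix.SpecialLinearGroup (Fin 2) F))
    (w : Matrix.SpecialLinearGroup (Fin 2) F)
    (h : HasPrimeSL2 p (H.map (MulAut.conj w).toMonoidHom)) : HasPrimeSL2 p H := by
  obtain ⟨K', hK', ⟨e⟩⟩ := h
  refine ⟨K'.map (MulAut.conj w⁻¹).toMonoidHom, ?_, ⟨?_⟩⟩
  · rintro _ ⟨k, hk, rfl⟩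
    obtain ⟨h, hh, rfl⟩ := hK' hk
    simp only [MulEquiv.coe_toMonoidHom, MulAut.conj_apply, inv_inv]
    have : w⁻¹ * (w * h * w⁻¹) * w = h := by group
    rw [this]; exact hh
  · exact (K'.equivMapOfInjective _ (MulAut.conj w⁻¹).injective).symm.trans e

theorem finite_map_conj (H : Subgroup (Matrix.SpecialLinearGroup (Fin 2) F)) [Finite H]
    (w : Matrix.SpecialLinearGroup (Fin 2) F) : Finite (H.map (MulAut.conj w).toMonoidHom) :=
  Finite.of_equiv H (H.equivMapOfInjective _ (MulAut.conj w).injective).toEquiv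

theorem conj_mem_map_conj (H : Subgroup (Matrix.SpecialLinearGroup (Fin 2) F))
    (w x : Matrix.SpecialLinearGroup (Fin 2) F) (hx : x ∈ H) :
    w * x * w⁻¹ ∈ H.map (MulAut.conj w).toMonoidHom :=
  ⟨x, hx, by simp [MulAut.conj_apply]⟩

/-- a trace-2 element of `H ⊔ center` lies in `H` (odd characteristic) -/
theorem mem_of_mem_sup_center (p : ℕ) [Fact p.Prime] [CharP F p] (hp : p ≠ 2)
    (H : Subgroup (Matrix.SpecialLinearGroup (Fin 2) F))
    (g : Matrix.SpecialLinearGroup (Fin 2) F)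
    (hg : g ∈ H ⊔ Subgroup.center (Matrix.SpecialLinearGroup (Fin 2) F)) (ht : tr2 g = 2) :
    g ∈ H := by
  have hset := Subgroup.mul_normal H (Subgroup.center (Matrix.SpecialLinearGroup (Fin 2) F))
  have hg' : g ∈ ((H ⊔ Subgroup.center (Matrix.SpecialLinearGroup (Fin 2) F) :
      Subgroup (Matrix.SpecialLinearGroup (Fin 2) F)) : Set (Matrix.SpecialLinearGroup (Fin 2) F)) := hg
  rw [hset] at hg'
  obtain ⟨h, hh, z, hz, rfl⟩ := Set.mem_mul.mp hg'
  rcases (mem_center_iff_pm z).mp hz with hz1 | hz1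
  · have : z = 1 := Subtype.ext (by rw [hz1]; simp)
    rw [this, mul_one]; exact hh
  · have hzneg : z = -1 := Subtype.ext (by rw [hz1]; simp)
    subst hzneg
    have hpodd : Odd p := (Fact.out : p.Prime).odd_of_ne_two hp
    have hgp := pow_char_eq_one_of_tr2 p _ ht
    have hcomm : Commute h (-1 : Matrix.SpecialLinearGroup (Fin 2) F) :=
      (Subgroup.mem_center_iff.mp hz h)
    rw [hcomm.mul_pow] at hgp
    have hneg : (-1 : Matrix.SpecialLinearGroup (Fin 2) F) ^ p = -1 := by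
      apply Subtype.ext
      rw [Matrix.SpecialLinearGroup.coe_pow]
      simp [hpodd.neg_one_pow]
    rw [hneg] at hgp
    -- h ^ p = -1
    have hhp : h ^ p = -1 := by
      have e1 : (-1 : Matrix.SpecialLinearGroup (Fin 2) F) * (-1) = 1 := by simp
      calc h ^ p = h ^ p * ((-1) * (-1)) := by rw [e1, mul_one]
        _ = (h ^ p * (-1)) * (-1) := by group
        _ = -1 := by rw [hgp, one_mul]
    have hm1 : (-1 : Matrix.SpecialLinearGroup (Fin 2) F) ∈ H := by
      rw [← hhp]; exact H.pow_mem hh p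
    exact H.mul_mem hh hm1

theorem finite_sup_center (H : Subgroup (Matrix.SpecialLinearGroup (Fin 2) F)) [Finite H] :
    Finite (H ⊔ Subgroup.center (Matrix.SpecialLinearGroup (Fin 2) F) :
      Subgroup (Matrix.SpecialLinearGroup (Fin 2) F)) := by
  have hset := Subgroup.mul_normal H (Subgroup.center (Matrix.SpecialLinearGroup (Fin 2) F))
  have hcf : ((Subgroup.center (Matrix.SpecialLinearGroup (Fin 2) F) :
      Subgroup (Matrix.SpecialLinearGroup (Fin 2) F)) :
      Set (Matrix.SpecialLinearGroup (Fin 2) F)).Finite := by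
    apply Set.Finite.subset (Set.toFinite ({1, -1} : Set (Matrix.SpecialLinearGroup (Fin 2) F)))
    intro z hz
    rcases (mem_center_iff_pm z).mp hz with hz1 | hz1
    · left; exact Subtype.ext (by rw [hz1]; simp)
    · right; exact Subtype.ext (by rw [hz1]; simp)
  have hHf : (H : Set (Matrix.SpecialLinearGroup (Fin 2) F)).Finite := Set.toFinite _
  have := hHf.mul hcf
  rw [← hset] at this
  exact this

/-- normalized form -/
theorem hasPrimeSL2_of_normalized (p : ℕ) [Fact p.Prime] [CharP F p] (hp5 : 5 ≤ p)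
    (H : Subgroup (Matrix.SpecialLinearGroup (Fin 2) F)) [Finite H]
    (x₀ : Matrix.SpecialLinearGroup (Fin 2) F) (hx₀H : x₀ ∈ H) (hx₀ : x₀ ∈ uniSub F)
    (hx₀1 : x₀ ≠ 1) (h₀ : Matrix.SpecialLinearGroup (Fin 2) F) (hh₀H : h₀ ∈ H)
    (hh₀ : (h₀ : Matrix (Fin 2) (Fin 2) F) 0 0 = 0) : HasPrimeSL2 p H := by
  have hpp : p.Prime := Fact.out
  have hp2 : p ≠ 2 := by omega
  have h2 : (2 : F) ≠ 0 := by
    intro h
    have : ((2 : ℕ) : F) = 0 := by exact_mod_cast h
    rw [CharP.cast_eq_zero_iff F p] at this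
    have := Nat.le_of_dvd (by norm_num) this
    omega
  set H₃ := H ⊔ Subgroup.center (Matrix.SpecialLinearGroup (Fin 2) F) with hH₃
  have hfin : Finite H₃ := finite_sup_center H
  have hHle : H ≤ H₃ := le_sup_left
  have hZle : Subgroup.center (Matrix.SpecialLinearGroup (Fin 2) F) ≤ H₃ := le_sup_right
  -- the order of H₃ ∩ U
  have hq : 5 ≤ Nat.card ((uniSub F).subgroupOf H₃) := by
    have hPs := isPGroup_uniSub_subgroupOf p H₃
    have hnt : Nontrivial ((uniSub F).subgroupOf H₃) := by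
      refine ⟨⟨⟨⟨x₀, hHle hx₀H⟩, ?_⟩, 1, ?_⟩⟩
      · rw [Subgroup.mem_subgroupOf]; exact hx₀
      · intro hh
        apply hx₀1
        have := congrArg (fun t : (uniSub F).subgroupOf H₃ =>
          ((t : H₃) : Matrix.SpecialLinearGroup (Fin 2) F)) hh
        simpa using this
    obtain ⟨n, hn⟩ := (IsPGroup.iff_card.mp hPs)
    have hn0 : n ≠ 0 := by
      rintro rfl
      rw [pow_zero] at hn
      have := Finite.one_lt_card_iff_nontrivial.mpr hnt
      omega
    rw [hn]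
    calc 5 ≤ p := hp5
      _ = p ^ 1 := (pow_one p).symm
      _ ≤ p ^ n := Nat.pow_le_pow_right hpp.pos (by omega)
  obtain ⟨e, he, hue, hle⟩ := dickson_core p h2 H₃ hZle x₀ (hHle hx₀H) hx₀ hx₀1 h₀ (hHle hh₀H) hh₀ hq
  have hue' : upperU e ∈ H := mem_of_mem_sup_center p hp2 H _ hue (by
    unfold tr2; rw [coe_upperU]; simp; norm_num)
  have hle' : lowerU e⁻¹ ∈ H := mem_of_mem_sup_center p hp2 H _ hle (by
    unfold tr2; rw [coe_lowerU]; simp; norm_num)
  exact exists_subgroup_equiv_of_pair p H e he hue' hle'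

/-- half-normalized form: a nontrivial unitriangular element and an element outside the Borel
subgroup -/
theorem hasPrimeSL2_of_half_normalized (p : ℕ) [Fact p.Prime] [CharP F p] (hp5 : 5 ≤ p)
    (H : Subgroup (Matrix.SpecialLinearGroup (Fin 2) F)) [Finite H]
    (x₀ : Matrix.SpecialLinearGroup (Fin 2) F) (hx₀H : x₀ ∈ H) (hx₀ : x₀ ∈ uniSub F)
    (hx₀1 : x₀ ≠ 1) (y : Matrix.SpecialLinearGroup (Fin 2) F) (hyH : y ∈ H)
    (hy : y ∉ borelSub F) : HasPrimeSL2 p H := by
  have hc : (y : Matrix (Fin 2) (Fin 2) F) 1 0 ≠ 0 := hy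
  set s := -((y : Matrix (Fin 2) (Fin 2) F) 0 0) / (y : Matrix (Fin 2) (Fin 2) F) 1 0 with hs
  set w := upperU s with hw
  have hwU : w ∈ uniSub F := ⟨by rw [hw, coe_upperU]; simp, by rw [hw, coe_upperU]; simp⟩
  apply hasPrimeSL2_of_conj p H w
  have := finite_map_conj H w
  refine hasPrimeSL2_of_normalized p hp5 _ x₀ ?_ hx₀ hx₀1 (w * y * w⁻¹)
    (conj_mem_map_conj H w y hyH) ?_
  · have : w * x₀ * w⁻¹ = x₀ := by
      rw [uniSub_comm hwU hx₀]; group
    rw [← this]
    exact conj_mem_map_conj H w x₀ hx₀H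
  · rw [mul_apply_00, mul_apply_00, mul_apply_01, inv_apply_00, inv_apply_10, hwU.1,
      uniSub_apply_11 hwU, hwU.2]
    rw [hw, coe_upperU, hs]
    simp
    field_simp
    ring

/-- every element of trace `2` is conjugate into the unitriangular subgroup -/
theorem exists_conj_mem_uniSub_of_tr2 (x : Matrix.SpecialLinearGroup (Fin 2) F)
    (ht : tr2 x = 2) : ∃ w : Matrix.SpecialLinearGroup (Fin 2) F, w * x * w⁻¹ ∈ uniSub F := by
  by_cases hc : (x : Matrix (Fin 2) (Fin 2) F) 1 0 = 0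
  · exact ⟨1, by simpa using mem_uniSub_of_tr2 (show x ∈ borelSub F from hc) ht⟩
  · have hdet := sl2_det x
    unfold tr2 at ht
    -- w⁻¹ has first column the fixed vector (1 - d, c)
    let wi : Matrix.SpecialLinearGroup (Fin 2) F :=
      ⟨!![1 - (x : Matrix (Fin 2) (Fin 2) F) 1 1, -((x : Matrix (Fin 2) (Fin 2) F) 1 0)⁻¹;
          (x : Matrix (Fin 2) (Fin 2) F) 1 0, 0], by
        rw [Matrix.det_fin_two_of]
        field_simp
        ring⟩
    refine ⟨wi⁻¹, ?_⟩
    have hb : wi⁻¹ * x * wi⁻¹⁻¹ ∈ borelSub F := by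
      show ((wi⁻¹ * x * wi⁻¹⁻¹ : Matrix.SpecialLinearGroup (Fin 2) F) :
        Matrix (Fin 2) (Fin 2) F) 1 0 = 0
      rw [inv_inv, mul_apply_10, mul_apply_10, mul_apply_11, inv_apply_10, inv_apply_11]
      simp only [wi]
      simp
      linear_combination (x : Matrix (Fin 2) (Fin 2) F) 1 0 * hdet - (x : Matrix (Fin 2) (Fin 2) F) 1 0 * ht
    have htr : tr2 (wi⁻¹ * x * wi⁻¹⁻¹) = 2 := by
      rw [tr2_conj]; exact ht
    exact mem_uniSub_of_tr2 hb htr

/-- **Dickson's theorem for `p ≥ 5`**: a finite subgroup of `SL₂(F)`, `char F = p ≥ 5`, containing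
two non-commuting elements of trace `2`, contains a copy of `SL₂(𝔽_p)`. -/
theorem hasPrimeSL2_of_noncomm (p : ℕ) [Fact p.Prime] [CharP F p] (hp5 : 5 ≤ p)
    (H : Subgroup (Matrix.SpecialLinearGroup (Fin 2) F)) [Finite H]
    (x y : Matrix.SpecialLinearGroup (Fin 2) F) (hxH : x ∈ H) (hyH : y ∈ H)
    (hx : tr2 x = 2) (hy : tr2 y = 2) (hxy : x * y ≠ y * x) : HasPrimeSL2 p H := by
  obtain ⟨w, hw⟩ := exists_conj_mem_uniSub_of_tr2 x hx
  apply hasPrimeSL2_of_conj p H w
  have := finite_map_conj H w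
  have hx1 : w * x * w⁻¹ ≠ 1 := by
    intro h
    apply hxy
    have : x = 1 := by
      calc x = w⁻¹ * (w * x * w⁻¹) * w := by group
        _ = 1 := by rw [h]; group
    rw [this]; simp
  refine hasPrimeSL2_of_half_normalized p hp5 _ (w * x * w⁻¹) (conj_mem_map_conj H w x hxH) hw hx1
    (w * y * w⁻¹) (conj_mem_map_conj H w y hyH) ?_
  intro hyb
  have hyU : w * y * w⁻¹ ∈ uniSub F := mem_uniSub_of_tr2 hyb (by rw [tr2_conj]; exact hy)
  have hc := uniSub_comm hw hyU
  apply hxy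
  have e1 : w * (x * y) * w⁻¹ = w * (y * x) * w⁻¹ := by
    calc w * (x * y) * w⁻¹ = (w * x * w⁻¹) * (w * y * w⁻¹) := by group
      _ = (w * y * w⁻¹) * (w * x * w⁻¹) := hc
      _ = w * (y * x) * w⁻¹ := by group
  exact mul_left_cancel (mul_right_cancel e1)

end Cfsg.Agent.Lib.Helper11
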