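import Mathlib
import Cfsg.Agent.S0016
import Cfsg.Agent.Lib.Helper2.FusionComplement
import Cfsg.Agent.Lib.Helper53.QuatAut
import Cfsg.Agent.Lib.Helper53.Q8Section

set_option autoImplicit false

/-!
# Groups with a unique involution: normal 2-complement or `SL(2,3)`-elements (helper11)

Element version of S0106 (after helper53's proof): a finite group with a unique subgroup of
order `2` has a normal `2`-complement, or contains `u, v, x` satisfying the `SL(2,3)` relations
(up to `x ^ 3`) with `x` of odd order.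
-/

namespace Cfsg.Agent.Lib.Helper11

open Cfsg Cfsg.Agent.Lib.Helper53 QuaternionGroup

/-- the `SL(2,3)`-relations (up to `x ^ 3`) -/
def SL23Rel {G : Type*} [Group G] (u v x : G) : Prop :=
  u ^ (2 * 2) = 1 ∧ v * v = u ^ 2 ∧ v * u * v⁻¹ = u⁻¹ ∧ x * u * x⁻¹ = v ∧ x * v * x⁻¹ = u * v ∧
    u ^ 2 ≠ 1 ∧ (orderOf x).Coprime 2

/-- The `Q8` case: a nontrivial odd-order action on a quaternion subgroup of order 8 gives
`SL(2,3)`-elements. -/
theorem elements_of_q8 {G : Type*} [Group G] (Q : Subgroup G) (e' : Q ≃* QuaternionGroup 2)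
    (nQ : Subgroup.normalizer (Q : Set G)) (hcop : (orderOf (nQ : G)).Coprime 2)
    (hne : Q.normalizerMonoidHom nQ ≠ 1) :
    ∃ u v x : G, SL23Rel u v x := by
  set β : MulAut Q := Q.normalizerMonoidHom nQ with hβ
  have hβodd : (orderOf β).Coprime 2 := by
    have h1 : orderOf β ∣ orderOf nQ := orderOf_map_dvd _ _
    have h2 : orderOf nQ = orderOf (nQ : G) := by rw [← Subgroup.orderOf_coe]
    rw [h2] at h1
    exact Nat.Coprime.coprime_dvd_left h1 hcop
  have hβ'odd : (orderOf (MulAut.congr e' β)).Coprime 2 := by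
    rw [MulEquiv.orderOf_eq]; exact hβodd
  have hβ'ne : MulAut.congr e' β ≠ 1 := by
    intro h
    exact hne ((MulEquiv.map_eq_one_iff (MulAut.congr e')).mp h)
  obtain ⟨γ, u₀, v₀, hγ, hu₀, hv₀, hvu, hvu', hγu, hγv⟩ := q8_aut_odd _ hβ'odd hβ'ne
  obtain ⟨n', hn'γ, hn'ord⟩ : ∃ n' : Subgroup.normalizer (Q : Set G),
      γ = MulAut.congr e' (Q.normalizerMonoidHom n') ∧ (orderOf (n' : G)).Coprime 2 := by
    rcases hγ with rfl | rfl
    · exact ⟨nQ, rfl, hcop⟩
    · refine ⟨nQ⁻¹, ?_, ?_⟩
      · rw [map_inv, map_inv]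
      · rw [InvMemClass.coe_inv, orderOf_inv]; exact hcop
  set ψ : QuaternionGroup 2 →* G := Q.subtype.comp e'.symm.toMonoidHom with hψ
  have hψinj : Function.Injective ψ := by
    rw [hψ]
    exact Q.subtype_injective.comp e'.symm.injective
  have key : ∀ q₀, ψ (γ q₀) = (n' : G) * ψ q₀ * (n' : G)⁻¹ := by
    intro q₀
    rw [hn'γ]
    show ((e'.symm (e' ((Q.normalizerMonoidHom n') (e'.symm q₀))) : Q) : G) = _
    rw [MulEquiv.symm_apply_apply]
    rfl
  have h4 : (2 * 2 : ℕ) = 4 := by norm_num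
  refine ⟨ψ u₀, ψ v₀, (n' : G), ?_, ?_, ?_, ?_, ?_, ?_, ?_⟩
  · rw [← map_pow, h4, q8_pow_four, map_one]
  · rw [← map_mul, ← map_pow, hv₀, pow_two, hu₀]
  · rw [← map_inv, ← map_mul, ← map_mul, ← map_inv, q8_conj u₀ v₀ hu₀ hv₀ hvu hvu']
  · rw [← key, hγu]
  · rw [← key, hγv, map_mul]
  · rw [← map_pow, pow_two, hu₀]
    intro h
    apply q8_a_two_ne_one
    apply hψinj
    rw [h, map_one]
  · exact hn'ord

/-- A finite group with a unique subgroup of order `2` either has a normal 2-complement or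
contains `SL(2,3)`-elements. -/
theorem complement_or_elements {G : Type*} [Group G] [Finite G]
    (huniqG : ∀ H K : Subgroup G, Nat.card H = 2 → Nat.card K = 2 → H = K) :
    Cfsg.HasNormalPComplement 2 G ∨ ∃ u v x : G, SL23Rel u v x := by
  classical
  have : Fact (Nat.Prime 2) := ⟨Nat.prime_two⟩
  by_cases hsec : ∃ u v x : G, SL23Rel u v x
  · exact Or.inr hsec
  left
  obtain ⟨T⟩ : Nonempty (Sylow 2 G) := inferInstance
  apply Cfsg.Agent.Lib.Helper2.hasNormalPComplement_of_coprimeCentralizes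
  apply Cfsg.Agent.Lib.Helper2.coprimeCentralizes_of_forall_le_sylow T
  intro Q hQT g hg hcop
  set nQ : Subgroup.normalizer (Q : Set G) := ⟨g, hg⟩ with hnQ
  set β : MulAut Q := Q.normalizerMonoidHom nQ with hβ
  have hβodd : (orderOf β).Coprime 2 := by
    have h1 : orderOf β ∣ orderOf nQ := orderOf_map_dvd _ _
    have h2 : orderOf nQ = orderOf g := by rw [← Subgroup.orderOf_coe]
    rw [h2] at h1
    exact Nat.Coprime.coprime_dvd_left h1 hcop
  suffices hβ1 : β = 1 by
    rw [Subgroup.mem_centralizer_iff]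
    intro q hq
    have h1 := DFunLike.congr_fun hβ1 ⟨q, hq⟩
    have h2 : g * q * g⁻¹ = q := congrArg Subtype.val h1
    calc q * g = (g * q * g⁻¹) * g := by rw [h2]
      _ = g * q := by group
  have hQ2 : IsPGroup 2 Q := T.isPGroup'.to_le hQT
  have huniq : ∀ H K : Subgroup Q, Nat.card H = 2 → Nat.card K = 2 → H = K := by
    intro H K hH hK
    have h1 : Nat.card (H.map Q.subtype) = 2 := by
      rw [Subgroup.card_map_of_injective Q.subtype_injective]; exact hH
    have h2 : Nat.card (K.map Q.subtype) = 2 := by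
      rw [Subgroup.card_map_of_injective Q.subtype_injective]; exact hK
    exact Subgroup.map_injective Q.subtype_injective (huniqG _ _ h1 h2)
  rcases Cfsg.Agent.S0016.result 2 hQ2 huniq with hcyc | ⟨_, k, ⟨e⟩⟩
  · exact aut_eq_one_of_cyclic hQ2 β hβodd
  · rcases Nat.lt_or_ge k 1 with hk0 | hk1
    · have hk : k = 0 := by omega
      subst hk
      have hc1 : IsCyclic (QuaternionGroup (2 ^ 0)) := QuaternionGroup.quaternionGroup_one_isCyclic
      have : IsCyclic Q := isCyclic_of_surjective e.symm e.symm.surjective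
      exact aut_eq_one_of_cyclic hQ2 β hβodd
    rcases Nat.lt_or_ge k 2 with hk1' | hk2
    · have hk : k = 1 := by omega
      subst hk
      rw [pow_one] at e
      by_contra hne
      exact hsec (elements_of_q8 Q e nQ hcop hne)
    · haveI : NeZero (2 ^ k) := ⟨by positivity⟩
      have h3 : 3 ≤ 2 ^ k := by
        calc 3 ≤ 2 ^ 2 := by norm_num
          _ ≤ 2 ^ k := Nat.pow_le_pow_right (by norm_num) hk2
      have h1 := aut_eq_one_of_quaternion (m := 2 ^ k) h3 (k + 1) (by ring)
        (MulAut.congr e β) (by rw [MulEquiv.orderOf_eq]; exact hβodd)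
      exact (MulEquiv.map_eq_one_iff (MulAut.congr e)).mp h1

end Cfsg.Agent.Lib.Helper11
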