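import Mathlib
import Cfsg.Agent.Lib.Helper11.DicksonThree
import Cfsg.Agent.Lib.Helper11.DicksonMat

set_option autoImplicit false

/-!
# Dickson's theorem, `SL(2,3)` subgroups (helper11)

A finite subgroup of `SL₂(F)` (odd characteristic `p`) with two non-commuting elements of trace `2`
contains a subgroup isomorphic to `SL(2,3)`.
-/

namespace Cfsg.Agent.Lib.Helper11

open Cfsg Cfsg.Agent.Lib.Helper41 Cfsg.Agent.Lib.Helper53

variable {F : Type*} [Field F]

/-- elements of order dividing two of a subgroup of `SL₂(F)` -/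
theorem coe_eq_neg_one_of_sq (h2 : (2 : F) ≠ 0) (H : Subgroup (Matrix.SpecialLinearGroup (Fin 2) F))
    (g : H) (hg : g ^ 2 = 1) (hg1 : g ≠ 1) :
    ((g : Matrix.SpecialLinearGroup (Fin 2) F) : Matrix (Fin 2) (Fin 2) F) = -1 := by
  have h1 : ((g : Matrix.SpecialLinearGroup (Fin 2) F) : Matrix (Fin 2) (Fin 2) F) *
      ((g : Matrix.SpecialLinearGroup (Fin 2) F) : Matrix (Fin 2) (Fin 2) F) = 1 := by
    have := congrArg (fun t : H => ((t : Matrix.SpecialLinearGroup (Fin 2) F) :
      Matrix (Fin 2) (Fin 2) F)) hg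
    simpa [pow_two] using this
  rcases eq_one_or_neg_one_of_mul_self h2 _ h1 with h | h
  · exfalso
    apply hg1
    apply Subtype.ext
    apply Subtype.ext
    rw [h]; simp
  · exact h

theorem uniq_order_two (h2 : (2 : F) ≠ 0) (H : Subgroup (Matrix.SpecialLinearGroup (Fin 2) F)) :
    ∀ A B : Subgroup H, Nat.card A = 2 → Nat.card B = 2 → A = B := by
  have key : ∀ A B : Subgroup H, Nat.card A = 2 → Nat.card B = 2 → A ≤ B := by
    intro A B hA hB a ha
    by_cases ha1 : a = 1
    · rw [ha1]; exact B.one_mem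
    have hfA : Finite A := Nat.finite_of_card_ne_zero (by rw [hA]; norm_num)
    have hfB : Finite B := Nat.finite_of_card_ne_zero (by rw [hB]; norm_num)
    have hasq : a ^ 2 = 1 := by
      have : (⟨a, ha⟩ : A) ^ Nat.card A = 1 := pow_card_eq_one'
      rw [hA] at this
      exact congrArg Subtype.val this
    have hntB : Nontrivial B := Finite.one_lt_card_iff_nontrivial.mp (by rw [hB]; norm_num)
    obtain ⟨⟨b, hb⟩, hb1⟩ := exists_ne (1 : B)
    have hb1' : b ≠ 1 := fun h => hb1 (Subtype.ext h)
    have hbsq : b ^ 2 = 1 := by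
      have : (⟨b, hb⟩ : B) ^ Nat.card B = 1 := pow_card_eq_one'
      rw [hB] at this
      exact congrArg Subtype.val this
    have e1 := coe_eq_neg_one_of_sq h2 H a hasq ha1
    have e2 := coe_eq_neg_one_of_sq h2 H b hbsq hb1'
    have : a = b := by
      apply Subtype.ext
      apply Subtype.ext
      rw [e1, e2]
    rw [this]; exact hb
  intro A B hA hB
  exact le_antisymm (key A B hA hB) (key B A hB hA)

/-- **`SL(2,3)` inside non-`p`-closed subgroups of `SL₂(F)`** -/
theorem exists_SL23_subgroup (p : ℕ) [Fact p.Prime] [CharP F p] (hp : p ≠ 2)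
    (H : Subgroup (Matrix.SpecialLinearGroup (Fin 2) F)) [Finite H]
    (x y : Matrix.SpecialLinearGroup (Fin 2) F) (hxH : x ∈ H) (hyH : y ∈ H)
    (hx : tr2 x = 2) (hy : tr2 y = 2) (hxy : x * y ≠ y * x) :
    ∃ K : Subgroup (Matrix.SpecialLinearGroup (Fin 2) F), K ≤ H ∧
      Nonempty (K ≃* Matrix.SpecialLinearGroup (Fin 2) (ZMod 3)) := by
  classical
  have hpp : p.Prime := Fact.out
  have h2 : (2 : F) ≠ 0 := by
    intro h
    have : ((2 : ℕ) : F) = 0 := by exact_mod_cast h
    rw [CharP.cast_eq_zero_iff F p] at this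
    have := (Nat.prime_dvd_prime_iff_eq hpp Nat.prime_two).mp this
    exact hp this
  have : Fact (Nat.Prime 2) := ⟨Nat.prime_two⟩
  rcases complement_or_elements (uniq_order_two h2 H) with hcomp | ⟨u, v, t, hu, hv, hc, htu, htv, hu2, hto⟩
  · -- normal 2-complement: impossible
    exfalso
    obtain ⟨P, N, hNn, hNP⟩ := hcomp
    have hNodd : Odd (Nat.card N) := by
      have h1 : (P : Subgroup H).index = Nat.card N := hNP.index_eq_card
      have h3 := Sylow.not_dvd_index P
      rw [h1] at h3
      exact Nat.odd_iff.mpr (Nat.two_dvd_ne_zero.mp h3)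
    have hmem : ∀ z : H, Odd (orderOf z) → z ∈ N := by
      intro z hz
      have h1 : N.index = Nat.card (P : Subgroup H) := hNP.symm.index_eq_card
      obtain ⟨k, hk⟩ := (IsPGroup.iff_card.mp P.isPGroup')
      have h3 : orderOf (QuotientGroup.mk' N z) ∣ orderOf z := orderOf_map_dvd _ _
      have h4 : orderOf (QuotientGroup.mk' N z) ∣ 2 ^ k := by
        rw [← hk, ← h1, Subgroup.index]
        exact orderOf_dvd_natCard _
      have h5 : orderOf (QuotientGroup.mk' N z) = 1 := by
        obtain ⟨j, -, hj⟩ := (Nat.dvd_prime_pow Nat.prime_two).mp h4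
        have hodd : Odd (orderOf (QuotientGroup.mk' N z)) := Odd.of_dvd_nat hz h3
        rw [hj] at hodd ⊢
        rcases Nat.eq_zero_or_pos j with rfl | hjpos
        · simp
        · exfalso
          have : Even (2 ^ j) := (Nat.even_pow.mpr ⟨even_two, hjpos.ne'⟩)
          exact (Nat.not_odd_iff_even.mpr this) hodd
      have h6 : QuotientGroup.mk' N z = 1 := orderOf_eq_one_iff.mp h5
      exact (QuotientGroup.eq_one_iff z).mp h6
    have hcomm := commute_unipotent_of_odd_subgroup p hp H N hNodd hmem ⟨x, hxH⟩ ⟨y, hyH⟩ hx hy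
    apply hxy
    have := congrArg Subtype.val hcomm.eq
    simpa using this
  · -- SL(2,3)-elements
    -- t ^ 3 commutes with u and v
    have hvuv : v * (u * v) = u := by
      have h1 : v * u = u⁻¹ * v := by
        have : v * u = (v * u * v⁻¹) * v := by group
        rw [this, hc]
      calc v * (u * v) = (v * u) * v := by group
        _ = u⁻¹ * v * v := by rw [h1]
        _ = u⁻¹ * (v * v) := by group
        _ = u⁻¹ * u ^ 2 := by rw [hv]
        _ = u := by group
    have hconj3 : ∀ w, t ^ 3 * w * (t ^ 3)⁻¹ = t * (t * (t * w * t⁻¹) * t⁻¹) * t⁻¹ := by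
      intro w
      simp only [pow_succ, pow_zero, one_mul, mul_inv_rev, mul_assoc]
    have hmulc : t * (u * v) * t⁻¹ = (t * u * t⁻¹) * (t * v * t⁻¹) := by group
    have hcu : t ^ 3 * u * (t ^ 3)⁻¹ = u := by
      rw [hconj3, htu, htv, hmulc, htu, htv, hvuv]
    have hcv : t ^ 3 * v * (t ^ 3)⁻¹ = v := by
      rw [hconj3, htv, hmulc, htu, htv, hvuv, htu]
    have hzu : u * t ^ 3 = t ^ 3 * u := by
      calc u * t ^ 3 = (t ^ 3 * u * (t ^ 3)⁻¹) * t ^ 3 := by rw [hcu]
        _ = t ^ 3 * u := by group
    have hzv : v * t ^ 3 = t ^ 3 * v := by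
      calc v * t ^ 3 = (t ^ 3 * v * (t ^ 3)⁻¹) * t ^ 3 := by rw [hcv]
        _ = t ^ 3 * v := by group
    have huv : u * v ≠ v * u := by
      intro h
      apply hu2
      have h1 : v * u * v⁻¹ = u := by rw [← h]; group
      rw [h1] at hc
      calc u ^ 2 = u * u := pow_two u
        _ = u * u⁻¹ := by rw [← hc]
        _ = 1 := mul_inv_cancel u
    -- t ^ 3 is central
    have hzc : ((t ^ 3 : H) : Matrix.SpecialLinearGroup (Fin 2) F) ∈
        Subgroup.center (Matrix.SpecialLinearGroup (Fin 2) F) := by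
      by_contra hnc
      apply huv
      apply Subtype.ext
      simp only [Subgroup.coe_mul]
      apply comm_of_comm_noncentral hnc
      · have := congrArg Subtype.val hzu
        simpa using this
      · have := congrArg Subtype.val hzv
        simpa using this
    have ht6 : t ^ 6 = 1 := by
      have h1 : ((t ^ 3 : H) : Matrix.SpecialLinearGroup (Fin 2) F) *
          ((t ^ 3 : H) : Matrix.SpecialLinearGroup (Fin 2) F) = 1 := by
        rcases (mem_center_iff_pm _).mp hzc with h | h
        · apply Subtype.ext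
          rw [Matrix.SpecialLinearGroup.coe_mul, h]; simp
        · apply Subtype.ext
          rw [Matrix.SpecialLinearGroup.coe_mul, h]; simp
      apply Subtype.ext
      have : (t ^ 6 : H) = t ^ 3 * t ^ 3 := by rw [← pow_add]
      rw [this, Subgroup.coe_mul, h1]; rfl
    have ht3 : t ^ 3 = 1 := by
      have h1 : orderOf t ∣ 2 * 3 := orderOf_dvd_of_pow_eq_one ht6
      have h3 : orderOf t ∣ 3 := hto.dvd_of_dvd_mul_left h1
      exact orderOf_dvd_iff_pow_eq_one.mp h3
    have ht1 : t ≠ 1 := by
      rintro rfl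
      apply hu2
      have h1 : v = u := by rw [← htu]; group
      rw [h1] at hc
      have h3 : u * u * u⁻¹ = u := by group
      rw [h3] at hc
      calc u ^ 2 = u * u := pow_two u
        _ = u * u⁻¹ := by rw [← hc]
        _ = 1 := mul_inv_cancel u
    -- the subgroup generated
    set S : Set H := {u, v, t} with hS
    set K₀ : Subgroup H := Subgroup.closure S with hK₀
    have huK : u ∈ K₀ := Subgroup.subset_closure (by simp [hS])
    have hvK : v ∈ K₀ := Subgroup.subset_closure (by simp [hS])
    have htK : t ∈ K₀ := Subgroup.subset_closure (by simp [hS])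
    have hgen : Subgroup.closure ({⟨u, huK⟩, ⟨v, hvK⟩, ⟨t, htK⟩} : Set K₀) = ⊤ := by
      have h1 := Subgroup.closure_closure_coe_preimage (k := S)
      have h3 : ((↑) : Subgroup.closure S → H) ⁻¹' S = ({⟨u, huK⟩, ⟨v, hvK⟩, ⟨t, htK⟩} : Set K₀) := by
        ext ⟨w, hw⟩
        show w ∈ ({u, v, t} : Set H) ↔ _
        simp only [Set.mem_insert_iff, Set.mem_singleton_iff, Subtype.mk.injEq]
      rw [h3] at h1
      exact h1
    obtain ⟨e⟩ := nonempty_mulEquiv_SL23 (A := K₀) (u := ⟨u, huK⟩) (v := ⟨v, hvK⟩) (t := ⟨t, htK⟩)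
      (Subtype.ext (by simpa using hu)) (Subtype.ext (by simpa using hv))
      (Subtype.ext (by simpa using hc)) (Subtype.ext (by simpa using ht3))
      (Subtype.ext (by simpa using htu)) (Subtype.ext (by simpa using htv))
      (fun h => hu2 (by simpa using congrArg Subtype.val h))
      (fun h => ht1 (by simpa using congrArg Subtype.val h)) hgen
    refine ⟨K₀.map H.subtype, ?_, ⟨?_⟩⟩
    · rintro _ ⟨k, -, rfl⟩
      exact k.2
    · exact (K₀.equivMapOfInjective H.subtype H.subtype_injective).symm.trans e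

end Cfsg.Agent.Lib.Helper11
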