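import Mathlib
import Cfsg.Agent.Lib.Helper11.DicksonMain
import Cfsg.Agent.Lib.Helper11.DicksonThree2

set_option autoImplicit false

/-!
# Dickson's theorem (helper11)

A finite subgroup of `SL₂(F)`, `char F = p` odd, containing two non-commuting elements of trace `2`
contains a copy of `SL₂(𝔽_p)`.
-/

namespace Cfsg.Agent.Lib.Helper11

open Cfsg.Agent.Lib.Helper41

variable {F : Type*} [Field F]

/-- **Dickson's theorem**, element form. -/
theorem hasPrimeSL2_of_noncomm_odd (p : ℕ) [hpF : Fact p.Prime] [CharP F p] (hp : p ≠ 2)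
    (H : Subgroup (Matrix.SpecialLinearGroup (Fin 2) F)) [Finite H]
    (x y : Matrix.SpecialLinearGroup (Fin 2) F) (hxH : x ∈ H) (hyH : y ∈ H)
    (hx : tr2 x = 2) (hy : tr2 y = 2) (hxy : x * y ≠ y * x) : HasPrimeSL2 p H := by
  have hpp : p.Prime := Fact.out
  by_cases h3 : p = 3
  · subst h3
    exact exists_SL23_subgroup 3 hp H x y hxH hyH hx hy hxy
  · have hp5 : 5 ≤ p := by
      have h2 := hpp.two_le
      by_contra hlt
      have : p = 4 := by omega
      rw [this] at hpp
      exact absurd hpp (by decide)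
    exact hasPrimeSL2_of_noncomm p hp5 H x y hxH hyH hx hy hxy

/-- **Dickson's theorem**, Sylow form. -/
theorem hasPrimeSL2_of_card_sylow (p : ℕ) [Fact p.Prime] [CharP F p] (hp : p ≠ 2)
    (H : Subgroup (Matrix.SpecialLinearGroup (Fin 2) F)) [Finite H]
    (hH : 1 < Nat.card (Sylow p H)) : HasPrimeSL2 p H := by
  by_contra hno
  have hcomm : ∀ x y : H, tr2 (x : Matrix.SpecialLinearGroup (Fin 2) F) = 2 →
      tr2 (y : Matrix.SpecialLinearGroup (Fin 2) F) = 2 → Commute x y := by
    intro x y hx hy
    by_contra hc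
    apply hno
    refine hasPrimeSL2_of_noncomm_odd p hp H x y x.2 y.2 hx hy ?_
    intro h
    apply hc
    show x * y = y * x
    exact Subtype.ext (by simpa using h)
  have := card_sylow_le_one_of_commute p H hcomm
  omega

end Cfsg.Agent.Lib.Helper11
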