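/-
helper11: PF sec.13 module PF13-[WD] (helper16's sheet `Lib/Helper16/PF13_MODULES.md`):
the piece `Ŵ = W ∖ (W₁ ∪ W₂)`: `|W| = |W₂| |W₁|`, `Ŵ` is TI with normaliser `W`, and
`∑_{Ŵ} (|η_{φψ}|² + Re η_{φψ}) = (|W₂| - 1)(|W₁| - 1) + 1`.
-/
import Mathlib
import Cfsg.Agent.Lib.Helper16.PF13Defs

set_option autoImplicit false
set_option linter.unusedSectionVars false

namespace Cfsg.Agent.Lib.Helper11.PF13

open Cfsg Cfsg.Agent.Lib.Helper24.PFCyc Cfsg.Agent.Lib.Helper4.PF Cfsg.Agent.Lib.Helper16.PF13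

universe u

variable {G : Type u} [Group G]

/-! ### group-theoretic preliminaries -/

/-- elements of the join of two elementwise commuting subgroups are products -/
theorem mem_sup_of_comm' {H K : Subgroup G} (hc : ∀ h ∈ H, ∀ k ∈ K, h * k = k * h) {x : G}
    (hx : x ∈ H ⊔ K) : ∃ h ∈ H, ∃ k ∈ K, x = h * k := by
  let S : Subgroup G :=
    { carrier := {x | ∃ h ∈ H, ∃ k ∈ K, x = h * k}
      one_mem' := ⟨1, H.one_mem, 1, K.one_mem, by simp⟩
      mul_mem' := by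
        rintro _ _ ⟨h, hh, k, hk, rfl⟩ ⟨h', hh', k', hk', rfl⟩
        refine ⟨h * h', H.mul_mem hh hh', k * k', K.mul_mem hk hk', ?_⟩
        have := hc h' hh' k hk
        calc h * k * (h' * k') = h * (k * h') * k' := by group
          _ = h * (h' * k) * k' := by rw [this]
          _ = h * h' * (k * k') := by group
      inv_mem' := by
        rintro _ ⟨h, hh, k, hk, rfl⟩
        refine ⟨h⁻¹, H.inv_mem hh, k⁻¹, K.inv_mem hk, ?_⟩
        have := hc h hh k hk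
        rw [this, mul_inv_rev] }
  have hle : H ⊔ K ≤ S :=
    sup_le (fun h hh => ⟨h, hh, 1, K.one_mem, by simp⟩) (fun k hk => ⟨1, H.one_mem, k, hk, by simp⟩)
  exact hle hx

/-- a product decomposition with trivial intersection is unique -/
theorem mul_eq_mul_of_inf_eq_bot {H K : Subgroup G} (hHK : H ⊓ K = ⊥) {a a' b b' : G}
    (ha : a ∈ H) (ha' : a' ∈ H) (hb : b ∈ K) (hb' : b' ∈ K) (h : a * b = a' * b') :
    a = a' ∧ b = b' := by
  have h1 : a'⁻¹ * a = b' * b⁻¹ := by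
    have : a'⁻¹ * (a * b) * b⁻¹ = a'⁻¹ * (a' * b') * b⁻¹ := by rw [h]
    simpa [mul_assoc] using this
  have h2 : a'⁻¹ * a ∈ H ⊓ K := by
    refine ⟨H.mul_mem (H.inv_mem ha') ha, ?_⟩
    rw [h1]
    exact K.mul_mem hb' (K.inv_mem hb)
  rw [hHK, Subgroup.mem_bot] at h2
  have e1 : a = a' := by
    have := congrArg (fun x => a' * x) h2
    simpa using this
  refine ⟨e1, ?_⟩
  subst e1
  exact mul_left_cancel h

/-- in a cyclic group `W`, a subgroup `H ≤ W` consists of the solutions of `x ^ |H| = 1` -/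
theorem mem_of_pow_card_eq_one [Finite G] {H W : Subgroup G} (hHW : H ≤ W) (hcyc : IsCyclic ↥W)
    {n : G} (hn : n ∈ W) (hpow : n ^ Nat.card H = 1) : n ∈ H := by
  classical
  have : Fintype ↥W := Fintype.ofFinite _
  have : Fintype ↥H := Fintype.ofFinite _
  have hq : 0 < Nat.card H := Nat.card_pos
  let S : Finset ↥W := Finset.univ.filter (fun a : ↥W => a ^ Nat.card H = 1)
  let T : Finset ↥W := (Finset.univ : Finset ↥H).image (Subgroup.inclusion hHW)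
  have hS : S.card ≤ Nat.card H := IsCyclic.card_pow_eq_one_le hq
  have hT : T.card = Nat.card H := by
    rw [Finset.card_image_of_injective _ (Subgroup.inclusion_injective hHW), Finset.card_univ,
      Nat.card_eq_fintype_card]
  have hTS : T ⊆ S := by
    intro x hx
    obtain ⟨h, -, rfl⟩ := Finset.mem_image.1 hx
    rw [Finset.mem_filter]
    refine ⟨Finset.mem_univ _, ?_⟩
    rw [← map_pow, pow_card_eq_one', map_one]
  have hEq : T = S := Finset.eq_of_subset_of_card_le hTS (by rw [hT]; exact hS)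
  have hmem : (⟨n, hn⟩ : ↥W) ∈ S := by
    rw [Finset.mem_filter]
    refine ⟨Finset.mem_univ _, ?_⟩
    apply Subtype.ext
    rw [Subgroup.coe_pow]
    exact hpow
  rw [← hEq] at hmem
  obtain ⟨h, -, hh⟩ := Finset.mem_image.1 hmem
  have : (h : G) = n := congrArg Subtype.val hh
  rw [← this]
  exact h.2

theorem mem_iff_pow_card_eq_one [Finite G] {H W : Subgroup G} (hHW : H ≤ W) (hcyc : IsCyclic ↥W)
    {n : G} (hn : n ∈ W) : n ∈ H ↔ n ^ Nat.card H = 1 := by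
  constructor
  · intro h
    have := pow_card_eq_one' (G := ↥H) (x := ⟨n, h⟩)
    have h2 := congrArg Subtype.val this
    rw [Subgroup.coe_pow] at h2
    exact h2
  · exact mem_of_pow_card_eq_one hHW hcyc hn

theorem conj_pow_eq_one_iff (g n : G) (k : ℕ) : (g * n * g⁻¹) ^ k = 1 ↔ n ^ k = 1 := by
  rw [conj_pow]
  constructor
  · intro h
    have := congrArg (fun x => g⁻¹ * x * g) h
    simpa [mul_assoc] using this
  · intro h
    rw [h]
    simp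

variable [Fintype G]

/-- `|W| = |W₂| |W₁|` -/
theorem card_W' {W₁ W₂ : Subgroup G} (hW : IsSelfNormalizingCyclic W₁ W₂) :
    Nat.card ↥(W₁ ⊔ W₂) = Nat.card W₂ * Nat.card W₁ := by
  classical
  obtain ⟨-, -, hinf, hcomm, -, -⟩ := hW
  rw [mul_comm, ← Nat.card_prod]
  symm
  apply Nat.card_congr
  refine Equiv.ofBijective (fun x : ↥W₁ × ↥W₂ =>
    (⟨(x.1 : G) * (x.2 : G), Subgroup.mul_mem _ (Subgroup.mem_sup_left x.1.2)
      (Subgroup.mem_sup_right x.2.2)⟩ : ↥(W₁ ⊔ W₂))) ⟨?_, ?_⟩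
  · rintro ⟨a, b⟩ ⟨a', b'⟩ h
    have h' : (a : G) * (b : G) = (a' : G) * (b' : G) := congrArg Subtype.val h
    obtain ⟨e1, e2⟩ := mul_eq_mul_of_inf_eq_bot hinf a.2 a'.2 b.2 b'.2 h'
    exact Prod.ext (Subtype.ext e1) (Subtype.ext e2)
  · rintro ⟨x, hx⟩
    obtain ⟨a, ha, b, hb, rfl⟩ := mem_sup_of_comm' hcomm hx
    exact ⟨(⟨a, ha⟩, ⟨b, hb⟩), rfl⟩

/-- `Ŵ` is a TI-subset with normaliser `W` -/
theorem ti_WHat {W₁ W₂ : Subgroup G} (hW : IsSelfNormalizingCyclic W₁ W₂) (g a : G)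
    (ha : a ∈ WHat W₁ W₂) (hga : g * a * g⁻¹ ∈ WHat W₁ W₂) : g ∈ W₁ ⊔ W₂ := by
  obtain ⟨-, -, hinf, hcomm, hcyc, hN⟩ := hW
  -- the centraliser description
  have hcent : ∀ x ∈ WHat W₁ W₂, ∀ y : G, y ∈ W₁ ⊔ W₂ ↔ y * x * y⁻¹ = x := by
    intro x hx y
    have hx' := mem_WHat.1 hx
    have hsub : ({x} : Set G) ⊆ (↑(W₁ ⊔ W₂) : Set G) \ (↑W₁ ∪ ↑W₂) := by
      intro z hz
      rw [Set.mem_singleton_iff] at hz
      subst hz
      refine ⟨hx'.1, ?_⟩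
      rintro (h | h)
      · exact hx'.2.1 h
      · exact hx'.2.2 h
    have hNx := hN {x} hsub ⟨x, rfl⟩
    rw [← hNx, Subgroup.mem_set_normalizer_iff]
    constructor
    · intro h
      exact (h x).1 rfl
    · intro h n
      constructor
      · intro hn
        rw [Set.mem_singleton_iff] at hn
        subst hn
        exact h
      · intro hn
        rw [Set.mem_singleton_iff] at hn ⊢
        have : y * n * y⁻¹ = y * x * y⁻¹ := by rw [hn, h]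
        have h2 := congrArg (fun z => y⁻¹ * z * y) this
        simpa [mul_assoc] using h2
  -- conjugation by `g` preserves `W`
  have hconj : ∀ y : G, y ∈ W₁ ⊔ W₂ ↔ g * y * g⁻¹ ∈ W₁ ⊔ W₂ := by
    intro y
    rw [hcent a ha y, hcent (g * a * g⁻¹) hga (g * y * g⁻¹)]
    have e : g * y * g⁻¹ * (g * a * g⁻¹) * (g * y * g⁻¹)⁻¹ = g * (y * a * y⁻¹) * g⁻¹ := by
      group
    rw [e]
    constructor
    · intro h
      rw [h]
    · intro h
      have h2 := congrArg (fun z => g⁻¹ * z * g) h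
      simpa [mul_assoc] using h2
  -- `g` normalises `Ŵ`
  have hsubW : ((WHat W₁ W₂ : Finset G) : Set G) ⊆ (↑(W₁ ⊔ W₂) : Set G) \ (↑W₁ ∪ ↑W₂) := by
    intro z hz
    have hz' := mem_WHat.1 (Finset.mem_coe.1 hz)
    refine ⟨hz'.1, ?_⟩
    rintro (h | h)
    · exact hz'.2.1 h
    · exact hz'.2.2 h
  have hNW := hN _ hsubW ⟨a, Finset.mem_coe.2 ha⟩
  rw [← hNW, Subgroup.mem_set_normalizer_iff]
  intro n
  rw [Finset.mem_coe, Finset.mem_coe, mem_WHat, mem_WHat]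
  by_cases hn : n ∈ W₁ ⊔ W₂
  · have hn' := (hconj n).1 hn
    rw [mem_iff_pow_card_eq_one le_sup_left hcyc hn, mem_iff_pow_card_eq_one le_sup_left hcyc hn',
      mem_iff_pow_card_eq_one le_sup_right hcyc hn,
      mem_iff_pow_card_eq_one le_sup_right hcyc hn', conj_pow_eq_one_iff, conj_pow_eq_one_iff]
    exact ⟨fun h => ⟨hn', h.2⟩, fun h => ⟨hn, h.2⟩⟩
  · have hn' : ¬ g * n * g⁻¹ ∈ W₁ ⊔ W₂ := fun h => hn ((hconj n).2 h)
    exact ⟨fun h => absurd h.1 hn, fun h => absurd h.1 hn'⟩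

/-! ### the sum over `Ŵ` -/

/-- the non-identity elements of a subgroup, as a finset -/
noncomputable def nonOne (H : Subgroup G) : Finset G :=
  (Set.toFinite {g : G | g ∈ H ∧ g ≠ 1}).toFinset

theorem mem_nonOne {H : Subgroup G} {g : G} : g ∈ nonOne H ↔ g ∈ H ∧ g ≠ 1 := by
  unfold nonOne
  rw [Set.Finite.mem_toFinset]
  rfl

theorem nonOne_eq_erase (H : Subgroup G) [DecidableEq G] [DecidablePred (fun g => g ∈ H)] :
    nonOne H = (Finset.univ.filter (fun g => g ∈ H)).erase 1 := by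
  ext g
  rw [mem_nonOne, Finset.mem_erase, Finset.mem_filter]
  exact ⟨fun h => ⟨h.2, Finset.mem_univ _, h.1⟩, fun h => ⟨h.2.2, h.1⟩⟩

theorem card_nonOne (H : Subgroup G) : (nonOne H).card = Nat.card H - 1 := by
  classical
  rw [nonOne_eq_erase, Finset.card_erase_of_mem (by
    rw [Finset.mem_filter]
    exact ⟨Finset.mem_univ _, H.one_mem⟩)]
  congr 1
  rw [Nat.card_eq_fintype_card, Fintype.card_subtype]

/-- sum of a function over the non-identity elements of `H` -/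
theorem sum_nonOne (H : Subgroup G) [Fintype ↥H] (f : G → ℂ) :
    ∑ a ∈ nonOne H, f a = (∑ a : ↥H, f (a : G)) - f 1 := by
  classical
  rw [nonOne_eq_erase, Finset.sum_erase_eq_sub (by
    rw [Finset.mem_filter]
    exact ⟨Finset.mem_univ _, H.one_mem⟩)]
  congr 1
  have h : ∀ x, x ∈ Finset.univ.filter (fun g => g ∈ H) ↔ x ∈ H := fun x => by
    rw [Finset.mem_filter]
    exact ⟨fun h => h.2, fun h => ⟨Finset.mem_univ _, h⟩⟩
  exact Finset.sum_subtype _ h f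

/-- `Ŵ` is the set of products `a b`, `a ∈ W₁ ∖ 1`, `b ∈ W₂ ∖ 1` -/
theorem sum_WHat {W₁ W₂ : Subgroup G} (hW : IsSelfNormalizingCyclic W₁ W₂) (F : G → ℂ) :
    ∑ w ∈ WHat W₁ W₂, F w = ∑ a ∈ nonOne W₁, ∑ b ∈ nonOne W₂, F (a * b) := by
  classical
  obtain ⟨-, -, hinf, hcomm, -, -⟩ := hW
  rw [← Finset.sum_product']
  have himg : WHat W₁ W₂ = (nonOne W₁ ×ˢ nonOne W₂).image (fun x : G × G => x.1 * x.2) := by
    ext w
    rw [mem_WHat, Finset.mem_image]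
    constructor
    · rintro ⟨hw, h1, h2⟩
      obtain ⟨a, ha, b, hb, rfl⟩ := mem_sup_of_comm' hcomm hw
      refine ⟨(a, b), ?_, rfl⟩
      rw [Finset.mem_product, mem_nonOne, mem_nonOne]
      refine ⟨⟨ha, ?_⟩, hb, ?_⟩
      · rintro rfl
        apply h2
        rw [one_mul]
        exact hb
      · rintro rfl
        apply h1
        rw [mul_one]
        exact ha
    · rintro ⟨⟨a, b⟩, hab, rfl⟩
      rw [Finset.mem_product, mem_nonOne, mem_nonOne] at hab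
      obtain ⟨⟨ha, ha1⟩, hb, hb1⟩ := hab
      refine ⟨Subgroup.mul_mem _ (Subgroup.mem_sup_left ha) (Subgroup.mem_sup_right hb), ?_, ?_⟩
      · intro h
        apply hb1
        have hb' : b ∈ W₁ := by
          have : b = a⁻¹ * (a * b) := by group
          rw [this]
          exact W₁.mul_mem (W₁.inv_mem ha) h
        have : b ∈ W₁ ⊓ W₂ := ⟨hb', hb⟩
        rw [hinf, Subgroup.mem_bot] at this
        exact this
      · intro h
        apply ha1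
        have ha' : a ∈ W₂ := by
          have : a = (a * b) * b⁻¹ := by group
          rw [this]
          exact W₂.mul_mem h (W₂.inv_mem hb)
        have : a ∈ W₁ ⊓ W₂ := ⟨ha, ha'⟩
        rw [hinf, Subgroup.mem_bot] at this
        exact this
  rw [himg, Finset.sum_image]
  rintro ⟨a, b⟩ hab ⟨a', b'⟩ hab' h
  rw [Finset.mem_coe, Finset.mem_product, mem_nonOne, mem_nonOne] at hab hab'
  obtain ⟨e1, e2⟩ := mul_eq_mul_of_inf_eq_bot hinf hab.1.1 hab'.1.1 hab.2.1 hab'.2.1 h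
  exact Prod.ext e1 e2

/-- a nontrivial linear character of `W` that is trivial on `K` sums to `0` over `H`, if
`W = H K` -/
theorem sum_char_eq_zero {W₁ W₂ : Subgroup G} {H K : Subgroup G} [Fintype ↥H] (hH : H ≤ W₁ ⊔ W₂)
    (hK : K ≤ W₁ ⊔ W₂)
    (hHK : ∀ w ∈ W₁ ⊔ W₂, ∃ a ∈ H, ∃ b ∈ K, w = a * b) (φ : WChar W₁ W₂)
    (hφ : TrivOn K φ) (hφ1 : φ ≠ 1) :
    ∑ a : ↥H, ((φ (Subgroup.inclusion hH a) : ℂˣ) : ℂ) = 0 := by
  classical
  let f : ↥H →* ℂ := (Units.coeHom ℂ).comp (φ.comp (Subgroup.inclusion hH))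
  have hf : f ≠ 1 := by
    intro h
    apply hφ1
    ext w
    obtain ⟨a, ha, b, hb, hw⟩ := hHK w.1 w.2
    have e : w = Subgroup.inclusion hH ⟨a, ha⟩ * ⟨b, hK hb⟩ := by
      apply Subtype.ext
      rw [hw]
      rfl
    have h1 : f ⟨a, ha⟩ = 1 := by
      rw [h]
      rfl
    have h2 : ((φ (Subgroup.inclusion hH ⟨a, ha⟩) : ℂˣ) : ℂ) = 1 := h1
    have h3 : φ ⟨b, hK hb⟩ = 1 := hφ ⟨b, hK hb⟩ hb
    rw [e, map_mul, h3, mul_one, h2]
    rfl
  exact sum_hom_units_eq_zero f hf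

/-- the extension by zero of a linear character of `W` to `G` -/
noncomputable def extW {W₁ W₂ : Subgroup G} (ω : WChar W₁ W₂) : G → ℂ := by
  classical
  exact fun g => if h : g ∈ W₁ ⊔ W₂ then ((ω ⟨g, h⟩ : ℂˣ) : ℂ) else 0

theorem extW_of_mem {W₁ W₂ : Subgroup G} (ω : WChar W₁ W₂) {g : G} (h : g ∈ W₁ ⊔ W₂) :
    extW ω g = ((ω ⟨g, h⟩ : ℂˣ) : ℂ) := by
  unfold extW
  rw [dif_pos h]

theorem extW_one {W₁ W₂ : Subgroup G} (ω : WChar W₁ W₂) : extW ω 1 = 1 := by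
  rw [extW_of_mem ω (Subgroup.one_mem _)]
  have : (⟨1, Subgroup.one_mem _⟩ : ↥(W₁ ⊔ W₂)) = 1 := rfl
  rw [this, map_one]
  rfl

theorem extW_mul_of_trivOn {W₁ W₂ H K : Subgroup G} (hH : H ≤ W₁ ⊔ W₂) (hK : K ≤ W₁ ⊔ W₂)
    (ω : WChar W₁ W₂) (hω : TrivOn K ω) {a b : G} (ha : a ∈ H) (hb : b ∈ K) :
    extW ω (a * b) = extW ω a := by
  rw [extW_of_mem ω (Subgroup.mul_mem _ (hH ha) (hK hb)), extW_of_mem ω (hH ha)]
  have e : (⟨a * b, Subgroup.mul_mem _ (hH ha) (hK hb)⟩ : ↥(W₁ ⊔ W₂)) =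
      ⟨a, hH ha⟩ * ⟨b, hK hb⟩ := rfl
  rw [e, map_mul, hω ⟨b, hK hb⟩ hb, mul_one]

theorem extW_mul_of_trivOn' {W₁ W₂ H K : Subgroup G} (hH : H ≤ W₁ ⊔ W₂) (hK : K ≤ W₁ ⊔ W₂)
    (ω : WChar W₁ W₂) (hω : TrivOn H ω) {a b : G} (ha : a ∈ H) (hb : b ∈ K) :
    extW ω (a * b) = extW ω b := by
  rw [extW_of_mem ω (Subgroup.mul_mem _ (hH ha) (hK hb)), extW_of_mem ω (hK hb)]
  have e : (⟨a * b, Subgroup.mul_mem _ (hH ha) (hK hb)⟩ : ↥(W₁ ⊔ W₂)) =
      ⟨a, hH ha⟩ * ⟨b, hK hb⟩ := rfl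
  rw [e, map_mul, hω ⟨a, hH ha⟩ ha, one_mul]

theorem norm_char_eq_one {W₁ W₂ : Subgroup G} (ω : WChar W₁ W₂) (w : ↥(W₁ ⊔ W₂)) :
    ‖((ω w : ℂˣ) : ℂ)‖ = 1 := by
  have h1 : ((ω w : ℂˣ) : ℂ) ^ Nat.card ↥(W₁ ⊔ W₂) = 1 := by
    rw [← Units.val_pow_eq_pow_val, ← map_pow, pow_card_eq_one', map_one]
    rfl
  exact Complex.norm_eq_one_of_pow_eq_one h1 Nat.card_pos.ne'

/-- sum of a nontrivial character, trivial on `K`, over the non-identity elements of `H` -/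
theorem sum_nonOne_extW {W₁ W₂ H K : Subgroup G} (hH : H ≤ W₁ ⊔ W₂) (hK : K ≤ W₁ ⊔ W₂)
    (hHK : ∀ w ∈ W₁ ⊔ W₂, ∃ a ∈ H, ∃ b ∈ K, w = a * b) (φ : WChar W₁ W₂)
    (hφ : TrivOn K φ) (hφ1 : φ ≠ 1) : ∑ a ∈ nonOne H, extW φ a = -1 := by
  classical
  rw [sum_nonOne, extW_one]
  have : ∑ a : ↥H, extW φ (a : G) = 0 := by
    rw [← sum_char_eq_zero hH hK hHK φ hφ hφ1]
    refine Finset.sum_congr rfl fun a _ => ?_
    rw [extW_of_mem φ (hH a.2)]
    rfl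
  rw [this, zero_sub]

/-- MODULE PF13-[WD] -/
theorem wData_of_family {W₁ W₂ : Subgroup G} (hW : IsSelfNormalizingCyclic W₁ W₂)
    {η : WChar W₁ W₂ → (G → ℂ)} (hη : IsCyclicTIFamily W₁ W₂ η) (φ ψ : WChar W₁ W₂)
    (hφ : TrivOn W₂ φ) (hψ : TrivOn W₁ ψ) (hφ1 : φ ≠ 1) (hψ1 : ψ ≠ 1) :
    WData (W₁ ⊔ W₂) (WHat W₁ W₂) (η (φ * ψ)) (Nat.card W₂) (Nat.card W₁) := by
  classical
  have hcomm := hW.2.2.2.1
  have hcyc := hW.2.2.2.2.1
  have hdec : ∀ w ∈ W₁ ⊔ W₂, ∃ a ∈ W₁, ∃ b ∈ W₂, w = a * b := fun w hw =>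
    mem_sup_of_comm' hcomm hw
  have hdec' : ∀ w ∈ W₁ ⊔ W₂, ∃ b ∈ W₂, ∃ a ∈ W₁, w = b * a := by
    intro w hw
    obtain ⟨a, ha, b, hb, rfl⟩ := hdec w hw
    exact ⟨b, hb, a, ha, hcomm a ha b hb⟩
  refine ⟨card_W' hW, ?_, fun g a ha hga => ti_WHat hW g a ha hga, ?_⟩
  · intro s hs a ha
    have haW := (mem_WHat.1 ha).1
    have hc : (⟨s, hs⟩ : ↥(W₁ ⊔ W₂)) * ⟨a, haW⟩ = ⟨a, haW⟩ * ⟨s, hs⟩ := by
      obtain ⟨g, hg⟩ := hcyc.exists_generator
      obtain ⟨i, hi⟩ := Subgroup.mem_zpowers_iff.mp (hg ⟨s, hs⟩)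
      obtain ⟨j, hj⟩ := Subgroup.mem_zpowers_iff.mp (hg ⟨a, haW⟩)
      rw [← hi, ← hj, ← zpow_add, ← zpow_add, add_comm]
    have hc' : s * a = a * s := congrArg Subtype.val hc
    have : s * a * s⁻¹ = a := by rw [hc', mul_inv_cancel_right]
    rw [this]
    exact ha
  · -- the sum
    have hval : ∀ w ∈ WHat W₁ W₂, η (φ * ψ) w = extW φ w * extW ψ w := by
      intro w hw
      obtain ⟨hwW, h1, h2⟩ := mem_WHat.1 hw
      have := hη.eq_on (φ * ψ) ⟨w, hwW⟩ h1 h2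
      rw [this, extW_of_mem φ hwW, extW_of_mem ψ hwW, MonoidHom.mul_apply, Units.val_mul]
    have hnorm : ∀ w ∈ WHat W₁ W₂, ‖η (φ * ψ) w‖ = 1 := by
      intro w hw
      obtain ⟨hwW, h1, h2⟩ := mem_WHat.1 hw
      have := hη.eq_on (φ * ψ) ⟨w, hwW⟩ h1 h2
      rw [this]
      exact norm_char_eq_one (φ * ψ) ⟨w, hwW⟩
    have hsum : ∑ w ∈ WHat W₁ W₂, η (φ * ψ) w = 1 := by
      rw [Finset.sum_congr rfl hval, sum_WHat hW]
      have h2 : ∀ a ∈ nonOne W₁, ∀ b ∈ nonOne W₂,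
          extW φ (a * b) * extW ψ (a * b) = extW φ a * extW ψ b := by
        intro a ha b hb
        rw [extW_mul_of_trivOn le_sup_left le_sup_right φ hφ (mem_nonOne.1 ha).1
          (mem_nonOne.1 hb).1, extW_mul_of_trivOn' le_sup_left le_sup_right ψ hψ
          (mem_nonOne.1 ha).1 (mem_nonOne.1 hb).1]
      rw [Finset.sum_congr rfl (fun a ha => Finset.sum_congr rfl (fun b hb => h2 a ha b hb)),
        ← Finset.sum_mul_sum,
        sum_nonOne_extW le_sup_left le_sup_right hdec φ hφ hφ1,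
        sum_nonOne_extW le_sup_right le_sup_left hdec' ψ hψ hψ1]
      norm_num
    have hcard : ((WHat W₁ W₂).card : ℂ) = ((nonOne W₁).card : ℂ) * ((nonOne W₂).card : ℂ) := by
      have := sum_WHat hW (fun _ => (1 : ℂ))
      simpa [Finset.sum_const] using this
    have hcardN : (WHat W₁ W₂).card = (Nat.card W₁ - 1) * (Nat.card W₂ - 1) := by
      have : ((WHat W₁ W₂).card : ℂ) = (((nonOne W₁).card * (nonOne W₂).card : ℕ) : ℂ) := by
        rw [hcard, Nat.cast_mul]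
      rw [Nat.cast_inj.1 this, card_nonOne, card_nonOne]
    have h1 : ∑ a ∈ WHat W₁ W₂, (‖η (φ * ψ) a‖ ^ 2 + (η (φ * ψ) a).re) =
        ((WHat W₁ W₂).card : ℝ) + (∑ a ∈ WHat W₁ W₂, η (φ * ψ) a).re := by
      rw [Complex.re_sum, Finset.sum_add_distrib]
      congr 1
      rw [Finset.sum_congr rfl (fun a ha => by rw [hnorm a ha, one_pow]), Finset.sum_const,
        nsmul_eq_mul, mul_one]
    rw [h1, hsum, hcardN, Nat.cast_mul, Nat.cast_sub Nat.card_pos, Nat.cast_sub Nat.card_pos]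
    simp only [Nat.cast_one, Complex.one_re]
    ring

end Cfsg.Agent.Lib.Helper11.PF13
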