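import Mathlib
import Cfsg.Prelude.Def_PLocal
import Cfsg.Prelude.Def_Local
import Cfsg.Agent.S0647
import Cfsg.Agent.Lib.Helper11.ZJ
import Cfsg.Agent.Lib.Helper54.PCores
import Cfsg.Agent.Lib.Helper34.SylowConj

/-!
# Glauberman's ZJ-theorem with `p`-stability required only for elements of `p`-power order
-/

set_option autoImplicit false
open Cfsg

namespace Cfsg.Agent.Lib.Helper11

open scoped commutatorElement

section ZJ2

variable {G : Type*} [Group G]

/-- The key step of the ZJ-theorem: `Z ⊓ B` is normal for every normal `p`-subgroup `B`. -/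
theorem famInf_inf_normal' [Finite G] {p : ℕ} [Fact p.Prime] (hp : p ≠ 2)
    {good : Subgroup G → Prop} (hbot : good ⊥)
    (hcomm : ∀ A, good A → IsMulCommutative A)
    (hmap : ∀ (φ : G ≃* G) (A : Subgroup G), good A → good (A.map φ.toMonoidHom))
    (hrep : ReplClosed p good)
    (hst : ∀ (V : Subgroup G) [V.Normal], IsPGroup p V → ∀ a : G, IsPGroup p (Subgroup.zpowers a) →
      ⁅⁅V, Subgroup.zpowers a⁆, Subgroup.zpowers a⁆ = ⊥ →
      (QuotientGroup.mk a : G ⧸ Subgroup.centralizer (V : Set G)) ∈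
        pCore p (G ⧸ Subgroup.centralizer (V : Set G))) (P : Sylow p G) :
    ∀ (n : ℕ) (B : Subgroup G), Nat.card B ≤ n → B.Normal → IsPGroup p B →
      (famInf good (P : Subgroup G) ⊓ B).Normal := by
  intro n
  induction n with
  | zero =>
    intro B hn
    have := Nat.card_pos (α := B)
    omega
  | succ n ih =>
    intro B hcard hBn hBp
    have := hBn
    have hZP : famInf good (P : Subgroup G) ≤ P := famInf_le hbot _
    have hPNZ : (P : Subgroup G) ≤ Subgroup.normalizer (famInf good (P : Subgroup G) : Set G) :=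
      Subgroup.le_normalizer.trans (normalizer_le_normalizer_famInf hmap _)
    have hBP : B ≤ P := hBp.le_sylow_of_normal P
    by_cases hBbot : B = ⊥
    · rw [hBbot, inf_bot_eq]; infer_instance
    have hB₁B : Subgroup.normalClosure ((famInf good (P : Subgroup G) ⊓ B : Subgroup G) : Set G) ≤ B :=
      Subgroup.normalClosure_le_normal (fun x hx => hx.2)
    have hZ₁B₁ : famInf good (P : Subgroup G) ⊓ B ≤
        Subgroup.normalClosure ((famInf good (P : Subgroup G) ⊓ B : Subgroup G) : Set G) :=
      Subgroup.subset_normalClosure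
    by_cases hB₁ : Subgroup.normalClosure ((famInf good (P : Subgroup G) ⊓ B : Subgroup G) : Set G) = B
    swap
    · have hlt : Nat.card (Subgroup.normalClosure
          ((famInf good (P : Subgroup G) ⊓ B : Subgroup G) : Set G)) < Nat.card B :=
        card_lt_of_lt (lt_of_le_of_ne hB₁B hB₁)
      have hn1 := ih _ (by omega) Subgroup.normalClosure_normal (hBp.to_le hB₁B)
      have : famInf good (P : Subgroup G) ⊓ Subgroup.normalClosure
          ((famInf good (P : Subgroup G) ⊓ B : Subgroup G) : Set G) =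
          famInf good (P : Subgroup G) ⊓ B :=
        le_antisymm (inf_le_inf_left _ hB₁B) (le_inf inf_le_left hZ₁B₁)
      rw [this] at hn1; exact hn1
    -- now B is the normal closure of Z ⊓ B
    have hDlt : ⁅B, B⁆ < B := commutator_lt_of_isPGroup B hBp hBbot
    have hDn : (⁅B, B⁆).Normal := Subgroup.commutator_normal B B
    have hDcard : Nat.card ↥⁅B, B⁆ < Nat.card B := card_lt_of_lt hDlt
    have hYn : (famInf good (P : Subgroup G) ⊓ ⁅B, B⁆).Normal :=
      ih _ (by omega) hDn (hBp.to_le hDlt.le)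
    -- Claim 1
    have hc1 : ∀ z ∈ famInf good (P : Subgroup G) ⊓ B, ∀ b ∈ B,
        ⁅z, b⁆ ∈ famInf good (P : Subgroup G) ⊓ ⁅B, B⁆ := by
      intro z hz b hb
      refine ⟨?_, Subgroup.commutator_mem_commutator hz.2 hb⟩
      have hbN : b ∈ Subgroup.normalizer (famInf good (P : Subgroup G) : Set G) := hPNZ (hBP hb)
      have h1 : b * z⁻¹ * b⁻¹ ∈ famInf good (P : Subgroup G) :=
        (Subgroup.mem_normalizer_iff.mp hbN z⁻¹).mp (Subgroup.inv_mem _ hz.1)
      have h2 : ⁅z, b⁆ = z * (b * z⁻¹ * b⁻¹) := by rw [commutatorElement_def]; group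
      show ⁅z, b⁆ ∈ famInf good (P : Subgroup G)
      rw [h2]; exact Subgroup.mul_mem _ hz.1 h1
    -- Claim 2
    have hc2 : ⁅B, B⁆ ≤ famInf good (P : Subgroup G) ⊓ ⁅B, B⁆ := by
      have hcl : Subgroup.closure (Group.conjugatesOfSet
          ((famInf good (P : Subgroup G) ⊓ B : Subgroup G) : Set G)) = B := hB₁
      have key := Cfsg.Agent.S0648.commutator_closure_le (Group.conjugatesOfSet
          ((famInf good (P : Subgroup G) ⊓ B : Subgroup G) : Set G))
          (famInf good (P : Subgroup G) ⊓ ⁅B, B⁆)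
          (by rw [Subgroup.normalizer_eq_top]; exact le_top) ?_
      · rwa [hcl] at key
      · intro x hx y hy
        have hyB : y ∈ B := by rw [← hcl]; exact Subgroup.subset_closure hy
        rw [Group.mem_conjugatesOfSet_iff] at hx
        obtain ⟨z, hz, hzx⟩ := hx
        obtain ⟨g, rfl⟩ := isConj_iff.mp hzx
        have h1 := hc1 z hz (g⁻¹ * y * g) (by
          have := hBn.conj_mem y hyB g⁻¹
          simpa using this)
        have h2 : ⁅g * z * g⁻¹, y⁆ = g * ⁅z, g⁻¹ * y * g⁆ * g⁻¹ := by
          simp only [commutatorElement_def]; group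
        rw [h2]; exact hYn.conj_mem _ h1 g
    -- Claim 3
    by_cases hall : ∀ U ∈ fam good (P : Subgroup G), B ≤ U
    · have hBZ : B ≤ famInf good (P : Subgroup G) := le_sInf hall
      rw [inf_of_le_right hBZ]; exact hBn
    push Not at hall
    obtain ⟨U, hU, hnBU⟩ := hall
    have hDU : ⁅B, B⁆ ≤ U := hc2.trans (inf_le_left.trans (famInf_le_mem hU))
    obtain ⟨A, hA, hDA, hnBA, hBNA⟩ :=
      replacement_in hp hcomm hrep P P.isPGroup' B hBP U hU hDU hnBU
    exfalso; apply hnBA
    have hAc : IsMulCommutative A := hcomm A hA.2.1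
    -- p-stability
    have hquad : ∀ a ∈ A, (QuotientGroup.mk a : G ⧸ Subgroup.centralizer (B : Set G)) ∈
        pCore p (G ⧸ Subgroup.centralizer (B : Set G)) := by
      intro a ha
      have hza : Subgroup.zpowers a ≤ A := (Subgroup.zpowers_le).mpr ha
      apply hst B hBp a (P.isPGroup'.to_le (hza.trans hA.1))
      have h1 : ⁅B, Subgroup.zpowers a⁆ ≤ A :=
        (Subgroup.commutator_mono le_rfl hza).trans
          (Subgroup.le_normalizer_iff_commutator_le_right.mp hBNA)
      rw [eq_bot_iff]
      calc ⁅⁅B, Subgroup.zpowers a⁆, Subgroup.zpowers a⁆ ≤ ⁅A, A⁆ := Subgroup.commutator_mono h1 hza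
        _ = ⊥ := Subgroup.commutator_self_eq_bot_iff.mpr hAc
    have hCn : (Subgroup.centralizer (B : Set G)).Normal := Subgroup.normal_centralizer
    have hKn : ((pCore p (G ⧸ Subgroup.centralizer (B : Set G))).comap
        (QuotientGroup.mk' (Subgroup.centralizer (B : Set G)))).Normal := inferInstance
    have hAK : A ≤ (pCore p (G ⧸ Subgroup.centralizer (B : Set G))).comap
        (QuotientGroup.mk' (Subgroup.centralizer (B : Set G))) := fun a ha => hquad a ha
    have hCK : Subgroup.centralizer (B : Set G) ≤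
        (pCore p (G ⧸ Subgroup.centralizer (B : Set G))).comap
        (QuotientGroup.mk' (Subgroup.centralizer (B : Set G))) := by
      intro c hc
      rw [Subgroup.mem_comap, QuotientGroup.mk'_apply, (QuotientGroup.eq_one_iff c).mpr hc]
      exact one_mem _
    generalize hK : (pCore p (G ⧸ Subgroup.centralizer (B : Set G))).comap
        (QuotientGroup.mk' (Subgroup.centralizer (B : Set G))) = K at hKn hAK hCK
    have := hKn
    obtain ⟨T', hT'⟩ := Cfsg.Agent.Lib.Helper47.exists_sylow_eq_subgroupOf_of_normal P K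
    have hfrat := Sylow.normalizer_sup_eq_top T'
    have hTmap : (T' : Subgroup ↥K).map K.subtype = (P : Subgroup G) ⊓ K := by
      rw [hT', Subgroup.subgroupOf_map_subtype]
    rw [hTmap] at hfrat
    have hAT : A ≤ (P : Subgroup G) ⊓ K := le_inf hA.1 hAK
    have hTP : (P : Subgroup G) ⊓ K ≤ P := inf_le_left
    have hKTC : K ≤ ((P : Subgroup G) ⊓ K) ⊔ Subgroup.centralizer (B : Set G) := by
      intro k hk
      have hk' : (QuotientGroup.mk k : G ⧸ Subgroup.centralizer (B : Set G)) ∈
          pCore p (G ⧸ Subgroup.centralizer (B : Set G)) := by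
        rw [← hK] at hk; exact hk
      obtain ⟨s, hs, c, hc, rfl⟩ := Cfsg.Agent.Lib.Helper97.exists_mem_sylow_mk_eq
        (Subgroup.centralizer (B : Set G)) (pCore p (G ⧸ Subgroup.centralizer (B : Set G)))
        (Cfsg.Agent.Lib.Helper97.isPGroup_pCore p _) P hk'
      have hsK : s ∈ K := by
        have : s = (s * c) * c⁻¹ := by group
        rw [this]; exact K.mul_mem hk (K.inv_mem (hCK hc))
      exact Subgroup.mul_mem_sup ⟨hs, hsK⟩ hc
    have hZX : famInf good (P : Subgroup G) ≤ famInf good ((P : Subgroup G) ⊓ K) :=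
      famInf_le_of_le hA hAT hTP
    have hXA : famInf good ((P : Subgroup G) ⊓ K) ≤ A := famInf_le_mem (fam_mem_of_le hA hAT hTP)
    have hNT : Subgroup.normalizer (((P : Subgroup G) ⊓ K : Subgroup G) : Set G) ≤
        Subgroup.normalizer ((famInf good ((P : Subgroup G) ⊓ K) ⊓ B : Subgroup G) : Set G) := by
      intro g hg
      have hgX := normalizer_le_normalizer_famInf hmap _ hg
      rw [Subgroup.mem_normalizer_iff] at hgX ⊢
      intro x
      constructor
      · rintro ⟨hx1, hx2⟩; exact ⟨(hgX x).mp hx1, hBn.conj_mem x hx2 g⟩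
      · rintro ⟨hx1, hx2⟩
        refine ⟨(hgX x).mpr hx1, ?_⟩
        have := hBn.conj_mem _ hx2 g⁻¹
        simpa [mul_assoc] using this
    have hNC : Subgroup.centralizer (B : Set G) ≤
        Subgroup.normalizer ((famInf good ((P : Subgroup G) ⊓ K) ⊓ B : Subgroup G) : Set G) := by
      intro c hc
      apply Subgroup.mem_normalizer_fintype
      intro x hx
      have hxB : x ∈ B := hx.2
      have h1 : x * c = c * x := Subgroup.mem_centralizer_iff.mp hc x hxB
      have : c * x * c⁻¹ = x := by rw [← h1]; group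
      rw [this]; exact hx
    have hNX : (famInf good ((P : Subgroup G) ⊓ K) ⊓ B).Normal := by
      rw [← Subgroup.normalizer_eq_top_iff, eq_top_iff, ← hfrat]
      apply sup_le hNT
      exact hKTC.trans (sup_le (Subgroup.le_normalizer.trans hNT) hNC)
    have hfin := Subgroup.normalClosure_le_normal (N := famInf good ((P : Subgroup G) ⊓ K) ⊓ B)
      (s := ((famInf good (P : Subgroup G) ⊓ B : Subgroup G) : Set G))
      (fun x hx => ⟨hZX hx.1, hx.2⟩)
    rw [hB₁] at hfin
    exact hfin.trans (inf_le_left.trans hXA)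

/-- The ZJ-theorem, normal version. -/
theorem famInf_normal' [Finite G] {p : ℕ} [Fact p.Prime] (hp : p ≠ 2)
    {good : Subgroup G → Prop} (hbot : good ⊥)
    (hcomm : ∀ A, good A → IsMulCommutative A)
    (hmap : ∀ (φ : G ≃* G) (A : Subgroup G), good A → good (A.map φ.toMonoidHom))
    (hrep : ReplClosed p good)
    (hc : Subgroup.centralizer (pCore p G : Set G) ≤ pCore p G)
    (hst : ∀ (V : Subgroup G) [V.Normal], IsPGroup p V → ∀ a : G, IsPGroup p (Subgroup.zpowers a) →
      ⁅⁅V, Subgroup.zpowers a⁆, Subgroup.zpowers a⁆ = ⊥ →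
      (QuotientGroup.mk a : G ⧸ Subgroup.centralizer (V : Set G)) ∈
        pCore p (G ⧸ Subgroup.centralizer (V : Set G))) (P : Sylow p G) :
    (famInf good (P : Subgroup G)).Normal := by
  have hQn : (pCore p G).Normal := inferInstance
  have hQp : IsPGroup p (pCore p G) := Cfsg.Agent.Lib.Helper97.isPGroup_pCore p G
  have h1 := famInf_inf_normal' hp hbot hcomm hmap hrep hst P _ (pCore p G) le_rfl hQn hQp
  have hPNZ : (P : Subgroup G) ≤ Subgroup.normalizer (famInf good (P : Subgroup G) : Set G) :=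
    Subgroup.le_normalizer.trans (normalizer_le_normalizer_famInf hmap _)
  have hQP : pCore p G ≤ P := Cfsg.Agent.Lib.Helper97.pCore_le_sylow' P
  have hZc := famInf_isMulCommutative hbot hcomm (P : Subgroup G)
  have hZQ : famInf good (P : Subgroup G) ≤ pCore p G := by
    intro z hz
    have hquad : ⁅⁅pCore p G, Subgroup.zpowers z⁆, Subgroup.zpowers z⁆ = ⊥ := by
      have hzz : Subgroup.zpowers z ≤ famInf good (P : Subgroup G) := (Subgroup.zpowers_le).mpr hz
      have h2 : ⁅pCore p G, Subgroup.zpowers z⁆ ≤ famInf good (P : Subgroup G) :=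
        (Subgroup.commutator_mono le_rfl hzz).trans
          (Subgroup.le_normalizer_iff_commutator_le_right.mp (hQP.trans hPNZ))
      rw [eq_bot_iff]
      calc ⁅⁅pCore p G, Subgroup.zpowers z⁆, Subgroup.zpowers z⁆
          ≤ ⁅famInf good (P : Subgroup G), famInf good (P : Subgroup G)⁆ :=
            Subgroup.commutator_mono h2 hzz
        _ = ⊥ := Subgroup.commutator_self_eq_bot_iff.mpr hZc
    have hmk := hst (pCore p G) hQp z
      (P.isPGroup'.to_le (((Subgroup.zpowers_le).mpr hz).trans (famInf_le hbot _))) hquad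
    have hCn : (Subgroup.centralizer (pCore p G : Set G)).Normal := Subgroup.normal_centralizer
    have hLn : ((pCore p (G ⧸ Subgroup.centralizer (pCore p G : Set G))).comap
        (QuotientGroup.mk' (Subgroup.centralizer (pCore p G : Set G)))).Normal := inferInstance
    have hLp : IsPGroup p ((pCore p (G ⧸ Subgroup.centralizer (pCore p G : Set G))).comap
        (QuotientGroup.mk' (Subgroup.centralizer (pCore p G : Set G)))) := by
      apply (Cfsg.Agent.Lib.Helper97.isPGroup_pCore p _).comap_of_ker_isPGroup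
      rw [QuotientGroup.ker_mk']
      exact hQp.to_le hc
    exact Cfsg.Agent.Lib.Helper97.le_pCore_of_normal hLn hLp hmk
  rw [inf_of_le_left hZQ] at h1; exact h1

/-- The ZJ-theorem, characteristic version. -/
theorem famInf_characteristic' [Finite G] {p : ℕ} [Fact p.Prime] (hp : p ≠ 2)
    {good : Subgroup G → Prop} (hbot : good ⊥)
    (hcomm : ∀ A, good A → IsMulCommutative A)
    (hmap : ∀ (φ : G ≃* G) (A : Subgroup G), good A → good (A.map φ.toMonoidHom))
    (hrep : ReplClosed p good)
    (hc : Subgroup.centralizer (pCore p G : Set G) ≤ pCore p G)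
    (hst : ∀ (V : Subgroup G) [V.Normal], IsPGroup p V → ∀ a : G, IsPGroup p (Subgroup.zpowers a) →
      ⁅⁅V, Subgroup.zpowers a⁆, Subgroup.zpowers a⁆ = ⊥ →
      (QuotientGroup.mk a : G ⧸ Subgroup.centralizer (V : Set G)) ∈
        pCore p (G ⧸ Subgroup.centralizer (V : Set G))) (P : Sylow p G) :
    (famInf good (P : Subgroup G)).Characteristic := by
  have hn := famInf_normal' hp hbot hcomm hmap hrep hc hst P
  rw [Subgroup.characteristic_iff_map_eq]
  intro φ
  obtain ⟨g, hg⟩ := MulAction.exists_smul_eq G P ((φ : MulAut G) • P)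
  have h1 : ((g • P : Sylow p G) : Subgroup G) = (P : Subgroup G).map (MulAut.conj g).toMonoidHom := by
    rw [Sylow.coe_subgroup_smul]; rfl
  have h2 : (((φ : MulAut G) • P : Sylow p G) : Subgroup G) = (P : Subgroup G).map φ.toMonoidHom := by
    rw [Sylow.pointwise_smul_def]; rfl
  have h3 : (P : Subgroup G).map φ.toMonoidHom = (P : Subgroup G).map (MulAut.conj g).toMonoidHom := by
    rw [← h1, ← h2, hg]
  rw [← famInf_map_equiv hmap φ, h3, famInf_map_equiv hmap]
  have hg' : g ∈ Subgroup.normalizer (famInf good (P : Subgroup G) : Set G) := by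
    rw [Subgroup.normalizer_eq_top_iff.mpr hn]; exact Subgroup.mem_top g
  exact Subgroup.mem_normalizer_iff_map_conj_eq.mp hg'


/-! ### Transport of `pCore` membership in quotients -/

theorem mem_pCore_quotient_iff_of_surjective {G H : Type*} [Group G] [Group H] {p : ℕ}
    (f : G →* H) (hf : Function.Surjective f) (C : Subgroup G) [C.Normal] (C' : Subgroup H)
    [C'.Normal] (hC : C = C'.comap f) (x : G) :
    (QuotientGroup.mk x : G ⧸ C) ∈ pCore p (G ⧸ C) ↔
      (QuotientGroup.mk (f x) : H ⧸ C') ∈ pCore p (H ⧸ C') := by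
  have hφ : Function.Surjective ((QuotientGroup.mk' C').comp f) :=
    (QuotientGroup.mk'_surjective C').comp hf
  have hker : C = ((QuotientGroup.mk' C').comp f).ker := by
    rw [← MonoidHom.comap_ker, QuotientGroup.ker_mk', hC]
  let e : G ⧸ C ≃* H ⧸ C' :=
    (QuotientGroup.quotientMulEquivOfEq hker).trans
      (QuotientGroup.quotientKerEquivOfSurjective _ hφ)
  have he : e (QuotientGroup.mk x) = QuotientGroup.mk (f x) := rfl
  rw [← he, ← Cfsg.Agent.Lib.Helper97.pCore_map_equiv e p, Subgroup.mem_map_equiv]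
  simp

/-- Gorenstein-style `p`-stability with trivial `p'`-core gives the element-wise stability used by the
ZJ-theorem. -/
theorem hst_of_isPStable {G : Type*} [Group G] [Finite G] {p : ℕ} [Fact p.Prime]
    (hO : pPrimeCore p G = ⊥) (hs : IsPStable p G) :
    ∀ (V : Subgroup G) [V.Normal], IsPGroup p V → ∀ a : G, IsPGroup p (Subgroup.zpowers a) →
      ⁅⁅V, Subgroup.zpowers a⁆, Subgroup.zpowers a⁆ = ⊥ →
      (QuotientGroup.mk a : G ⧸ Subgroup.centralizer (V : Set G)) ∈
        pCore p (G ⧸ Subgroup.centralizer (V : Set G)) := by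
  intro V hVn hVp a ha hquad
  obtain ⟨_, _, h⟩ := hs
  have hVle : V ≤ pPrimePCore p G := by
    rw [Cfsg.Agent.Lib.Helper54.pPrimePCore_eq_pCore_of_pPrimeCore_eq_bot p hO]
    exact Cfsg.Agent.Lib.Helper97.le_pCore_of_normal hVn hVp
  have hnorm : (pPrimeCore p G ⊔ V).Normal := by rw [hO, bot_sup_eq]; exact hVn
  have h1 := h (Subgroup.zpowers a) V ha hVp (fun b _ x hx => hVn.conj_mem x hx b) hVle hnorm hquad
  have hN : Subgroup.normalizer (V : Set G) = ⊤ := Subgroup.normalizer_eq_top_iff.mpr hVn
  have haN : a ∈ Subgroup.normalizer (V : Set G) := by rw [hN]; trivial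
  have h2 := h1 (Subgroup.mem_map_of_mem _ (show (⟨a, haN⟩ : ↥(Subgroup.normalizer (V : Set G))) ∈
    (Subgroup.zpowers a).subgroupOf (Subgroup.normalizer (V : Set G)) from
      Subgroup.mem_subgroupOf.mpr (Subgroup.mem_zpowers a)))
  have hsurj : Function.Surjective (Subgroup.normalizer (V : Set G)).subtype := by
    intro g
    exact ⟨⟨g, by rw [hN]; trivial⟩, rfl⟩
  exact (mem_pCore_quotient_iff_of_surjective (p := p) (Subgroup.normalizer (V : Set G)).subtype hsurj
    ((Subgroup.centralizer (V : Set G)).subgroupOf (Subgroup.normalizer (V : Set G)))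
    (Subgroup.centralizer (V : Set G)) rfl ⟨a, haN⟩).mp h2

/-! ### `ZJ` written as `famInf` and its transport along injective maps -/

/-- `zj T`: the intersection of the abelian subgroups of `T` of largest order. -/
abbrev zj {G : Type*} [Group G] (T : Subgroup G) : Subgroup G :=
  famInf (fun A : Subgroup G => IsMulCommutative A) T

theorem isMulCommutative_bot'' {G : Type*} [Group G] : IsMulCommutative (⊥ : Subgroup G) := by
  refine ⟨⟨?_⟩⟩
  rintro ⟨a, ha⟩ ⟨b, hb⟩
  rw [Subgroup.mem_bot] at ha hb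
  subst ha hb
  rfl

theorem mem_image_maxAbelian_of_injective {D G : Type*} [Group D] [Finite D] [Group G]
    (j : D →* G) (hj : Function.Injective j) (U : Subgroup G) :
    U ∈ Set.image (fun A : Subgroup D => A.map j) (maxAbelianSubgroups D) ↔
      U ∈ fam (fun A : Subgroup G => IsMulCommutative A) j.range := by
  constructor
  · rintro ⟨A, ⟨hAc, hAmax⟩, rfl⟩
    refine ⟨Subgroup.map_le_range j A, Subgroup.map_isMulCommutative A j, ?_⟩
    intro V hVr hVc
    have hVc' : IsMulCommutative (V.comap j) := Subgroup.comap_injective_isMulCommutative V hj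
    have h1 : Nat.card (V.comap j) = Nat.card V := by
      rw [← Subgroup.card_map_of_injective (K := V.comap j) hj, Subgroup.map_comap_eq_self hVr]
    have h2 := hAmax (V.comap j) hVc'
    show Nat.card V ≤ Nat.card (A.map j)
    rw [Subgroup.card_map_of_injective hj, ← h1]
    exact h2
  · rintro ⟨hUr, hUc, hUmax⟩
    have hUc' : IsMulCommutative (U.comap j) := Subgroup.comap_injective_isMulCommutative U hj
    have hmap : (U.comap j).map j = U := Subgroup.map_comap_eq_self hUr
    refine ⟨U.comap j, ⟨hUc', ?_⟩, hmap⟩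
    intro B hB
    have h1 : Nat.card (U.comap j) = Nat.card U := by
      rw [← Subgroup.card_map_of_injective (K := U.comap j) hj, hmap]
    rw [h1, ← Subgroup.card_map_of_injective (K := B) hj]
    exact hUmax _ (Subgroup.map_le_range j B) (Subgroup.map_isMulCommutative B j)

theorem map_sInf_maxAbelian_eq_zj {D G : Type*} [Group D] [Finite D] [Group G] [Finite G]
    (j : D →* G) (hj : Function.Injective j) :
    (sInf (maxAbelianSubgroups D)).map j = zj j.range := by
  ext x
  unfold zj famInf
  rw [Subgroup.mem_sInf]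
  constructor
  · rintro ⟨y, hy, rfl⟩ A hA
    rw [SetLike.mem_coe, Subgroup.mem_sInf] at hy
    obtain ⟨A', hA', rfl⟩ := (mem_image_maxAbelian_of_injective j hj A).mpr hA
    exact ⟨y, hy A' hA', rfl⟩
  · intro hx
    obtain ⟨A₀, hA₀⟩ := fam_nonempty (fun A : Subgroup G => IsMulCommutative A)
      isMulCommutative_bot'' j.range
    obtain ⟨y, rfl⟩ := hA₀.1 (hx A₀ hA₀)
    refine ⟨y, ?_, rfl⟩
    rw [SetLike.mem_coe, Subgroup.mem_sInf]
    intro A' hA'
    have h1 : A'.map j ∈ fam (fun A : Subgroup G => IsMulCommutative A) j.range :=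
      (mem_image_maxAbelian_of_injective j hj _).mp ⟨A', hA', rfl⟩
    obtain ⟨a, ha, hay⟩ := hx _ h1
    have : a = y := hj hay
    rw [← this]; exact ha

/-- `ZJ` commutes with homomorphisms that are injective on the subgroup. -/
theorem zj_map {G H : Type*} [Group G] [Finite G] [Group H] [Finite H] (f : G →* H)
    (P : Subgroup G) (hinj : Set.InjOn f (P : Set G)) : zj (P.map f) = (zj P).map f := by
  have hj2 : Function.Injective (f.comp P.subtype) := by
    intro x y hxy
    exact Subtype.ext (hinj x.2 y.2 hxy)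
  have h1 := map_sInf_maxAbelian_eq_zj P.subtype P.subtype_injective
  have h2 := map_sInf_maxAbelian_eq_zj (f.comp P.subtype) hj2
  rw [Subgroup.range_subtype] at h1
  have hr : (f.comp P.subtype).range = P.map f := by
    rw [MonoidHom.range_eq_map, ← Subgroup.map_map, ← MonoidHom.range_eq_map, Subgroup.range_subtype]
  rw [hr] at h2
  rw [← h2, ← h1, Subgroup.map_map]

theorem center_le_sInf_maxAbelian {D : Type*} [Group D] [Finite D] :
    Subgroup.center D ≤ sInf (maxAbelianSubgroups D) := by
  intro z hz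
  rw [Subgroup.mem_sInf]
  intro A hA
  apply Cfsg.Agent.S0647.mem_of_centralizes A hA.1
    (fun B hB hAB => (Subgroup.eq_of_le_of_card_ge hAB (hA.2 B hB)).symm) z
  exact Subgroup.center_le_centralizer _ hz

theorem zj_ne_bot {G : Type*} [Group G] [Finite G] {p : ℕ} [Fact p.Prime] (R : Subgroup G)
    (hR : IsPGroup p R) (hne : R ≠ ⊥) : zj R ≠ ⊥ := by
  have : Nontrivial ↥R := (Subgroup.nontrivial_iff_ne_bot R).mpr hne
  have hc : Nontrivial (Subgroup.center ↥R) := hR.center_nontrivial
  obtain ⟨⟨z, hz⟩, hz1⟩ := exists_ne (1 : Subgroup.center ↥R)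
  have h1 := map_sInf_maxAbelian_eq_zj R.subtype R.subtype_injective
  rw [Subgroup.range_subtype] at h1
  intro hbot
  have h2 : R.subtype z ∈ zj R := by
    rw [← h1]
    exact Subgroup.mem_map_of_mem _ (center_le_sInf_maxAbelian hz)
  rw [hbot, Subgroup.mem_bot] at h2
  apply hz1
  apply Subtype.ext
  apply Subtype.ext
  simpa using h2

theorem zj_le {G : Type*} [Group G] [Finite G] (T : Subgroup G) : zj T ≤ T :=
  famInf_le isMulCommutative_bot'' T

theorem normalizer_le_normalizer_zj {G : Type*} [Group G] [Finite G] (T : Subgroup G) :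
    Subgroup.normalizer (T : Set G) ≤ Subgroup.normalizer ((zj T : Subgroup G) : Set G) :=
  normalizer_le_normalizer_famInf (good := fun A : Subgroup G => IsMulCommutative A)
    (fun _ _ _ => Subgroup.map_isMulCommutative _ _) T

/-- The ZJ-theorem in Gorenstein's vocabulary, trivial `p'`-core. -/
theorem zj_normal_of_isPStable {G : Type*} [Group G] [Finite G] {p : ℕ} [Fact p.Prime]
    (hp : p ≠ 2) (hO : pPrimeCore p G = ⊥) (hc : IsPConstrained p G) (hs : IsPStable p G)
    (P : Sylow p G) : (zj (P : Subgroup G)).Normal :=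
  famInf_normal' hp isMulCommutative_bot'' (fun _ h => h)
    (fun _ _ _ => Subgroup.map_isMulCommutative _ _) (replClosed_comm hp)
    ((Cfsg.Agent.Lib.Helper54.isPConstrained_iff_of_pPrimeCore_eq_bot p hO).mp hc)
    (hst_of_isPStable hO hs) P

/-- The ZJ-theorem inside a subgroup `N` of `G`. -/
theorem le_normalizer_zj_of_sylow {G : Type*} [Group G] [Finite G] {p : ℕ} [Fact p.Prime]
    (hp : p ≠ 2) (N : Subgroup G) (hO : pPrimeCore p ↥N = ⊥) (hc : IsPConstrained p ↥N)
    (hs : IsPStable p ↥N) (R' : Sylow p ↥N) :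
    N ≤ Subgroup.normalizer ((zj ((R' : Subgroup ↥N).map N.subtype) : Subgroup G) : Set G) := by
  have hn := zj_normal_of_isPStable hp hO hc hs R'
  rw [zj_map N.subtype (R' : Subgroup ↥N) (N.subtype_injective.injOn)]
  intro g hg
  apply Subgroup.le_normalizer_map N.subtype
  refine ⟨⟨g, hg⟩, ?_, rfl⟩
  rw [Subgroup.normalizer_eq_top_iff.mpr hn]
  trivial

/-- Sylow conjugation inside a subgroup `M` containing the Sylow subgroup `P`. -/
theorem exists_conj_le_sylow_of_le {G : Type*} [Group G] [Finite G] {p : ℕ} [Fact p.Prime]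
    (P : Sylow p G) (M R : Subgroup G) (hPM : (P : Subgroup G) ≤ M) (hRM : R ≤ M)
    (hR : IsPGroup p R) : ∃ m ∈ M, R.map (MulAut.conj m).toMonoidHom ≤ P := by
  have hR' : IsPGroup p (R.subgroupOf M) := hR.comap_of_injective M.subtype M.subtype_injective
  obtain ⟨Q', hQ'⟩ := hR'.exists_le_sylow
  obtain ⟨m, hm⟩ := MulAction.exists_smul_eq ↥M Q' (P.subtype hPM)
  refine ⟨m, m.2, ?_⟩
  rintro _ ⟨r, hr, rfl⟩
  have h1 : (⟨r, hRM hr⟩ : ↥M) ∈ Q' := hQ' (Subgroup.mem_subgroupOf.mpr hr)
  have h2 : m * ⟨r, hRM hr⟩ * m⁻¹ ∈ ((m • Q' : Sylow p ↥M) : Subgroup ↥M) := by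
    rw [Cfsg.Agent.Lib.Helper34.mem_sylow_smul_iff]
    have : m⁻¹ * (m * ⟨r, hRM hr⟩ * m⁻¹) * m = ⟨r, hRM hr⟩ := by group
    rw [this]; exact h1
  rw [hm, Sylow.coe_subtype, Subgroup.mem_subgroupOf] at h2
  simpa using h2

end ZJ2

end Cfsg.Agent.Lib.Helper11
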