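import Mathlib

set_option autoImplicit false

namespace Cfsg.Agent.Lib.Helper11.Agemo

open Finset

/-- binomial expansion of `(1 + x)^p` keeping the terms of degree `0, 1, p` -/
theorem one_add_pow_prime {Q : Type*} [CommRing Q] {p : ℕ} (hp : p.Prime) (x : Q) :
    ∃ v : Q, (1 + x) ^ p = 1 + (p : Q) * x + (p : Q) * x * (x * v) + x ^ p := by
  obtain ⟨q, rfl⟩ : ∃ q, p = q + 2 := ⟨p - 2, by have := hp.two_le; omega⟩
  refine ⟨∑ m ∈ range q, x ^ m * (((q + 2).choose (m + 2) / (q + 2) : ℕ) : Q), ?_⟩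
  rw [add_comm 1 x, add_pow]
  simp only [one_pow, mul_one]
  rw [Finset.sum_range_succ, Finset.sum_range_succ', Finset.sum_range_succ']
  simp only [Nat.choose_self, Nat.cast_one, mul_one, pow_zero, Nat.choose_zero_right, zero_add,
    pow_one, Nat.choose_one_right]
  have hterm : ∀ m ∈ range q, x ^ (m + 1 + 1) * (((q + 2).choose (m + 1 + 1) : ℕ) : Q)
      = ((q + 2 : ℕ) : Q) * x * (x * (x ^ m * (((q + 2).choose (m + 2) / (q + 2) : ℕ) : Q))) := by
    intro m hm
    have hm' : m < q := Finset.mem_range.mp hm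
    have hdvd : (q + 2) ∣ (q + 2).choose (m + 2) :=
      hp.dvd_choose_self (by omega) (by omega)
    obtain ⟨k, hk⟩ := hdvd
    have hk2 : (q + 2).choose (m + 2) / (q + 2) = k := by
      rw [hk]; exact Nat.mul_div_cancel_left k (by omega)
    rw [hk2, show m + 1 + 1 = m + 2 from rfl, hk]
    push_cast
    ring
  rw [Finset.sum_congr rfl hterm, ← Finset.mul_sum, ← Finset.mul_sum]
  push_cast
  ring

/-- key ring lemma: `(1+x)^p = 1` and `x^(n(p-1)+1) = 0` force `p^n x = 0` -/
theorem prime_pow_mul_eq_zero {Q : Type*} [CommRing Q] {p : ℕ} (hp : p.Prime) (n : ℕ) (x : Q)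
    (h1 : (1 + x) ^ p = 1) (h2 : x ^ (n * (p - 1) + 1) = 0) : (p : Q) ^ n * x = 0 := by
  obtain ⟨v, hv⟩ := one_add_pow_prime hp x
  rw [h1] at hv
  -- y = a + b y with y = p x, a = - x^p, b = - x v
  have hy : (p : Q) * x = -x ^ p + (-(x * v)) * ((p : Q) * x) := by
    linear_combination -hv
  have hiter : ∀ m : ℕ, (p : Q) * x
      = -x ^ p * (∑ i ∈ range m, (-(x * v)) ^ i) + (-(x * v)) ^ m * ((p : Q) * x) := by
    intro m
    induction m with
    | zero => simp
    | succ m ih =>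
      rw [Finset.sum_range_succ, pow_succ]
      have := hy
      linear_combination ih + (-(x * v)) ^ m * this
  set c := n * (p - 1) + 1 with hc
  have hb : (-(x * v)) ^ c = 0 := by
    rw [neg_pow, mul_pow, h2]; ring
  obtain ⟨w, hw⟩ : ∃ w : Q, (p : Q) * x = x ^ p * w := by
    refine ⟨-(∑ i ∈ range c, (-(x * v)) ^ i), ?_⟩
    have := hiter c
    rw [hb, zero_mul, add_zero] at this
    rw [this]; ring
  have hk : ∀ k : ℕ, (p : Q) ^ k * x = x ^ (k * (p - 1) + 1) * w ^ k := by
    intro k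
    induction k with
    | zero => simp
    | succ k ih =>
      have hpp : k * (p - 1) + p = (k + 1) * (p - 1) + 1 := by
        have := hp.two_le
        have : p - 1 + 1 = p := by omega
        calc k * (p - 1) + p = k * (p - 1) + (p - 1 + 1) := by rw [this]
          _ = (k + 1) * (p - 1) + 1 := by ring
      calc (p : Q) ^ (k + 1) * x = (p : Q) * ((p : Q) ^ k * x) := by ring
        _ = (p : Q) * (x ^ (k * (p - 1) + 1) * w ^ k) := by rw [ih]
        _ = x ^ (k * (p - 1)) * ((p : Q) * x) * w ^ k := by ring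
        _ = x ^ (k * (p - 1)) * (x ^ p * w) * w ^ k := by rw [hw]
        _ = x ^ (k * (p - 1) + p) * w ^ (k + 1) := by ring
        _ = x ^ ((k + 1) * (p - 1) + 1) * w ^ (k + 1) := by rw [hpp]
  rw [hk n, h2, zero_mul]

open Polynomial

/-- noncommutative version of `prime_pow_mul_eq_zero` -/
theorem prime_pow_mul_eq_zero' {E : Type*} [Ring E] {p : ℕ} (hp : p.Prime) (n : ℕ) (D : E)
    (h1 : (1 + D) ^ p = 1) (h2 : D ^ (n * (p - 1) + 1) = 0) : (p : E) ^ n * D = 0 := by
  let φ : ℤ[X] →+* E := (Polynomial.aeval D : ℤ[X] →ₐ[ℤ] E).toRingHom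
  have hφX : φ X = D := Polynomial.aeval_X D
  let I : Ideal ℤ[X] := RingHom.ker φ
  let x : ℤ[X] ⧸ I := Ideal.Quotient.mk I X
  have e1 : (1 + x) ^ p = 1 := by
    have : (1 + x) ^ p - 1 = Ideal.Quotient.mk I ((1 + X) ^ p - 1) := by
      simp [x]
    have h0 : Ideal.Quotient.mk I ((1 + X) ^ p - 1) = 0 := by
      rw [Ideal.Quotient.eq_zero_iff_mem, RingHom.mem_ker]
      rw [map_sub, map_pow, map_add, map_one, hφX, h1, sub_self]
    rw [h0] at this
    exact sub_eq_zero.mp this
  have e2 : x ^ (n * (p - 1) + 1) = 0 := by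
    have : x ^ (n * (p - 1) + 1) = Ideal.Quotient.mk I (X ^ (n * (p - 1) + 1)) := by
      simp [x]
    rw [this, Ideal.Quotient.eq_zero_iff_mem, RingHom.mem_ker, map_pow, hφX, h2]
  have e3 := prime_pow_mul_eq_zero hp n x e1 e2
  have e4 : ((p : ℤ[X] ⧸ I)) ^ n * x = Ideal.Quotient.mk I ((p : ℤ[X]) ^ n * X) := by
    simp [x]
  rw [e4, Ideal.Quotient.eq_zero_iff_mem, RingHom.mem_ker, map_mul, map_pow, map_natCast, hφX] at e3
  exact e3

/-- group form: an endomorphism `τ` of an abelian group with `τ^p = 1` and `(τ - 1)^(n(p-1)+1) = 0`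
fixes all `p^n`-th powers -/
theorem map_pow_eq_of_iterate {A : Type*} [CommGroup A] {p : ℕ} (hp : p.Prime) (n : ℕ) (τ : A →* A)
    (hτ : ∀ a, τ^[p] a = a)
    (hδ : ∀ a, (fun b => τ b * b⁻¹)^[n * (p - 1) + 1] a = 1) (a : A) :
    τ (a ^ (p ^ n)) = a ^ (p ^ n) := by
  let T' : AddMonoid.End (Additive A) := MonoidHom.toAdditive τ
  let D : AddMonoid.End (Additive A) := T' - 1
  have hT : ∀ (k : ℕ) (m : Additive A), (T' ^ k) m = Additive.ofMul (τ^[k] m.toMul) := by
    intro k
    induction k with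
    | zero => intro m; rfl
    | succ k ih =>
      intro m
      rw [pow_succ', Function.iterate_succ_apply']
      show T' ((T' ^ k) m) = _
      rw [ih]
      rfl
  have hDapp : ∀ m : Additive A, D m = Additive.ofMul (τ m.toMul * (m.toMul)⁻¹) := by
    intro m
    show T' m - m = _
    rw [← div_eq_mul_inv, ofMul_div]
    rfl
  have hD : ∀ (k : ℕ) (m : Additive A),
      (D ^ k) m = Additive.ofMul ((fun b => τ b * b⁻¹)^[k] m.toMul) := by
    intro k
    induction k with
    | zero => intro m; rfl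
    | succ k ih =>
      intro m
      rw [pow_succ', Function.iterate_succ_apply']
      show D ((D ^ k) m) = _
      rw [ih, hDapp]
      rfl
  have h1 : (1 + D) ^ p = 1 := by
    have : 1 + D = T' := by simp [D]
    rw [this]
    ext m
    rw [hT, hτ]
    rfl
  have h2 : D ^ (n * (p - 1) + 1) = 0 := by
    ext m
    rw [hD, hδ]
    rfl
  have h3 := prime_pow_mul_eq_zero' hp n D h1 h2
  have h4 := congrArg (fun f : AddMonoid.End (Additive A) => f (Additive.ofMul a)) h3
  have h5 : ((p : AddMonoid.End (Additive A)) ^ n * D) (Additive.ofMul a)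
      = Additive.ofMul ((τ a * a⁻¹) ^ (p ^ n)) := by
    rw [← Nat.cast_pow]
    show ((p ^ n : ℕ) : AddMonoid.End (Additive A)) (D (Additive.ofMul a)) = _
    rw [AddMonoid.End.natCast_apply, hDapp]
    rfl
  have h6 : (τ a * a⁻¹) ^ (p ^ n) = 1 := by
    have : Additive.ofMul ((τ a * a⁻¹) ^ (p ^ n)) = 0 := by rw [← h5]; exact h4
    exact this
  rw [mul_pow, inv_pow, mul_inv_eq_one] at h6
  rw [map_pow]
  exact h6

end Cfsg.Agent.Lib.Helper11.Agemo
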