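import Mathlib
import Cfsg.Agent.Lib.Helper11.AgemoRing

set_option autoImplicit false
set_option linter.style.haveILetI false

namespace Cfsg.Agent.Lib.Helper11.Agemo

open scoped commutatorElement

variable {Ω : Type*} [Group Ω]

/-- the centre of `R` as a subgroup of the ambient group -/
def zOf (R : Subgroup Ω) : Subgroup Ω := R ⊓ Subgroup.centralizer (R : Set Ω)

theorem mem_zOf {R : Subgroup Ω} {a : Ω} : a ∈ zOf R ↔ a ∈ R ∧ ∀ r ∈ R, r * a = a * r := by
  unfold zOf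
  rw [Subgroup.mem_inf, Subgroup.mem_centralizer_iff]
  rfl

theorem zOf_comm {R : Subgroup Ω} {a b : Ω} (ha : a ∈ zOf R) (hb : b ∈ zOf R) : a * b = b * a :=
  ((mem_zOf.mp hb).2 a (mem_zOf.mp ha).1)

theorem conj_mem_zOf {R : Subgroup Ω} {t : Ω} (htN : t ∈ Subgroup.normalizer (R : Set Ω)) {a : Ω}
    (ha : a ∈ zOf R) : t * a * t⁻¹ ∈ zOf R := by
  rw [mem_zOf] at ha ⊢
  refine ⟨(Subgroup.mem_normalizer_iff.mp htN a).mp ha.1, fun r hr => ?_⟩
  have hr' : t⁻¹ * r * t⁻¹⁻¹ ∈ R :=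
    (Subgroup.mem_normalizer_iff.mp (Subgroup.inv_mem _ htN) r).mp hr
  have := ha.2 _ hr'
  calc r * (t * a * t⁻¹) = t * ((t⁻¹ * r * t⁻¹⁻¹) * a) * t⁻¹ := by group
    _ = t * (a * (t⁻¹ * r * t⁻¹⁻¹)) * t⁻¹ := by rw [this]
    _ = t * a * t⁻¹ * r := by group

/-- conjugation by a normalizing element on the centre of `R` -/
def conjZ (R : Subgroup Ω) (t : Ω) (htN : t ∈ Subgroup.normalizer (R : Set Ω)) : zOf R →* zOf R where
  toFun a := ⟨t * a * t⁻¹, conj_mem_zOf htN a.2⟩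
  map_one' := by apply Subtype.ext; simp
  map_mul' a b := by apply Subtype.ext; simp

theorem conjZ_iterate (R : Subgroup Ω) (t : Ω) (htN : t ∈ Subgroup.normalizer (R : Set Ω)) (k : ℕ)
    (a : zOf R) : (((conjZ R t htN)^[k] a : zOf R) : Ω) = t ^ k * a * (t ^ k)⁻¹ := by
  induction k with
  | zero => simp
  | succ k ih =>
    rw [Function.iterate_succ_apply']
    show t * (((conjZ R t htN)^[k] a : zOf R) : Ω) * t⁻¹ = _
    rw [ih, pow_succ']
    group

/-- main conjugation lemma: if `S` has class at most `n(p-1)+1`, `t ∈ N_S(R)` and `t^p ∈ R`,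
then `t` centralizes the `p^n`-th powers of the elements of `Z(R)`. -/
theorem conj_pow_eq {S R : Subgroup Ω} {p : ℕ} (hp : p.Prime) (n : ℕ)
    (hcl : S.lowerCentralSeries (n * (p - 1) + 1) = ⊥) (hRS : R ≤ S) {t : Ω} (htS : t ∈ S)
    (htN : t ∈ Subgroup.normalizer (R : Set Ω)) (htp : t ^ p ∈ R) {a : Ω} (ha : a ∈ zOf R) :
    t * a ^ (p ^ n) * t⁻¹ = a ^ (p ^ n) := by
  letI : CommGroup (zOf R) :=
    { (inferInstance : Group (zOf R)) with
      mul_comm := fun x y => Subtype.ext (zOf_comm x.2 y.2) }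
  let τ := conjZ R t htN
  have hτ : ∀ x : zOf R, τ^[p] x = x := by
    intro x
    apply Subtype.ext
    rw [conjZ_iterate]
    have := (mem_zOf.mp x.2).2 _ htp
    rw [this]; group
  have hlcs : ∀ (k : ℕ) (x : zOf R),
      (((fun b : zOf R => τ b * b⁻¹)^[k] x : zOf R) : Ω) ∈ S.lowerCentralSeries k := by
    intro k
    induction k with
    | zero => intro x; exact hRS (mem_zOf.mp x.2).1
    | succ k ih =>
      intro x
      rw [Function.iterate_succ_apply', Subgroup.lowerCentralSeries_succ]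
      set b := (fun b : zOf R => τ b * b⁻¹)^[k] x with hb
      have hbk := ih x
      have h1 : ⁅(b : Ω), t⁆ ∈ ⁅S.lowerCentralSeries k, S⁆ :=
        Subgroup.commutator_mem_commutator hbk htS
      have h2 := Subgroup.inv_mem _ h1
      have e : (((τ b * b⁻¹ : zOf R)) : Ω) = (⁅(b : Ω), t⁆)⁻¹ := by
        show t * (b : Ω) * t⁻¹ * (b : Ω)⁻¹ = _
        rw [commutatorElement_def]; group
      rw [e]; exact h2
  have hδ : ∀ x : zOf R, (fun b : zOf R => τ b * b⁻¹)^[n * (p - 1) + 1] x = 1 := by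
    intro x
    have := hlcs (n * (p - 1) + 1) x
    rw [hcl, Subgroup.mem_bot] at this
    exact Subtype.ext this
  have := map_pow_eq_of_iterate hp n τ hτ hδ ⟨a, ha⟩
  have h := congrArg (fun z : zOf R => (z : Ω)) this
  exact h

end Cfsg.Agent.Lib.Helper11.Agemo
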