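import Cfsg.Agent.Lib.Helper11.AgemoMain

/-!
# Exponent bound from the centre (helper11)
-/

set_option autoImplicit false

namespace Cfsg.Agent.Lib.Helper11.Agemo

open scoped commutatorElement

/-- if `⁅x, s⁆` is central then `⁅x^j, s⁆ = ⁅x, s⁆^j` -/
theorem commutator_pow_of_central {G : Type*} [Group G] {x s : G}
    (hc : ⁅x, s⁆ ∈ Subgroup.center G) (j : ℕ) : ⁅x ^ j, s⁆ = ⁅x, s⁆ ^ j := by
  induction j with
  | zero => simp
  | succ j ih =>
    have hcomm : ∀ g : G, g * ⁅x, s⁆ = ⁅x, s⁆ * g := fun g => Subgroup.mem_center_iff.mp hc g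
    have e : ⁅x ^ (j + 1), s⁆ = x * ⁅x ^ j, s⁆ * x⁻¹ * ⁅x, s⁆ := by
      rw [pow_succ']
      simp only [commutatorElement_def]
      group
    rw [e, ih]
    have h2 : x * ⁅x, s⁆ ^ j = ⁅x, s⁆ ^ j * x := by
      induction j with
      | zero => simp
      | succ i ihi =>
        have := (Subgroup.center G).pow_mem hc (i + 1)
        exact Subgroup.mem_center_iff.mp this x
    rw [h2, mul_inv_cancel_right, ← pow_succ]

/-- exponent of the terms of the upper central series in terms of the exponent of the centre -/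
theorem pow_eq_one_of_mem_upperCentralSeries (m : ℕ) :
    ∀ (k : ℕ) {G : Type*} [Group G], (∀ z ∈ Subgroup.center G, z ^ m = 1) →
      ∀ x ∈ Subgroup.upperCentralSeries G k, x ^ (m ^ k) = 1 := by
  intro k
  induction k with
  | zero =>
    intro G _ _ x hx
    rw [Subgroup.upperCentralSeries_zero, Subgroup.mem_bot] at hx
    rw [hx, one_pow]
  | succ k ih =>
    intro G _ hZ x hx
    -- the centre of the quotient has exponent dividing m
    have hZq : ∀ z ∈ Subgroup.center (G ⧸ Subgroup.center G), z ^ m = 1 := by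
      intro z hz
      obtain ⟨y, rfl⟩ := QuotientGroup.mk_surjective z
      have hy : ∀ s : G, ⁅y, s⁆ ∈ Subgroup.center G := by
        intro s
        have := Subgroup.mem_center_iff.mp hz (s : G ⧸ Subgroup.center G)
        rw [← QuotientGroup.eq_one_iff, commutatorElement_def]
        simp only [QuotientGroup.mk_mul, QuotientGroup.mk_inv]
        rw [← this]
        group
      have hym : y ^ m ∈ Subgroup.center G := by
        rw [Subgroup.mem_center_iff]
        intro s
        have h1 := commutator_pow_of_central (hy s) m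
        rw [hZ _ (hy s), commutatorElement_def] at h1
        have : y ^ m * s = s * y ^ m := by
          have h2 : y ^ m * s * (y ^ m)⁻¹ * s⁻¹ * s * y ^ m = 1 * s * y ^ m := by rw [h1]
          have h3 : y ^ m * s * (y ^ m)⁻¹ * s⁻¹ * s * y ^ m = y ^ m * s := by group
          rw [h3, one_mul] at h2
          exact h2
        exact this.symm
      rw [← QuotientGroup.mk_pow, QuotientGroup.eq_one_iff]
      exact hym
    have hx' : (x : G ⧸ Subgroup.center G) ∈ Subgroup.upperCentralSeries (G ⧸ Subgroup.center G) k := by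
      have := Subgroup.comap_upperCentralSeries_quotient_center (G := G) k
      have h2 : x ∈ Subgroup.comap (QuotientGroup.mk' (Subgroup.center G))
          (Subgroup.upperCentralSeries (G ⧸ Subgroup.center G) k) := by
        rw [this]; exact hx
      exact h2
    have h1 := ih hZq _ hx'
    rw [← QuotientGroup.mk_pow, QuotientGroup.eq_one_iff] at h1
    have h2 := hZ _ h1
    rw [← pow_mul, ← pow_succ] at h2
    exact h2

/-- a group of class at most `c` whose centre has exponent dividing `m` has exponent dividing `m^c` -/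
theorem pow_eq_one_of_lowerCentralSeries {Ω : Type*} [Group Ω] {S : Subgroup Ω} (m c : ℕ)
    (hcl : S.lowerCentralSeries c = ⊥) (hZ : ∀ z ∈ zOf S, z ^ m = 1) (x : S) : x ^ (m ^ c) = 1 := by
  have h1 : (Subgroup.lowerCentralSeries (⊤ : Subgroup S) c).map S.subtype = ⊥ := by
    rw [Subgroup.top_subtype_lowerCentralSeries, hcl]
  have h2 : Subgroup.lowerCentralSeries (⊤ : Subgroup S) c = ⊥ :=
    (Subgroup.map_eq_bot_iff_of_injective _ S.subtype_injective).mp h1
  have h3 : Subgroup.upperCentralSeries S c = ⊤ :=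
    Subgroup.lowerCentralSeries_eq_bot_iff_upperCentralSeries_eq_top.mp h2
  apply pow_eq_one_of_mem_upperCentralSeries m c _ x (h3 ▸ Subgroup.mem_top x)
  intro z hz
  have hz' : (z : Ω) ∈ zOf S := by
    rw [mem_zOf]
    refine ⟨z.2, fun r hr => ?_⟩
    have := Subgroup.mem_center_iff.mp hz ⟨r, hr⟩
    exact congrArg (fun w : S => (w : Ω)) this
  apply Subtype.ext
  have := hZ _ hz'
  simpa using this

open Cfsg Cfsg.FusionSystem in
/-- the exponent bound -/
theorem exponent_dvd_of_core_eq_bot {Ω : Type*} [Group Ω] {S : Subgroup Ω}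
    (F : FusionSystem S) [Finite S] {p : ℕ} [Fact p.Prime]
    (hS : IsPGroup p S) (hF : F.IsSaturated p) (n : ℕ)
    (hcl : S.lowerCentralSeries (n * (p - 1) + 1) = ⊥) (hcore : F.core = ⊥) :
    Monoid.exponent ↥S ∣ p ^ (n ^ 2 * (p - 1) + n) := by
  have hW : Cfsg.powerClosure p n (zOf S) = ⊥ := by
    rw [eq_bot_iff, ← hcore]
    exact le_sSup (isNormal_agemo F hS hF n hcl)
  have hZ : ∀ z ∈ zOf S, z ^ (p ^ n) = 1 := by
    intro z hz
    have : z ^ (p ^ n) ∈ Cfsg.powerClosure p n (zOf S) := Subgroup.subset_closure ⟨z, hz, rfl⟩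
    rw [hW, Subgroup.mem_bot] at this
    exact this
  apply Monoid.exponent_dvd_of_forall_pow_eq_one
  intro x
  have := pow_eq_one_of_lowerCentralSeries (p ^ n) (n * (p - 1) + 1) hcl hZ x
  rw [← pow_mul] at this
  have e : n * (n * (p - 1) + 1) = n ^ 2 * (p - 1) + n := by ring
  rw [e] at this
  exact this

end Cfsg.Agent.Lib.Helper11.Agemo
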