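import Cfsg.Agent.Lib.Helper11.AgemoConj
import Cfsg.Agent.Lib.Helper88.FusionAlperinCR
import Cfsg.Agent.Lib.Helper88.FusionNormalSubgroup
import Cfsg.Agent.Lib.Helper87.FusionNormal
import Cfsg.Prelude.Def_PLocal

/-!
# `℧ⁿ(Z(S))` is normal in every saturated fusion system when `cl(S) ≤ n(p-1)+1` (helper11)
-/

set_option autoImplicit false
set_option linter.style.haveILetI false

namespace Cfsg.Agent.Lib.Helper11.Agemo

open Cfsg Cfsg.FusionSystem
open Cfsg.Agent.Lib.Helper87 Cfsg.Agent.Lib.Helper88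

variable {Ω : Type*} [Group Ω] {S : Subgroup Ω}

/-- the subgroup generated by the `p^n`-th powers of `Z(R)` lies in `Z(R)` -/
theorem powerClosure_zOf_le (p n : ℕ) (R : Subgroup Ω) : Cfsg.powerClosure p n (zOf R) ≤ zOf R := by
  unfold Cfsg.powerClosure
  rw [Subgroup.closure_le]
  rintro y ⟨x, hx, rfl⟩
  exact Subgroup.pow_mem _ hx _

theorem zOf_top_le_zOf {R : Subgroup Ω} (hRS : R ≤ S) (hcR : centralizerIn S R ≤ R) :
    zOf S ≤ zOf R := by
  intro z hz
  rw [mem_zOf] at hz ⊢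
  have hzc : z ∈ centralizerIn S R := by
    refine ⟨hz.1, ?_⟩
    show z ∈ Subgroup.centralizer (R : Set Ω)
    rw [Subgroup.mem_centralizer_iff]
    intro r hr
    exact hz.2 r (hRS hr)
  exact ⟨hcR hzc, fun r hr => hz.2 r (hRS hr)⟩

/-- the subsystem of the maps preserving membership in a central subgroup `W` -/
def presSystem (F : FusionSystem S) (W : Subgroup Ω) (hW : W ≤ zOf S) : FusionSystem S where
  Hom P := {φ | φ ∈ F.Hom P ∧ ∀ x : P, (x : Ω) ∈ W ↔ φ x ∈ W}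
  le_of_mem := fun h => F.le_of_mem h.1
  injective_of_mem := fun h => F.injective_of_mem h.1
  conj_mem := by
    intro P g hP hg
    refine ⟨F.conj_mem hP hg, fun x => ?_⟩
    show (x : Ω) ∈ W ↔ g * (x : Ω) * g⁻¹ ∈ W
    constructor
    · intro hx
      have := (mem_zOf.mp (hW hx)).2 g hg
      rw [this, mul_inv_cancel_right]
      exact hx
    · intro hy
      have := (mem_zOf.mp (hW hy)).2 g⁻¹ (S.inv_mem hg)
      have e : (x : Ω) = g⁻¹ * (g * (x : Ω) * g⁻¹) * g := by group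
      rw [e, this, inv_mul_cancel_right]
      exact hy
  comp_mem := by
    rintro P Q φ ψ ⟨hφ, hφW⟩ ⟨hψ, hψW⟩ h
    refine ⟨F.comp_mem hφ hψ h, fun x => ?_⟩
    rw [hφW x]
    exact hψW ⟨φ x, h x⟩
  inv_mem := by
    rintro P φ ⟨hφ, hφW⟩
    obtain ⟨ψ, hψ, hinv⟩ := F.inv_mem hφ
    refine ⟨ψ, ⟨hψ, fun y => ?_⟩, hinv⟩
    obtain ⟨y, x, rfl⟩ := y
    rw [hinv x]
    exact (hφW x).symm

theorem mem_presSystem_hom (F : FusionSystem S) (W : Subgroup Ω) (hW : W ≤ zOf S) {P : Subgroup Ω}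
    {φ : P →* Ω} : φ ∈ (presSystem F W hW).Hom P ↔
      φ ∈ F.Hom P ∧ ∀ x : P, (x : Ω) ∈ W ↔ φ x ∈ W := Iff.rfl

/-- an automorphism with a strictly larger extender lies in `E` once all maps on larger subgroups do -/
theorem isIso_of_extender_proper (F E : FusionSystem S) [Finite S] {R : Subgroup Ω}
    (hRr : F.IsReceptive R)
    (IH : ∀ P' : Subgroup Ω, Nat.card R < Nat.card P' → F.Hom P' ⊆ E.Hom P')
    (α : MulAut R) (hα : α ∈ F.autGroup R) {g : Ω}
    (hgN : g ∈ extender S R (R.subtype.comp α.toMonoidHom)) (hgR : g ∉ R) :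
    IsIso E (α : R ≃* R) := by
  have hRS : R ≤ S := hRr.1
  have hφ : R.subtype.comp α.toMonoidHom ∈ F.Hom R := (mem_autGroup_iff F hRS).1 hα
  have hφr : (R.subtype.comp α.toMonoidHom).range = R := range_subtype_comp α
  obtain ⟨ψ, hψ, hψe⟩ := hRr.2 R _ hφ hφr
  have hRN : R ≤ extender S R (R.subtype.comp α.toMonoidHom) := by
    intro r hr
    have hrC : r ∈ S := hRS hr
    rw [Cfsg.Agent.Lib.Helper85.mem_extender_iff]
    refine ⟨hrC, ?_, (α ⟨r, hr⟩ : Ω), hRS (α ⟨r, hr⟩).2, ?_⟩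
    · rw [Subgroup.mem_normalizer_iff]
      intro h
      constructor
      · intro hh; exact R.mul_mem (R.mul_mem hr hh) (R.inv_mem hr)
      · intro hh
        have : h = r⁻¹ * (r * h * r⁻¹) * r := by group
        rw [this]
        exact R.mul_mem (R.mul_mem (R.inv_mem hr) hh) hr
    · intro x hx
      have : (⟨r * (x : Ω) * r⁻¹, hx⟩ : R) = ⟨r, hr⟩ * x * ⟨r, hr⟩⁻¹ := Subtype.ext rfl
      rw [this]
      simp
  have hNS : extender S R (R.subtype.comp α.toMonoidHom) ≤ S :=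
    (extender_le S R _).trans (normalizerIn_le S R)
  have hfinN : Finite (extender S R (R.subtype.comp α.toMonoidHom)) := finite_of_le hNS
  have hlt : Nat.card R < Nat.card (extender S R (R.subtype.comp α.toMonoidHom)) := by
    by_contra hle
    have heq := Subgroup.eq_of_le_of_card_ge hRN (not_lt.mp hle)
    exact hgR (heq ▸ hgN)
  have hψE : ψ ∈ E.Hom (extender S R (R.subtype.comp α.toMonoidHom)) := IH _ hlt hψ
  refine restrict_mem' E hψE hRN ?_
  intro x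
  exact (hψe x.1 x.2 (hRN x.2)).symm

/-- a proper subgroup of a finite `p`-group is normalized by an element outside it whose `p`-th power
lies in it -/
theorem exists_pth_root_outside [Finite S] {p : ℕ} [Fact p.Prime] (hS : IsPGroup p S)
    {R : Subgroup Ω} (hRS : R ≤ S) (hne : R ≠ S) :
    ∃ t ∈ normalizerIn S R, t ∉ R ∧ t ^ p ∈ R := by
  obtain ⟨g, hgN, hgR⟩ := exists_mem_normalizerIn_not_mem hS hRS hne
  have hex : ∃ j : ℕ, g ^ (p ^ j) ∈ R := by
    obtain ⟨k, hk⟩ := hS ⟨g, hgN.1⟩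
    refine ⟨k, ?_⟩
    have := congrArg (fun z : S => (z : Ω)) hk
    have h1 : g ^ (p ^ k) = 1 := by simpa using this
    rw [h1]; exact R.one_mem
  classical
  have hj0 : Nat.find hex ≠ 0 := by
    intro h0
    have := Nat.find_spec hex
    rw [h0, pow_zero, pow_one] at this
    exact hgR this
  obtain ⟨j, hj⟩ : ∃ j, Nat.find hex = j + 1 := ⟨Nat.find hex - 1, by omega⟩
  refine ⟨g ^ (p ^ j), Subgroup.pow_mem _ hgN _, ?_, ?_⟩
  · exact Nat.find_min hex (by omega : j < Nat.find hex)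
  · have := Nat.find_spec hex
    rw [hj, pow_succ, pow_mul] at this
    exact this

/-- automorphisms of `R` preserve the centre -/
theorem aut_mem_zOf {R : Subgroup Ω} (γ : MulAut R) {a : R} (ha : (a : Ω) ∈ zOf R) :
    ((γ a : R) : Ω) ∈ zOf R := by
  rw [mem_zOf] at ha ⊢
  refine ⟨(γ a).2, fun r hr => ?_⟩
  have h1 : (γ.symm ⟨r, hr⟩ : R) * a = a * γ.symm ⟨r, hr⟩ := by
    apply Subtype.ext
    exact ha.2 _ (γ.symm ⟨r, hr⟩).2
  have h2 := congrArg γ h1
  rw [map_mul, map_mul, MulEquiv.apply_symm_apply] at h2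
  exact congrArg (fun z : R => (z : Ω)) h2

/-- the automorphisms of `R` fixing the `p^n`-th powers of the central elements -/
def kSub (R : Subgroup Ω) (p n : ℕ) : Subgroup (MulAut R) where
  carrier := {β | ∀ a : R, (a : Ω) ∈ zOf R → β (a ^ (p ^ n)) = a ^ (p ^ n)}
  one_mem' := fun a _ => rfl
  mul_mem' := by
    intro β γ hβ hγ a ha
    rw [MulAut.mul_apply, hγ a ha, hβ a ha]
  inv_mem' := by
    intro β hβ a ha
    have := hβ a ha
    calc β⁻¹ (a ^ (p ^ n)) = β⁻¹ (β (a ^ (p ^ n))) := by rw [this]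
      _ = a ^ (p ^ n) := MulAut.inv_apply_self _ _ _

theorem mem_kSub {R : Subgroup Ω} {p n : ℕ} {β : MulAut R} :
    β ∈ kSub R p n ↔ ∀ a : R, (a : Ω) ∈ zOf R → β (a ^ (p ^ n)) = a ^ (p ^ n) := Iff.rfl

instance kSub_normal (R : Subgroup Ω) (p n : ℕ) : (kSub R p n).Normal := by
  constructor
  intro β hβ γ a ha
  show γ (β (γ⁻¹ (a ^ (p ^ n)))) = a ^ (p ^ n)
  have h1 : ((γ⁻¹ a : R) : Ω) ∈ zOf R := aut_mem_zOf γ⁻¹ ha
  rw [map_pow, hβ _ h1, ← map_pow, MulAut.apply_inv_self]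

/-- elements of `kSub` fix `W = ℧ⁿ(Z(S))` pointwise when `Z(S) ≤ Z(R)` -/
theorem kSub_fix {R : Subgroup Ω} {p n : ℕ} (hz : zOf S ≤ zOf R) {β : MulAut R} (hβ : β ∈ kSub R p n)
    {y : Ω} (hy : y ∈ Cfsg.powerClosure p n (zOf S)) : ∀ hyR : y ∈ R, β ⟨y, hyR⟩ = ⟨y, hyR⟩ := by
  unfold Cfsg.powerClosure at hy
  induction hy using Subgroup.closure_induction with
  | mem y hy =>
    obtain ⟨z, hz', rfl⟩ := hy
    intro hyR
    have hzR : z ∈ R := (mem_zOf.mp (hz hz')).1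
    have := hβ ⟨z, hzR⟩ (hz hz')
    have e : (⟨z ^ (p ^ n), hyR⟩ : R) = (⟨z, hzR⟩ : R) ^ (p ^ n) := Subtype.ext rfl
    rw [e]; exact this
  | one => intro _; exact map_one β
  | mul a b ha hb iha ihb =>
    intro hyR
    have haR : a ∈ R := by
      have : a ∈ Cfsg.powerClosure p n (zOf S) := ha
      exact (mem_zOf.mp (hz (powerClosure_zOf_le p n S this))).1
    have hbR : b ∈ R := by
      have : b ∈ Cfsg.powerClosure p n (zOf S) := hb
      exact (mem_zOf.mp (hz (powerClosure_zOf_le p n S this))).1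
    have e : (⟨a * b, hyR⟩ : R) = ⟨a, haR⟩ * ⟨b, hbR⟩ := Subtype.ext rfl
    rw [e, map_mul, iha haR, ihb hbR]
  | inv a ha iha =>
    intro hyR
    have haR : a ∈ R := by
      have : a ∈ Cfsg.powerClosure p n (zOf S) := ha
      exact (mem_zOf.mp (hz (powerClosure_zOf_le p n S this))).1
    have e : (⟨a⁻¹, hyR⟩ : R) = (⟨a, haR⟩ : R)⁻¹ := Subtype.ext rfl
    rw [e, map_inv, iha haR]

/-- automorphisms of `S` map `W = ℧ⁿ(Z(S))` into itself -/
theorem aut_top_mem (p n : ℕ) (α : MulAut S) {y : Ω} (hy : y ∈ Cfsg.powerClosure p n (zOf S)) :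
    ∀ hyS : y ∈ S, ((α ⟨y, hyS⟩ : S) : Ω) ∈ Cfsg.powerClosure p n (zOf S) := by
  have hyW := hy
  unfold Cfsg.powerClosure at hy
  induction hy using Subgroup.closure_induction with
  | mem y hy =>
    obtain ⟨z, hz', rfl⟩ := hy
    intro hyS
    have hzS : z ∈ S := (mem_zOf.mp hz').1
    have e : (⟨z ^ (p ^ n), hyS⟩ : S) = (⟨z, hzS⟩ : S) ^ (p ^ n) := Subtype.ext rfl
    rw [e, map_pow]
    have h1 : ((α ⟨z, hzS⟩ : S) : Ω) ∈ zOf S := aut_mem_zOf α hz'
    exact Subgroup.subset_closure ⟨_, h1, rfl⟩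
  | one =>
    intro hyS
    have e : (⟨1, hyS⟩ : S) = 1 := rfl
    rw [e, map_one]; exact Subgroup.one_mem _
  | mul a b ha hb iha ihb =>
    intro hyS
    have haW : a ∈ Cfsg.powerClosure p n (zOf S) := ha
    have hbW : b ∈ Cfsg.powerClosure p n (zOf S) := hb
    have haS : a ∈ S := (mem_zOf.mp (powerClosure_zOf_le p n S haW)).1
    have hbS : b ∈ S := (mem_zOf.mp (powerClosure_zOf_le p n S hbW)).1
    have e : (⟨a * b, hyS⟩ : S) = ⟨a, haS⟩ * ⟨b, hbS⟩ := Subtype.ext rfl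
    rw [e, map_mul]
    exact Subgroup.mul_mem _ (iha haW haS) (ihb hbW hbS)
  | inv a ha iha =>
    intro hyS
    have haW : a ∈ Cfsg.powerClosure p n (zOf S) := ha
    have haS : a ∈ S := (mem_zOf.mp (powerClosure_zOf_le p n S haW)).1
    have e : (⟨a⁻¹, hyS⟩ : S) = (⟨a, haS⟩ : S)⁻¹ := Subtype.ext rfl
    rw [e, map_inv]
    exact Subgroup.inv_mem _ (iha haW haS)

end Cfsg.Agent.Lib.Helper11.Agemo
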