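import Cfsg.Agent.Lib.Helper11.AgemoFusion

/-!
# `℧ⁿ(Z(S))` is normal in every saturated fusion system when `cl(S) ≤ n(p-1)+1`: main theorem (helper11)
-/

set_option autoImplicit false
set_option linter.style.haveILetI false

namespace Cfsg.Agent.Lib.Helper11.Agemo

open Cfsg Cfsg.FusionSystem
open Cfsg.Agent.Lib.Helper87 Cfsg.Agent.Lib.Helper88

variable {Ω : Type*} [Group Ω] {S : Subgroup Ω}

/-- the inductive step in the centric case -/
theorem step_centric (F : FusionSystem S) [Finite S] {p : ℕ} [Fact p.Prime] (hS : IsPGroup p S)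
    (n : ℕ) (hcl : S.lowerCentralSeries (n * (p - 1) + 1) = ⊥)
    {R : Subgroup Ω} (hRa : F.IsFullyAutomized p R) (hRr : F.IsReceptive R) (hcen : F.IsCentric R)
    (IH : ∀ P' : Subgroup Ω, Nat.card R < Nat.card P' →
      F.Hom P' ⊆ (presSystem F (Cfsg.powerClosure p n (zOf S)) (powerClosure_zOf_le p n S)).Hom P')
    (α : MulAut R) (hα : α ∈ F.autGroup R) :
    IsIso (presSystem F (Cfsg.powerClosure p n (zOf S)) (powerClosure_zOf_le p n S)) (α : R ≃* R) := by
  have hp : p.Prime := Fact.out
  have hRS : R ≤ S := hRa.1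
  have hαF : IsIso F (α : R ≃* R) := (mem_autGroup_iff F hRS).1 hα
  have hcR : centralizerIn S R ≤ R := hcen.2 R (isConj_refl F hRS)
  have hz : zOf S ≤ zOf R := zOf_top_le_zOf hRS hcR
  have hWR : Cfsg.powerClosure p n (zOf S) ≤ R := fun y hy =>
    (mem_zOf.mp (hz (powerClosure_zOf_le p n S hy))).1
  by_cases hne : R = S
  · -- the top case
    subst hne
    refine ⟨hαF, fun x => ?_⟩
    constructor
    · intro hx
      exact aut_top_mem p n α hx x.2
    · intro hx
      have hx' : ((α x : R) : Ω) ∈ Cfsg.powerClosure p n (zOf R) := hx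
      have h1 := aut_top_mem p n α⁻¹ hx' (α x).2
      have e : (⟨((α x : R) : Ω), (α x).2⟩ : R) = α x := rfl
      rw [e, MulAut.inv_apply_self] at h1
      exact h1
  · -- the proper case
    have hfinR : Finite R := finite_of_le hRS
    obtain ⟨t, htN, htR, htp⟩ := exists_pth_root_outside hS hRS hne
    obtain ⟨-, R', hR'⟩ := hRa
    -- the conjugation by `t`
    let ct : MulAut R := conjAut R t htN.2
    have hctS : ct ∈ autInducedBy S R := by
      rw [mem_autInducedBy_iff]
      exact ⟨t, htN.1, fun x => rfl⟩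
    have hctF : ct ∈ F.autGroup R := autInducedBy_le_autGroup F hRS hctS
    have hctK : ct ∈ kSub R p n := by
      intro a ha
      apply Subtype.ext
      show t * ((a : Ω) ^ (p ^ n)) * t⁻¹ = (a : Ω) ^ (p ^ n)
      exact conj_pow_eq hp n hcl hRS htN.1 htN.2 htp ha
    -- Frattini
    let K : Subgroup (F.autGroup R) := (kSub R p n).subgroupOf (F.autGroup R)
    haveI hKn : K.Normal := inferInstance
    obtain ⟨h, hhN, k, hkK, hαhk⟩ := frattini_inf R' K ⟨α, hα⟩
    -- `h` extends
    have hctmem : (⟨ct, hctF⟩ : F.autGroup R) ∈ (R' : Subgroup (F.autGroup R)) ⊓ K := by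
      refine ⟨?_, ?_⟩
      · rw [hR']; exact Subgroup.mem_subgroupOf.mpr hctS
      · exact Subgroup.mem_subgroupOf.mpr hctK
    have hconj : h * ⟨ct, hctF⟩ * h⁻¹ ∈ (R' : Subgroup (F.autGroup R)) ⊓ K :=
      (Subgroup.mem_normalizer_iff.mp hhN _).mp hctmem
    have hconjS : ((h * ⟨ct, hctF⟩ * h⁻¹ : F.autGroup R) : MulAut R) ∈ autInducedBy S R := by
      have := hconj.1
      rw [hR'] at this
      exact Subgroup.mem_subgroupOf.mp this
    obtain ⟨s, hsS, hs⟩ := mem_autInducedBy_iff.1 hconjS
    have htext : t ∈ extender S R (R.subtype.comp (h : MulAut R).toMonoidHom) := by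
      rw [Cfsg.Agent.Lib.Helper85.mem_extender_iff]
      refine ⟨htN.1, htN.2, s, hsS, fun x hx => ?_⟩
      have h1 := hs ((h : MulAut R) x)
      have h2 : ((h * ⟨ct, hctF⟩ * h⁻¹ : F.autGroup R) : MulAut R) ((h : MulAut R) x)
          = (h : MulAut R) (ct x) := by
        show (h : MulAut R) (ct ((h : MulAut R)⁻¹ ((h : MulAut R) x))) = _
        rw [MulAut.inv_apply_self]
      rw [h2] at h1
      have h3 : ct x = ⟨t * (x : Ω) * t⁻¹, hx⟩ := Subtype.ext rfl
      rw [h3] at h1
      exact h1
    have hhE := isIso_of_extender_proper F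
      (presSystem F (Cfsg.powerClosure p n (zOf S)) (powerClosure_zOf_le p n S))
      hRr IH (h : MulAut R) h.2 htext htR
    -- assemble
    have hαeq : α = (h : MulAut R) * (k : MulAut R) := by
      have := congrArg (fun z : F.autGroup R => (z : MulAut R)) hαhk
      exact this
    have hkK' : (k : MulAut R) ∈ kSub R p n := Subgroup.mem_subgroupOf.mp hkK
    have hkinv : (k : MulAut R)⁻¹ ∈ kSub R p n := Subgroup.inv_mem _ hkK'
    refine ⟨hαF, fun x => ?_⟩
    have hk1 : (x : Ω) ∈ Cfsg.powerClosure p n (zOf S) ↔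
        (((k : MulAut R) x : R) : Ω) ∈ Cfsg.powerClosure p n (zOf S) := by
      constructor
      · intro hx
        have := kSub_fix hz hkK' hx x.2
        have e : (⟨(x : Ω), x.2⟩ : R) = x := rfl
        rw [e] at this
        rw [this]; exact hx
      · intro hx
        have := kSub_fix hz hkinv hx ((k : MulAut R) x).2
        have e : (⟨(((k : MulAut R) x : R) : Ω), ((k : MulAut R) x).2⟩ : R) = (k : MulAut R) x := rfl
        rw [e, MulAut.inv_apply_self] at this
        have h2 := congrArg (fun z : R => (z : Ω)) this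
        have h3 : (x : Ω) = (((k : MulAut R) x : R) : Ω) := h2
        rw [h3]; exact hx
    have hh1 := hhE.2 ((k : MulAut R) x)
    rw [hk1, hh1, hαeq]
    rfl

/-- every map of `F` preserves membership in `W = ℧ⁿ(Z(S))` -/
theorem le_presSystem (F : FusionSystem S) [Finite S] {p : ℕ} [Fact p.Prime] (hS : IsPGroup p S)
    (hF : F.IsSaturated p) (n : ℕ) (hcl : S.lowerCentralSeries (n * (p - 1) + 1) = ⊥) :
    ∀ P : Subgroup Ω, F.Hom P ⊆
      (presSystem F (Cfsg.powerClosure p n (zOf S)) (powerClosure_zOf_le p n S)).Hom P := by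
  apply alperin_weak F _ hS hF
  intro R hRa hRr IH α hα
  rcases extender_proper_or F hS hRa hRr α hα with ⟨g, hgN, hgR⟩ | ⟨hc, -, -⟩
  · exact isIso_of_extender_proper F _ hRr IH α hα hgN hgR
  · exact step_centric F hS n hcl hRa hRr hc IH α hα

/-- `W = ℧ⁿ(Z(S))` is strongly closed -/
theorem stronglyClosed_agemo (F : FusionSystem S) [Finite S] {p : ℕ} [Fact p.Prime]
    (hS : IsPGroup p S) (hF : F.IsSaturated p) (n : ℕ)
    (hcl : S.lowerCentralSeries (n * (p - 1) + 1) = ⊥) :
    F.StronglyClosed (Cfsg.powerClosure p n (zOf S)) := by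
  refine ⟨fun y hy => (mem_zOf.mp (powerClosure_zOf_le p n S hy)).1, fun P hP φ hφ x => ?_⟩
  have := le_presSystem F hS hF n hcl P hφ
  exact (this.2 x).mp (hP x.2)

/-- **Main theorem**: `℧ⁿ(Z(S))` is normal in `F`. -/
theorem isNormal_agemo (F : FusionSystem S) [Finite S] {p : ℕ} [Fact p.Prime]
    (hS : IsPGroup p S) (hF : F.IsSaturated p) (n : ℕ)
    (hcl : S.lowerCentralSeries (n * (p - 1) + 1) = ⊥) :
    F.IsNormal (Cfsg.powerClosure p n (zOf S)) := by
  have hsc := stronglyClosed_agemo F hS hF n hcl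
  refine isNormal_of_chain F hS hF _ hsc 1
    (fun k => if k = 0 then ⊥ else Cfsg.powerClosure p n (zOf S)) ?_ ?_ ?_ ?_ ?_
  · simp
  · intro k hk
    have : k ≠ 0 := by omega
    simp [this]
  · intro a b hab
    by_cases ha : a = 0
    · simp [ha]
    · have hb : b ≠ 0 := by omega
      simp [ha, hb]
  · intro k hk
    have hk0 : k = 0 := by omega
    subst hk0
    simp only [zero_add, one_ne_zero, if_false, if_true]
    rw [Subgroup.commutator_le]
    intro a ha b hb
    have h1 := powerClosure_zOf_le p n S ha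
    have h2 := powerClosure_zOf_le p n S hb
    rw [Subgroup.mem_bot, commutatorElement_def, zOf_comm h1 h2]
    group
  · intro k hk
    have hk0 : k = 0 := by omega
    subst hk0
    simp only [if_true]
    refine ⟨bot_le, fun φ _ => ?_⟩
    ext y
    constructor
    · rintro ⟨x, rfl⟩
      have : x = 1 := Subsingleton.elim _ _
      rw [this, map_one]; exact Subgroup.one_mem _
    · intro hy
      rw [Subgroup.mem_bot] at hy
      rw [hy]; exact Subgroup.one_mem _

end Cfsg.Agent.Lib.Helper11.Agemo
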