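/-
helper11: GSB-[CC] `case_CC` (helper68's sheet AmalBSHEET.md, S2751): `Ω₁Z(T)` central in both `Pᵢ` forces `T = 1`.
-/
import Mathlib
import Cfsg.Prelude.Def_Amalgam
import Cfsg.Agent.Lib.Helper68.AmalBDefs
import Cfsg.Agent.Lib.Helper68.AmalBTools
import Cfsg.Agent.Lib.Helper68.AmalWLoc

set_option autoImplicit false

namespace Cfsg.Agent.Lib.Helper68.AmalB

open Cfsg Cfsg.Agent.Lib.Helper12.Amal Cfsg.Agent.Lib.Helper68.AmalD Cfsg.Agent.Lib.Helper68.AmalW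

variable {G : Type*} [Group G] {P₁ P₂ : Subgroup G}

/-- **[G-CC]** `Ω₁Z(T)` central in both `Pᵢ`: `T = 1` -/
theorem case_CC (h : PairW P₁ P₂ (P₁ ⊓ P₂))
    (c₁ : P₁ ≤ Subgroup.centralizer (ZT (P₁ ⊓ P₂) : Set G))
    (c₂ : P₂ ≤ Subgroup.centralizer (ZT (P₁ ⊓ P₂) : Set G)) :
    Nat.card ↥(P₁ ⊓ P₂) ≤ 16 := by
  classical
  -- `ZT T` is central in `G`
  have htop : (⊤ : Subgroup G) ≤ Subgroup.centralizer (ZT (P₁ ⊓ P₂) : Set G) := by
    rw [← h.gen]; exact sup_le c₁ c₂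
  have hZle : ZT (P₁ ⊓ P₂) ≤ P₁ ⊓ P₂ := by
    unfold ZT omegaOne
    rw [Subgroup.closure_le]
    rintro x ⟨hx, -⟩
    exact hx.1
  have hnormal : (ZT (P₁ ⊓ P₂)).Normal := by
    constructor
    intro z hz g
    have hg : g ∈ Subgroup.centralizer (ZT (P₁ ⊓ P₂) : Set G) := htop (Subgroup.mem_top g)
    have := (Subgroup.mem_centralizer_iff.mp hg) z hz
    -- `z * g = g * z`
    have h2 : g * z * g⁻¹ = z := by rw [← this, mul_inv_cancel_right]
    rw [h2]; exact hz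
  have hbot : ZT (P₁ ⊓ P₂) = ⊥ := h.core _ hnormal hZle
  -- `T` is a finite 2-group
  have hp : IsPGroup 2 ↥(P₁ ⊓ P₂) := h.l₁.T_isPGroup
  have : Finite ↥P₁ := h.l₁.fin
  have : Finite ↥(P₁ ⊓ P₂) := Finite.of_injective (Subgroup.inclusion (inf_le_left : P₁ ⊓ P₂ ≤ P₁))
    (Subgroup.inclusion_injective _)
  have : Fact (Nat.Prime 2) := ⟨Nat.prime_two⟩
  by_cases hT : Nontrivial ↥(P₁ ⊓ P₂)
  · exfalso
    have := hT
    have hcn : Nontrivial (Subgroup.center ↥(P₁ ⊓ P₂)) := hp.center_nontrivial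
    -- the centre is a nontrivial 2-group: an element of order 2
    have hpc : IsPGroup 2 (Subgroup.center ↥(P₁ ⊓ P₂)) := hp.to_subgroup _
    have h2dvd : 2 ∣ Nat.card (Subgroup.center ↥(P₁ ⊓ P₂)) := by
      obtain ⟨n, hn⟩ := hpc.exists_card_eq
      rw [hn]
      have hn0 : n ≠ 0 := by
        rintro rfl
        rw [pow_zero] at hn
        have : Subsingleton (Subgroup.center ↥(P₁ ⊓ P₂)) := (Nat.card_eq_one_iff_unique.mp hn).1
        exact not_nontrivial _ hcn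
      exact dvd_pow_self 2 hn0
    obtain ⟨u, hu⟩ := exists_prime_orderOf_dvd_card' 2 h2dvd
    -- `u` as an element of `G`
    have huG : ((u : ↥(P₁ ⊓ P₂)) : G) ∈ ZT (P₁ ⊓ P₂) := by
      unfold ZT omegaOne
      apply Subgroup.subset_closure
      refine ⟨⟨(u : ↥(P₁ ⊓ P₂)).2, ?_⟩, ?_⟩
      · show ((u : ↥(P₁ ⊓ P₂)) : G) ∈ Subgroup.centralizer ((P₁ ⊓ P₂ : Subgroup G) : Set G)
        rw [Subgroup.mem_centralizer_iff]
        intro t ht
        have hc := (Subgroup.mem_center_iff.mp u.2) ⟨t, ht⟩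
        have := congrArg (Subtype.val) hc
        simpa using this
      · have h1 : u ^ 2 = 1 := by rw [← hu]; exact pow_orderOf_eq_one u
        have h2 : (((u ^ 2 : Subgroup.center ↥(P₁ ⊓ P₂)) : ↥(P₁ ⊓ P₂)) : G) = 1 := by rw [h1]; rfl
        simpa using h2
    rw [hbot, Subgroup.mem_bot] at huG
    have hu1 : u = 1 := by
      apply Subtype.ext
      apply Subtype.ext
      simpa using huG
    rw [hu1, orderOf_one] at hu
    norm_num at hu
  · rw [not_nontrivial_iff_subsingleton] at hT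
    have := hT
    rw [Nat.card_of_subsingleton (1 : ↥(P₁ ⊓ P₂))]
    norm_num

end Cfsg.Agent.Lib.Helper68.AmalB
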