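import Mathlib
import Cfsg.Prelude.Def_GeometricClasses
import Cfsg.Agent.Lib.Helper99.AschDefs
import Cfsg.Agent.Lib.Helper99.AschDefsR
import Cfsg.Agent.Lib.Helper37.AschC8
import Cfsg.Agent.Lib.Helper37.AschC8R
import Cfsg.Agent.Lib.Helper49.AschNDesc
import Cfsg.Agent.Lib.Helper11.AschResid

/-!
# Project ASCH (helper99, S5630), module ASCH-[RESID] (helper11), final form: the exact sheet statements
`residual_or_geo` and `residual_or_geo_R` (NDESC, C8S, C8U, C8Q and their `_R` versions are on main).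
-/

set_option autoImplicit false

namespace Cfsg.Agent.Lib.Helper99.Asch

open Cfsg Cfsg.Geo Cfsg.Agent.Lib.Helper11.AschResid
open scoped MatrixGroups Matrix Kronecker

variable {n : ℕ} {F : Type*} [Field F] [Fintype F]

/-- ASCH-[RESID], refined conclusion -/
theorem residual_or_geo_R (hn : 3 ≤ n) (H P : Subgroup (GL (Fin n) F)) (hNAI : NAI H)
    (hP : PerfMin H P)
    (hsimple : ∀ M : Subgroup (GL (Fin n) F), M ≤ P → Nrm P M → M ≤ scalars (Fin n) F ∨ M = P) :
    GeoR H ∨ InLinearResidualClass H := by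
  have hne : Nonempty (Fin n) := ⟨⟨0, by omega⟩⟩
  have habs : ActsAbsolutelyIrreducibly (matrixSet P) := (hNAI P hP.nrm).resolve_left hP.not_le
  by_cases h1 : ∃ F₀ : Subfield F, F₀ ≠ ⊤ ∧ RealisableOver F₀ (matrixSet P)
  · obtain ⟨F₀, hF₀, hreal⟩ := h1
    exact Or.inl (geo_of_realisable_R H P habs hP.nrm F₀ hF₀ hreal)
  by_cases h2 : ∃ Q : (Fin n → F) → F, IsNondegenerateQuadraticForm Q ∧ FixesQuadForm (matrixSet P) Q
  · obtain ⟨Q, hQ, hfix⟩ := h2
    exact Or.inl (geo_of_fixes_quadratic_R hn H P habs hP.nrm Q hQ hfix)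
  by_cases h3 : ∃ f : (Fin n → F) → (Fin n → F) → F, IsSymplecticForm f ∧ FixesForm (matrixSet P) f
  · obtain ⟨f, hf, hfix⟩ := h3
    exact Or.inl (geo_of_fixes_symplectic_R hn H P habs hP.nrm f hf hfix)
  by_cases h4 : ∃ (σ : F ≃+* F) (f : (Fin n → F) → (Fin n → F) → F), IsUnitaryForm σ f ∧ FixesForm (matrixSet P) f
  · obtain ⟨σ, f, hf, hfix⟩ := h4
    exact Or.inl (geo_of_fixes_unitary_R hn H P habs hP.nrm σ f hf hfix)
  right
  refine ⟨P, ?_, h2, h3, h4⟩
  exact
    { le := hP.le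
      normal := hP.nrm
      perfect := hP.perfect
      simple := isSimpleGroup_quotient hP.not_le hsimple
      nonabelian := not_isMulCommutative_quotient hP.not_le hP.perfect
      centralizer_scalar := fun h _ hh =>
        mem_scalars_of_commute habs h (commute_of_perfect hP.perfect h hh)
      absIrred := habs
      no_subfield := fun F₀ hF₀ hreal => h1 ⟨F₀, hF₀, hreal⟩ }

/-- ASCH-[RESID] -/
theorem residual_or_geo (hn : 3 ≤ n) (H P : Subgroup (GL (Fin n) F)) (hNAI : NAI H)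
    (hP : PerfMin H P)
    (hsimple : ∀ M : Subgroup (GL (Fin n) F), M ≤ P → Nrm P M → M ≤ scalars (Fin n) F ∨ M = P) :
    Geo H ∨ InLinearResidualClass H :=
  (residual_or_geo_R hn H P hNAI hP hsimple).imp GeoR.geo id

end Cfsg.Agent.Lib.Helper99.Asch
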