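import Mathlib
import Cfsg.Prelude.Def_GeometricClasses
import Cfsg.Agent.Lib.Helper99.AschDefs
import Cfsg.Agent.Lib.Helper70.AschU.Defs
import Cfsg.Agent.Lib.Helper37.Asch.FormKit2
import Cfsg.Agent.Lib.Helper20.AschU.Ctr
import Cfsg.Agent.Lib.Helper6.AschUStdForm
import Cfsg.Agent.Lib.Helper25.AschC4Aux

/-!
# ASCHU-[C7-ENTRY] (helper11): the class 7 entry of `InUnitaryClass` with the standard form on the factors.
-/

set_option autoImplicit false

namespace Cfsg.Agent.Lib.Helper70.AschU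

open Cfsg Cfsg.Geo Cfsg.Agent.Lib.Helper99.Asch Cfsg.Agent.Lib.Helper37.Asch
open scoped MatrixGroups Matrix Kronecker

variable {n : ℕ} {F : Type*} [Field F] [Fintype F] {q : ℕ} {σ : F ≃+* F}

/-- ASCHU-[C7-ENTRY] -/
theorem ugeo_of_tensorPower (hσ : UCtx σ q) (H : Subgroup (GL (Fin n) F)) (hH : H ≤ GU n F q) (d k : ℕ) (hd : 3 ≤ d)
    (hk : 2 ≤ k) (hex : ¬ (q = 2 ∧ d = 3)) (e : Fin n ≃ (Fin k → Fin d)) (P : GL (Fin n) F) (c : F) (hc : c ≠ 0)
    (hgram : (P : Matrix (Fin n) (Fin n) F)ᵀ * (P : Matrix (Fin n) (Fin n) F).map σ = c • 1)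
    (hHP : ∀ h ∈ H, glReindex e (P⁻¹ * h * P) ∈ tensorWreathStandard d k F) : UGeo q H := by
  have hF : Fintype.card F = q ^ 2 := hσ.card
  -- `P` is a similarity of the standard form
  have hP : P ∈ similarityGroup (hermForm n F q) := by
    rw [Cfsg.Agent.Lib.Helper20.AschU.mem_similarityGroup_iff hF]
    refine ⟨c, hc, ?_⟩
    have h1 := congrArg Matrix.transpose hgram
    rw [Matrix.transpose_mul, Matrix.transpose_transpose, Matrix.transpose_smul,
      Matrix.transpose_one] at h1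
    rw [← h1]
    congr 1
    ext i j
    simp [Cfsg.Agent.Lib.Helper20.AschU.ctr, hσ.frob]
  refine ⟨tensorWreathSubgroup d k e P ⊓ GU n F q, ?_, ?_⟩
  · right; right; right
    exact ⟨d, k, e, P, hermForm d F q, hd, hk, hex,
      Cfsg.Agent.Lib.Helper20.AschU.isUnitaryFormPow_hermForm hF d,
      Cfsg.Agent.Lib.Helper20.AschU.isTensorPowerFormStructure_std hF d k e P hP, rfl⟩
  · intro h hh
    refine ⟨?_, hH hh⟩
    have h2 := hHP h hh
    have h3 := Cfsg.Agent.Lib.Helper25.AschC4.mem_conj_reindex e P⁻¹ h (tensorWreathStandard d k F)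
      (by rw [inv_inv]; exact h2)
    rw [inv_inv] at h3
    exact h3

end Cfsg.Agent.Lib.Helper70.AschU
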