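import Mathlib
import Cfsg.Prelude.Def_GeometricClasses
import Cfsg.Agent.Lib.Helper99.AschDefs
import Cfsg.Agent.Lib.Helper20.AschU.Basic

/-!
# ASCHU-[KRONEQ] (helper11): `A ⊗ₖ B = A' ⊗ₖ B' ≠ 0` implies proportional factors.
-/

set_option autoImplicit false

namespace Cfsg.Agent.Lib.Helper20.AschU

open Cfsg Cfsg.Geo Cfsg.Agent.Lib.Helper99.Asch
open scoped MatrixGroups Matrix Kronecker

variable {n : ℕ} {F : Type*} [Field F] [Fintype F] {q : ℕ}

/-- ASCHU-[KRONEQ] -/
theorem kronecker_eq_kronecker {K : Type*} [Field K] {d e : ℕ} (A A' : Matrix (Fin d) (Fin d) K)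
    (B B' : Matrix (Fin e) (Fin e) K) (h : A ⊗ₖ B = A' ⊗ₖ B') (h0 : A ⊗ₖ B ≠ 0) :
    ∃ c : K, c ≠ 0 ∧ A' = c • A ∧ B = c • B' := by
  -- a non-zero entry
  obtain ⟨⟨i, k⟩, ⟨j, l⟩, hne⟩ : ∃ x y, (A ⊗ₖ B) x y ≠ 0 := by
    by_contra hcon
    push Not at hcon
    apply h0
    ext x y
    exact hcon x y
  have hent : ∀ (i' : Fin d) (k' : Fin e) (j' : Fin d) (l' : Fin e),
      A i' j' * B k' l' = A' i' j' * B' k' l' := by
    intro i' k' j' l'
    have := congrFun (congrFun h (i', k')) (j', l')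
    simpa [Matrix.kroneckerMap_apply] using this
  rw [Matrix.kroneckerMap_apply] at hne
  have hA : A i j ≠ 0 := left_ne_zero_of_mul hne
  have hB : B k l ≠ 0 := right_ne_zero_of_mul hne
  have hne' : A' i j * B' k l ≠ 0 := by rw [← hent]; exact hne
  have hA' : A' i j ≠ 0 := left_ne_zero_of_mul hne'
  have hB' : B' k l ≠ 0 := right_ne_zero_of_mul hne'
  refine ⟨A' i j / A i j, div_ne_zero hA' hA, ?_, ?_⟩
  · ext i' j'
    rw [Matrix.smul_apply, smul_eq_mul]
    have h1 := hent i' k j' l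
    have h2 := hent i k j l
    -- `A' i' j' * B' k l = A i' j' * B k l`, `B k l = (A' i j / A i j) * B' k l`
    have hBkl : B k l = A' i j / A i j * B' k l := by
      field_simp
      rw [mul_comm, h2, mul_comm]
    rw [hBkl] at h1
    have : A' i' j' * B' k l = (A' i j / A i j * A i' j') * B' k l := by
      rw [← h1]; ring
    exact mul_right_cancel₀ hB' this
  · ext k' l'
    rw [Matrix.smul_apply, smul_eq_mul]
    have h1 := hent i k' j l'
    field_simp
    rw [mul_comm, h1, mul_comm]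

end Cfsg.Agent.Lib.Helper20.AschU
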