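/-
helper11, project ASCHU (S5663, owner helper70).  Module ASCHU-[KRON-FORM] in the "from hypotheses" form:
`kfold_gram_of` takes the statement of ASCHU-[SLOT-INV] (`exists_slot_form`, helper15) as a hypothesis and uses
ASCHU-[UNIQ] (`gram_unique`, helper70, on main).
-/
import Mathlib
import Cfsg.Prelude.Def_GeometricClasses
import Cfsg.Agent.Lib.Helper99.AschDefs
import Cfsg.Agent.Lib.Helper70.AschU.Defs
import Cfsg.Agent.Lib.Helper37.Asch.FormKit2
import Cfsg.Agent.Lib.Helper70.AschU.Form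
import Cfsg.Agent.Lib.Helper47.AschSlotNorm

set_option autoImplicit false
set_option linter.unusedSectionVars false

namespace Cfsg.Agent.Lib.Helper11.AschUKronForm

open Cfsg Cfsg.Geo Cfsg.Agent.Lib.Helper99.Asch Cfsg.Agent.Lib.Helper37.Asch
open Cfsg.Agent.Lib.Helper47.AschSlotNorm Cfsg.Agent.Lib.Helper70.AschU
open scoped MatrixGroups Matrix Kronecker

variable {F : Type*} [Field F]

/-- the commutant of a spanning set of `M_d(F)` is scalar -/
theorem scalar_of_commute_span {d : ℕ} (A : Set (Matrix (Fin d) (Fin d) F))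
    (hA : Submodule.span F A = ⊤) (M : Matrix (Fin d) (Fin d) F)
    (hM : ∀ s ∈ A, M * s = s * M) : ∃ c : F, M = c • (1 : Matrix (Fin d) (Fin d) F) := by
  have hall : ∀ s : Matrix (Fin d) (Fin d) F, M * s = s * M := by
    intro s
    have hs : s ∈ Submodule.span F A := by rw [hA]; exact Submodule.mem_top
    induction hs using Submodule.span_induction with
    | mem x hx => exact hM x hx
    | zero => rw [mul_zero, zero_mul]
    | add x y _ _ hx hy => rw [mul_add, add_mul, hx, hy]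
    | smul c x _ hx => rw [Matrix.mul_smul, Matrix.smul_mul, hx]
  have h := Matrix.mem_range_scalar_of_commute_single (M := M) (fun x z _ => by
    show Matrix.single x z (1 : F) * M = M * Matrix.single x z (1 : F)
    exact (hall _).symm)
  obtain ⟨l, hl⟩ := h
  refine ⟨l, ?_⟩
  rw [← hl]
  ext x y
  simp [Matrix.scalar_apply, Matrix.diagonal_apply, Matrix.one_apply]

/-- the commutant of the slot matrices of spanning sets is scalar -/
theorem scalar_of_commute_slots {k d : ℕ} (A : Fin k → Set (Matrix (Fin d) (Fin d) F))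
    (hA : ∀ i, Submodule.span F (A i) = ⊤) (M : Matrix (Fin k → Fin d) (Fin k → Fin d) F)
    (hM : ∀ i, ∀ a ∈ A i, M * slotMatrix i a = slotMatrix i a * M) :
    ∃ c : F, M = c • (1 : Matrix (Fin k → Fin d) (Fin k → Fin d) F) := by
  apply scalar_of_commute M
  intro i a
  have ha : a ∈ Submodule.span F (A i) := by rw [hA i]; exact Submodule.mem_top
  induction ha using Submodule.span_induction with
  | mem x hx => exact hM i x hx
  | zero => rw [slot_zero, mul_zero, zero_mul]
  | add x y _ _ hx hy => rw [slot_add, mul_add, add_mul, hx, hy]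
  | smul c x _ hx => rw [slot_smul, Matrix.mul_smul, Matrix.smul_mul, hx]

theorem pureT_transpose {k d : ℕ} (C : Fin k → Matrix (Fin d) (Fin d) F) :
    (pureT C)ᵀ = pureT (fun j => (C j)ᵀ) := by
  ext x y
  simp only [pureT, Matrix.transpose_apply]

theorem pureT_map {k d : ℕ} (τ : F ≃+* F) (C : Fin k → Matrix (Fin d) (Fin d) F) :
    (pureT C).map τ = pureT (fun j => (C j).map τ) := by
  ext x y
  simp only [pureT, Matrix.map_apply, map_prod]

/-- congruence of a pure tensor by a pure tensor -/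
theorem pureT_congr {k d : ℕ} (τ : F ≃+* F) (C G : Fin k → Matrix (Fin d) (Fin d) F) :
    (pureT C)ᵀ * pureT G * (pureT C).map τ = pureT (fun j => (C j)ᵀ * G j * (C j).map τ) := by
  rw [pureT_transpose, pureT_map, pureT_mul, pureT_mul]

/-- a pure tensor of slot-wise invariant forms is invariant under the slot matrices -/
theorem pureT_slot_invariant {k d : ℕ} (τ : F ≃+* F) (G : Fin k → Matrix (Fin d) (Fin d) F)
    (i : Fin k) (a : Matrix (Fin d) (Fin d) F) (ha : aᵀ * G i * a.map τ = G i) :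
    (slotMatrix i a)ᵀ * pureT G * (slotMatrix i a).map τ = pureT G := by
  rw [slot_eq_pureT, pureT_congr]
  congr 1
  funext j
  by_cases hj : j = i
  · subst hj
    simp only [Function.update_self]
    exact ha
  · simp only [Function.update_of_ne hj, Matrix.transpose_one, map_one_eq, one_mul, mul_one]

theorem pureT_ne_zero {k d : ℕ} (G : Fin k → Matrix (Fin d) (Fin d) F) (hG : ∀ i, G i ≠ 0) :
    pureT G ≠ 0 := by
  have h : ∀ i, ∃ x y, G i x y ≠ 0 := by
    intro i
    by_contra hcon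
    push Not at hcon
    exact hG i (by ext x y; exact hcon x y)
  choose x y hxy using h
  intro h0
  have h1 := congrFun (congrFun h0 x) y
  simp only [pureT, Matrix.zero_apply] at h1
  exact (Finset.prod_ne_zero_iff.2 (fun i _ => hxy i)) h1

theorem ne_zero_of_isUnit {ι : Type*} [Fintype ι] [DecidableEq ι] [Nonempty ι] {M : Matrix ι ι F}
    (hM : IsUnit M) : M ≠ 0 := by
  intro h0
  rw [h0] at hM
  exact not_isUnit_zero hM

theorem isUnit_smul_of_ne_zero {ι : Type*} [Fintype ι] [DecidableEq ι] {M : Matrix ι ι F}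
    (hM : IsUnit M) {t : F} (ht : t ≠ 0) : IsUnit (t • M) := by
  rw [Matrix.isUnit_iff_isUnit_det] at hM ⊢
  rw [Matrix.det_smul]
  exact (isUnit_iff_ne_zero.2 (pow_ne_zero _ ht)).mul hM

/-- an invertible invariant form under a spanning set can be rescaled to be hermitian -/
theorem exists_hermitian_rescale {d : ℕ} (hd : 0 < d) {σ : F ≃+* F} (hinv : ∀ a, σ (σ a) = a)
    (hne : ∃ a, σ a ≠ a) (A : Set (Matrix (Fin d) (Fin d) F)) (hA : Submodule.span F A = ⊤)
    (G0 : Matrix (Fin d) (Fin d) F) (hG0 : IsUnit G0) (hfix : ∀ a ∈ A, aᵀ * G0 * a.map σ = G0) :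
    ∃ G : Matrix (Fin d) (Fin d) F, IsUnit G ∧ (G.map σ)ᵀ = G ∧ ∀ a ∈ A, aᵀ * G * a.map σ = G := by
  have : Nonempty (Fin d) := ⟨⟨0, hd⟩⟩
  -- the adjoint form is invariant as well
  have hstar : ∀ a ∈ A, aᵀ * (G0.map σ)ᵀ * a.map σ = (G0.map σ)ᵀ := by
    intro a ha
    have h1 := hfix a ha
    have h2 : ((aᵀ * G0 * a.map σ).map σ)ᵀ = (G0.map σ)ᵀ := by rw [h1]
    rw [Matrix.map_mul, Matrix.map_mul, Matrix.transpose_mul, Matrix.transpose_mul] at h2
    have h3 : ((a.map σ).map σ)ᵀ = aᵀ := by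
      ext x y
      simp [hinv]
    have h4 : ((aᵀ).map σ)ᵀ = a.map σ := by
      ext x y
      simp
    rw [h3, h4, ← Matrix.mul_assoc] at h2
    exact h2
  obtain ⟨l, hl⟩ := gram_unique σ A (fun M hM => scalar_of_commute_span A hA M hM) G0 (G0.map σ)ᵀ hG0
    (fun s hs => ⟨1, one_ne_zero, by rw [one_smul]; exact hfix s hs,
      by rw [one_smul]; exact hstar s hs⟩)
  have hl' : ∀ x y, σ (G0 y x) = l * G0 x y := by
    intro x y
    have := congrFun (congrFun hl x) y
    simpa using this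
  have hG0ne : G0 ≠ 0 := ne_zero_of_isUnit hG0
  have hlsl : σ l * l = 1 := by
    obtain ⟨x, y, hxy⟩ : ∃ x y, G0 x y ≠ 0 := by
      by_contra hcon
      push Not at hcon
      exact hG0ne (by ext x y; exact hcon x y)
    have h1 : G0 x y = σ l * l * G0 x y := by
      calc G0 x y = σ (σ (G0 x y)) := (hinv _).symm
        _ = σ (l * G0 y x) := by rw [hl' y x]
        _ = σ l * σ (G0 y x) := map_mul σ _ _
        _ = σ l * (l * G0 x y) := by rw [hl' x y]
        _ = σ l * l * G0 x y := by ring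
    have h2 : (σ l * l - 1) * G0 x y = 0 := by
      rw [sub_mul, one_mul, ← h1, sub_self]
    rcases mul_eq_zero.1 h2 with h | h
    · exact sub_eq_zero.1 h
    · exact absurd h hxy
  -- choose `b` with `t = b + l σ(b) ≠ 0`
  obtain ⟨b, hb⟩ : ∃ b : F, b + l * σ b ≠ 0 := by
    by_contra hcon
    push Not at hcon
    have h1 := hcon 1
    rw [map_one, mul_one] at h1
    have hl1 : l = -1 := by
      rw [eq_neg_iff_add_eq_zero, add_comm]; exact h1
    obtain ⟨a, ha⟩ := hne
    apply ha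
    have h2 := hcon a
    rw [hl1] at h2
    have : a - σ a = 0 := by rw [← h2]; ring
    exact (sub_eq_zero.1 this).symm
  set t : F := b + l * σ b with ht
  have hst : σ t * l = t := by
    rw [ht, map_add, map_mul, hinv, add_mul]
    have : σ l * b * l = b * (σ l * l) := by ring
    rw [this, hlsl, mul_one, add_comm, mul_comm (σ b) l]
  refine ⟨t • G0, isUnit_smul_of_ne_zero hG0 hb, ?_, ?_⟩
  · ext x y
    simp only [Matrix.transpose_apply, Matrix.map_apply, Matrix.smul_apply, smul_eq_mul, map_mul]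
    rw [hl' x y, ← mul_assoc, hst]
  · intro a ha
    rw [Matrix.mul_smul, Matrix.smul_mul, hfix a ha]

/-- ASCHU-[KRON-FORM], from the statement of ASCHU-[SLOT-INV] as a hypothesis. -/
theorem kfold_gram_of {σ : F ≃+* F} {k d : ℕ}
    (hslot : ∀ (i : Fin k) (A : Set (Matrix (Fin d) (Fin d) F)),
      Submodule.span F A = ⊤ → (∀ a ∈ A, IsUnit a) →
      ∀ J : Matrix (Fin k → Fin d) (Fin k → Fin d) F, J ≠ 0 →
      (∀ a ∈ A, (slotMatrix i a)ᵀ * J * (slotMatrix i a).map σ = J) →
      ∃ G : Matrix (Fin d) (Fin d) F, IsUnit G ∧ ∀ a ∈ A, aᵀ * G * a.map σ = G)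
    (hinv : ∀ a, σ (σ a) = a) (hne : ∃ a, σ a ≠ a) (hd : 0 < d)
    (A : Fin k → Set (Matrix (Fin d) (Fin d) F))
    (hA : ∀ i, Submodule.span F (A i) = ⊤) (hAu : ∀ i, ∀ a ∈ A i, IsUnit a)
    (J : Matrix (Fin k → Fin d) (Fin k → Fin d) F) (hJ : IsUnit J)
    (hfix : ∀ i, ∀ a ∈ A i, (slotMatrix i a)ᵀ * J * (slotMatrix i a).map σ = J) :
    ∃ (G : Fin k → Matrix (Fin d) (Fin d) F) (c : F), c ≠ 0 ∧ (∀ i, IsUnit (G i)) ∧
      (∀ i, ((G i).map σ)ᵀ = G i) ∧ (∀ i, ∀ a ∈ A i, aᵀ * G i * a.map σ = G i) ∧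
      J = c • Matrix.of (fun x y : Fin k → Fin d => ∏ i, G i (x i) (y i)) := by
  have : Nonempty (Fin d) := ⟨⟨0, hd⟩⟩
  have hJ0 : J ≠ 0 := ne_zero_of_isUnit hJ
  have hG : ∀ i, ∃ G : Matrix (Fin d) (Fin d) F, IsUnit G ∧ (G.map σ)ᵀ = G ∧
      ∀ a ∈ A i, aᵀ * G * a.map σ = G := by
    intro i
    obtain ⟨G0, hG0, hG0fix⟩ := hslot i (A i) (hA i) (hAu i) J hJ0 (hfix i)
    exact exists_hermitian_rescale hd hinv hne (A i) (hA i) G0 hG0 hG0fix
  choose G hGu hGh hGf using hG
  -- the tensor form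
  have hT : ∀ i, ∀ a ∈ A i, (slotMatrix i a)ᵀ * pureT G * (slotMatrix i a).map σ = pureT G :=
    fun i a ha => pureT_slot_invariant σ G i a (hGf i a ha)
  have hTne : pureT G ≠ 0 := pureT_ne_zero G (fun i => ne_zero_of_isUnit (hGu i))
  obtain ⟨c, hc⟩ := gram_unique σ {s | ∃ i, ∃ a ∈ A i, s = slotMatrix i a}
    (fun M hM => scalar_of_commute_slots A hA M (fun i a ha => hM _ ⟨i, a, ha, rfl⟩)) J (pureT G) hJ
    (by
      rintro s ⟨i, a, ha, rfl⟩
      exact ⟨1, one_ne_zero, by rw [one_smul]; exact hfix i a ha, by rw [one_smul]; exact hT i a ha⟩)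
  have hc0 : c ≠ 0 := by
    intro h0
    rw [h0, zero_smul] at hc
    exact hTne hc
  refine ⟨G, c⁻¹, inv_ne_zero hc0, hGu, hGh, hGf, ?_⟩
  have : Matrix.of (fun x y : Fin k → Fin d => ∏ i, G i (x i) (y i)) = pureT G := rfl
  rw [this, hc, smul_smul, inv_mul_cancel₀ hc0, one_smul]

end Cfsg.Agent.Lib.Helper11.AschUKronForm
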