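/-
helper11, project ASCHU (S5663, owner helper70).  Module ASCHU-[KRON-FORM], exact sheet statement:
`kfold_gram`, from `kfold_gram_of` (Helper11.AschUKronForm) and ASCHU-[SLOT-INV] (`exists_slot_form`, helper15).
-/
import Mathlib
import Cfsg.Prelude.Def_GeometricClasses
import Cfsg.Agent.Lib.Helper99.AschDefs
import Cfsg.Agent.Lib.Helper70.AschU.Defs
import Cfsg.Agent.Lib.Helper37.Asch.FormKit2
import Cfsg.Agent.Lib.Helper15.AschUSlotInv
import Cfsg.Agent.Lib.Helper11.AschUKronForm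

set_option autoImplicit false
set_option linter.unusedSectionVars false

namespace Cfsg.Agent.Lib.Helper70.AschU

open Cfsg Cfsg.Geo Cfsg.Agent.Lib.Helper99.Asch Cfsg.Agent.Lib.Helper37.Asch
open scoped MatrixGroups Matrix Kronecker

variable {n : ℕ} {F : Type*} [Field F] [Fintype F] {q : ℕ} {σ : F ≃+* F}

/-- ASCHU-[KRON-FORM] (exact sheet statement). -/
theorem kfold_gram {k d : ℕ} (hinv : ∀ a, σ (σ a) = a) (hne : ∃ a, σ a ≠ a) (hd : 0 < d)
    (A : Fin k → Set (Matrix (Fin d) (Fin d) F))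
    (hA : ∀ i, Submodule.span F (A i) = ⊤) (hAu : ∀ i, ∀ a ∈ A i, IsUnit a)
    (J : Matrix (Fin k → Fin d) (Fin k → Fin d) F) (hJ : IsUnit J)
    (hfix : ∀ i, ∀ a ∈ A i, (slotMatrix i a)ᵀ * J * (slotMatrix i a).map σ = J) :
    ∃ (G : Fin k → Matrix (Fin d) (Fin d) F) (c : F), c ≠ 0 ∧ (∀ i, IsUnit (G i)) ∧
      (∀ i, ((G i).map σ)ᵀ = G i) ∧ (∀ i, ∀ a ∈ A i, aᵀ * G i * a.map σ = G i) ∧
      J = c • Matrix.of (fun x y : Fin k → Fin d => ∏ i, G i (x i) (y i)) := by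
  exact Cfsg.Agent.Lib.Helper11.AschUKronForm.kfold_gram_of
    (fun i A hA hAu J hJ hfix => exists_slot_form σ i A hA hAu J hJ hfix) hinv hne hd A hA hAu J hJ hfix

end Cfsg.Agent.Lib.Helper70.AschU
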