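import Cfsg.Agent.Lib.Helper92.BPDefs

/-!
# PROJECT BP (helper92), modules BP-[L1-LOCAL] and BP-[L1-ROS] (helper11): the corner of a primitive idempotent is a local
ring with residue field `R/𝔪`, and Rosenberg's lemma.

The three inputs from other modules (`corner_crt` = BP-[L1-CRT], `cornerUnit_of_sub_mem` and `idem_eq_zero_of_mem` =
BP-[L0-UNIT]) enter as the hypotheses `CrtHyp`, `UnitHyp`, `NakHyp` (their exact statements for fixed `R`, `Λ`).
-/

set_option autoImplicit false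

namespace Cfsg.Agent.Lib.Helper11.BP

open Cfsg.Agent.Lib.Helper92.BP

section Ring

variable {Λ : Type*} [Ring Λ]

theorem inCorner_self {e : Λ} (he : IsIdempotentElem e) : InCorner e e := ⟨he.eq, he.eq⟩

theorem inCorner_zero (e : Λ) : InCorner e (0 : Λ) := ⟨mul_zero e, zero_mul e⟩

theorem inCorner_add {e x y : Λ} (hx : InCorner e x) (hy : InCorner e y) : InCorner e (x + y) :=
  ⟨by rw [mul_add, hx.1, hy.1], by rw [add_mul, hx.2, hy.2]⟩

theorem inCorner_sub {e x y : Λ} (hx : InCorner e x) (hy : InCorner e y) : InCorner e (x - y) :=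
  ⟨by rw [mul_sub, hx.1, hy.1], by rw [sub_mul, hx.2, hy.2]⟩

theorem inCorner_neg {e x : Λ} (hx : InCorner e x) : InCorner e (-x) :=
  ⟨by rw [mul_neg, hx.1], by rw [neg_mul, hx.2]⟩

theorem inCorner_mul {e x y : Λ} (hx : InCorner e x) (hy : InCorner e y) : InCorner e (x * y) :=
  ⟨by rw [← mul_assoc, hx.1], by rw [mul_assoc, hy.2]⟩

theorem inCorner_commute {e x : Λ} (hx : InCorner e x) : Commute e x := by
  show e * x = x * e
  rw [hx.1, hx.2]

theorem inCorner_sum {ι : Type*} (s : Finset ι) {e : Λ} (z : ι → Λ) (hz : ∀ i ∈ s, InCorner e (z i)) :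
    InCorner e (∑ i ∈ s, z i) := by
  constructor
  · rw [Finset.mul_sum]
    exact Finset.sum_congr rfl fun i hi => (hz i hi).1
  · rw [Finset.sum_mul]
    exact Finset.sum_congr rfl fun i hi => (hz i hi).2

theorem inCorner_mul_mul {e : Λ} (he : IsIdempotentElem e) (x : Λ) : InCorner e (e * x * e) :=
  ⟨by rw [← mul_assoc, ← mul_assoc, he.eq], by rw [mul_assoc, he.eq]⟩

/-- one-sided corner inverses are two-sided -/
theorem cornerUnit_of_inverses {e x y y' : Λ} (hx : InCorner e x) (hy : InCorner e y) (hy' : InCorner e y')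
    (h1 : x * y = e) (h2 : y' * x = e) : CornerUnit e x := by
  have h : y' = y := by
    calc y' = y' * e := hy'.2.symm
      _ = y' * (x * y) := by rw [h1]
      _ = (y' * x) * y := by rw [mul_assoc]
      _ = e * y := by rw [h2]
      _ = y := hy.1
  subst h
  exact ⟨hx, y', hy, h1, h2⟩

theorem not_cornerUnit_zero {e : Λ} (he : e ≠ 0) : ¬ CornerUnit e (0 : Λ) := by
  rintro ⟨-, y, -, h, -⟩
  rw [zero_mul] at h
  exact he h.symm

theorem cornerUnit_self {e : Λ} (he : IsIdempotentElem e) : CornerUnit e e :=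
  ⟨inCorner_self he, e, inCorner_self he, he.eq, he.eq⟩

/-- in the corner of a primitive idempotent a right inverse is an inverse -/
theorem cornerUnit_of_right_inverse {e x u : Λ} (he : IsPrimIdem e) (hx : InCorner e x) (hu : InCorner e u)
    (h : x * u = e) : CornerUnit e x := by
  have hf : IdemLE (u * x) e := by
    refine ⟨?_, ?_, ?_⟩
    · show u * x * (u * x) = u * x
      calc u * x * (u * x) = u * (x * u) * x := by simp only [mul_assoc]
        _ = u * x := by rw [h, hu.2]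
    · rw [← mul_assoc, hu.1]
    · rw [mul_assoc, hx.2]
  rcases he.2.2 _ hf with h0 | h1
  · exfalso
    apply he.2.1
    calc e = e * e := he.1.eq.symm
      _ = x * (u * x) * u := by rw [← h]; simp only [mul_assoc]
      _ = 0 := by rw [h0, mul_zero, zero_mul]
  · exact ⟨hx, u, hu, h, h1⟩

end Ring

section Alg

variable (R : Type*) [CommRing R] [IsLocalRing R]
variable (Λ : Type*) [Ring Λ] [Algebra R Λ]

/-- the submodule `𝔪 Λ` -/
abbrev mL : Submodule R Λ := IsLocalRing.maximalIdeal R • ⊤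

/-- the statement of `corner_crt` (BP-[L1-CRT]) for `R`, `Λ` -/
def CrtHyp : Prop :=
  ∀ {e : Λ}, IsIdempotentElem e → ∀ x : Λ, InCorner e x →
    ∃ (n : ℕ) (ε : Fin n → Λ) (α : Fin n → R),
      (∀ i, IdemLE (ε i) e) ∧ (∀ i j, i ≠ j → Orth (ε i) (ε j)) ∧ ∑ i, ε i = e ∧
      (∀ i, ∀ y : Λ, y * x = x * y → y * e = e * y → y * ε i = ε i * y) ∧
      (∀ i j, i ≠ j → α i - α j ∉ IsLocalRing.maximalIdeal R) ∧
      (∀ i, α i ∉ IsLocalRing.maximalIdeal R → ∃ y : Λ, ε i = x * y) ∧
      (∀ i, ∃ m : ℕ, ((x - α i • e) * ε i) ^ m ∈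
        (IsLocalRing.maximalIdeal R • ⊤ : Submodule R Λ))

/-- the statement of `cornerUnit_of_sub_mem` (BP-[L0-UNIT]) for `R`, `Λ` -/
def UnitHyp : Prop :=
  ∀ {e : Λ}, IsIdempotentElem e → ∀ x : Λ, InCorner e x →
    x - e ∈ (IsLocalRing.maximalIdeal R • ⊤ : Submodule R Λ) → CornerUnit e x

/-- the statement of `idem_eq_zero_of_mem` (BP-[L0-NAK]) for `R`, `Λ` -/
def NakHyp : Prop :=
  ∀ e : Λ, IsIdempotentElem e → e ∈ (IsLocalRing.maximalIdeal R • ⊤ : Submodule R Λ) → e = 0

variable {R Λ}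

theorem mL_mul_left (a : Λ) {z : Λ} (hz : z ∈ mL R Λ) : a * z ∈ mL R Λ := by
  refine Submodule.smul_induction_on hz ?_ ?_
  · intro r hr n _
    rw [mul_smul_comm]
    exact Submodule.smul_mem_smul hr Submodule.mem_top
  · intro x y hx hy
    rw [mul_add]
    exact add_mem hx hy

theorem mL_mul_right (a : Λ) {z : Λ} (hz : z ∈ mL R Λ) : z * a ∈ mL R Λ := by
  refine Submodule.smul_induction_on hz ?_ ?_
  · intro r hr n _
    rw [smul_mul_assoc]
    exact Submodule.smul_mem_smul hr Submodule.mem_top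
  · intro x y hx hy
    rw [add_mul]
    exact add_mem hx hy

/-- `e - μ` is a corner unit when a power of `μ ∈ eΛe` lies in `𝔪Λ` (geometric series) -/
theorem cornerUnit_sub_of_pow_mem (hUnit : UnitHyp R Λ) {e μ : Λ} (he : IsIdempotentElem e)
    (hμ : InCorner e μ) (m : ℕ) (hm : μ ^ m ∈ mL R Λ) : CornerUnit e (e - μ) := by
  have hcomm : Commute e μ := inCorner_commute hμ
  have hcm : e * μ ^ m = μ ^ m * e := (hcomm.pow_right m)
  set G : Λ := ∑ k ∈ Finset.range m, μ ^ k with hG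
  have hcG : e * G = G * e := by
    rw [hG, Finset.mul_sum, Finset.sum_mul]
    exact Finset.sum_congr rfl fun k _ => (hcomm.pow_right k)
  set z : Λ := e - e * μ ^ m with hz
  have hzc : InCorner e z := by
    constructor
    · rw [hz, mul_sub, ← mul_assoc, he.eq]
    · rw [hz, sub_mul, he.eq, mul_assoc, ← hcm, ← mul_assoc, he.eq]
  have hzm : z - e ∈ mL R Λ := by
    have : z - e = -(e * μ ^ m) := by rw [hz]; abel
    rw [this]
    exact neg_mem (mL_mul_left e hm)
  obtain ⟨-, w, hw, hzw, hwz⟩ := hUnit he z hzc hzm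
  have hx : InCorner e (e - μ) := inCorner_sub (inCorner_self he) hμ
  have e1 : e - μ = e * (1 - μ) := by rw [mul_sub, mul_one, hμ.1]
  have e2 : e - μ = (1 - μ) * e := by rw [sub_mul, one_mul, hμ.2]
  have h1 : (e - μ) * (e * G) = z := by
    calc (e - μ) * (e * G) = ((e - μ) * e) * G := by rw [mul_assoc]
      _ = (e - μ) * G := by rw [hx.2]
      _ = e * ((1 - μ) * G) := by rw [e1, mul_assoc]
      _ = e * (1 - μ ^ m) := by rw [hG, mul_neg_geom_sum]
      _ = z := by rw [hz, mul_sub, mul_one]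
  have h2 : (e * G) * (e - μ) = z := by
    calc (e * G) * (e - μ) = e * (G * (1 - μ)) * e := by rw [e2]; simp only [mul_assoc]
      _ = e * (1 - μ ^ m) * e := by rw [hG, geom_sum_mul_neg]
      _ = z := by rw [hz, mul_sub, mul_one, sub_mul, he.eq, mul_assoc, ← hcm, ← mul_assoc, he.eq]
  have hr : InCorner e (e * G * w) := by
    constructor
    · rw [← mul_assoc, ← mul_assoc, he.eq]
    · rw [mul_assoc, hw.2]
  have hl : InCorner e (w * (e * G)) := by
    constructor
    · rw [← mul_assoc, hw.1]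
    · rw [mul_assoc, mul_assoc, ← hcG, ← mul_assoc e e, he.eq]
  refine cornerUnit_of_inverses hx hr hl ?_ ?_
  · rw [← mul_assoc, h1, hzw]
  · rw [mul_assoc, h2, hwz]

/-- `x ∈ eΛe` with `(x - β e)^m ∈ 𝔪Λ`, `β` a unit of `R`, is a corner unit -/
theorem cornerUnit_of_unit_scalar (hUnit : UnitHyp R Λ) {e x : Λ} (he : IsIdempotentElem e)
    (hx : InCorner e x) (β : R) (hβ : IsUnit β) (m : ℕ) (hm : (x - β • e) ^ m ∈ mL R Λ) :
    CornerUnit e x := by
  obtain ⟨u, rfl⟩ := hβ
  set μ : Λ := e - ((u⁻¹ : Rˣ) : R) • x with hμdef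
  have hμ : InCorner e μ := by
    constructor
    · rw [hμdef, mul_sub, he.eq, mul_smul_comm, hx.1]
    · rw [hμdef, sub_mul, he.eq, smul_mul_assoc, hx.2]
  have hμeq : μ = (-((u⁻¹ : Rˣ) : R)) • (x - (u : R) • e) := by
    rw [hμdef, smul_sub, neg_smul, neg_smul, smul_smul, Units.inv_mul, one_smul]
    abel
  have hμm : μ ^ m ∈ mL R Λ := by
    rw [hμeq, smul_pow]
    exact Submodule.smul_mem _ _ hm
  obtain ⟨-, w, hw, h1, h2⟩ := cornerUnit_sub_of_pow_mem hUnit he hμ m hμm
  have hsub : e - μ = ((u⁻¹ : Rˣ) : R) • x := by rw [hμdef]; abel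
  rw [hsub] at h1 h2
  refine ⟨hx, ((u⁻¹ : Rˣ) : R) • w, ?_, ?_, ?_⟩
  · exact ⟨by rw [mul_smul_comm, hw.1], by rw [smul_mul_assoc, hw.2]⟩
  · rw [mul_smul_comm, ← smul_mul_assoc, h1]
  · rw [smul_mul_assoc, ← mul_smul_comm, h2]

/-- CRT + primitivity: `x - α e` is nilpotent modulo `𝔪Λ` for a scalar `α` -/
theorem exists_scalar_pow_mem (hCRT : CrtHyp R Λ) {e : Λ} (he : IsPrimIdem e) (x : Λ) (hx : InCorner e x) :
    ∃ (α : R) (m : ℕ), (x - α • e) ^ m ∈ mL R Λ := by
  obtain ⟨n, ε, α, hle, -, hsum, -, -, -, hpow⟩ := hCRT he.1 x hx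
  have hex : ∃ i, ε i = e := by
    by_contra hcon
    push Not at hcon
    have h0 : ∀ i, ε i = 0 := fun i => (he.2.2 (ε i) (hle i)).resolve_right (hcon i)
    apply he.2.1
    rw [← hsum]
    exact Finset.sum_eq_zero fun i _ => h0 i
  obtain ⟨i, hi⟩ := hex
  obtain ⟨m, hm⟩ := hpow i
  refine ⟨α i, m, ?_⟩
  rw [hi, sub_mul, hx.2, smul_mul_assoc, he.1.eq] at hm
  exact hm

/-- BP-[L1-LOCAL], from the hypotheses -/
theorem cornerUnit_or_of (hCRT : CrtHyp R Λ) (hUnit : UnitHyp R Λ) {e : Λ} (he : IsPrimIdem e)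
    (x : Λ) (hx : InCorner e x) : CornerUnit e x ∨ CornerUnit e (e - x) := by
  obtain ⟨α, m, hm⟩ := exists_scalar_pow_mem hCRT he x hx
  by_cases hα : α ∈ IsLocalRing.maximalIdeal R
  · right
    have hu : IsUnit (1 - α) :=
      IsLocalRing.isUnit_one_sub_self_of_mem_nonunits α ((IsLocalRing.mem_maximalIdeal α).mp hα)
    refine cornerUnit_of_unit_scalar hUnit he.1 (inCorner_sub (inCorner_self he.1) hx) (1 - α) hu m ?_
    have : e - x - (1 - α) • e = -(x - α • e) := by
      rw [sub_smul, one_smul]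
      abel
    rw [this, neg_pow]
    exact mL_mul_left _ hm
  · left
    exact cornerUnit_of_unit_scalar hUnit he.1 hx α (IsLocalRing.notMem_maximalIdeal.mp hα) m hm

/-- BP-[L1-LOCAL], from the hypotheses: non-units of the corner are closed under addition -/
theorem not_cornerUnit_add_of (hCRT : CrtHyp R Λ) (hUnit : UnitHyp R Λ) {e : Λ}
    (he : IsPrimIdem e) (x y : Λ) (hx : InCorner e x) (hy : InCorner e y)
    (hx' : ¬ CornerUnit e x) (hy' : ¬ CornerUnit e y) : ¬ CornerUnit e (x + y) := by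
  rintro ⟨-, w, hw, h1, -⟩
  rw [add_mul] at h1
  rcases cornerUnit_or_of hCRT hUnit he (x * w) (inCorner_mul hx hw) with h | h
  · obtain ⟨-, v, hv, hxwv, -⟩ := h
    apply hx'
    refine cornerUnit_of_right_inverse he hx (inCorner_mul hw hv) ?_
    rw [← mul_assoc, hxwv]
  · have : e - x * w = y * w := by rw [← h1]; abel
    rw [this] at h
    obtain ⟨-, v, hv, hywv, -⟩ := h
    apply hy'
    refine cornerUnit_of_right_inverse he hy (inCorner_mul hw hv) ?_
    rw [← mul_assoc, hywv]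

/-- BP-[L1-RESK], from the hypotheses -/
theorem exists_scalar_not_cornerUnit_of (hCRT : CrtHyp R Λ) (hNak : NakHyp R Λ) {e : Λ}
    (he : IsPrimIdem e) (x : Λ) (hx : InCorner e x) : ∃ r : R, ¬ CornerUnit e (x - r • e) := by
  obtain ⟨α, m, hm⟩ := exists_scalar_pow_mem hCRT he x hx
  refine ⟨α, ?_⟩
  rintro ⟨hν, y, hy, hνy, -⟩
  set ν : Λ := x - α • e with hνdef
  have hcomm : Commute e ν := inCorner_commute hν
  have key : ∀ k : ℕ, e * ν ^ k * y ^ k = e := by
    intro k
    induction k with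
    | zero => simp
    | succ k ih =>
      calc e * ν ^ (k + 1) * y ^ (k + 1) = e * ν ^ k * (ν * y) * y ^ k := by
            rw [pow_succ, pow_succ']
            simp only [mul_assoc]
        _ = e * (ν ^ k * e) * y ^ k := by rw [hνy]; simp only [mul_assoc]
        _ = e * ν ^ k * y ^ k := by
            rw [← (hcomm.pow_right k).eq, ← mul_assoc, he.1.eq]
        _ = e := ih
  apply he.2.1
  apply hNak e he.1
  rw [← key m]
  exact mL_mul_right _ (mL_mul_left _ hm)

/-- a sum of non-units of the corner of a primitive idempotent is a non-unit -/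
theorem not_cornerUnit_sum_of (hCRT : CrtHyp R Λ) (hUnit : UnitHyp R Λ) {e : Λ} (he : IsPrimIdem e)
    {ι : Type*} (s : Finset ι) (z : ι → Λ) (hz : ∀ i ∈ s, InCorner e (z i))
    (hz' : ∀ i ∈ s, ¬ CornerUnit e (z i)) : ¬ CornerUnit e (∑ i ∈ s, z i) := by
  classical
  induction s using Finset.induction_on with
  | empty =>
    rw [Finset.sum_empty]
    exact not_cornerUnit_zero he.2.1
  | insert a s ha ih =>
    rw [Finset.sum_insert ha]
    have hz2 : ∀ i ∈ s, InCorner e (z i) := fun i hi => hz i (Finset.mem_insert_of_mem hi)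
    exact not_cornerUnit_add_of hCRT hUnit he _ _ (hz a (Finset.mem_insert_self a s))
      (inCorner_sum s z hz2) (hz' a (Finset.mem_insert_self a s))
      (ih hz2 fun i hi => hz' i (Finset.mem_insert_of_mem hi))

/-- BP-[L1-ROS], from the hypotheses: Rosenberg's lemma -/
theorem rosenberg_of (hCRT : CrtHyp R Λ) (hUnit : UnitHyp R Λ) {e : Λ} (he : IsPrimIdem e)
    {ι : Type*} (s : Finset ι) (I : ι → Ideal Λ) (hI : ∀ i, (I i).IsTwoSided)
    (h : e ∈ ⨆ i ∈ s, I i) : ∃ i ∈ s, e ∈ I i := by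
  obtain ⟨μ, hμ⟩ := (Submodule.mem_iSup_finset_iff_exists_sum I e).mp h
  have hsum : ∑ i ∈ s, e * (μ i : Λ) * e = e := by
    rw [← Finset.sum_mul, ← Finset.mul_sum, hμ, he.1.eq, he.1.eq]
  by_contra hcon
  push Not at hcon
  have hnu : ∀ i ∈ s, ¬ CornerUnit e (e * (μ i : Λ) * e) := by
    intro i hi hcu
    apply hcon i hi
    obtain ⟨-, y, -, hy, -⟩ := hcu
    have := hI i
    rw [← hy]
    exact Ideal.mul_mem_right _ _ (Ideal.mul_mem_right _ _ (Ideal.mul_mem_left _ _ (μ i).2))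
  have := not_cornerUnit_sum_of hCRT hUnit he s (fun i => e * (μ i : Λ) * e)
    (fun i _ => inCorner_mul_mul he.1 _) hnu
  rw [hsum] at this
  exact this (cornerUnit_self he.1)

end Alg

end Cfsg.Agent.Lib.Helper11.BP
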