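import Cfsg.Agent.Lib.Helper80.BPUnit
import Cfsg.Agent.Lib.Helper11.BPLocal

/-!
# PROJECT BP (helper92), BP-[L1-LOCAL] and BP-[L1-ROS] (helper11) with BP-[L0-UNIT] (helper80) plugged in: only the
statement of `corner_crt` (BP-[L1-CRT]) remains as the hypothesis `CrtHyp R Λ`.
-/

set_option autoImplicit false

namespace Cfsg.Agent.Lib.Helper11.BP

open Cfsg.Agent.Lib.Helper92.BP

variable {R : Type*} [CommRing R] [IsDomain R] [IsLocalRing R]
variable {Λ : Type*} [Ring Λ] [Algebra R Λ]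

theorem unitHyp [Module.Finite R Λ] : UnitHyp R Λ :=
  fun he x hx h => Cfsg.Agent.Lib.Helper80.BP.cornerUnit_of_sub_mem he x hx h

theorem nakHyp [Module.Finite R Λ] : NakHyp R Λ :=
  fun e he h => Cfsg.Agent.Lib.Helper80.BP.idem_eq_zero_of_mem e he h

/-- BP-[L1-LOCAL] from the statement of `corner_crt` -/
theorem cornerUnit_or_of_crt [Module.Finite R Λ] (hCRT : CrtHyp R Λ) {e : Λ} (he : IsPrimIdem e)
    (x : Λ) (hx : InCorner e x) : CornerUnit e x ∨ CornerUnit e (e - x) :=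
  cornerUnit_or_of hCRT unitHyp he x hx

/-- BP-[L1-LOCAL] from the statement of `corner_crt` -/
theorem not_cornerUnit_add_of_crt [Module.Finite R Λ] (hCRT : CrtHyp R Λ) {e : Λ}
    (he : IsPrimIdem e) (x y : Λ) (hx : InCorner e x) (hy : InCorner e y)
    (hx' : ¬ CornerUnit e x) (hy' : ¬ CornerUnit e y) : ¬ CornerUnit e (x + y) :=
  not_cornerUnit_add_of hCRT unitHyp he x y hx hy hx' hy'

/-- BP-[L1-RESK] from the statement of `corner_crt` -/
theorem exists_scalar_not_cornerUnit_of_crt [Module.Finite R Λ] (hCRT : CrtHyp R Λ) {e : Λ}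
    (he : IsPrimIdem e) (x : Λ) (hx : InCorner e x) : ∃ r : R, ¬ CornerUnit e (x - r • e) :=
  exists_scalar_not_cornerUnit_of hCRT nakHyp he x hx

/-- BP-[L1-ROS] from the statement of `corner_crt` -/
theorem rosenberg_of_crt [Module.Finite R Λ] (hCRT : CrtHyp R Λ) {e : Λ} (he : IsPrimIdem e)
    {ι : Type*} (s : Finset ι) (I : ι → Ideal Λ) (hI : ∀ i, (I i).IsTwoSided)
    (h : e ∈ ⨆ i ∈ s, I i) : ∃ i ∈ s, e ∈ I i :=
  rosenberg_of hCRT unitHyp he s I hI h

end Cfsg.Agent.Lib.Helper11.BP
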