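import Cfsg.Agent.Lib.Helper80.BPCrt
import Cfsg.Agent.Lib.Helper11.BPLocalMain

/-!
# PROJECT BP (helper92), BP-[L1-LOCAL] and BP-[L1-ROS] (helper11): the exact skeleton statements, with `corner_crt`
(helper80, BP-[L1-CRT]) and BP-[L0-UNIT] plugged in.
-/

set_option autoImplicit false

namespace Cfsg.Agent.Lib.Helper11.BP

open Polynomial Cfsg.Agent.Lib.Helper92.BP

variable {R : Type*} [CommRing R] [IsDomain R] [IsLocalRing R]
variable {Λ : Type*} [Ring Λ] [Algebra R Λ]

theorem crtHyp (hR : MonicSplits R) [Module.Finite R Λ] : CrtHyp R Λ :=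
  fun he x hx => Cfsg.Agent.Lib.Helper80.BP.corner_crt hR he x hx

/-- BP-[L1-LOCAL] : the corner of a primitive idempotent is a local ring -/
theorem cornerUnit_or (hR : MonicSplits R) [Module.Finite R Λ] {e : Λ} (he : IsPrimIdem e)
    (x : Λ) (hx : InCorner e x) : CornerUnit e x ∨ CornerUnit e (e - x) :=
  cornerUnit_or_of_crt (crtHyp hR) he x hx

/-- BP-[L1-LOCAL] : non-units of the corner are closed under addition -/
theorem not_cornerUnit_add (hR : MonicSplits R) [Module.Finite R Λ] {e : Λ}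
    (he : IsPrimIdem e) (x y : Λ) (hx : InCorner e x) (hy : InCorner e y)
    (hx' : ¬ CornerUnit e x) (hy' : ¬ CornerUnit e y) : ¬ CornerUnit e (x + y) :=
  not_cornerUnit_add_of_crt (crtHyp hR) he x y hx hy hx' hy'

/-- BP-[L1-RESK] : the corner of a primitive idempotent has residue field `R/𝔪` -/
theorem exists_scalar_not_cornerUnit (hR : MonicSplits R) [Module.Finite R Λ] {e : Λ}
    (he : IsPrimIdem e) (x : Λ) (hx : InCorner e x) : ∃ r : R, ¬ CornerUnit e (x - r • e) :=
  exists_scalar_not_cornerUnit_of_crt (crtHyp hR) he x hx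

/-- BP-[L1-ROS] : Rosenberg's lemma -/
theorem rosenberg (hR : MonicSplits R) [Module.Finite R Λ] {e : Λ} (he : IsPrimIdem e)
    {ι : Type*} (s : Finset ι) (I : ι → Ideal Λ) (hI : ∀ i, (I i).IsTwoSided)
    (h : e ∈ ⨆ i ∈ s, I i) : ∃ i ∈ s, e ∈ I i :=
  rosenberg_of_crt (crtHyp hR) he s I hI h

end Cfsg.Agent.Lib.Helper11.BP
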