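import Cfsg.Agent.Lib.Helper92.BPDefs

/-!
# PROJECT BP (helper92), module BP-[L1-RK] (helper11): a rank function on the idempotents of a module-finite torsion-free
algebra over a domain, `rk e = finrank_R (e Λ)`.
-/

set_option autoImplicit false

namespace Cfsg.Agent.Lib.Helper11.BP

open Cfsg.Agent.Lib.Helper92.BP

/-- BP-[L1-RK] : a rank function on idempotents -/
theorem exists_rank_fun {R : Type*} [CommRing R] [IsDomain R] {Λ : Type*} [Ring Λ] [Algebra R Λ]
    [Module.Finite R Λ] [NoZeroSMulDivisors R Λ] :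
    ∃ rk : Λ → ℕ, (∀ e : Λ, IsIdempotentElem e → e ≠ 0 → 0 < rk e) ∧
      ∀ e f : Λ, IsIdempotentElem e → IsIdempotentElem f → Orth e f →
        rk (e + f) = rk e + rk f := by
  refine ⟨fun e => Module.finrank R (LinearMap.range (LinearMap.mulLeft R e)), ?_, ?_⟩
  · intro e he hne
    show 0 < Module.finrank R (LinearMap.range (LinearMap.mulLeft R e))
    rw [Module.finrank_pos_iff_exists_ne_zero]
    refine ⟨⟨e, ⟨e, by simpa using he.eq⟩⟩, ?_⟩
    intro h
    exact hne (congrArg Subtype.val h)
  · intro e f he hf hef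
    show Module.finrank R (LinearMap.range (LinearMap.mulLeft R (e + f)))
      = Module.finrank R (LinearMap.range (LinearMap.mulLeft R e))
        + Module.finrank R (LinearMap.range (LinearMap.mulLeft R f))
    have hsup : LinearMap.range (LinearMap.mulLeft R (e + f))
        = LinearMap.range (LinearMap.mulLeft R e) ⊔ LinearMap.range (LinearMap.mulLeft R f) := by
      apply le_antisymm
      · rintro _ ⟨a, rfl⟩
        rw [LinearMap.mulLeft_apply, add_mul]
        exact Submodule.add_mem_sup ⟨a, rfl⟩ ⟨a, rfl⟩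
      · apply sup_le
        · rintro _ ⟨a, rfl⟩
          refine ⟨e * a, ?_⟩
          rw [LinearMap.mulLeft_apply, LinearMap.mulLeft_apply, add_mul, ← mul_assoc, he.eq, ← mul_assoc f e a,
            hef.2, zero_mul, add_zero]
        · rintro _ ⟨a, rfl⟩
          refine ⟨f * a, ?_⟩
          rw [LinearMap.mulLeft_apply, LinearMap.mulLeft_apply, add_mul, ← mul_assoc, hef.1, zero_mul, zero_add,
            ← mul_assoc, hf.eq]
    have hinf : LinearMap.range (LinearMap.mulLeft R e) ⊓ LinearMap.range (LinearMap.mulLeft R f) = ⊥ := by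
      rw [eq_bot_iff]
      rintro x ⟨⟨a, ha⟩, ⟨b, hb⟩⟩
      rw [LinearMap.mulLeft_apply] at ha hb
      rw [Submodule.mem_bot]
      calc x = e * x := by rw [← ha, ← mul_assoc, he.eq]
        _ = e * (f * b) := by rw [hb]
        _ = 0 := by rw [← mul_assoc, hef.1, zero_mul]
    have key := Submodule.rank_sup_add_rank_inf_eq (LinearMap.range (LinearMap.mulLeft R e))
      (LinearMap.range (LinearMap.mulLeft R f))
    rw [hinf, rank_bot, add_zero, ← hsup] at key
    unfold Module.finrank
    rw [key, Cardinal.toNat_add (Module.rank_lt_aleph0 R _) (Module.rank_lt_aleph0 R _)]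

end Cfsg.Agent.Lib.Helper11.BP
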