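import Cfsg.Agent.Lib.Helper92.BPDefs

/-!
# PROJECT BP (helper92), module BP-[L0-RESK] (helper11): the residue field of a `MonicSplits` local ring is algebraically
closed, and an algebraically closed field is `MonicSplits`.
-/

set_option autoImplicit false

namespace Cfsg.Agent.Lib.Helper11.BP

open Polynomial Cfsg.Agent.Lib.Helper92.BP

/-- BP-[L0-RESK] : the residue field of a `MonicSplits` local ring is algebraically closed -/
theorem isAlgClosed_residueField {R : Type*} [CommRing R] [IsLocalRing R] (hR : MonicSplits R) :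
    IsAlgClosed (IsLocalRing.ResidueField R) := by
  apply IsAlgClosed.of_exists_root
  intro p hp hirr
  have hl : p ∈ Polynomial.lifts (IsLocalRing.residue R) := by
    rw [Polynomial.lifts_iff_coeff_lifts]
    intro n
    exact IsLocalRing.residue_surjective _
  obtain ⟨q, hq, -, hqm⟩ := Polynomial.lifts_and_natDegree_eq_and_monic hl hp
  obtain ⟨s, hs⟩ := hR q hqm
  have hs0 : s ≠ 0 := by
    intro h0
    rw [h0, Multiset.map_zero, Multiset.prod_zero] at hs
    rw [hs, Polynomial.map_one] at hq
    exact hirr.not_isUnit (hq ▸ isUnit_one)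
  obtain ⟨a, ha⟩ := Multiset.exists_mem_of_ne_zero hs0
  refine ⟨IsLocalRing.residue R a, ?_⟩
  rw [← hq, Polynomial.eval_map, Polynomial.eval₂_at_apply, hs, Polynomial.eval_multiset_prod]
  rw [Multiset.prod_eq_zero, map_zero]
  exact Multiset.mem_map.mpr ⟨X - C a, Multiset.mem_map.mpr ⟨a, ha, rfl⟩, by simp⟩

/-- BP-[L0-RESK] : `MonicSplits` for an algebraically closed field (so layer 1 applies to
finite-dimensional `k`-algebras with `R := k`) -/
theorem monicSplits_of_isAlgClosed {k : Type*} [Field k] [IsAlgClosed k] : MonicSplits k := by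
  intro f hf
  exact ⟨f.roots, (IsAlgClosed.splits f).eq_prod_roots_of_monic hf⟩

end Cfsg.Agent.Lib.Helper11.BP
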