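import Mathlib
import Cfsg.Prelude.Def_GeometricClasses
import Cfsg.Agent.Lib.Helper99.AschDefs
import Cfsg.Agent.Lib.Helper99.AschDefsR
import Cfsg.Agent.Lib.Helper13.SubfieldBasic

/-!
# BHR-[P5] (helper11): a subfield group over a proper subfield does not contain `SL_n` (`n ≥ 2`).
-/

set_option autoImplicit false

namespace Cfsg.Agent.Lib.Helper99.Asch

open Cfsg Cfsg.Geo
open scoped MatrixGroups Matrix Kronecker

variable {n : ℕ} {F : Type*} [Field F] [Fintype F]

/-- BHR-[P5] -/
theorem not_sl_le_subfieldSubgroup (hn : 2 ≤ n) (F₀ : Subfield F) (hF₀ : F₀ ≠ ⊤) (P : GL (Fin n) F) :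
    ¬ specialLinear (Fin n) F ≤ subfieldSubgroup F₀ P := by
  intro hle
  obtain ⟨lam, hlam⟩ : ∃ lam : F, lam ∉ F₀ := by
    by_contra hcon
    push Not at hcon
    exact hF₀ (eq_top_iff.mpr fun x _ => hcon x)
  let i : Fin n := ⟨0, by omega⟩
  let j : Fin n := ⟨1, by omega⟩
  have hij : i ≠ j := by
    intro h
    have := congrArg Fin.val h
    simp [i, j] at this
  let t : Matrix.SpecialLinearGroup (Fin n) F := Matrix.SpecialLinearGroup.transvection hij lam
  let τ : GL (Fin n) F := Matrix.SpecialLinearGroup.toGL t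
  have hτ : τ ∈ specialLinear (Fin n) F := by
    unfold specialLinear
    rw [MonoidHom.mem_ker]
    exact Matrix.SpecialLinearGroup.coeToGL_det t
  have hN : (specialLinear (Fin n) F).Normal := by
    unfold specialLinear; infer_instance
  have hs : P * τ * P⁻¹ ∈ specialLinear (Fin n) F := hN.conj_mem τ hτ P
  have hmem := hle hs
  rw [Cfsg.Agent.Lib.Helper13.mem_subfieldSubgroup_iff] at hmem
  obtain ⟨A, μ, h⟩ := hmem
  have h' : (τ : Matrix (Fin n) (Fin n) F) =
      (μ : F) • (A : Matrix (Fin n) (Fin n) F₀).map F₀.subtype := by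
    have e1 : ((P * τ * P⁻¹ : GL (Fin n) F) : Matrix (Fin n) (Fin n) F) *
        (P : Matrix (Fin n) (Fin n) F) = (P : Matrix (Fin n) (Fin n) F) * τ := by
      rw [← Units.val_mul, inv_mul_cancel_right, Units.val_mul]
    rw [e1] at h
    have h3 := congrArg (fun M => ((P⁻¹ : GL (Fin n) F) : Matrix (Fin n) (Fin n) F) * M) h
    beta_reduce at h3
    rw [← Matrix.mul_assoc, ← Units.val_mul, inv_mul_cancel, Units.val_one, Matrix.one_mul,
      Matrix.mul_smul, ← Matrix.mul_assoc, ← Units.val_mul, inv_mul_cancel, Units.val_one,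
      Matrix.one_mul] at h3
    exact h3
  have hτm : (τ : Matrix (Fin n) (Fin n) F) = 1 + Matrix.single i j lam := rfl
  have h00 := congrFun (congrFun h' i) i
  have h01 := congrFun (congrFun h' i) j
  rw [hτm] at h00 h01
  simp only [Matrix.add_apply, Matrix.one_apply, Matrix.single_apply, Matrix.smul_apply,
    Matrix.map_apply, smul_eq_mul, Subfield.coe_subtype] at h00 h01
  simp only [if_true, true_and, and_self, hij, hij.symm, if_false, add_zero, zero_add] at h00 h01
  have hμ : (μ : F) ∈ F₀ := by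
    have : (μ : F) = (((A : Matrix (Fin n) (Fin n) F₀) i i : F₀) : F)⁻¹ :=
      eq_inv_of_mul_eq_one_left h00.symm
    rw [this]
    exact F₀.inv_mem (SetLike.coe_mem _)
  apply hlam
  rw [h01]
  exact F₀.mul_mem hμ (SetLike.coe_mem _)

end Cfsg.Agent.Lib.Helper99.Asch
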