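import Mathlib
import Cfsg.Prelude.Def_GeometricClasses
import Cfsg.Agent.Lib.Helper99.AschDefs
import Cfsg.Agent.Lib.Helper99.AschDefsR
import Cfsg.Agent.S0249

/-!
# BHR-[P6] (helper11): the normaliser of an absolutely irreducible symplectic-type `r`-group
(`r` different from the characteristic) does not contain `SL_n`, `n ≥ 3`.
-/

set_option autoImplicit false

namespace Cfsg.Agent.Lib.Helper11.BhrP6

open Cfsg Cfsg.Geo
open scoped MatrixGroups Matrix

variable {n : ℕ} {F : Type*} [Field F]

/-- powers of an elementary transvection -/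
theorem transvection_pow {i j : Fin n} (hij : i ≠ j) (m : ℕ) :
    (Matrix.transvection i j (1 : F)) ^ m = Matrix.transvection i j (m : F) := by
  induction m with
  | zero => simp [Matrix.transvection]
  | succ k ih =>
    rw [pow_succ, ih, Matrix.transvection_mul_transvection_same i j hij, Nat.cast_succ]

/-- if `x τ x⁻¹ = c τ` for the transvection `τ = 1 + E_ij` then `c = 1` -/
theorem scalar_eq_one_of_conj {i j : Fin n} (hij : i ≠ j) (X Xi : Matrix (Fin n) (Fin n) F)
    (hXi : Xi * X = 1) (c : F)
    (h : X * (1 + Matrix.single i j (1 : F)) * Xi = c • (1 + Matrix.single i j (1 : F))) :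
    c = 1 := by
  have hX : X * Xi = 1 := mul_eq_one_comm.mp hXi
  have hEE : Matrix.single i j (1 : F) * Matrix.single i j (1 : F) = 0 :=
    Matrix.single_mul_single_of_ne (1 : F) i j i hij.symm (1 : F)
  -- `X E Xi = (c - 1) • 1 + c • E`
  have h1 : X * Matrix.single i j (1 : F) * Xi =
      (c - 1) • (1 : Matrix (Fin n) (Fin n) F) + c • Matrix.single i j (1 : F) := by
    have : X * (1 + Matrix.single i j (1 : F)) * Xi = 1 + X * Matrix.single i j (1 : F) * Xi := by
      rw [Matrix.mul_add, Matrix.add_mul, Matrix.mul_one, hX]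
    rw [this] at h
    have h2 : X * Matrix.single i j (1 : F) * Xi =
        c • (1 + Matrix.single i j (1 : F)) - 1 := by
      rw [← h, add_sub_cancel_left]
    rw [h2, smul_add, sub_smul, one_smul]
    abel
  -- its square vanishes
  have h3 : (X * Matrix.single i j (1 : F) * Xi) * (X * Matrix.single i j (1 : F) * Xi) = 0 := by
    calc (X * Matrix.single i j (1 : F) * Xi) * (X * Matrix.single i j (1 : F) * Xi)
        = X * Matrix.single i j (1 : F) * (Xi * X) * Matrix.single i j (1 : F) * Xi := by
          simp only [Matrix.mul_assoc]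
      _ = 0 := by
          rw [hXi, Matrix.mul_one, Matrix.mul_assoc X, hEE, Matrix.mul_zero, Matrix.zero_mul]
  rw [h1] at h3
  have h4 := congrFun (congrFun h3 i) i
  simp only [Matrix.add_mul, Matrix.mul_add, Matrix.smul_mul, Matrix.mul_smul, Matrix.one_mul,
    Matrix.mul_one, hEE, smul_zero, add_zero, Matrix.add_apply, Matrix.smul_apply,
    Matrix.one_apply_eq, Matrix.single_apply, smul_eq_mul, Matrix.zero_apply] at h4
  simp only [true_and, hij.symm, if_false, mul_zero, add_zero, mul_one] at h4
  have h5 : (c - 1) = 0 := by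
    have : (c - 1) * (c - 1) = 0 := h4
    exact mul_self_eq_zero.mp this
  exact sub_eq_zero.mp h5

end Cfsg.Agent.Lib.Helper11.BhrP6

namespace Cfsg.Agent.Lib.Helper99.Asch

open Cfsg Cfsg.Geo
open scoped MatrixGroups Matrix Kronecker

variable {n : ℕ} {F : Type*} [Field F] [Fintype F]

/-- BHR-[P6] -/
theorem not_sl_le_subgroupNormalizer (hn : 3 ≤ n) (r : ℕ) (R : Subgroup (GL (Fin n) F))
    (hR : IsLinearSymplecticTypeData r R) :
    ¬ specialLinear (Fin n) F ≤ subgroupNormalizer R := by
  intro hle
  obtain ⟨p, e, hrp, hmin, -⟩ := hR.field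
  obtain ⟨hp, hchar, -, -, -⟩ := hmin
  have hrprime := hR.symplecticType.prime
  have hpg := hR.symplecticType.pGroup
  have hSLN : (specialLinear (Fin n) F).Normal := by
    unfold specialLinear; infer_instance
  -- the normaliser property
  have hnorm : ∀ g : GL (Fin n) F, g ∈ specialLinear (Fin n) F → ∀ x, x ∈ R ↔ g * x * g⁻¹ ∈ R := by
    intro g hg x
    exact (Subgroup.mem_set_normalizer_iff.mp (hle hg)) x
  have htoGL : ∀ g : Matrix.SpecialLinearGroup (Fin n) F,
      Matrix.SpecialLinearGroup.toGL g ∈ specialLinear (Fin n) F := by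
    intro g
    unfold specialLinear
    rw [MonoidHom.mem_ker]
    exact Matrix.SpecialLinearGroup.coeToGL_det g
  -- the preimage of `R` in Mathlib's `SL`
  let N' : Subgroup (Matrix.SpecialLinearGroup (Fin n) F) :=
    R.comap (Matrix.SpecialLinearGroup.toGL)
  have hN' : N'.Normal := by
    refine ⟨fun x hx g => ?_⟩
    show Matrix.SpecialLinearGroup.toGL (g * x * g⁻¹) ∈ R
    rw [map_mul, map_mul, map_inv]
    exact (hnorm _ (htoGL g) _).mp hx
  -- `N' ≤ centre`
  have hcent : N' ≤ Subgroup.center (Matrix.SpecialLinearGroup (Fin n) F) := by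
    have : IsSimpleGroup (Matrix.ProjectiveSpecialLinearGroup (Fin n) F) :=
      Cfsg.Agent.S0249.result (F := F) n hn
    let π := QuotientGroup.mk' (Subgroup.center (Matrix.SpecialLinearGroup (Fin n) F))
    have hM : (N'.map π).Normal :=
      Subgroup.Normal.map hN' π (QuotientGroup.mk'_surjective _)
    rcases hM.eq_bot_or_eq_top with hbot | htop
    · intro x hx
      have : π x ∈ N'.map π := Subgroup.mem_map_of_mem π hx
      rw [hbot, Subgroup.mem_bot] at this
      exact (QuotientGroup.eq_one_iff x).mp this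
    · exfalso
      let i : Fin n := ⟨0, by omega⟩
      let j : Fin n := ⟨1, by omega⟩
      have hij : i ≠ j := by
        intro h
        have := congrArg Fin.val h
        simp [i, j] at this
      let t : Matrix.SpecialLinearGroup (Fin n) F := Matrix.SpecialLinearGroup.transvection hij 1
      have ht : π t ∈ N'.map π := by rw [htop]; exact Subgroup.mem_top _
      obtain ⟨a, ha, hat⟩ := Subgroup.mem_map.mp ht
      have hz : a⁻¹ * t ∈ Subgroup.center (Matrix.SpecialLinearGroup (Fin n) F) :=
        QuotientGroup.eq.mp hat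
      -- `a` has `r`-power order
      obtain ⟨k, hk⟩ := hpg ⟨Matrix.SpecialLinearGroup.toGL a, ha⟩
      have hak : a ^ (r ^ k) = 1 := by
        apply Matrix.SpecialLinearGroup.toGL_injective
        rw [map_pow, map_one]
        have := congrArg Subtype.val hk
        simpa using this
      -- `t ^ (r^k)` is central
      have htk : t ^ (r ^ k) ∈ Subgroup.center (Matrix.SpecialLinearGroup (Fin n) F) := by
        have hcomm : Commute a (a⁻¹ * t) := Subgroup.mem_center_iff.mp hz a
        have : t = a * (a⁻¹ * t) := by group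
        rw [this, hcomm.mul_pow, hak, one_mul]
        exact Subgroup.pow_mem _ hz _
      rw [Matrix.SpecialLinearGroup.mem_center_iff] at htk
      obtain ⟨c, -, hc⟩ := htk
      have hij' := congrFun (congrFun hc i) j
      rw [Matrix.SpecialLinearGroup.coe_pow] at hij'
      have ht' : (t : Matrix (Fin n) (Fin n) F) = Matrix.transvection i j (1 : F) := rfl
      rw [ht', Cfsg.Agent.Lib.Helper11.BhrP6.transvection_pow hij] at hij'
      simp only [Matrix.scalar_apply, Matrix.diagonal_apply_ne _ hij, Matrix.transvection,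
        Matrix.add_apply, Matrix.one_apply_ne hij, Matrix.single_apply_same, zero_add] at hij'
      -- `(r^k : F) = 0` contradicts `r ≠ p`
      have h0 : ((r ^ k : ℕ) : F) = 0 := hij'.symm
      rw [CharP.cast_eq_zero_iff F p] at h0
      have := (Nat.prime_dvd_prime_iff_eq hp hrprime).mp (hp.dvd_of_dvd_pow h0)
      exact hrp this.symm
  -- every element of `R` commutes with every `E_ij`
  have hcommE : ∀ x ∈ R, ∀ i j : Fin n, i ≠ j →
      (x : Matrix (Fin n) (Fin n) F) * Matrix.single i j (1 : F) =
        Matrix.single i j (1 : F) * (x : Matrix (Fin n) (Fin n) F) := by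
    intro x hx i j hij
    let t : Matrix.SpecialLinearGroup (Fin n) F := Matrix.SpecialLinearGroup.transvection hij 1
    let τ : GL (Fin n) F := Matrix.SpecialLinearGroup.toGL t
    have hτ : τ ∈ specialLinear (Fin n) F := htoGL t
    have hτm : (τ : Matrix (Fin n) (Fin n) F) = 1 + Matrix.single i j (1 : F) := rfl
    -- the commutator lies in `R ⊓ SL`
    have hyR : x * τ * x⁻¹ * τ⁻¹ ∈ R := by
      have h1 : τ * x⁻¹ * τ⁻¹ ∈ R := (hnorm τ hτ _).mp (R.inv_mem hx)
      have : x * τ * x⁻¹ * τ⁻¹ = x * (τ * x⁻¹ * τ⁻¹) := by group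
      rw [this]
      exact R.mul_mem hx h1
    have hySL : x * τ * x⁻¹ * τ⁻¹ ∈ specialLinear (Fin n) F :=
      (specialLinear (Fin n) F).mul_mem (hSLN.conj_mem τ hτ x) ((specialLinear (Fin n) F).inv_mem hτ)
    have hdet : ((x * τ * x⁻¹ * τ⁻¹ : GL (Fin n) F) : Matrix (Fin n) (Fin n) F).det = 1 := by
      have h := hySL
      unfold specialLinear at h
      rw [MonoidHom.mem_ker, Units.ext_iff] at h
      exact h
    let y' : Matrix.SpecialLinearGroup (Fin n) F :=
      ⟨((x * τ * x⁻¹ * τ⁻¹ : GL (Fin n) F) : Matrix (Fin n) (Fin n) F), hdet⟩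
    have hy' : Matrix.SpecialLinearGroup.toGL y' = x * τ * x⁻¹ * τ⁻¹ := Units.ext rfl
    have hy'N : y' ∈ N' := by
      show Matrix.SpecialLinearGroup.toGL y' ∈ R
      rw [hy']; exact hyR
    have hy'c := hcent hy'N
    rw [Matrix.SpecialLinearGroup.mem_center_iff] at hy'c
    obtain ⟨c, -, hc⟩ := hy'c
    have hc' : ((x * τ * x⁻¹ * τ⁻¹ : GL (Fin n) F) : Matrix (Fin n) (Fin n) F) =
        Matrix.scalar (Fin n) c := hc.symm
    -- `x τ x⁻¹ = c • τ`
    have h2 : (x : Matrix (Fin n) (Fin n) F) * (1 + Matrix.single i j (1 : F)) *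
        ((x⁻¹ : GL (Fin n) F) : Matrix (Fin n) (Fin n) F) = c • (1 + Matrix.single i j (1 : F)) := by
      have : (x * τ * x⁻¹ : GL (Fin n) F) = (x * τ * x⁻¹ * τ⁻¹) * τ := by group
      have h3 := congrArg (fun g : GL (Fin n) F => (g : Matrix (Fin n) (Fin n) F)) this
      beta_reduce at h3
      rw [Units.val_mul (x * τ * x⁻¹ * τ⁻¹) τ, hc', Units.val_mul, Units.val_mul, hτm] at h3
      rw [h3, Matrix.scalar_apply, ← Matrix.smul_one_eq_diagonal, Matrix.smul_mul, Matrix.one_mul]
    have hXi : ((x⁻¹ : GL (Fin n) F) : Matrix (Fin n) (Fin n) F) * (x : Matrix (Fin n) (Fin n) F) = 1 := by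
      rw [← Units.val_mul, inv_mul_cancel, Units.val_one]
    have hc1 := Cfsg.Agent.Lib.Helper11.BhrP6.scalar_eq_one_of_conj hij _ _ hXi c h2
    rw [hc1, one_smul] at h2
    -- multiply by `x` on the right
    have h4 := congrArg (fun M => M * (x : Matrix (Fin n) (Fin n) F)) h2
    beta_reduce at h4
    rw [Matrix.mul_assoc, hXi, Matrix.mul_one, Matrix.mul_add, Matrix.add_mul, Matrix.mul_one,
      Matrix.one_mul] at h4
    exact add_left_cancel h4
  -- contradiction with absolute irreducibility
  let i : Fin n := ⟨0, by omega⟩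
  let j : Fin n := ⟨1, by omega⟩
  have hij : i ≠ j := by
    intro h
    have := congrArg Fin.val h
    simp [i, j] at this
  obtain ⟨c, hc⟩ := hR.absIrred.2 (Matrix.single i j (1 : F)) (by
    rintro s ⟨x, hx, rfl⟩
    exact (hcommE x hx i j hij).symm)
  have := congrFun (congrFun hc i) j
  rw [Matrix.single_apply_same, Matrix.smul_apply, Matrix.one_apply_ne hij, smul_zero] at this
  exact one_ne_zero this

end Cfsg.Agent.Lib.Helper99.Asch
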