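/-
helper11, project BHRSP phase 2 (helper94, S5787).  Module BHRSP-[3B-NF-BASIS] (hedge of helper98's row):
over `F_3`, a matrix `i` with `i² = -1` and `f(iu, v) = -f(u, iv)` for the standard symplectic form on `F^4` is
conjugate to `i0` under `spGL 2 F`.
-/
import Mathlib
import Cfsg.Prelude.Def_GeometricClasses
import Cfsg.Agent.Lib.Helper94.BHRSP.Sp4Model

set_option autoImplicit false
set_option linter.unusedSimpArgs false
set_option linter.unusedVariables false

namespace Cfsg.Agent.Lib.Helper11.BhrSp4NFBasis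

open Cfsg Cfsg.Geo Cfsg.Agent.Lib.Helper94.BHRSP Cfsg.Agent.Lib.Helper94.BHRSP.Sp4
open scoped MatrixGroups Matrix

variable {F : Type*} [Field F]

theorem three_eq_zero' [Fintype F] (hq : Fintype.card F = 3) : (3 : F) = 0 := by
  have h := FiniteField.cast_card_eq_zero F
  rw [hq] at h
  exact_mod_cast h

theorem trichotomy [Fintype F] (hq : Fintype.card F = 3) (x : F) : x = 0 ∨ x = 1 ∨ x = -1 := by
  have h := FiniteField.pow_card x
  rw [hq] at h
  have h1 : x * ((x - 1) * (x + 1)) = 0 := by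
    have : x * ((x - 1) * (x + 1)) = x ^ 3 - x := by ring
    rw [this, h, sub_self]
  rcases mul_eq_zero.1 h1 with h2 | h2
  · exact Or.inl h2
  · rcases mul_eq_zero.1 h2 with h3 | h3
    · exact Or.inr (Or.inl (sub_eq_zero.1 h3))
    · exact Or.inr (Or.inr (eq_neg_of_add_eq_zero_left h3))

theorem sq_add_sq_ne_zero [Fintype F] (hq : Fintype.card F = 3) {p r : F} (hp : p ≠ 0) :
    p ^ 2 + r ^ 2 ≠ 0 := by
  have h3 := three_eq_zero' hq
  have h2 : (2 : F) ≠ 0 := by
    intro h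
    have : (1 : F) = 0 := by linear_combination h3 - h
    exact one_ne_zero this
  rcases trichotomy hq p with rfl | rfl | rfl
  · exact absurd rfl hp
  · rcases trichotomy hq r with rfl | rfl | rfl
    · norm_num
    · norm_num; exact h2
    · norm_num; exact h2
  · rcases trichotomy hq r with rfl | rfl | rfl
    · norm_num
    · norm_num; exact h2
    · norm_num; exact h2

theorem sympForm_neg_left (x v : Fin 2 ⊕ Fin 2 → F) :
    sympForm 2 F (-x) v = - sympForm 2 F x v := by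
  have h := sympForm_smul_left (m := 2) (-1 : F) x v
  rw [neg_one_smul, neg_one_mul] at h
  exact h

theorem sympForm_neg_right (v x : Fin 2 ⊕ Fin 2 → F) :
    sympForm 2 F v (-x) = - sympForm 2 F v x := by
  have h := sympForm_smul_right (m := 2) (-1 : F) v x
  rw [neg_one_smul, neg_one_mul] at h
  exact h

section

variable (i : Matrix (Fin 2 ⊕ Fin 2) (Fin 2 ⊕ Fin 2) F)

theorem I_I (hi : i * i = -1) (u : Fin 2 ⊕ Fin 2 → F) : i *ᵥ (i *ᵥ u) = -u := by
  rw [Matrix.mulVec_mulVec, hi, Matrix.neg_mulVec, Matrix.one_mulVec]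

theorem f_I_I (hi : i * i = -1)
    (hadj : ∀ u v, sympForm 2 F (i *ᵥ u) v = - sympForm 2 F u (i *ᵥ v))
    (u v : Fin 2 ⊕ Fin 2 → F) : sympForm 2 F (i *ᵥ u) (i *ᵥ v) = sympForm 2 F u v := by
  rw [hadj, I_I i hi, sympForm_neg_right, neg_neg]

/-- an isotropic vector for `s(u, v) = f(u, i v)` -/
theorem exists_isotropic [Fintype F] (hq : Fintype.card F = 3) (hi : i * i = -1)
    (hadj : ∀ u v, sympForm 2 F (i *ᵥ u) v = - sympForm 2 F u (i *ᵥ v)) :
    ∃ a : Fin 2 ⊕ Fin 2 → F, a ≠ 0 ∧ sympForm 2 F a (i *ᵥ a) = 0 := by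
  have h3 := three_eq_zero' hq
  set u : Fin 2 ⊕ Fin 2 → F := Pi.single (Sum.inl 0) 1 with hu
  have hu0 : u ≠ 0 := by
    intro h
    have := congrFun h (Sum.inl 0)
    simp [hu] at this
  by_cases hσ : sympForm 2 F u (i *ᵥ u) = 0
  · exact ⟨u, hu0, hσ⟩
  let φ1 : (Fin 2 ⊕ Fin 2 → F) →ₗ[F] F :=
    { toFun := fun v => sympForm 2 F v u
      map_add' := fun x y => sympForm_add_left x y u
      map_smul' := fun c x => by
        simp only [RingHom.id_apply, smul_eq_mul]
        exact sympForm_smul_left c x u }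
  let φ2 : (Fin 2 ⊕ Fin 2 → F) →ₗ[F] F :=
    { toFun := fun v => sympForm 2 F v (i *ᵥ u)
      map_add' := fun x y => sympForm_add_left x y (i *ᵥ u)
      map_smul' := fun c x => by
        simp only [RingHom.id_apply, smul_eq_mul]
        exact sympForm_smul_left c x (i *ᵥ u) }
  have hker : LinearMap.ker (φ1.prod φ2) ≠ ⊥ := by
    apply LinearMap.ker_ne_bot_of_finrank_lt
    rw [Module.finrank_prod, Module.finrank_self, Module.finrank_fintype_fun_eq_card, Fintype.card_sum,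
      Fintype.card_fin]
    norm_num
  obtain ⟨v, hvker, hv0⟩ := (Submodule.ne_bot_iff _).mp hker
  rw [LinearMap.mem_ker, LinearMap.prod_apply, Prod.mk_eq_zero] at hvker
  have hv1 : sympForm 2 F v u = 0 := hvker.1
  have hv2 : sympForm 2 F v (i *ᵥ u) = 0 := hvker.2
  have huv : sympForm 2 F u v = 0 := by rw [sympForm_skew, hv1, neg_zero]
  have hsuv : sympForm 2 F u (i *ᵥ v) = 0 := by
    have h1 := hadj u v
    have h2 := sympForm_skew (i *ᵥ u) v
    rw [hv2, neg_zero] at h2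
    rw [h2] at h1
    exact neg_eq_zero.mp h1.symm
  set σ := sympForm 2 F u (i *ᵥ u) with hσdef
  set τ := sympForm 2 F v (i *ᵥ v) with hτdef
  have hcases : τ = 0 ∨ τ = σ ∨ τ = -σ := by
    rcases trichotomy hq σ with h | h | h
    · exact absurd h hσ
    · rcases trichotomy hq τ with h' | h' | h'
      · exact Or.inl h'
      · exact Or.inr (Or.inl (by rw [h, h']))
      · exact Or.inr (Or.inr (by rw [h, h']))
    · rcases trichotomy hq τ with h' | h' | h'
      · exact Or.inl h'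
      · exact Or.inr (Or.inr (by rw [h, h', neg_neg]))
      · exact Or.inr (Or.inl (by rw [h, h']))
  rcases hcases with h0 | h1 | h2
  · exact ⟨v, hv0, h0⟩
  · -- `a = u + (v + i v)`
    refine ⟨u + (v + i *ᵥ v), ?_, ?_⟩
    · intro ha
      apply hσ
      have h4 : sympForm 2 F (u + (v + i *ᵥ v)) (i *ᵥ u) = 0 := by
        rw [ha]
        have := sympForm_smul_left (m := 2) (0 : F) (0 : Fin 2 ⊕ Fin 2 → F) (i *ᵥ u)
        simpa using this
      rw [sympForm_add_left, sympForm_add_left, f_I_I i hi hadj, hv2, hv1] at h4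
      rw [hσdef]
      linear_combination h4
    · have hIv : sympForm 2 F (i *ᵥ v) v = -τ := hadj v v
      simp only [Matrix.mulVec_add, I_I i hi, sympForm_add_left, sympForm_add_right, sympForm_neg_right,
        f_I_I i hi hadj, sympForm_self, hv1, hv2, huv, hsuv, hIv]
      rw [← hσdef, ← hτdef, h1]
      linear_combination σ * h3
  · -- `a = u + v`
    refine ⟨u + v, ?_, ?_⟩
    · intro ha
      apply hσ
      have h4 : sympForm 2 F (u + v) (i *ᵥ u) = 0 := by
        rw [ha]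
        have := sympForm_smul_left (m := 2) (0 : F) (0 : Fin 2 ⊕ Fin 2 → F) (i *ᵥ u)
        simpa using this
      rw [sympForm_add_left, hv2] at h4
      rw [hσdef]
      linear_combination h4
    · simp only [Matrix.mulVec_add, sympForm_add_left, sympForm_add_right, hv2, hsuv]
      rw [← hσdef, ← hτdef, h2]
      ring

/-- a `K`-hyperbolic partner of an isotropic vector -/
theorem exists_partner [Fintype F] (hq : Fintype.card F = 3) (hi : i * i = -1)
    (hadj : ∀ u v, sympForm 2 F (i *ᵥ u) v = - sympForm 2 F u (i *ᵥ v))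
    (a : Fin 2 ⊕ Fin 2 → F) (ha0 : a ≠ 0) (ha : sympForm 2 F a (i *ᵥ a) = 0) :
    ∃ b : Fin 2 ⊕ Fin 2 → F, sympForm 2 F b a = 1 ∧ sympForm 2 F b (i *ᵥ a) = 0 ∧
      sympForm 2 F b (i *ᵥ b) = 0 := by
  have h3 := three_eq_zero' hq
  obtain ⟨c0, hc0⟩ := exists_sympForm_ne_zero a ha0
  set p := sympForm 2 F c0 a with hp
  set r := sympForm 2 F c0 (i *ᵥ a) with hr
  have hp0 : p ≠ 0 := by
    rw [hp, sympForm_skew]
    exact neg_ne_zero.mpr hc0
  have hN : p ^ 2 + r ^ 2 ≠ 0 := sq_add_sq_ne_zero hq hp0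
  have hIc0a : sympForm 2 F (i *ᵥ c0) a = -r := hadj c0 a
  have hIc0Ia : sympForm 2 F (i *ᵥ c0) (i *ᵥ a) = p := f_I_I i hi hadj c0 a
  set c : Fin 2 ⊕ Fin 2 → F := (p / (p ^ 2 + r ^ 2)) • c0 + (-r / (p ^ 2 + r ^ 2)) • (i *ᵥ c0) with hc
  have hca : sympForm 2 F c a = 1 := by
    rw [hc, sympForm_add_left, sympForm_smul_left, sympForm_smul_left, hIc0a, ← hp]
    field_simp
  have hcIa : sympForm 2 F c (i *ᵥ a) = 0 := by
    rw [hc, sympForm_add_left, sympForm_smul_left, sympForm_smul_left, hIc0Ia, ← hr]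
    field_simp
    ring
  set t := - sympForm 2 F c (i *ᵥ c) with ht
  have hIaa : sympForm 2 F (i *ᵥ a) a = 0 := by rw [hadj, ha, neg_zero]
  have hIaIa : sympForm 2 F (i *ᵥ a) (i *ᵥ a) = 0 := sympForm_self _
  have hIaIc : sympForm 2 F (i *ᵥ a) (i *ᵥ c) = -1 := by
    rw [f_I_I i hi hadj, sympForm_skew, hca]
  refine ⟨c + t • (i *ᵥ a), ?_, ?_, ?_⟩
  · rw [sympForm_add_left, sympForm_smul_left, hIaa, hca]
    ring
  · rw [sympForm_add_left, sympForm_smul_left, hIaIa, hcIa]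
    ring
  · simp only [Matrix.mulVec_add, Matrix.mulVec_smul, I_I i hi, sympForm_add_left, sympForm_add_right,
      sympForm_smul_left, sympForm_smul_right, sympForm_neg_right, hIaa, hIaIc, hca]
    rw [ht]
    linear_combination (sympForm 2 F c (i *ᵥ c)) * h3

end

/-- the matrix with prescribed columns -/
def colMat (col : Fin 2 ⊕ Fin 2 → (Fin 2 ⊕ Fin 2 → F)) : Matrix (Fin 2 ⊕ Fin 2) (Fin 2 ⊕ Fin 2) F :=
  Matrix.of fun r c => col c r

theorem colMat_congr_entry (col : Fin 2 ⊕ Fin 2 → (Fin 2 ⊕ Fin 2 → F)) (α β : Fin 2 ⊕ Fin 2) :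
    ((colMat col)ᵀ * Matrix.J (Fin 2) F * colMat col) α β = sympForm 2 F (col α) (col β) := by
  simp only [Matrix.mul_apply, Matrix.transpose_apply, colMat, Matrix.of_apply, sympForm, dotProduct,
    Matrix.mulVec]
  simp only [Finset.sum_mul, Finset.mul_sum]
  rw [Finset.sum_comm]
  apply Finset.sum_congr rfl
  intro r _
  apply Finset.sum_congr rfl
  intro s _
  ring

theorem mul_colMat_entry (i : Matrix (Fin 2 ⊕ Fin 2) (Fin 2 ⊕ Fin 2) F)
    (col : Fin 2 ⊕ Fin 2 → (Fin 2 ⊕ Fin 2 → F)) (r c : Fin 2 ⊕ Fin 2) :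
    (i * colMat col) r c = (i *ᵥ col c) r := by
  simp only [Matrix.mul_apply, colMat, Matrix.of_apply, Matrix.mulVec, dotProduct]

/-- **[3B-NF-BASIS]** -/
theorem exists_conj_i0 [Fintype F] (hq : Fintype.card F = 3) (i : Matrix (Fin 2 ⊕ Fin 2) (Fin 2 ⊕ Fin 2) F)
    (hi : i * i = -1)
    (hadj : ∀ u v, sympForm 2 F (i *ᵥ u) v = - sympForm 2 F u (i *ᵥ v)) :
    ∃ P : GL (Fin 2 ⊕ Fin 2) F, P ∈ spGL 2 F ∧
      ((P⁻¹ : GL (Fin 2 ⊕ Fin 2) F) : Matrix (Fin 2 ⊕ Fin 2) (Fin 2 ⊕ Fin 2) F) * i *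
        (P : Matrix (Fin 2 ⊕ Fin 2) (Fin 2 ⊕ Fin 2) F) = i0 := by
  obtain ⟨a, ha0, ha⟩ := exists_isotropic i hq hi hadj
  obtain ⟨b, hba, hbIa, hb⟩ := exists_partner i hq hi hadj a ha0 ha
  set col : Fin 2 ⊕ Fin 2 → (Fin 2 ⊕ Fin 2 → F) :=
    Sum.elim ![a, -(i *ᵥ a)] ![b, -(i *ᵥ b)] with hcol
  set P0 := colMat col with hP0
  -- the table of form values
  have hab : sympForm 2 F a b = -1 := by rw [sympForm_skew, hba]
  have hIaa : sympForm 2 F (i *ᵥ a) a = 0 := by rw [hadj, ha, neg_zero]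
  have hIbb : sympForm 2 F (i *ᵥ b) b = 0 := by rw [hadj, hb, neg_zero]
  have hIab : sympForm 2 F (i *ᵥ a) b = 0 := by
    rw [sympForm_skew, hbIa, neg_zero]
  have haIb : sympForm 2 F a (i *ᵥ b) = 0 := by
    have := hadj a b
    rw [hIab] at this
    exact neg_eq_zero.mp this.symm
  have hIba : sympForm 2 F (i *ᵥ b) a = 0 := by rw [hadj, hbIa, neg_zero]
  have hkey : P0ᵀ * Matrix.J (Fin 2) F * P0 = Matrix.J (Fin 2) F := by
    ext α β
    rw [hP0, colMat_congr_entry]
    rcases α with j | j <;> rcases β with k | k <;> fin_cases j <;> fin_cases k <;>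
      simp [hcol, Matrix.J, sympForm_neg_left, sympForm_neg_right, f_I_I i hi hadj, sympForm_self, ha, hb,
        hba, hbIa, hab, hIaa, hIbb, hIab, haIb, hIba]
  -- invertibility
  have hdet : P0.det ≠ 0 := by
    intro h0
    have h1 := congrArg Matrix.det hkey
    rw [Matrix.det_mul, Matrix.det_mul, Matrix.det_transpose, h0, zero_mul, zero_mul] at h1
    exact (Matrix.isUnit_det_J (Fin 2) F).ne_zero h1.symm
  set P : GL (Fin 2 ⊕ Fin 2) F := Matrix.GeneralLinearGroup.mkOfDetNeZero P0 hdet with hP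
  have hPval : (P : Matrix (Fin 2 ⊕ Fin 2) (Fin 2 ⊕ Fin 2) F) = P0 := rfl
  refine ⟨P, ?_, ?_⟩
  · rw [mem_spGL_iff]
    intro u v
    rw [hPval]
    unfold sympForm
    rw [Matrix.mulVec_mulVec, Matrix.dotProduct_mulVec, Matrix.vecMul_mulVec, ← Matrix.dotProduct_mulVec,
      ← Matrix.mul_assoc, hkey]
  · have hcomm : i * P0 = P0 * i0 := by
      ext r c
      rw [hP0, mul_colMat_entry]
      rcases c with k | k <;> fin_cases k <;>
        simp [hcol, colMat, Matrix.mul_apply, Fintype.sum_sum_type, Fin.sum_univ_two, i0, tens, J2,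
          I_I i hi, Matrix.mulVec_neg]
    have hinv : ((P⁻¹ : GL (Fin 2 ⊕ Fin 2) F) : Matrix (Fin 2 ⊕ Fin 2) (Fin 2 ⊕ Fin 2) F) * P0 = 1 := by
      rw [← hPval, ← Units.val_mul, inv_mul_cancel, Units.val_one]
    rw [hPval, Matrix.mul_assoc, hcomm, ← Matrix.mul_assoc, hinv, Matrix.one_mul]

end Cfsg.Agent.Lib.Helper11.BhrSp4NFBasis
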