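/-
helper11, project BHRSP phase 2 (helper94, S5787).  Module BHRSP-[3B-R0-IRR] (hedge of helper21's row):
`Rc P = P (Q_8 ⊗ O_2) P⁻¹` acts absolutely irreducibly on `F^4` when `|F| = 3`: its matrices span `M_4(F)`.
-/
import Mathlib
import Cfsg.Prelude.Def_GeometricClasses
import Cfsg.Agent.Lib.Helper94.BHRSP.Sp4Model
import Cfsg.Agent.Lib.Helper49.U92AbsIrrSpan

set_option autoImplicit false
set_option linter.unusedSimpArgs false

namespace Cfsg.Agent.Lib.Helper11.BhrSp4R0Irr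

open Cfsg Cfsg.Geo Cfsg.Agent.Lib.Helper94.BHRSP.Sp4
open scoped MatrixGroups Matrix

variable {F : Type*} [Field F]

theorem three_eq_zero [Fintype F] (hq : Fintype.card F = 3) : (3 : F) = 0 := by
  have h := FiniteField.cast_card_eq_zero F
  rw [hq] at h
  exact_mod_cast h

/-- decomposition of a `2 × 2` matrix over `1, A2, B2, A2 B2` in characteristic 3 -/
theorem decompQ (h3 : (3 : F) = 0) (a : Matrix (Fin 2) (Fin 2) F) :
    a = (-(a 0 0 + a 1 1)) • (1 : Matrix (Fin 2) (Fin 2) F) + (a 1 0 - a 0 1) • (A2 : Matrix (Fin 2) (Fin 2) F) +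
      (a 0 0 + a 0 1 + a 1 0 - a 1 1) • (B2 : Matrix (Fin 2) (Fin 2) F) +
      (a 0 0 - a 0 1 - a 1 0 - a 1 1) • ((A2 : Matrix (Fin 2) (Fin 2) F) * B2) := by
  ext i j
  fin_cases i <;> fin_cases j
  · simp [A2, B2, Matrix.mul_apply, Fin.sum_univ_two]
    linear_combination (a 1 1) * h3
  · simp [A2, B2, Matrix.mul_apply, Fin.sum_univ_two]
    linear_combination (-(a 1 0)) * h3
  · simp [A2, B2, Matrix.mul_apply, Fin.sum_univ_two]
    linear_combination (-(a 0 1)) * h3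
  · simp [A2, B2, Matrix.mul_apply, Fin.sum_univ_two]
    linear_combination (a 0 0) * h3

/-- decomposition of a `2 × 2` matrix over `1, J2, T2, J2 T2` in characteristic 3 -/
theorem decompO (h3 : (3 : F) = 0) (b : Matrix (Fin 2) (Fin 2) F) :
    b = (-(b 0 0 + b 1 1)) • (1 : Matrix (Fin 2) (Fin 2) F) + (b 1 0 - b 0 1) • (J2 : Matrix (Fin 2) (Fin 2) F) +
      (b 1 1 - b 0 0) • (T2 : Matrix (Fin 2) (Fin 2) F) +
      (b 0 1 + b 1 0) • ((J2 : Matrix (Fin 2) (Fin 2) F) * T2) := by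
  ext i j
  fin_cases i <;> fin_cases j
  · simp [J2, T2, Matrix.mul_apply, Fin.sum_univ_two]
    linear_combination (b 0 0) * h3
  · simp [J2, T2, Matrix.mul_apply, Fin.sum_univ_two]
    linear_combination (b 0 1) * h3
  · simp [J2, T2, Matrix.mul_apply, Fin.sum_univ_two]
    linear_combination (b 1 0) * h3
  · simp [J2, T2, Matrix.mul_apply, Fin.sum_univ_two]
    linear_combination (b 1 1) * h3

theorem det_A2 : (A2 : Matrix (Fin 2) (Fin 2) F).det = 1 := by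
  simp [A2, Matrix.det_fin_two]

theorem trace_A2 : (A2 : Matrix (Fin 2) (Fin 2) F).trace = 0 := by
  simp [A2, Matrix.trace_fin_two]

theorem det_B2 (h3 : (3 : F) = 0) : (B2 : Matrix (Fin 2) (Fin 2) F).det = 1 := by
  simp [B2, Matrix.det_fin_two]
  linear_combination (-1 : F) * h3

theorem trace_B2 : (B2 : Matrix (Fin 2) (Fin 2) F).trace = 0 := by
  simp [B2, Matrix.trace_fin_two]

theorem det_J2 : (J2 : Matrix (Fin 2) (Fin 2) F).det = 1 := by
  simp [J2, Matrix.det_fin_two]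

theorem det_T2 : (T2 : Matrix (Fin 2) (Fin 2) F).det = -1 := by
  simp [T2, Matrix.det_fin_two]

theorem J2_orth : (J2 : Matrix (Fin 2) (Fin 2) F)ᵀ * J2 = 1 := by
  ext i j
  fin_cases i <;> fin_cases j <;> simp [J2, Matrix.mul_apply, Fin.sum_univ_two]

theorem T2_orth : (T2 : Matrix (Fin 2) (Fin 2) F)ᵀ * T2 = 1 := by
  ext i j
  fin_cases i <;> fin_cases j <;> simp [T2, Matrix.mul_apply, Fin.sum_univ_two]

/-- the elements of `GL_2` with the given matrices -/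
noncomputable def gA : GL (Fin 2) F :=
  Matrix.GeneralLinearGroup.mkOfDetNeZero A2 (by rw [det_A2]; exact one_ne_zero)

noncomputable def gB (h3 : (3 : F) = 0) : GL (Fin 2) F :=
  Matrix.GeneralLinearGroup.mkOfDetNeZero B2 (by rw [det_B2 h3]; exact one_ne_zero)

noncomputable def gJ : GL (Fin 2) F :=
  Matrix.GeneralLinearGroup.mkOfDetNeZero J2 (by rw [det_J2]; exact one_ne_zero)

noncomputable def gT : GL (Fin 2) F :=
  Matrix.GeneralLinearGroup.mkOfDetNeZero T2 (by rw [det_T2]; exact neg_ne_zero.mpr one_ne_zero)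

theorem gA_val : ((gA : GL (Fin 2) F) : Matrix (Fin 2) (Fin 2) F) = A2 := rfl
theorem gB_val (h3 : (3 : F) = 0) : ((gB h3 : GL (Fin 2) F) : Matrix (Fin 2) (Fin 2) F) = B2 := rfl
theorem gJ_val : ((gJ : GL (Fin 2) F) : Matrix (Fin 2) (Fin 2) F) = J2 := rfl
theorem gT_val : ((gT : GL (Fin 2) F) : Matrix (Fin 2) (Fin 2) F) = T2 := rfl

theorem gA_mem : (gA : GL (Fin 2) F) ∈ (Q8 : Subgroup (GL (Fin 2) F)) :=
  Subgroup.subset_closure ⟨det_A2, trace_A2⟩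

theorem gB_mem (h3 : (3 : F) = 0) : (gB h3 : GL (Fin 2) F) ∈ (Q8 : Subgroup (GL (Fin 2) F)) :=
  Subgroup.subset_closure ⟨det_B2 h3, trace_B2⟩

theorem gJ_mem : (gJ : GL (Fin 2) F) ∈ (O2 : Subgroup (GL (Fin 2) F)) :=
  (mem_O2_iff _).mpr J2_orth

theorem gT_mem : (gT : GL (Fin 2) F) ∈ (O2 : Subgroup (GL (Fin 2) F)) :=
  (mem_O2_iff _).mpr T2_orth

theorem tens_mem_matrixSet_R0 {q d : GL (Fin 2) F} (hq : q ∈ (Q8 : Subgroup (GL (Fin 2) F)))
    (hd : d ∈ (O2 : Subgroup (GL (Fin 2) F))) :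
    tens (q : Matrix (Fin 2) (Fin 2) F) (d : Matrix (Fin 2) (Fin 2) F) ∈
      matrixSet (R0 : Subgroup (GL (Fin 2 ⊕ Fin 2) F)) :=
  ⟨tensGL q d, (mem_R0_iff _).mpr ⟨q, hq, d, hd, rfl⟩, tensGL_val q d⟩

/-- `tens a d` lies in a submodule as soon as the `tens q d` for `q = 1, A2, B2, A2 B2` do -/
theorem tens_left_mem (h3 : (3 : F) = 0)
    (W : Submodule F (Matrix (Fin 2 ⊕ Fin 2) (Fin 2 ⊕ Fin 2) F)) (d : Matrix (Fin 2) (Fin 2) F)
    (h1 : tens 1 d ∈ W) (hA : tens A2 d ∈ W) (hB : tens B2 d ∈ W) (hAB : tens (A2 * B2) d ∈ W)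
    (a : Matrix (Fin 2) (Fin 2) F) : tens a d ∈ W := by
  rw [decompQ h3 a, tens_add_left, tens_add_left, tens_add_left, tens_smul_left, tens_smul_left,
    tens_smul_left, tens_smul_left]
  exact W.add_mem (W.add_mem (W.add_mem (W.smul_mem _ h1) (W.smul_mem _ hA)) (W.smul_mem _ hB))
    (W.smul_mem _ hAB)

theorem tens_right_mem (h3 : (3 : F) = 0)
    (W : Submodule F (Matrix (Fin 2 ⊕ Fin 2) (Fin 2 ⊕ Fin 2) F)) (a : Matrix (Fin 2) (Fin 2) F)
    (h1 : tens a 1 ∈ W) (hJ : tens a J2 ∈ W) (hT : tens a T2 ∈ W) (hJT : tens a (J2 * T2) ∈ W)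
    (b : Matrix (Fin 2) (Fin 2) F) : tens a b ∈ W := by
  rw [decompO h3 b, tens_add_right, tens_add_right, tens_add_right, tens_smul_right, tens_smul_right,
    tens_smul_right, tens_smul_right]
  exact W.add_mem (W.add_mem (W.add_mem (W.smul_mem _ h1) (W.smul_mem _ hJ)) (W.smul_mem _ hT))
    (W.smul_mem _ hJT)

/-- every `tens a b` is in the span of the matrices of `R0` -/
theorem tens_mem_span (h3 : (3 : F) = 0) (a b : Matrix (Fin 2) (Fin 2) F) :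
    tens a b ∈ Submodule.span F (matrixSet (R0 : Subgroup (GL (Fin 2 ⊕ Fin 2) F))) := by
  set W := Submodule.span F (matrixSet (R0 : Subgroup (GL (Fin 2 ⊕ Fin 2) F))) with hW
  have hAB : (gA * gB h3 : GL (Fin 2) F) ∈ (Q8 : Subgroup (GL (Fin 2) F)) :=
    Subgroup.mul_mem _ gA_mem (gB_mem h3)
  have hJT : (gJ * gT : GL (Fin 2) F) ∈ (O2 : Subgroup (GL (Fin 2) F)) :=
    Subgroup.mul_mem _ gJ_mem gT_mem
  have hgen : ∀ {q d : GL (Fin 2) F}, q ∈ (Q8 : Subgroup (GL (Fin 2) F)) →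
      d ∈ (O2 : Subgroup (GL (Fin 2) F)) →
      tens (q : Matrix (Fin 2) (Fin 2) F) (d : Matrix (Fin 2) (Fin 2) F) ∈ W :=
    fun hq hd => Submodule.subset_span (tens_mem_matrixSet_R0 hq hd)
  have hd : ∀ {d : GL (Fin 2) F}, d ∈ (O2 : Subgroup (GL (Fin 2) F)) →
      ∀ a : Matrix (Fin 2) (Fin 2) F, tens a (d : Matrix (Fin 2) (Fin 2) F) ∈ W := by
    intro d hd a
    refine tens_left_mem h3 W _ ?_ ?_ ?_ ?_ a
    · have := hgen (Subgroup.one_mem _) hd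
      rwa [Units.val_one] at this
    · exact hgen gA_mem hd
    · exact hgen (gB_mem h3) hd
    · have := hgen hAB hd
      rwa [Units.val_mul] at this
  refine tens_right_mem h3 W a ?_ ?_ ?_ ?_ b
  · have := hd (Subgroup.one_mem _) a
    rwa [Units.val_one] at this
  · exact hd gJ_mem a
  · exact hd gT_mem a
  · have := hd hJT a
    rwa [Units.val_mul] at this

theorem fromBlocks_eq_tens (A B C D : Matrix (Fin 2) (Fin 2) F) :
    Matrix.fromBlocks A B C D = tens (Matrix.single 0 0 1) A + tens (Matrix.single 0 1 1) B +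
      tens (Matrix.single 1 0 1) C + tens (Matrix.single 1 1 1) D := by
  unfold tens
  simp [Matrix.fromBlocks_add, Matrix.single_apply]

theorem span_matrixSet_R0 (h3 : (3 : F) = 0) :
    Submodule.span F (matrixSet (R0 : Subgroup (GL (Fin 2 ⊕ Fin 2) F))) = ⊤ := by
  rw [eq_top_iff]
  intro M _
  rw [← Matrix.fromBlocks_toBlocks M, fromBlocks_eq_tens]
  exact Submodule.add_mem _ (Submodule.add_mem _ (Submodule.add_mem _ (tens_mem_span h3 _ _)
    (tens_mem_span h3 _ _)) (tens_mem_span h3 _ _)) (tens_mem_span h3 _ _)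

theorem span_matrixSet_Rc (h3 : (3 : F) = 0) (P : GL (Fin 2 ⊕ Fin 2) F) :
    Submodule.span F (matrixSet (Rc P)) = ⊤ := by
  rw [eq_top_iff]
  intro M _
  have key : ∀ X : Matrix (Fin 2 ⊕ Fin 2) (Fin 2 ⊕ Fin 2) F,
      (P : Matrix (Fin 2 ⊕ Fin 2) (Fin 2 ⊕ Fin 2) F) * X *
        ((P⁻¹ : GL (Fin 2 ⊕ Fin 2) F) : Matrix (Fin 2 ⊕ Fin 2) (Fin 2 ⊕ Fin 2) F) ∈
        Submodule.span F (matrixSet (Rc P)) := by
    apply Cfsg.Agent.Lib.Helper49.U92AbsIrrSpan.forall_of_span_eq_top _ (span_matrixSet_R0 h3)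
    · rw [Matrix.mul_zero, Matrix.zero_mul]
      exact Submodule.zero_mem _
    · intro A B hA hB
      rw [Matrix.mul_add, Matrix.add_mul]
      exact Submodule.add_mem _ hA hB
    · intro c A hA
      rw [Matrix.mul_smul, Matrix.smul_mul]
      exact Submodule.smul_mem _ c hA
    · rintro s ⟨x, hx, rfl⟩
      apply Submodule.subset_span
      refine ⟨P * x * P⁻¹, ?_, ?_⟩
      · exact ⟨x, hx, rfl⟩
      · simp only [Units.val_mul]
  have hM := key (((P⁻¹ : GL (Fin 2 ⊕ Fin 2) F) : Matrix (Fin 2 ⊕ Fin 2) (Fin 2 ⊕ Fin 2) F) * M *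
    (P : Matrix (Fin 2 ⊕ Fin 2) (Fin 2 ⊕ Fin 2) F))
  have h1 : (P : Matrix (Fin 2 ⊕ Fin 2) (Fin 2 ⊕ Fin 2) F) *
      ((P⁻¹ : GL (Fin 2 ⊕ Fin 2) F) : Matrix (Fin 2 ⊕ Fin 2) (Fin 2 ⊕ Fin 2) F) = 1 := by
    rw [← Units.val_mul, mul_inv_cancel, Units.val_one]
  have h2 : (P : Matrix (Fin 2 ⊕ Fin 2) (Fin 2 ⊕ Fin 2) F) *
      (((P⁻¹ : GL (Fin 2 ⊕ Fin 2) F) : Matrix (Fin 2 ⊕ Fin 2) (Fin 2 ⊕ Fin 2) F) * M *
        (P : Matrix (Fin 2 ⊕ Fin 2) (Fin 2 ⊕ Fin 2) F)) *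
      ((P⁻¹ : GL (Fin 2 ⊕ Fin 2) F) : Matrix (Fin 2 ⊕ Fin 2) (Fin 2 ⊕ Fin 2) F) = M := by
    rw [Matrix.mul_assoc, Matrix.mul_assoc, h1, Matrix.mul_one, ← Matrix.mul_assoc, h1, Matrix.one_mul]
  rwa [h2] at hM

variable [Fintype F]

/-- **[3B-R0-IRR]** -/
theorem actsAbsolutelyIrreducibly_Rc (hq : Fintype.card F = 3) (P : GL (Fin 2 ⊕ Fin 2) F) :
    ActsAbsolutelyIrreducibly (matrixSet (Rc P)) :=
  Cfsg.Agent.Lib.Helper99.U92.absIrred_of_span_eq_top _ (span_matrixSet_Rc (three_eq_zero hq) P)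

end Cfsg.Agent.Lib.Helper11.BhrSp4R0Irr
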