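/-
helper11: BHRSU4-[ROW-5784] (helper34's mini-sheet BHRSU4 = S5784, the SU_4 row), `_of` form: the two open leaves
[E-SU4-TI] and [E-SU4-DEC3] enter as hypotheses `hTI`, `hDEC3`, stated exactly as in `Lib/Helper34/BHRSU4/Skel.lean.txt`
(specialised to the `q` at hand).  Everything else ([MAXU], [PROPER], [E-D2Q2], [E-MAX], [A-MINFIELD]) is on main.
Once the leaves are on main, the Skel statement `row5784_of` is
`row5784_of_leaves q hA hF (fun hq D hD hts => ti_pair_le_subfield hF hq D hD hts) (fun hq D hD => by subst hq; exact exists_between_decomp_points_three hF D hD) H hH`.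
-/
import Mathlib
import Cfsg.Prelude.Def_GeometricClasses
import Cfsg.Prelude.Def_ClassicalGeometry
import Cfsg.Agent.Lib.Helper37.BHRSU.Defs
import Cfsg.Agent.Lib.Helper37.BHRSU.Except
import Cfsg.Agent.Lib.Helper37.BHRSU.Max
import Cfsg.Agent.Lib.Helper81.BhrsuMinField
import Cfsg.Agent.Lib.Helper87.BhrMaxCasesOf
import Cfsg.Agent.Lib.Helper24.BhrC3Div

set_option autoImplicit false
set_option linter.unusedVariables false
set_option maxHeartbeats 1000000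

namespace Cfsg.Agent.Lib.Helper11.Bhrsu4Row

open Cfsg Cfsg.Geo Cfsg.Agent.Lib.Helper70.AschU Cfsg.Agent.Lib.Helper37.BHRSU
open scoped MatrixGroups Matrix Kronecker

/-- BHRSU4-[ROW-5784], from the conclusion of [MAXU] and the two leaves as hypotheses. -/
theorem row5784_of_max_leaves {F : Type*} [Field F] [Fintype F] (q : ℕ) (hF : Fintype.card F = q ^ 2)
    (hprop : ∀ M : Subgroup (GL (Fin 4) F), InUnitaryClassR 4 F q M → ¬ SUg 4 F q ≤ M)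
    (hTI : q ≤ 3 → ∀ D : Fin 2 → Submodule F (Fin 4 → F), IsMDecomposition 2 D →
      (∀ i, IsTotallySingularFor (hermForm 4 F q) (D i)) →
      ∃ (F₀ : Subfield F) (P : GL (Fin 4) F) (ζ : F), Fintype.card F = Nat.card F₀ ^ 2 ∧ ζ ≠ 0 ∧ ζ + ζ ^ q = 0 ∧
        IsFormRationalStructure (hermForm 4 F q) F₀ ζ P ∧
        (∀ u : Fin 4 → F, (∀ i, u i ∈ F₀) →
          hermForm 4 F q ((P : Matrix (Fin 4) (Fin 4) F) *ᵥ u) ((P : Matrix (Fin 4) (Fin 4) F) *ᵥ u) = 0) ∧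
        decompositionStabilizer D ⊓ SUg 4 F q ≤ subfieldSubgroup F₀ P)
    (hDEC3 : q = 3 → ∀ D : Fin 4 → Submodule F (Fin 4 → F), IsNondegenerateMDecomposition (hermForm 4 F q) 1 D →
      ∃ K : Subgroup (GL (Fin 4) F), decompositionStabilizer D ⊓ SUg 4 F q < K ∧ K < SUg 4 F q)
    (H : Subgroup (Matrix.GeneralLinearGroup (Fin 4) F)) (hH : Cfsg.Geo.IsMaximalIn (Cfsg.GU 4 F q ⊓ Cfsg.Geo.specialLinear (Fin 4) F) H)
    (hmax : (∃ M : Subgroup (Matrix.GeneralLinearGroup (Fin 4) F), InUnitaryClassR 4 F q M ∧ H = M ⊓ Cfsg.Geo.specialLinear (Fin 4) F) ∨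
      Cfsg.Geo.InUnitaryResidualClass H) :
    (∃ W : Submodule F (Fin 4 → F), W ≠ ⊥ ∧ Cfsg.Geo.IsTotallySingularFor (Cfsg.hermForm 4 F q) W ∧ H = Cfsg.Geo.subspaceStabilizer W ⊓ (Cfsg.GU 4 F q ⊓ Cfsg.Geo.specialLinear (Fin 4) F)) ∨
    (∃ W : Submodule F (Fin 4 → F), W ≠ ⊥ ∧ Cfsg.Geo.IsNondegenerateOn (Cfsg.hermForm 4 F q) W ∧ 2 * Module.finrank F W < 4 ∧ H = Cfsg.Geo.subspaceStabilizer W ⊓ (Cfsg.GU 4 F q ⊓ Cfsg.Geo.specialLinear (Fin 4) F)) ∨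
    (q ≠ 3 ∧ ∃ D : Fin 4 → Submodule F (Fin 4 → F), Cfsg.Geo.IsNondegenerateMDecomposition (Cfsg.hermForm 4 F q) 1 D ∧ H = Cfsg.Geo.decompositionStabilizer D ⊓ (Cfsg.GU 4 F q ⊓ Cfsg.Geo.specialLinear (Fin 4) F)) ∨
    (3 ≤ q ∧ ∃ D : Fin 2 → Submodule F (Fin 4 → F), Cfsg.Geo.IsNondegenerateMDecomposition (Cfsg.hermForm 4 F q) 2 D ∧ H = Cfsg.Geo.decompositionStabilizer D ⊓ (Cfsg.GU 4 F q ⊓ Cfsg.Geo.specialLinear (Fin 4) F)) ∨
    (4 ≤ q ∧ ∃ D : Fin 2 → Submodule F (Fin 4 → F), Cfsg.Geo.IsMDecomposition 2 D ∧ (∀ i, Cfsg.Geo.IsTotallySingularFor (Cfsg.hermForm 4 F q) (D i)) ∧ H = Cfsg.Geo.decompositionStabilizer D ⊓ (Cfsg.GU 4 F q ⊓ Cfsg.Geo.specialLinear (Fin 4) F)) ∨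
    (∃ (F₀ : Subfield F) (r : ℕ) (P : Matrix.GeneralLinearGroup (Fin 4) F), r.Prime ∧ Odd r ∧ Fintype.card F = Nat.card F₀ ^ r ∧ Cfsg.Geo.IsFormRationalStructure (Cfsg.hermForm 4 F q) F₀ 1 P ∧ H = Cfsg.Geo.subfieldSubgroup F₀ P ⊓ (Cfsg.GU 4 F q ⊓ Cfsg.Geo.specialLinear (Fin 4) F)) ∨
    (∃ (F₀ : Subfield F) (P : Matrix.GeneralLinearGroup (Fin 4) F) (ζ : F), Fintype.card F = Nat.card F₀ ^ 2 ∧ ζ ≠ 0 ∧ ζ + ζ ^ q = 0 ∧ Cfsg.Geo.IsFormRationalStructure (Cfsg.hermForm 4 F q) F₀ ζ P ∧ (∀ u : Fin 4 → F, (∀ i, u i ∈ F₀) → (Cfsg.hermForm 4 F q) (Matrix.mulVec (P : Matrix (Fin 4) (Fin 4) F) u) (Matrix.mulVec (P : Matrix (Fin 4) (Fin 4) F) u) = 0) ∧ H = Cfsg.Geo.subfieldSubgroup F₀ P ⊓ (Cfsg.GU 4 F q ⊓ Cfsg.Geo.specialLinear (Fin 4) F)) ∨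
    (Odd q ∧ ∃ (F₀ : Subfield F) (P : Matrix.GeneralLinearGroup (Fin 4) F), Fintype.card F = Nat.card F₀ ^ 2 ∧ Cfsg.Geo.IsFormRationalStructure (Cfsg.hermForm 4 F q) F₀ 1 P ∧ H = Cfsg.Geo.subfieldSubgroup F₀ P ⊓ (Cfsg.GU 4 F q ⊓ Cfsg.Geo.specialLinear (Fin 4) F)) ∨
    (∃ (p : ℕ) (R : Subgroup (Matrix.GeneralLinearGroup (Fin 4) F)), p.Prime ∧ q = p ∧ p % 4 = 3 ∧ Cfsg.Geo.IsSymplecticTypeGroup 2 R ∧ Cfsg.Geo.ActsAbsolutelyIrreducibly (Cfsg.Geo.matrixSet R) ∧ R ≤ Cfsg.Geo.similarityGroup (Cfsg.hermForm 4 F q) ∧ Nat.card R = 64 ∧ Nat.card (Subgroup.center R) = 4 ∧ H = Cfsg.Geo.subgroupNormalizer R ⊓ (Cfsg.GU 4 F q ⊓ Cfsg.Geo.specialLinear (Fin 4) F)) ∨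
    Cfsg.Geo.InUnitaryResidualClass H := by
  have hq2 : 2 ≤ q := two_le_q hF
  rcases hmax with ⟨M, hM, hHM⟩ | hres
  swap
  · exact Or.inr (Or.inr (Or.inr (Or.inr (Or.inr (Or.inr (Or.inr (Or.inr (Or.inr hres))))))))
  -- a subgroup strictly between `H` and `SU` contradicts maximality
  have hbetween : ∀ A : Subgroup (GL (Fin 4) F), H = A ⊓ (GU 4 F q ⊓ specialLinear (Fin 4) F) →
      (∃ K : Subgroup (GL (Fin 4) F), A ⊓ (GU 4 F q ⊓ specialLinear (Fin 4) F) < K ∧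
        K < GU 4 F q ⊓ specialLinear (Fin 4) F) → False := by
    rintro A rfl ⟨K, h1, h2⟩
    exact not_isMaximalIn_of_between h1 h2 hH
  rcases hM with hM | hM
  · dsimp only [InUnitaryClassNo6] at hM
    rcases hM with ⟨W, h1, h2, rfl⟩ | ⟨W, h1, h2, h3, rfl⟩ | ⟨t, k, D, hD, rfl⟩ | ⟨k, D, hk, hD, hts, rfl⟩ |
      ⟨F₀, r, P, hr, hodd, hc, hrat, rfl⟩ | ⟨F₀, P, hodd, hc, hrat, rfl⟩ |
      ⟨F₀, P, ζ, hev, hc, hζ, hζ2, hrat, hiso, rfl⟩ | ⟨r, K, hr, hodd, hK, hadj, rfl⟩ |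
      ⟨n₁, n₂, e, P, f₁, f₂, h1, h2, hf₁, hf₂, hT, rfl⟩ | ⟨k, t, e, P, f₁, h1, h2, h3, hf₁, hT, rfl⟩
    · exact Or.inl ⟨W, h1, h2, by rw [hHM, inf_assoc]⟩
    · exact Or.inr (Or.inl ⟨W, h1, h2, h3, by rw [hHM, inf_assoc]⟩)
    · -- non-degenerate decompositions: `t * k = 4`
      have htk : t * k = 4 := Cfsg.Agent.Lib.Helper87.BhrMaxCases.mul_eq_of_isMDecomposition D hD.decomp
      have ht2 := hD.decomp.two_le
      have hkpos := hD.decomp.pos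
      have hcases : (t = 4 ∧ k = 1) ∨ (t = 2 ∧ k = 2) := by
        have hle : t ≤ 4 := Nat.le_of_dvd (by norm_num) ⟨k, htk.symm⟩
        interval_cases t <;> omega
      rcases hcases with ⟨rfl, rfl⟩ | ⟨rfl, rfl⟩
      · have hq3 : q ≠ 3 := by
          intro hq
          exact hbetween _ (by rw [hHM, inf_assoc]) (hDEC3 hq D hD)
        exact Or.inr (Or.inr (Or.inl ⟨hq3, D, hD, by rw [hHM, inf_assoc]⟩))
      · have hq3 : 3 ≤ q := by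
          by_contra hlt
          obtain rfl : q = 2 := by omega
          have hF4 : Fintype.card F = 4 := by rw [hF]; norm_num
          exact hbetween _ (by rw [hHM, inf_assoc]) (exists_between_decomp_two hF4 D hD)
        exact Or.inr (Or.inr (Or.inr (Or.inl ⟨hq3, D, hD, by rw [hHM, inf_assoc]⟩)))
    · -- totally singular pairs: `2 * k = 4`
      obtain rfl : k = 2 := by omega
      by_cases hq4 : 4 ≤ q
      · exact Or.inr (Or.inr (Or.inr (Or.inr (Or.inl ⟨hq4, D, hD, hts, by rw [hHM, inf_assoc]⟩))))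
      · -- `q ≤ 3`: the stabiliser lies in a subfield group of symplectic type
        obtain ⟨F₀, P, ζ, hc, hζ, hζ2, hrat, hiso, hle⟩ := hTI (by omega) D hD hts
        have hM' : InUnitaryClassR 4 F q (subfieldSubgroup F₀ P ⊓ GU 4 F q) :=
          Or.inl (Or.inr (Or.inr (Or.inr (Or.inr (Or.inr (Or.inr (Or.inl
            ⟨F₀, P, ζ, ⟨2, rfl⟩, hc, hζ, hζ2, hrat, hiso, rfl⟩)))))))
        have hHeq : H = decompositionStabilizer D ⊓ (GU 4 F q ⊓ specialLinear (Fin 4) F) := by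
          rw [hHM, inf_assoc]
        have hHK : H ≤ subfieldSubgroup F₀ P ⊓ (GU 4 F q ⊓ specialLinear (Fin 4) F) := by
          rw [hHeq]
          exact le_inf hle inf_le_right
        rcases hH.2 _ hHK inf_le_right with h3 | h3
        · exact Or.inr (Or.inr (Or.inr (Or.inr (Or.inr (Or.inr (Or.inl
            ⟨F₀, P, ζ, hc, hζ, hζ2, hrat, hiso, h3.symm⟩))))))
        · exfalso
          apply hprop _ hM'
          show GU 4 F q ⊓ specialLinear (Fin 4) F ≤ subfieldSubgroup F₀ P ⊓ GU 4 F q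
          rw [← h3]
          exact le_inf inf_le_left (inf_le_right.trans inf_le_left)
    · exact Or.inr (Or.inr (Or.inr (Or.inr (Or.inr (Or.inl
        ⟨F₀, r, P, hr, hodd, hc, hrat, by rw [hHM, inf_assoc]⟩)))))
    · exact Or.inr (Or.inr (Or.inr (Or.inr (Or.inr (Or.inr (Or.inr (Or.inl
        ⟨hodd, F₀, P, hc, hrat, by rw [hHM, inf_assoc]⟩)))))))
    · exact Or.inr (Or.inr (Or.inr (Or.inr (Or.inr (Or.inr (Or.inl
        ⟨F₀, P, ζ, hc, hζ, hζ2, hrat, hiso, by rw [hHM, inf_assoc]⟩))))))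
    · -- field subalgebras: `r` odd prime dividing `4`
      exfalso
      have hdvd : r ∣ 4 := Cfsg.Agent.Lib.Helper99.Asch.dvd_of_isFieldSubalgebra r K hK
      have h4 : r ∣ 2 ^ 2 := by norm_num; exact hdvd
      have hr2 : r = 2 := (Nat.prime_dvd_prime_iff_eq hr (by norm_num)).mp (hr.dvd_of_dvd_pow h4)
      subst hr2
      exact absurd hodd (by decide)
    · -- tensor products: `n₁ * n₂ = 4`, `2 ≤ n₁ < n₂`
      exfalso
      have hmul : n₁ * n₂ = 4 := Cfsg.Agent.Lib.Helper87.BhrMaxCases.mul_eq_of_equiv_prod e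
      nlinarith
    · -- tensor powers: `k ^ t = 4`, `3 ≤ k`, `2 ≤ t`
      exfalso
      have hpow : k ^ t = 4 := Cfsg.Agent.Lib.Helper87.BhrMaxCases.pow_eq_of_equiv_fun e
      have h2' : k ^ 2 ≤ k ^ t := Nat.pow_le_pow_right (by omega) h2
      nlinarith
  · -- class 6: `4 = r ^ k`
    obtain ⟨r, R, p, e, k, hst, habs, hsim, hrp, hmin, hcase, hn, rfl⟩ := hM
    have hrprime := hst.prime
    have hk0 : k ≠ 0 := by
      rintro rfl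
      norm_num at hn
    have hr2 : r = 2 := by
      have hdvd : r ∣ 2 ^ 2 := by
        have : (2 : ℕ) ^ 2 = r ^ k := by rw [← hn]; norm_num
        rw [this]
        exact dvd_pow_self r hk0
      exact (Nat.prime_dvd_prime_iff_eq hrprime (by norm_num)).mp (hrprime.dvd_of_dvd_pow hdvd)
    subst hr2
    have hk2 : k = 2 := by
      have : (2 : ℕ) ^ k = 2 ^ 2 := by rw [← hn]; norm_num
      exact Nat.pow_right_injective (le_refl 2) this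
    subst hk2
    rcases hcase with ⟨hodd, -⟩ | ⟨-, he, hZ, hcard⟩
    · exact absurd hodd (by decide)
    · subst he
      rw [hZ] at hmin
      obtain ⟨hqp, hmod⟩ := minfield_four hmin hF
      refine Or.inr (Or.inr (Or.inr (Or.inr (Or.inr (Or.inr (Or.inr (Or.inr (Or.inl
        ⟨p, R, hmin.1, hqp, hmod, hst, habs, hsim, ?_, hZ, by rw [hHM, inf_assoc]⟩))))))))
      rw [hcard]
      norm_num

/-- BHRSU4-[ROW-5784] under `hA : AschUR 4 F q`, the two leaves [E-SU4-TI], [E-SU4-DEC3] as hypotheses. -/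
theorem row5784_of_leaves {F : Type*} [Field F] [Fintype F] (q : ℕ) (hA : AschUR 4 F q) (hF : Fintype.card F = q ^ 2)
    (hTI : q ≤ 3 → ∀ D : Fin 2 → Submodule F (Fin 4 → F), IsMDecomposition 2 D →
      (∀ i, IsTotallySingularFor (hermForm 4 F q) (D i)) →
      ∃ (F₀ : Subfield F) (P : GL (Fin 4) F) (ζ : F), Fintype.card F = Nat.card F₀ ^ 2 ∧ ζ ≠ 0 ∧ ζ + ζ ^ q = 0 ∧
        IsFormRationalStructure (hermForm 4 F q) F₀ ζ P ∧
        (∀ u : Fin 4 → F, (∀ i, u i ∈ F₀) →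
          hermForm 4 F q ((P : Matrix (Fin 4) (Fin 4) F) *ᵥ u) ((P : Matrix (Fin 4) (Fin 4) F) *ᵥ u) = 0) ∧
        decompositionStabilizer D ⊓ SUg 4 F q ≤ subfieldSubgroup F₀ P)
    (hDEC3 : q = 3 → ∀ D : Fin 4 → Submodule F (Fin 4 → F), IsNondegenerateMDecomposition (hermForm 4 F q) 1 D →
      ∃ K : Subgroup (GL (Fin 4) F), decompositionStabilizer D ⊓ SUg 4 F q < K ∧ K < SUg 4 F q)
    (H : Subgroup (Matrix.GeneralLinearGroup (Fin 4) F)) (hH : Cfsg.Geo.IsMaximalIn (Cfsg.GU 4 F q ⊓ Cfsg.Geo.specialLinear (Fin 4) F) H) :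
    (∃ W : Submodule F (Fin 4 → F), W ≠ ⊥ ∧ Cfsg.Geo.IsTotallySingularFor (Cfsg.hermForm 4 F q) W ∧ H = Cfsg.Geo.subspaceStabilizer W ⊓ (Cfsg.GU 4 F q ⊓ Cfsg.Geo.specialLinear (Fin 4) F)) ∨
    (∃ W : Submodule F (Fin 4 → F), W ≠ ⊥ ∧ Cfsg.Geo.IsNondegenerateOn (Cfsg.hermForm 4 F q) W ∧ 2 * Module.finrank F W < 4 ∧ H = Cfsg.Geo.subspaceStabilizer W ⊓ (Cfsg.GU 4 F q ⊓ Cfsg.Geo.specialLinear (Fin 4) F)) ∨
    (q ≠ 3 ∧ ∃ D : Fin 4 → Submodule F (Fin 4 → F), Cfsg.Geo.IsNondegenerateMDecomposition (Cfsg.hermForm 4 F q) 1 D ∧ H = Cfsg.Geo.decompositionStabilizer D ⊓ (Cfsg.GU 4 F q ⊓ Cfsg.Geo.specialLinear (Fin 4) F)) ∨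
    (3 ≤ q ∧ ∃ D : Fin 2 → Submodule F (Fin 4 → F), Cfsg.Geo.IsNondegenerateMDecomposition (Cfsg.hermForm 4 F q) 2 D ∧ H = Cfsg.Geo.decompositionStabilizer D ⊓ (Cfsg.GU 4 F q ⊓ Cfsg.Geo.specialLinear (Fin 4) F)) ∨
    (4 ≤ q ∧ ∃ D : Fin 2 → Submodule F (Fin 4 → F), Cfsg.Geo.IsMDecomposition 2 D ∧ (∀ i, Cfsg.Geo.IsTotallySingularFor (Cfsg.hermForm 4 F q) (D i)) ∧ H = Cfsg.Geo.decompositionStabilizer D ⊓ (Cfsg.GU 4 F q ⊓ Cfsg.Geo.specialLinear (Fin 4) F)) ∨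
    (∃ (F₀ : Subfield F) (r : ℕ) (P : Matrix.GeneralLinearGroup (Fin 4) F), r.Prime ∧ Odd r ∧ Fintype.card F = Nat.card F₀ ^ r ∧ Cfsg.Geo.IsFormRationalStructure (Cfsg.hermForm 4 F q) F₀ 1 P ∧ H = Cfsg.Geo.subfieldSubgroup F₀ P ⊓ (Cfsg.GU 4 F q ⊓ Cfsg.Geo.specialLinear (Fin 4) F)) ∨
    (∃ (F₀ : Subfield F) (P : Matrix.GeneralLinearGroup (Fin 4) F) (ζ : F), Fintype.card F = Nat.card F₀ ^ 2 ∧ ζ ≠ 0 ∧ ζ + ζ ^ q = 0 ∧ Cfsg.Geo.IsFormRationalStructure (Cfsg.hermForm 4 F q) F₀ ζ P ∧ (∀ u : Fin 4 → F, (∀ i, u i ∈ F₀) → (Cfsg.hermForm 4 F q) (Matrix.mulVec (P : Matrix (Fin 4) (Fin 4) F) u) (Matrix.mulVec (P : Matrix (Fin 4) (Fin 4) F) u) = 0) ∧ H = Cfsg.Geo.subfieldSubgroup F₀ P ⊓ (Cfsg.GU 4 F q ⊓ Cfsg.Geo.specialLinear (Fin 4) F)) ∨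
    (Odd q ∧ ∃ (F₀ : Subfield F) (P : Matrix.GeneralLinearGroup (Fin 4) F), Fintype.card F = Nat.card F₀ ^ 2 ∧ Cfsg.Geo.IsFormRationalStructure (Cfsg.hermForm 4 F q) F₀ 1 P ∧ H = Cfsg.Geo.subfieldSubgroup F₀ P ⊓ (Cfsg.GU 4 F q ⊓ Cfsg.Geo.specialLinear (Fin 4) F)) ∨
    (∃ (p : ℕ) (R : Subgroup (Matrix.GeneralLinearGroup (Fin 4) F)), p.Prime ∧ q = p ∧ p % 4 = 3 ∧ Cfsg.Geo.IsSymplecticTypeGroup 2 R ∧ Cfsg.Geo.ActsAbsolutelyIrreducibly (Cfsg.Geo.matrixSet R) ∧ R ≤ Cfsg.Geo.similarityGroup (Cfsg.hermForm 4 F q) ∧ Nat.card R = 64 ∧ Nat.card (Subgroup.center R) = 4 ∧ H = Cfsg.Geo.subgroupNormalizer R ⊓ (Cfsg.GU 4 F q ⊓ Cfsg.Geo.specialLinear (Fin 4) F)) ∨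
    Cfsg.Geo.InUnitaryResidualClass H :=
  row5784_of_max_leaves q hF (fun M hM => not_SUg_le_of_inUnitaryClassR hF (by norm_num) (by norm_num) M hM) hTI hDEC3 H hH
    (maximal_eq_member hA hF (by norm_num) (by norm_num) H hH)

end Cfsg.Agent.Lib.Helper11.Bhrsu4Row
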