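/-
helper11: HEDGE of BHRSU4-[E-SU4-TI] (helper34's mini-sheet BHRSU4 = S5784, the SU_4 row): for `q ≤ 3` the stabiliser in `SU_4(q)`
of a pair `U = D 0`, `U' = D 1` of complementary totally isotropic planes lies in a subfield group of index 2 and symplectic type.
Frame `u 0, u 1 ∈ U`, dual frame `v 0, v 1 ∈ U'` (`h(v i, u j) = δ_ij`); `W(x) = x₁u₀ + x₂u₁ + σ(x₂)v₀ − σ(x₁)v₁`; the `W(x)` form an
`F₀`-form of `F^4` (`F₀` the fixed field of `σ : x ↦ x^q`) with basis `W(1,0), W(ω,0), W(0,1), W(0,ω)` (columns of `P`);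
`h(W(x), W(y)) = β − σ(β)`, `β = x₁y₂ − x₂y₁`; `ζ = ω − σ(ω)`.  For `g` in the stabiliser with `det g = 1` the `2 × 2` block `a` of `g` on `U`
(resp. from `U` to `U'`) has `δ = det a ∈ F₀`, `δ² = 1` as `q ≤ 3`, the other block is `δ · adj(σ(a))ᵀ`, and `μ g` maps the `F₀`-form to itself for
`σ(μ) = ±δ μ`.  Statement = `ti_pair_le_subfield` of `Lib/Helper34/BHRSU4/Skel.lean.txt`, in my namespace.
-/
import Mathlib
import Cfsg.Prelude.Def_GeometricClasses
import Cfsg.Prelude.Def_ClassicalGeometry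
import Cfsg.Agent.Lib.Helper37.BHRSU.Defs
import Cfsg.Agent.Lib.Helper13.Herm
import Cfsg.Agent.Lib.Helper13.SubfieldBasic
import Cfsg.Agent.Lib.Helper5.UnitarySU2b
import Cfsg.Agent.Lib.Helper44.UPair2
import Cfsg.Agent.Lib.Helper44.PairGeom
import Cfsg.Agent.Lib.Helper49.AschUC5Entry

set_option autoImplicit false
set_option linter.unusedSectionVars false
set_option linter.unusedVariables false
set_option linter.unusedSimpArgs false

namespace Cfsg.Agent.Lib.Helper11.Bhrsu4TI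

open Cfsg Cfsg.Geo Cfsg.Agent.Lib.Helper70.AschU Cfsg.Agent.Lib.Helper37.BHRSU
open Cfsg.Agent.S0837 Cfsg.Agent.S0781 Cfsg.Agent.Lib.Helper37 Cfsg.Agent.Lib.Helper44
open scoped MatrixGroups Matrix

variable {F : Type*} [Field F]


/-- the matrix whose columns are the vectors of a basis, as an element of `GL` -/
noncomputable def colGL (B : Module.Basis (Fin 4) F (Fin 4 → F)) : GL (Fin 4) F where
  val := (Pi.basisFun F (Fin 4)).toMatrix B
  inv := B.toMatrix (Pi.basisFun F (Fin 4))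
  val_inv := Module.Basis.toMatrix_mul_toMatrix_flip _ _
  inv_val := Module.Basis.toMatrix_mul_toMatrix_flip _ _

theorem colGL_apply (B : Module.Basis (Fin 4) F (Fin 4 → F)) (i j : Fin 4) :
    ((colGL B : GL (Fin 4) F) : Matrix (Fin 4) (Fin 4) F) i j = B j i := by
  show (Pi.basisFun F (Fin 4)).toMatrix B i j = B j i
  rw [Module.Basis.toMatrix_apply, Pi.basisFun_repr]

theorem colGL_mulVec (B : Module.Basis (Fin 4) F (Fin 4 → F)) (x : Fin 4 → F) :
    ((colGL B : GL (Fin 4) F) : Matrix (Fin 4) (Fin 4) F) *ᵥ x = ∑ j, x j • B j := by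
  funext i
  simp only [Matrix.mulVec, dotProduct, colGL_apply, Finset.sum_apply, Pi.smul_apply, smul_eq_mul]
  exact Finset.sum_congr rfl fun j _ => mul_comm _ _

/-- rationality of `P⁻¹ g P` up to the scalar `μ` from the action on the columns of `P` -/
theorem rat_of_columns (F₀ : Subfield F) (P g : GL (Fin 4) F) (μ : Fˣ)
    (h : ∀ j : Fin 4, ∃ y : Fin 4 → F, (∀ i, y i ∈ F₀) ∧
      (μ : F) • ((g : Matrix (Fin 4) (Fin 4) F) *ᵥ ((P : Matrix (Fin 4) (Fin 4) F) *ᵥ Pi.single j 1)) =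
        (P : Matrix (Fin 4) (Fin 4) F) *ᵥ y) :
    ∀ i j, ((μ : F) • ((P⁻¹ * g * P : GL (Fin 4) F) : Matrix (Fin 4) (Fin 4) F)) i j ∈ F₀ := by
  intro i j
  obtain ⟨y, hy, hyj⟩ := h j
  have h1 : ((μ : F) • ((P⁻¹ * g * P : GL (Fin 4) F) : Matrix (Fin 4) (Fin 4) F)) i j =
      ((μ : F) • (((P⁻¹ * g * P : GL (Fin 4) F) : Matrix (Fin 4) (Fin 4) F) *ᵥ Pi.single j 1)) i := by
    simp [Matrix.mulVec_single_one]
  have h2 : (μ : F) • (((P⁻¹ * g * P : GL (Fin 4) F) : Matrix (Fin 4) (Fin 4) F) *ᵥ Pi.single j 1) = y := by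
    rw [Units.val_mul, Units.val_mul, ← Matrix.mulVec_mulVec, ← Matrix.mulVec_mulVec, ← Matrix.mulVec_smul, hyj,
      Matrix.mulVec_mulVec, ← Units.val_mul, inv_mul_cancel, Units.val_one, Matrix.one_mulVec]
  rw [h1, h2]
  exact hy i



/-- the conjugate-inverse-transpose of a `2 × 2` block with the determinant condition -/
theorem solve_block (σ : F →+* F) (a11 a12 a21 a22 c11 c12 c21 c22 : F)
    (E11 : c11 * σ a11 + c21 * σ a21 = 1) (E12 : c11 * σ a12 + c21 * σ a22 = 0)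
    (E21 : c12 * σ a11 + c22 * σ a21 = 0) (E22 : c12 * σ a12 + c22 * σ a22 = 1)
    (hdet : (a11 * a22 - a12 * a21) * (c11 * c22 - c12 * c21) = 1) :
    σ (a11 * a22 - a12 * a21) = a11 * a22 - a12 * a21 ∧
    (a11 * a22 - a12 * a21) * c11 = σ a22 ∧ (a11 * a22 - a12 * a21) * c21 = -σ a12 ∧
    (a11 * a22 - a12 * a21) * c12 = -σ a21 ∧ (a11 * a22 - a12 * a21) * c22 = σ a11 := by
  set δ := a11 * a22 - a12 * a21 with hδ
  set Δ := σ δ with hΔ
  have hΔe : Δ = σ a11 * σ a22 - σ a12 * σ a21 := by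
    rw [hΔ, hδ, map_sub, map_mul, map_mul]
  have h1 : Δ * c11 = σ a22 := by rw [hΔe]; linear_combination σ a22 * E11 - σ a21 * E12
  have h2 : Δ * c21 = -σ a12 := by rw [hΔe]; linear_combination σ a11 * E12 - σ a12 * E11
  have h3 : Δ * c12 = -σ a21 := by rw [hΔe]; linear_combination σ a22 * E21 - σ a21 * E22
  have h4 : Δ * c22 = σ a11 := by rw [hΔe]; linear_combination σ a11 * E22 - σ a12 * E21
  have hΔ0 : Δ ≠ 0 := by
    intro h0
    rw [h0, zero_mul] at h2 h4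
    have e1 : σ a11 = 0 := h4.symm
    have e2 : σ a12 = 0 := neg_eq_zero.mp h2.symm
    have e3 : σ a21 = 0 := by
      rw [h0, zero_mul] at h3
      exact neg_eq_zero.mp h3.symm
    rw [e1, e3, mul_zero, mul_zero, add_zero] at E11
    exact zero_ne_one E11
  have h5 : Δ * Δ * (c11 * c22 - c12 * c21) = Δ := by
    have : Δ * Δ * (c11 * c22 - c12 * c21) = (Δ * c11) * (Δ * c22) - (Δ * c12) * (Δ * c21) := by ring
    rw [this, h1, h2, h3, h4, hΔe]; ring
  have h6 : Δ = δ := by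
    have h7 : Δ * (Δ - δ) = 0 := by
      linear_combination (-(Δ * Δ)) * hdet + δ * h5
    rcases mul_eq_zero.mp h7 with h | h
    · exact absurd h hΔ0
    · exact sub_eq_zero.mp h
  refine ⟨h6, ?_, ?_, ?_, ?_⟩
  · rw [← h6]; exact h1
  · rw [← h6]; exact h2
  · rw [← h6]; exact h3
  · rw [← h6]; exact h4

/-- an element of `F₀^×`, `q ≤ 3`, squares to one -/
theorem sq_eq_one_of_pow_eq {q : ℕ} (hq2 : 2 ≤ q) (hq : q ≤ 3) (δ : F) (h0 : δ ≠ 0) (h : δ ^ q = δ) :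
    δ * δ = 1 := by
  have hq' : q = 2 ∨ q = 3 := by omega
  rcases hq' with rfl | rfl
  · have h1 : δ * (δ - 1) = 0 := by linear_combination h
    rcases mul_eq_zero.mp h1 with h2 | h2
    · exact absurd h2 h0
    · have : δ = 1 := sub_eq_zero.mp h2
      rw [this]; ring
  · have h1 : δ * (δ * δ - 1) = 0 := by linear_combination h
    rcases mul_eq_zero.mp h1 with h2 | h2
    · exact absurd h2 h0
    · exact sub_eq_zero.mp h2



/-- a hyperbolic frame: `u 0, u 1` and `v 0, v 1` totally isotropic, `h(v i, u j) = δ_ij` -/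
structure HFrame (σ : F →+* F) (u v : Fin 2 → Fin 4 → F) : Prop where
  uu : ∀ i j, hf σ (u i) (u j) = 0
  vv : ∀ i j, hf σ (v i) (v j) = 0
  vu : ∀ i j, hf σ (v i) (u j) = if i = j then 1 else 0
  uv : ∀ i j, hf σ (u i) (v j) = if i = j then 1 else 0

/-- the vectors of the `F₀`-form -/
def Wv (σ : F →+* F) (u v : Fin 2 → Fin 4 → F) (x₁ x₂ : F) : Fin 4 → F :=
  x₁ • u 0 + x₂ • u 1 + σ x₂ • v 0 - σ x₁ • v 1

theorem hf_Wv (σ : F →+* F) (hσ2 : ∀ a, σ (σ a) = a) {u v : Fin 2 → Fin 4 → F} (h : HFrame σ u v)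
    (x₁ x₂ y₁ y₂ : F) :
    hf σ (Wv σ u v x₁ x₂) (Wv σ u v y₁ y₂) = (x₁ * y₂ - x₂ * y₁) - σ (x₁ * y₂ - x₂ * y₁) := by
  unfold Wv
  simp only [hf_add_left, hf_sub_left, hf_add_right, hf_sub_right, hf_smul_left, hf_smul_right,
    h.uu, h.vv, h.vu, h.uv, hσ2, map_sub, map_mul]
  simp
  ring

theorem exists_hframe (σ : F →+* F) (hσ2 : ∀ a, σ (σ a) = a) (U U' : Submodule F (Fin 4 → F))
    (hp : UIPair σ U U') (hU : Module.finrank F U = 2) :
    ∃ u v : Fin 2 → Fin 4 → F, HFrame σ u v ∧ (∀ i, u i ∈ U) ∧ (∀ i, v i ∈ U') ∧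
      (∀ x ∈ U, x = hf σ x (v 0) • u 0 + hf σ x (v 1) • u 1) ∧
      (∀ y ∈ U', y = hf σ y (u 0) • v 0 + hf σ y (u 1) • v 1) := by
  classical
  obtain ⟨a, haU, b, hbU, hLI⟩ := exists_li_pair_of_finrank U (by omega)
  have htU : ∀ i, (![a, b] : Fin 2 → Fin 4 → F) i ∈ U := by
    intro i; fin_cases i
    · exact haU
    · exact hbU
  obtain ⟨v0, hv0U, hv0⟩ := hp.exists_dual_in hσ2 ![a, b] htU hLI ![1, 0]
  obtain ⟨v1, hv1U, hv1⟩ := hp.exists_dual_in hσ2 ![a, b] htU hLI ![0, 1]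
  have hvU : ∀ i, (![v0, v1] : Fin 2 → Fin 4 → F) i ∈ U' := by
    intro i; fin_cases i
    · exact hv0U
    · exact hv1U
  have hvu : ∀ i j, hf σ ((![v0, v1] : Fin 2 → Fin 4 → F) i) ((![a, b] : Fin 2 → Fin 4 → F) j) =
      if i = j then 1 else 0 := by
    intro i j
    fin_cases i <;> fin_cases j
    · simpa using hv0 0
    · simpa using hv0 1
    · simpa using hv1 0
    · simpa using hv1 1
  have hfr : HFrame σ ![a, b] ![v0, v1] := by
    refine ⟨fun i j => hp.tiU _ (htU i) _ (htU j), fun i j => hp.tiU' _ (hvU i) _ (hvU j), hvu, ?_⟩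
    intro i j
    rw [hf_symm σ hσ2, hvu j i]
    by_cases hij : i = j
    · subst hij; simp
    · rw [if_neg hij, if_neg (Ne.symm hij), map_zero]
  -- expansion in `U`
  have hspan : Submodule.span F (Set.range (![a, b] : Fin 2 → Fin 4 → F)) = U := by
    apply Submodule.eq_of_le_of_finrank_eq
    · rw [Submodule.span_le]
      rintro _ ⟨i, rfl⟩
      exact htU i
    · rw [finrank_span_eq_card hLI, hU, Fintype.card_fin]
  have hexpU : ∀ x ∈ U, x = hf σ x v0 • a + hf σ x v1 • b := by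
    intro x hx
    rw [← hspan, Submodule.mem_span_range_iff_exists_fun] at hx
    obtain ⟨c, rfl⟩ := hx
    rw [Fin.sum_univ_two]
    have e0 : hf σ (c 0 • (![a, b] : Fin 2 → Fin 4 → F) 0 + c 1 • (![a, b] : Fin 2 → Fin 4 → F) 1) v0 = c 0 := by
      rw [hf_add_left, hf_smul_left, hf_smul_left]
      have h1 := hfr.uv 0 0
      have h2 := hfr.uv 1 0
      simp only [Matrix.cons_val_zero, Matrix.cons_val_one] at h1 h2 ⊢
      rw [h1, h2]; simp
    have e1 : hf σ (c 0 • (![a, b] : Fin 2 → Fin 4 → F) 0 + c 1 • (![a, b] : Fin 2 → Fin 4 → F) 1) v1 = c 1 := by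
      rw [hf_add_left, hf_smul_left, hf_smul_left]
      have h1 := hfr.uv 0 1
      have h2 := hfr.uv 1 1
      simp only [Matrix.cons_val_zero, Matrix.cons_val_one] at h1 h2 ⊢
      rw [h1, h2]; simp
    rw [e0, e1]
    rfl
  refine ⟨![a, b], ![v0, v1], hfr, htU, hvU, hexpU, ?_⟩
  -- expansion in `U'`
  intro y hy
  set d := y - (hf σ y a • v0 + hf σ y b • v1) with hd
  have hdU' : d ∈ U' := U'.sub_mem hy (U'.add_mem (U'.smul_mem _ hv0U) (U'.smul_mem _ hv1U))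
  have hda : hf σ d a = 0 := by
    rw [hd, hf_sub_left, hf_add_left, hf_smul_left, hf_smul_left]
    have h1 := hvu 0 0
    have h2 := hvu 1 0
    simp only [Matrix.cons_val_zero, Matrix.cons_val_one] at h1 h2
    rw [h1, h2]; simp
  have hdb : hf σ d b = 0 := by
    rw [hd, hf_sub_left, hf_add_left, hf_smul_left, hf_smul_left]
    have h1 := hvu 0 1
    have h2 := hvu 1 1
    simp only [Matrix.cons_val_zero, Matrix.cons_val_one] at h1 h2
    rw [h1, h2]; simp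
  have hdz : ∀ z : Fin 4 → F, hf σ d z = 0 := by
    intro z
    have hz : z ∈ U ⊔ U' := by rw [hp.compl.sup_eq_top]; trivial
    obtain ⟨x, hx, y', hy', rfl⟩ := Submodule.mem_sup.mp hz
    rw [hf_add_right, hp.tiU' _ hdU' _ hy', add_zero, hexpU x hx, hf_add_right, hf_smul_right, hf_smul_right,
      hda, hdb]
    simp
  have hd0 : d = 0 := by
    funext i
    rw [← hf_single_right σ d i, hdz]
    rfl
  have : y = hf σ y a • v0 + hf σ y b • v1 := by
    have := sub_eq_zero.mp hd0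
    exact this
  exact this



theorem sign_sumComm22 : Equiv.Perm.sign (Equiv.sumComm (Fin 2) (Fin 2)) = 1 := by decide

theorem det_antiBlocks (B C : Matrix (Fin 2) (Fin 2) F) :
    (Matrix.fromBlocks 0 B C 0).det = B.det * C.det := by
  have h1 : (Matrix.fromBlocks 0 B C 0 : Matrix (Fin 2 ⊕ Fin 2) (Fin 2 ⊕ Fin 2) F) =
      (Matrix.fromBlocks B 0 0 C).submatrix id (Equiv.sumComm (Fin 2) (Fin 2)) := by
    ext i j
    rcases i with i | i <;> rcases j with j | j <;> rfl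
  rw [h1, Matrix.det_permute', sign_sumComm22, Matrix.det_fromBlocks_zero₂₁]
  simp

/-- the determinant of a matrix from its action on a basis -/
theorem det_eq_of_basis {ι : Type*} [Fintype ι] [DecidableEq ι] (B : Module.Basis ι F (Fin 4 → F))
    (g : Matrix (Fin 4) (Fin 4) F) (M : Matrix ι ι F) (h : ∀ j, g *ᵥ B j = ∑ i, M i j • B i) :
    g.det = M.det := by
  have h1 : Matrix.toLin B B M = Matrix.toLin' g := by
    apply B.ext
    intro j
    rw [Matrix.toLin_self, Matrix.toLin'_apply, h j]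
  rw [← LinearMap.det_toLin' g, ← h1, LinearMap.det_toLin]

/-- the frame is linearly independent -/
theorem frame_li (σ : F →+* F) {u v : Fin 2 → Fin 4 → F} (h : HFrame σ u v) :
    LinearIndependent F (Sum.elim u v) := by
  rw [Fintype.linearIndependent_iff]
  intro c hc
  rw [Fintype.sum_sum_type, Fin.sum_univ_two, Fin.sum_univ_two] at hc
  simp only [Sum.elim_inl, Sum.elim_inr] at hc
  have key : ∀ z : Fin 4 → F, c (Sum.inl 0) * hf σ (u 0) z + c (Sum.inl 1) * hf σ (u 1) z +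
      (c (Sum.inr 0) * hf σ (v 0) z + c (Sum.inr 1) * hf σ (v 1) z) = 0 := by
    intro z
    have := congrArg (fun w => hf σ w z) hc
    simp only [hf_add_left, hf_smul_left, hf_zero_left] at this
    exact this
  have k0 := key (v 0)
  have k1 := key (v 1)
  have k2 := key (u 0)
  have k3 := key (u 1)
  simp only [h.uu, h.vv, h.uv, h.vu] at k0 k1 k2 k3
  simp at k0 k1 k2 k3
  rintro (i | i) <;> fin_cases i
  · exact k0
  · exact k1
  · exact k2
  · exact k3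

/-- the frame as a basis -/
noncomputable def frameBasis (σ : F →+* F) {u v : Fin 2 → Fin 4 → F} (h : HFrame σ u v) :
    Module.Basis (Fin 2 ⊕ Fin 2) F (Fin 4 → F) :=
  basisOfLinearIndependentOfCardEqFinrank (frame_li σ h) (by simp)

theorem frameBasis_inl (σ : F →+* F) {u v : Fin 2 → Fin 4 → F} (h : HFrame σ u v) (i : Fin 2) :
    frameBasis σ h (Sum.inl i) = u i := by
  unfold frameBasis
  rw [coe_basisOfLinearIndependentOfCardEqFinrank]
  rfl

theorem frameBasis_inr (σ : F →+* F) {u v : Fin 2 → Fin 4 → F} (h : HFrame σ u v) (i : Fin 2) :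
    frameBasis σ h (Sum.inr i) = v i := by
  unfold frameBasis
  rw [coe_basisOfLinearIndependentOfCardEqFinrank]
  rfl

theorem exists_mu (σ : F →+* F) (δ ζ : F) (hδδ : δ * δ = 1) (hζ0 : ζ ≠ 0) (hζ : σ ζ = -ζ) :
    ∃ μ : F, μ ≠ 0 ∧ σ μ = δ * μ := by
  have h1 : (δ - 1) * (δ + 1) = 0 := by linear_combination hδδ
  rcases mul_eq_zero.mp h1 with h | h
  · refine ⟨1, one_ne_zero, ?_⟩
    rw [sub_eq_zero.mp h, map_one, mul_one]
  · refine ⟨ζ, hζ0, ?_⟩
    rw [hζ, eq_neg_of_add_eq_zero_left h]; ring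


/-- the case where `g` fixes both planes -/
theorem core_fix (σ : F →+* F) (hσ2 : ∀ a, σ (σ a) = a) {q : ℕ} (hσ : ∀ x, σ x = x ^ q) (hq2 : 2 ≤ q) (hq : q ≤ 3)
    (ζ : F) (hζ0 : ζ ≠ 0) (hζ : σ ζ = -ζ) {u v : Fin 2 → Fin 4 → F} (hfr : HFrame σ u v)
    (U U' : Submodule F (Fin 4 → F)) (huU : ∀ i, u i ∈ U) (hvU : ∀ i, v i ∈ U')
    (hexpU : ∀ x ∈ U, x = hf σ x (v 0) • u 0 + hf σ x (v 1) • u 1)
    (hexpU' : ∀ y ∈ U', y = hf σ y (u 0) • v 0 + hf σ y (u 1) • v 1)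
    (g : Matrix (Fin 4) (Fin 4) F) (hdet : g.det = 1)
    (hiso : ∀ x y, hf σ (g *ᵥ x) (g *ᵥ y) = hf σ x y)
    (hU : ∀ x ∈ U, g *ᵥ x ∈ U) (hU' : ∀ y ∈ U', g *ᵥ y ∈ U') :
    ∃ μ : F, μ ≠ 0 ∧ ∀ x₁ x₂, ∃ y₁ y₂, μ • (g *ᵥ Wv σ u v x₁ x₂) = Wv σ u v y₁ y₂ := by
  -- the blocks
  set a : Fin 2 → Fin 2 → F := fun i j => hf σ (g *ᵥ u j) (v i) with ha
  set c : Fin 2 → Fin 2 → F := fun i j => hf σ (g *ᵥ v j) (u i) with hc
  have hgu : ∀ j, g *ᵥ u j = a 0 j • u 0 + a 1 j • u 1 := fun j => hexpU _ (hU _ (huU j))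
  have hgv : ∀ j, g *ᵥ v j = c 0 j • v 0 + c 1 j • v 1 := fun j => hexpU' _ (hU' _ (hvU j))
  -- the isometry relations
  have hE : ∀ l j, c 0 l * σ (a 0 j) + c 1 l * σ (a 1 j) = if l = j then 1 else 0 := by
    intro l j
    have h1 := hiso (v l) (u j)
    rw [hfr.vu l j, hgv l, hgu j] at h1
    simp only [hf_add_left, hf_add_right, hf_smul_left, hf_smul_right, hfr.vu, hfr.uu, hfr.vv, hfr.uv] at h1
    simp at h1
    rw [← h1]; ring
  have E11 := hE 0 0
  have E12 := hE 0 1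
  have E21 := hE 1 0
  have E22 := hE 1 1
  simp at E11 E12 E21 E22
  -- the determinant
  have hdet2 : (a 0 0 * a 1 1 - a 0 1 * a 1 0) * (c 0 0 * c 1 1 - c 0 1 * c 1 0) = 1 := by
    have h1 := det_eq_of_basis (frameBasis σ hfr) g
      (Matrix.fromBlocks (Matrix.of a) 0 0 (Matrix.of c)) (by
        rintro (j | j)
        · rw [Fintype.sum_sum_type, Fin.sum_univ_two, Fin.sum_univ_two]
          simp only [frameBasis_inl, frameBasis_inr, Matrix.fromBlocks_apply₁₁, Matrix.fromBlocks_apply₂₁,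
            Matrix.of_apply, Matrix.zero_apply, zero_smul, add_zero]
          exact hgu j
        · rw [Fintype.sum_sum_type, Fin.sum_univ_two, Fin.sum_univ_two]
          simp only [frameBasis_inl, frameBasis_inr, Matrix.fromBlocks_apply₁₂, Matrix.fromBlocks_apply₂₂,
            Matrix.of_apply, Matrix.zero_apply, zero_smul, add_zero, zero_add]
          exact hgv j)
    rw [Matrix.det_fromBlocks_zero₂₁, Matrix.det_fin_two, Matrix.det_fin_two, hdet] at h1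
    simp only [Matrix.of_apply] at h1
    exact h1.symm
  obtain ⟨hδσ, hc00, hc10, hc01, hc11⟩ := solve_block σ (a 0 0) (a 0 1) (a 1 0) (a 1 1) (c 0 0) (c 0 1) (c 1 0) (c 1 1)
    E11 E12 E21 E22 hdet2
  set δ := a 0 0 * a 1 1 - a 0 1 * a 1 0 with hδ
  have hδ0 : δ ≠ 0 := by
    intro h0
    rw [h0, zero_mul] at hdet2
    exact zero_ne_one hdet2
  have hδδ : δ * δ = 1 := sq_eq_one_of_pow_eq hq2 hq δ hδ0 (by rw [← hσ]; exact hδσ)
  obtain ⟨μ, hμ0, hμ⟩ := exists_mu σ δ ζ hδδ hζ0 hζ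
  -- the entries of `c`
  have c00 : c 0 0 = δ * σ (a 1 1) := by linear_combination δ * hc00 - c 0 0 * hδδ
  have c10 : c 1 0 = -(δ * σ (a 0 1)) := by linear_combination δ * hc10 - c 1 0 * hδδ
  have c01 : c 0 1 = -(δ * σ (a 1 0)) := by linear_combination δ * hc01 - c 0 1 * hδδ
  have c11 : c 1 1 = δ * σ (a 0 0) := by linear_combination δ * hc11 - c 1 1 * hδδ
  refine ⟨μ, hμ0, fun x₁ x₂ => ⟨μ * (a 0 0 * x₁ + a 0 1 * x₂), μ * (a 1 0 * x₁ + a 1 1 * x₂), ?_⟩⟩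
  unfold Wv
  simp only [Matrix.mulVec_add, Matrix.mulVec_sub, Matrix.mulVec_smul, hgu, hgv, c00, c10, c01, c11,
    map_mul, map_add, hμ]
  module


/-- the case where `g` interchanges the two planes -/
theorem core_swap (σ : F →+* F) (hσ2 : ∀ a, σ (σ a) = a) {q : ℕ} (hσ : ∀ x, σ x = x ^ q) (hq2 : 2 ≤ q) (hq : q ≤ 3)
    (ζ : F) (hζ0 : ζ ≠ 0) (hζ : σ ζ = -ζ) {u v : Fin 2 → Fin 4 → F} (hfr : HFrame σ u v)
    (U U' : Submodule F (Fin 4 → F)) (huU : ∀ i, u i ∈ U) (hvU : ∀ i, v i ∈ U')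
    (hexpU : ∀ x ∈ U, x = hf σ x (v 0) • u 0 + hf σ x (v 1) • u 1)
    (hexpU' : ∀ y ∈ U', y = hf σ y (u 0) • v 0 + hf σ y (u 1) • v 1)
    (g : Matrix (Fin 4) (Fin 4) F) (hdet : g.det = 1)
    (hiso : ∀ x y, hf σ (g *ᵥ x) (g *ᵥ y) = hf σ x y)
    (hU : ∀ x ∈ U, g *ᵥ x ∈ U') (hU' : ∀ y ∈ U', g *ᵥ y ∈ U) :
    ∃ μ : F, μ ≠ 0 ∧ ∀ x₁ x₂, ∃ y₁ y₂, μ • (g *ᵥ Wv σ u v x₁ x₂) = Wv σ u v y₁ y₂ := by
  -- the blocks
  set b : Fin 2 → Fin 2 → F := fun i j => hf σ (g *ᵥ u j) (u i) with hb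
  set c : Fin 2 → Fin 2 → F := fun i j => hf σ (g *ᵥ v j) (v i) with hc
  have hgu : ∀ j, g *ᵥ u j = b 0 j • v 0 + b 1 j • v 1 := fun j => hexpU' _ (hU _ (huU j))
  have hgv : ∀ j, g *ᵥ v j = c 0 j • u 0 + c 1 j • u 1 := fun j => hexpU _ (hU' _ (hvU j))
  -- the isometry relations
  have hE : ∀ l j, c 0 l * σ (b 0 j) + c 1 l * σ (b 1 j) = if l = j then 1 else 0 := by
    intro l j
    have h1 := hiso (v l) (u j)
    rw [hfr.vu l j, hgv l, hgu j] at h1
    simp only [hf_add_left, hf_add_right, hf_smul_left, hf_smul_right, hfr.vu, hfr.uu, hfr.vv, hfr.uv] at h1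
    simp at h1
    rw [← h1]; ring
  have E11 := hE 0 0
  have E12 := hE 0 1
  have E21 := hE 1 0
  have E22 := hE 1 1
  simp at E11 E12 E21 E22
  -- the determinant
  have hdet2 : (b 0 0 * b 1 1 - b 0 1 * b 1 0) * (c 0 0 * c 1 1 - c 0 1 * c 1 0) = 1 := by
    have h1 := det_eq_of_basis (frameBasis σ hfr) g
      (Matrix.fromBlocks 0 (Matrix.of c) (Matrix.of b) 0) (by
        rintro (j | j)
        · rw [Fintype.sum_sum_type, Fin.sum_univ_two, Fin.sum_univ_two]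
          simp only [frameBasis_inl, frameBasis_inr, Matrix.fromBlocks_apply₁₁, Matrix.fromBlocks_apply₂₁,
            Matrix.of_apply, Matrix.zero_apply, zero_smul, add_zero, zero_add]
          exact hgu j
        · rw [Fintype.sum_sum_type, Fin.sum_univ_two, Fin.sum_univ_two]
          simp only [frameBasis_inl, frameBasis_inr, Matrix.fromBlocks_apply₁₂, Matrix.fromBlocks_apply₂₂,
            Matrix.of_apply, Matrix.zero_apply, zero_smul, add_zero, zero_add]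
          exact hgv j)
    rw [det_antiBlocks, Matrix.det_fin_two, Matrix.det_fin_two, hdet] at h1
    simp only [Matrix.of_apply] at h1
    rw [h1]; ring
  obtain ⟨hδσ, hc00, hc10, hc01, hc11⟩ := solve_block σ (b 0 0) (b 0 1) (b 1 0) (b 1 1) (c 0 0) (c 0 1) (c 1 0) (c 1 1)
    E11 E12 E21 E22 hdet2
  set δ := b 0 0 * b 1 1 - b 0 1 * b 1 0 with hδ
  have hδ0 : δ ≠ 0 := by
    intro h0
    rw [h0, zero_mul] at hdet2
    exact zero_ne_one hdet2
  have hδδ : δ * δ = 1 := sq_eq_one_of_pow_eq hq2 hq δ hδ0 (by rw [← hσ]; exact hδσ)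
  obtain ⟨μ, hμ0, hμ⟩ := exists_mu σ (-δ) ζ (by linear_combination hδδ) hζ0 hζ
  -- the entries of `c`
  have c00 : c 0 0 = δ * σ (b 1 1) := by linear_combination δ * hc00 - c 0 0 * hδδ
  have c10 : c 1 0 = -(δ * σ (b 0 1)) := by linear_combination δ * hc10 - c 1 0 * hδδ
  have c01 : c 0 1 = -(δ * σ (b 1 0)) := by linear_combination δ * hc01 - c 0 1 * hδδ
  have c11 : c 1 1 = δ * σ (b 0 0) := by linear_combination δ * hc11 - c 1 1 * hδδ
  refine ⟨μ, hμ0, fun x₁ x₂ => ⟨-(σ μ * (σ (b 1 0) * σ x₁ + σ (b 1 1) * σ x₂)),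
    σ μ * (σ (b 0 0) * σ x₁ + σ (b 0 1) * σ x₂), ?_⟩⟩
  have e1 : σ (-(σ μ * (σ (b 1 0) * σ x₁ + σ (b 1 1) * σ x₂))) = -(μ * (b 1 0 * x₁ + b 1 1 * x₂)) := by
    simp only [map_neg, map_mul, map_add, hσ2]
  have e2 : σ (σ μ * (σ (b 0 0) * σ x₁ + σ (b 0 1) * σ x₂)) = μ * (b 0 0 * x₁ + b 0 1 * x₂) := by
    simp only [map_mul, map_add, hσ2]
  unfold Wv
  rw [e1, e2]
  simp only [Matrix.mulVec_add, Matrix.mulVec_sub, Matrix.mulVec_smul, hgu, hgv, c00, c10, c01, c11, hμ]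
  module


/-- the four vectors spanning the `F₀`-form -/
def wfam (σ : F →+* F) (u v : Fin 2 → Fin 4 → F) (ω : F) : Fin 4 → Fin 4 → F :=
  ![Wv σ u v 1 0, Wv σ u v ω 0, Wv σ u v 0 1, Wv σ u v 0 ω]

theorem wfam_li (σ : F →+* F) {u v : Fin 2 → Fin 4 → F} (h : HFrame σ u v) (ω : F) (hω : σ ω ≠ ω) :
    LinearIndependent F (wfam σ u v ω) := by
  rw [Fintype.linearIndependent_iff]
  intro c hc
  rw [Fin.sum_univ_four] at hc
  simp only [wfam, Matrix.cons_val_zero, Matrix.cons_val_one, Matrix.cons_val_two, Matrix.cons_val_three,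
    Matrix.head_cons, Matrix.tail_cons] at hc
  have key : ∀ z : Fin 4 → F, hf σ (c 0 • Wv σ u v 1 0 + c 1 • Wv σ u v ω 0 + c 2 • Wv σ u v 0 1 +
      c 3 • Wv σ u v 0 ω) z = 0 := by
    intro z
    rw [hc, hf_zero_left]
  have k0 := key (v 0)
  have k1 := key (v 1)
  have k2 := key (u 0)
  have k3 := key (u 1)
  simp only [Wv, hf_add_left, hf_sub_left, hf_smul_left, h.uu, h.vv, h.uv, h.vu, map_one, map_zero] at k0 k1 k2 k3
  simp at k0 k1 k2 k3
  have hne : ω - σ ω ≠ 0 := sub_ne_zero.mpr (Ne.symm hω)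
  have c1 : c 1 = 0 := by
    have : c 1 * (ω - σ ω) = 0 := by linear_combination k0 + k3
    rcases mul_eq_zero.mp this with h' | h'
    · exact h'
    · exact absurd h' hne
  have c3 : c 3 = 0 := by
    have : c 3 * (ω - σ ω) = 0 := by linear_combination k1 - k2
    rcases mul_eq_zero.mp this with h' | h'
    · exact h'
    · exact absurd h' hne
  have c0 : c 0 = 0 := by rw [c1] at k0; linear_combination k0
  have c2 : c 2 = 0 := by rw [c3] at k1; linear_combination k1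
  intro i
  fin_cases i
  · exact c0
  · exact c1
  · exact c2
  · exact c3


/-- BHRSU4-[E-SU4-TI] (helper34's mini-sheet, S5784): `q ≤ 3`, the stabiliser in `SU_4(q)` of a pair of complementary totally
isotropic planes lies in a subfield group of index 2 and symplectic type. -/
theorem ti_pair_le_subfield {F : Type*} [Field F] [Fintype F] {q : ℕ} (hF : Fintype.card F = q ^ 2) (hq : q ≤ 3)
    (D : Fin 2 → Submodule F (Fin 4 → F)) (hD : IsMDecomposition 2 D)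
    (hts : ∀ i, IsTotallySingularFor (hermForm 4 F q) (D i)) :
    ∃ (F₀ : Subfield F) (P : GL (Fin 4) F) (ζ : F), Fintype.card F = Nat.card F₀ ^ 2 ∧ ζ ≠ 0 ∧ ζ + ζ ^ q = 0 ∧
      IsFormRationalStructure (hermForm 4 F q) F₀ ζ P ∧
      (∀ u : Fin 4 → F, (∀ i, u i ∈ F₀) →
        hermForm 4 F q ((P : Matrix (Fin 4) (Fin 4) F) *ᵥ u) ((P : Matrix (Fin 4) (Fin 4) F) *ᵥ u) = 0) ∧
      decompositionStabilizer D ⊓ SUg 4 F q ≤ subfieldSubgroup F₀ P := by
  classical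
  obtain ⟨σ, hσ, hσ2⟩ := Cfsg.Agent.Lib.Helper13.exists_frob hF
  have hne : σ ≠ RingHom.id F := frob_ne_id σ hF hσ
  have hq2 : 2 ≤ q := Cfsg.Agent.Lib.Helper13.two_le_of_card_eq_sq hF
  set F₀ : Subfield F := Cfsg.Agent.Lib.Helper5.fixedSubfield hF with hF₀
  have hcardF₀ : Nat.card F₀ = q := Cfsg.Agent.Lib.Helper5.card_fixedSubfield hF
  have hcard : Fintype.card F = Nat.card F₀ ^ 2 := by rw [hcardF₀, hF]
  obtain ⟨hfix, ω, hω, hdec⟩ := Cfsg.Agent.Lib.Helper13.subfield_fixed_field q hF F₀ hcard σ hσ hne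
  -- the scalar `ζ`
  obtain ⟨ζ, hζ⟩ : ∃ ζ : F, ζ = ω - σ ω := ⟨_, rfl⟩
  have hζ0 : ζ ≠ 0 := by rw [hζ]; exact sub_ne_zero.mpr (Ne.symm hω)
  have hζσ : σ ζ = -ζ := by rw [hζ, map_sub, hσ2]; ring
  -- the pair
  have hc : IsCompl (D 0) (D 1) := by
    refine ⟨hD.indep.pairwiseDisjoint (by decide : (0 : Fin 2) ≠ 1), ?_⟩
    rw [codisjoint_iff, eq_top_iff, ← hD.iSup_eq_top]
    refine iSup_le fun i => ?_
    fin_cases i
    · exact le_sup_left
    · exact le_sup_right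
  have hp : UIPair σ (D 0) (D 1) := by
    refine ⟨fun x hx y hy => ?_, fun x hx y hy => ?_, hc⟩
    · rw [← hermForm_eq_hf σ hσ]; exact hts 0 x hx y hy
    · rw [← hermForm_eq_hf σ hσ]; exact hts 1 x hx y hy
  obtain ⟨u, v, hfr, huU, hvU, hexpU, hexpU'⟩ := exists_hframe σ hσ2 (D 0) (D 1) hp (hD.finrank_eq 0)
  -- the matrix `P`
  set bw : Module.Basis (Fin 4) F (Fin 4 → F) :=
    basisOfLinearIndependentOfCardEqFinrank (wfam_li σ hfr ω hω) (by simp) with hbw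
  have hbwj : ∀ j, bw j = wfam σ u v ω j := by
    intro j
    rw [hbw, coe_basisOfLinearIndependentOfCardEqFinrank]
  set P : GL (Fin 4) F := colGL bw with hP
  have hPW : ∀ y : Fin 4 → F, (∀ i, y i ∈ F₀) →
      (P : Matrix (Fin 4) (Fin 4) F) *ᵥ y = Wv σ u v (y 0 + ω * y 1) (y 2 + ω * y 3) := by
    intro y hy
    have hy' : ∀ i, σ (y i) = y i := fun i => (hfix _).mp (hy i)
    rw [hP, colGL_mulVec, Fin.sum_univ_four, hbwj, hbwj, hbwj, hbwj]
    simp only [wfam, Matrix.cons_val_zero, Matrix.cons_val_one, Matrix.cons_val_two, Matrix.cons_val_three,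
      Matrix.head_cons, Matrix.tail_cons, Wv, map_add, map_mul, map_one, map_zero, hy']
    module
  have hWP : ∀ x₁ x₂ : F, ∃ y : Fin 4 → F, (∀ i, y i ∈ F₀) ∧
      Wv σ u v x₁ x₂ = (P : Matrix (Fin 4) (Fin 4) F) *ᵥ y := by
    intro x₁ x₂
    obtain ⟨a, b, hab⟩ := hdec x₁
    obtain ⟨c, d, hcd⟩ := hdec x₂
    refine ⟨![(a : F), (b : F), (c : F), (d : F)], ?_, ?_⟩
    · intro i
      fin_cases i
      · exact a.2
      · exact b.2
      · exact c.2
      · exact d.2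
    · rw [hPW]
      · simp only [Matrix.cons_val_zero, Matrix.cons_val_one, Matrix.cons_val_two, Matrix.cons_val_three,
          Matrix.head_cons, Matrix.tail_cons]
        rw [← hab, ← hcd]
      · intro i
        fin_cases i
        · exact a.2
        · exact b.2
        · exact c.2
        · exact d.2
  have hcol : ∀ j : Fin 4, ∃ x₁ x₂ : F,
      (P : Matrix (Fin 4) (Fin 4) F) *ᵥ Pi.single j 1 = Wv σ u v x₁ x₂ := by
    intro j
    have h1 : (P : Matrix (Fin 4) (Fin 4) F) *ᵥ Pi.single j 1 = wfam σ u v ω j := by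
      rw [hP, colGL_mulVec, Finset.sum_eq_single j, Pi.single_eq_same, one_smul, hbwj]
      · intro k _ hk
        rw [Pi.single_eq_of_ne hk, zero_smul]
      · intro h; exact absurd (Finset.mem_univ _) h
    rw [h1]
    fin_cases j
    · exact ⟨1, 0, rfl⟩
    · exact ⟨ω, 0, rfl⟩
    · exact ⟨0, 1, rfl⟩
    · exact ⟨0, ω, rfl⟩
  refine ⟨F₀, P, ζ, hcard, hζ0, ?_, ?_, ?_, ?_⟩
  · rw [← hσ, hζσ]; ring
  · -- the rational structure
    intro a b ha hb
    rw [hermForm_eq_hf σ hσ, hPW a ha, hPW b hb, hf_Wv σ hσ2 hfr]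
    apply (hfix _).mpr
    rw [map_mul, hζσ, map_sub, hσ2]
    ring
  · -- isotropy
    intro a ha
    rw [hermForm_eq_hf σ hσ, hPW a ha, hf_Wv σ hσ2 hfr]
    have : (a 0 + ω * a 1) * (a 2 + ω * a 3) - (a 2 + ω * a 3) * (a 0 + ω * a 1) = 0 := by ring
    rw [this, map_zero, sub_zero]
  · -- the stabiliser
    apply Cfsg.Agent.Lib.Helper49.AschUC5.le_subfieldSubgroup_of_rat
    intro g hg
    obtain ⟨hgD, hgGU, hgSL⟩ := hg
    have hdet : (g : Matrix (Fin 4) (Fin 4) F).det = 1 := by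
      have h1 : Matrix.GeneralLinearGroup.det g = 1 := hgSL
      have h2 := congrArg Units.val h1
      simpa using h2
    have hiso : ∀ x y, hf σ ((g : Matrix (Fin 4) (Fin 4) F) *ᵥ x) ((g : Matrix (Fin 4) (Fin 4) F) *ᵥ y) =
        hf σ x y := by
      intro x y
      rw [← hermForm_eq_hf σ hσ, ← hermForm_eq_hf σ hσ]
      exact hgGU x y
    obtain ⟨τ, hτ⟩ := hgD
    have hmap : ∀ i, ∀ x ∈ D i, (g : Matrix (Fin 4) (Fin 4) F) *ᵥ x ∈ D (τ i) := by
      intro i x hx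
      rw [← hτ i]
      exact ⟨x, hx, by simp [Matrix.toLin'_apply]⟩
    have hcore : ∃ μ : F, μ ≠ 0 ∧ ∀ x₁ x₂, ∃ y₁ y₂,
        μ • ((g : Matrix (Fin 4) (Fin 4) F) *ᵥ Wv σ u v x₁ x₂) = Wv σ u v y₁ y₂ := by
      rcases Fin.exists_fin_two.mp (⟨τ 0, rfl⟩ : ∃ i : Fin 2, τ 0 = i) with h0 | h0
      · have h1 : τ 1 = 1 := by
          rcases Fin.exists_fin_two.mp (⟨τ 1, rfl⟩ : ∃ i : Fin 2, τ 1 = i) with h1 | h1
          · exact absurd (τ.injective (h1.trans h0.symm)) (by decide)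
          · exact h1
        refine core_fix σ hσ2 hσ hq2 hq ζ hζ0 hζσ hfr (D 0) (D 1) huU hvU hexpU hexpU' _ hdet hiso ?_ ?_
        · intro x hx; have := hmap 0 x hx; rwa [h0] at this
        · intro x hx; have := hmap 1 x hx; rwa [h1] at this
      · have h1 : τ 1 = 0 := by
          rcases Fin.exists_fin_two.mp (⟨τ 1, rfl⟩ : ∃ i : Fin 2, τ 1 = i) with h1 | h1
          · exact h1
          · exact absurd (τ.injective (h1.trans h0.symm)) (by decide)
        refine core_swap σ hσ2 hσ hq2 hq ζ hζ0 hζσ hfr (D 0) (D 1) huU hvU hexpU hexpU' _ hdet hiso ?_ ?_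
        · intro x hx; have := hmap 0 x hx; rwa [h0] at this
        · intro x hx; have := hmap 1 x hx; rwa [h1] at this
    obtain ⟨μ, hμ0, hμ⟩ := hcore
    refine ⟨Units.mk0 μ hμ0, rat_of_columns F₀ P g (Units.mk0 μ hμ0) ?_⟩
    intro j
    obtain ⟨x₁, x₂, hx⟩ := hcol j
    obtain ⟨y₁, y₂, hy⟩ := hμ x₁ x₂
    obtain ⟨y, hyF, hyW⟩ := hWP y₁ y₂
    refine ⟨y, hyF, ?_⟩
    rw [hx, Units.val_mk0, hy, hyW]

end Cfsg.Agent.Lib.Helper11.Bhrsu4TI
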