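import Mathlib
import Cfsg.Agent.Lib.Helper64.CH4Defs

/-!
# Project CH4 (helper64, S4167), module CH4-[ODDCOUNT] (helper11): in a group with a normal 2-complement `M` the
odd-order elements lie in `M`, so `#odd · 2^n ≤ |K|` whenever `2^n ∣ |K|`.
-/

set_option autoImplicit false

namespace Cfsg.Agent.Lib.Helper11.CH4

open Cfsg.Agent.Lib.Helper64.CH4

/-- an element of odd order lies in a normal subgroup of 2-power index -/
theorem mem_of_odd_orderOf {K : Type*} [Group K] [Finite K] (M : Subgroup K) [M.Normal]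
    (k : ℕ) (hk : M.index = 2 ^ k) (y : K) (hy : Odd (orderOf y)) : y ∈ M := by
  rw [← QuotientGroup.eq_one_iff (N := M)]
  have h1 : orderOf ((y : K ⧸ M)) ∣ orderOf y := by
    apply orderOf_dvd_of_pow_eq_one
    rw [← QuotientGroup.mk_pow, pow_orderOf_eq_one, QuotientGroup.mk_one]
  have h2 : orderOf ((y : K ⧸ M)) ∣ 2 ^ k := by
    rw [← hk, Subgroup.index_eq_card]
    exact orderOf_dvd_natCard _
  have hcop : Nat.Coprime (orderOf y) (2 ^ k) := Nat.Coprime.pow_right k (Nat.coprime_two_right.mpr hy)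
  have h3 : orderOf ((y : K ⧸ M)) ∣ 1 := by
    have := Nat.dvd_gcd h1 h2
    rwa [hcop.gcd_eq_one] at this
  exact orderOf_eq_one_iff.mp (Nat.dvd_one.mp h3)

/-- [ODDCOUNT] -/
theorem card_odd_mul_le {K : Type*} [Group K] [Finite K] (M : Subgroup K) [M.Normal]
    (hM : Odd (Nat.card M)) (k : ℕ) (hk : M.index = 2 ^ k) (n : ℕ) (hn : 2 ^ n ∣ Nat.card K) :
    Nat.card {y : K // Odd (orderOf y)} * 2 ^ n ≤ Nat.card K := by
  have hcard : Nat.card M * 2 ^ k = Nat.card K := by rw [← hk]; exact Subgroup.card_mul_index M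
  have hnk : n ≤ k := by
    rw [← hcard] at hn
    have hcop : Nat.Coprime (2 ^ n) (Nat.card M) := Nat.Coprime.pow_left n (Nat.coprime_two_left.mpr hM)
    have := hcop.dvd_of_dvd_mul_left hn
    exact (Nat.pow_dvd_pow_iff_le_right (by norm_num)).mp this
  have hle : Nat.card {y : K // Odd (orderOf y)} ≤ Nat.card M := by
    apply Nat.card_le_card_of_injective
      (fun y : {y : K // Odd (orderOf y)} => (⟨y.1, mem_of_odd_orderOf M k hk y.1 y.2⟩ : M))
    intro y y' h
    apply Subtype.ext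
    exact congrArg (fun z : M => (z : K)) h
  calc Nat.card {y : K // Odd (orderOf y)} * 2 ^ n ≤ Nat.card M * 2 ^ k :=
        Nat.mul_le_mul hle (Nat.pow_le_pow_right (by norm_num) hnk)
    _ = Nat.card K := hcard

end Cfsg.Agent.Lib.Helper11.CH4
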