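import Cfsg.Agent.Lib.Helper30.CLen.Defs

/-!
# Project CLEN (helper30, S5722), module CLEN-[AFF] (helper11): the affine case, assembled from the statements of
CLEN-[GEN], [AUT], [AFF-REG], [AFF-NUM], [ADD], [BASIC-A], which enter as hypotheses (their exact stub statements).
-/

set_option autoImplicit false

namespace Cfsg.Agent.Lib.Helper11.CLen

open Cfsg.Agent.Lib.Helper30.CLen

universe u v

/-- CLEN-[AFF] with the other modules as hypotheses (stated exactly as in `CLEN_STUBS.lean.txt`) -/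
theorem bound_of_abelian_transitive_of
    (two_pow_clen_le : ∀ (G : Type u) [Group G] [Finite G], 2 ^ clen G ≤ Nat.card G)
    (clen_le_cardFactors : ∀ (G : Type u) [Group G] [Finite G],
      clen G ≤ ArithmeticFunction.cardFactors (Nat.card G))
    (clen_le_add : ∀ (G : Type u) [Group G] [Finite G] (K : Subgroup G) [K.Normal],
      clen G ≤ clen K + clen (G ⧸ K))
    (exists_generators : ∀ (N : Type u) [Group N] [Finite N],
      ∃ s : Finset N, Subgroup.closure (s : Set N) = ⊤ ∧
        s.card ≤ ArithmeticFunction.cardFactors (Nat.card N))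
    (card_mulAut_le : ∀ (N : Type u) [Group N] [Finite N] [Nontrivial N] (s : Finset N),
      Subgroup.closure (s : Set N) = ⊤ → Nat.card (MulAut N) ≤ (Nat.card N - 1) ^ s.card)
    (regular_of_abelian_transitive : ∀ (G : Type u) [Group G] [Finite G] (Ω : Type v) [MulAction G Ω]
      [FaithfulSMul G Ω] [Finite Ω] (N : Subgroup G) [N.Normal], IsMulCommutative N →
      MulAction.IsPretransitive N Ω → ∀ [Nonempty Ω],
      Nat.card N = Nat.card Ω ∧ Subgroup.centralizer (N : Set G) = N ∧
        Nat.card (G ⧸ N) ≤ Nat.card (MulAut N))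
    (card_of_minimal_normal_abelian : ∀ (G : Type u) [Group G] [Finite G] (N : Subgroup G) [N.Normal],
      N ≠ ⊥ → (∀ M : Subgroup G, M.Normal → M ≤ N → M = ⊥ ∨ M = N) → IsMulCommutative N →
      ∃ p d : ℕ, p.Prime ∧ 1 ≤ d ∧ Nat.card N = p ^ d)
    (card_dvd_factorial : ∀ (G : Type u) [Group G] [Finite G] (Ω : Type v) [MulAction G Ω]
      [FaithfulSMul G Ω] [Finite Ω], Nat.card G ∣ (Nat.card Ω).factorial)
    (aff_num : ∀ (p d n g q a b c : ℕ), p.Prime → 1 ≤ d → n = p ^ d →
      g = n * q → q ≤ (n - 1) ^ d → g ∣ n.factorial → a ≤ d →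
      2 ^ b ≤ q → c ≤ a + b → c ≤ ArithmeticFunction.cardFactors g →
      2 ^ c ≤ g → 3 * c ≤ 4 * (n - 1))
    {G : Type u} [Group G] [Finite G] {Ω : Type v} [MulAction G Ω]
    [FaithfulSMul G Ω] [Finite Ω] [MulAction.IsPretransitive G Ω]
    (N : Subgroup G) [N.Normal] (hN : N ≠ ⊥)
    (hmin : ∀ M : Subgroup G, M.Normal → M ≤ N → M = ⊥ ∨ M = N) (hab : IsMulCommutative N)
    (hNt : MulAction.IsPretransitive N Ω) : 3 * clen G ≤ 4 * (Nat.card Ω - 1) := by
  -- `Ω` is nonempty, the action being faithful and `G ≠ 1`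
  have hne : Nonempty Ω := by
    by_contra hemp
    rw [not_nonempty_iff] at hemp
    apply hN
    rw [Subgroup.eq_bot_iff_forall]
    intro g _
    exact FaithfulSMul.eq_of_smul_eq_smul (α := Ω) fun a => isEmptyElim a
  obtain ⟨hNΩ, -, hquot⟩ := regular_of_abelian_transitive G Ω N hab hNt
  obtain ⟨p, d, hp, hd, hNpd⟩ := card_of_minimal_normal_abelian G N hN hmin hab
  obtain ⟨s, hs, hscard⟩ := exists_generators N
  have hNnt : Nontrivial N := (Subgroup.nontrivial_iff_ne_bot N).mpr hN
  have hΩd : ArithmeticFunction.cardFactors (Nat.card N) = d := by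
    rw [hNpd, ArithmeticFunction.cardFactors_apply_prime_pow hp]
  rw [hΩd] at hscard
  have hn1 : 1 ≤ Nat.card N - 1 := by
    have : 1 < Nat.card N := Finite.one_lt_card
    omega
  have hq : Nat.card (G ⧸ N) ≤ (Nat.card Ω - 1) ^ d := by
    calc Nat.card (G ⧸ N) ≤ Nat.card (MulAut N) := hquot
      _ ≤ (Nat.card N - 1) ^ s.card := card_mulAut_le N s hs
      _ ≤ (Nat.card N - 1) ^ d := Nat.pow_le_pow_right hn1 hscard
      _ = (Nat.card Ω - 1) ^ d := by rw [hNΩ]
  have hg : Nat.card G = Nat.card Ω * Nat.card (G ⧸ N) := by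
    rw [← hNΩ, mul_comm]
    exact Subgroup.card_eq_card_quotient_mul_card_subgroup N
  have ha : clen N ≤ d := by
    have := clen_le_cardFactors N
    rwa [hΩd] at this
  exact aff_num p d (Nat.card Ω) (Nat.card G) (Nat.card (G ⧸ N)) (clen N) (clen (G ⧸ N)) (clen G) hp hd
    (by rw [← hNΩ, hNpd]) hg hq (card_dvd_factorial G Ω) ha (two_pow_clen_le (G ⧸ N))
    (clen_le_add G N) (clen_le_cardFactors G) (two_pow_clen_le G)

end Cfsg.Agent.Lib.Helper11.CLen
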