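import Cfsg.Agent.Lib.Helper30.CLen.Defs

/-!
# Project CLEN (helper30, S5722), module CLEN-[AFF-REG] (helper11): an abelian transitive normal subgroup of a faithful
permutation group is regular and self-centralising; minimal normal abelian subgroups have prime power order; `|G| ∣ n!`.
-/

set_option autoImplicit false

namespace Cfsg.Agent.Lib.Helper11.CLen

open Cfsg.Agent.Lib.Helper30.CLen

universe u v

section aff
variable {G : Type u} [Group G] [Finite G] {Ω : Type v} [MulAction G Ω] [FaithfulSMul G Ω] [Finite Ω]

omit [Finite G] [Finite Ω] in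
/-- an element fixing a point and centralising a transitive subgroup is trivial -/
theorem eq_one_of_fixes_of_commute (N : Subgroup G) (hNt : MulAction.IsPretransitive N Ω) (a : Ω) (h : G)
    (ha : h • a = a) (hc : ∀ y ∈ N, h * y = y * h) : h = 1 := by
  apply FaithfulSMul.eq_of_smul_eq_smul (α := Ω)
  intro ω
  obtain ⟨y, hy⟩ := MulAction.exists_smul_eq N a ω
  rw [← hy, one_smul, Subgroup.smul_def, ← mul_smul, hc y y.2, mul_smul, ha]

/-- an abelian transitive normal subgroup is regular and self-centralizing -/
theorem regular_of_abelian_transitive (N : Subgroup G) [N.Normal] (hab : IsMulCommutative N)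
    (hNt : MulAction.IsPretransitive N Ω) [Nonempty Ω] :
    Nat.card N = Nat.card Ω ∧ Subgroup.centralizer (N : Set G) = N ∧
      Nat.card (G ⧸ N) ≤ Nat.card (MulAut N) := by
  have hcomm : ∀ x ∈ N, ∀ y ∈ N, x * y = y * x := by
    intro x hx y hy
    have := hab.is_comm.comm (⟨x, hx⟩ : N) ⟨y, hy⟩
    exact congrArg Subtype.val this
  obtain ⟨a⟩ := ‹Nonempty Ω›
  have hcent : Subgroup.centralizer (N : Set G) = N := by
    ext g
    rw [Subgroup.mem_centralizer_iff]
    constructor
    · intro hg
      obtain ⟨y, hy⟩ := MulAction.exists_smul_eq N a (g • a)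
      rw [Subgroup.smul_def] at hy
      have h1 : ((y : G)⁻¹ * g) = 1 := by
        apply eq_one_of_fixes_of_commute N hNt a
        · rw [mul_smul, ← hy, ← mul_smul, inv_mul_cancel, one_smul]
        · intro x hx
          have hx' : x * g = g * x := hg x hx
          have hyx : (y : G)⁻¹ * x = x * (y : G)⁻¹ := hcomm _ (N.inv_mem y.2) _ hx
          calc (y : G)⁻¹ * g * x = (y : G)⁻¹ * (g * x) := mul_assoc _ _ _
            _ = (y : G)⁻¹ * (x * g) := by rw [hx']
            _ = ((y : G)⁻¹ * x) * g := (mul_assoc _ _ _).symm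
            _ = x * (y : G)⁻¹ * g := by rw [hyx]
            _ = x * ((y : G)⁻¹ * g) := mul_assoc _ _ _
      have : g = (y : G) := by
        have := congrArg (fun t => (y : G) * t) h1
        simpa using this
      rw [this]
      exact y.2
    · intro hg x hx
      exact hcomm x hx g hg
  refine ⟨?_, hcent, ?_⟩
  · -- the orbit map is a bijection
    have hbij : Function.Bijective (fun y : N => y • a) := by
      constructor
      · intro y y' hyy
        have hyy' : (y : G) • a = (y' : G) • a := hyy
        have h1 : ((y' : G)⁻¹ * (y : G)) = 1 := by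
          apply eq_one_of_fixes_of_commute N hNt a
          · rw [mul_smul, hyy', ← mul_smul, inv_mul_cancel, one_smul]
          · intro x hx
            exact hcomm _ (N.mul_mem (N.inv_mem y'.2) y.2) _ hx
        apply Subtype.ext
        have := congrArg (fun t => (y' : G) * t) h1
        simpa using this
      · intro ω
        exact MulAction.exists_smul_eq N a ω
    exact Nat.card_congr (Equiv.ofBijective _ hbij)
  · have hker : (MulAut.conjNormal (H := N)).ker = N := by
      refine Eq.trans ?_ hcent
      ext g
      rw [MonoidHom.mem_ker, Subgroup.mem_centralizer_iff]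
      constructor
      · intro hg x hx
        have := congrArg (fun φ : MulAut N => ((φ ⟨x, hx⟩ : N) : G)) hg
        simp only [MulAut.conjNormal_apply, MulAut.one_apply] at this
        calc x * g = (g * x * g⁻¹) * g := by rw [this]
          _ = g * x := by group
      · intro hg
        ext x
        rw [MulAut.conjNormal_apply, MulAut.one_apply]
        have := hg x x.2
        calc g * (x : G) * g⁻¹ = (x : G) * g * g⁻¹ := by rw [this]
          _ = x := by group
    calc Nat.card (G ⧸ N) = N.index := (Subgroup.index_eq_card N).symm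
      _ = (MulAut.conjNormal (H := N)).ker.index := by rw [hker]
      _ = Nat.card (MulAut.conjNormal (H := N)).range := Subgroup.index_ker _
      _ ≤ Nat.card (MulAut N) := Subgroup.card_le_card_group _

/-- a minimal normal abelian subgroup has prime power order -/
theorem card_of_minimal_normal_abelian (N : Subgroup G) [N.Normal] (hN : N ≠ ⊥)
    (hmin : ∀ M : Subgroup G, M.Normal → M ≤ N → M = ⊥ ∨ M = N) (hab : IsMulCommutative N) :
    ∃ p d : ℕ, p.Prime ∧ 1 ≤ d ∧ Nat.card N = p ^ d := by
  have hcomm : ∀ x ∈ N, ∀ y ∈ N, x * y = y * x := by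
    intro x hx y hy
    have := hab.is_comm.comm (⟨x, hx⟩ : N) ⟨y, hy⟩
    exact congrArg Subtype.val this
  have hNnt : Nontrivial N := (Subgroup.nontrivial_iff_ne_bot N).mpr hN
  have hcard1 : Nat.card N ≠ 1 := by
    have : 1 < Nat.card N := Finite.one_lt_card
    omega
  obtain ⟨p, hp, hpdvd⟩ := Nat.exists_prime_and_dvd hcard1
  have : Fact p.Prime := ⟨hp⟩
  let M : Subgroup G :=
    { carrier := {x | x ∈ N ∧ x ^ p = 1}
      mul_mem' := by
        rintro x y ⟨hx, hxp⟩ ⟨hy, hyp⟩
        refine ⟨N.mul_mem hx hy, ?_⟩
        rw [(show Commute x y from hcomm x hx y hy).mul_pow, hxp, hyp, one_mul]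
      one_mem' := ⟨N.one_mem, one_pow p⟩
      inv_mem' := by
        rintro x ⟨hx, hxp⟩
        exact ⟨N.inv_mem hx, by rw [inv_pow, hxp, inv_one]⟩ }
  have hMn : M.Normal := by
    constructor
    rintro x ⟨hx, hxp⟩ g
    refine ⟨‹N.Normal›.conj_mem x hx g, ?_⟩
    rw [conj_pow, hxp, mul_one, mul_inv_cancel]
  have hMN : M ≤ N := fun x hx => hx.1
  obtain ⟨x, hx⟩ := exists_prime_orderOf_dvd_card' (G := N) p hpdvd
  have hMbot : M ≠ ⊥ := by
    intro hbot
    have hxM : (x : G) ∈ M := by
      refine ⟨x.2, ?_⟩
      have : x ^ p = 1 := by rw [← hx]; exact pow_orderOf_eq_one x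
      exact_mod_cast congrArg Subtype.val this
    rw [hbot, Subgroup.mem_bot] at hxM
    have hx1 : x = 1 := Subtype.ext hxM
    rw [hx1, orderOf_one] at hx
    exact hp.one_lt.ne hx
  have hMeq : M = N := (hmin M hMn hMN).resolve_left hMbot
  have hpg : IsPGroup p N := by
    intro y
    refine ⟨1, ?_⟩
    have hy : (y : G) ∈ M := by rw [hMeq]; exact y.2
    apply Subtype.ext
    rw [pow_one]
    exact_mod_cast hy.2
  obtain ⟨d, hd⟩ := IsPGroup.iff_card.mp hpg
  refine ⟨p, d, hp, ?_, hd⟩
  by_contra hd0
  have : d = 0 := by omega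
  rw [this, pow_zero] at hd
  exact hcard1 hd

theorem card_dvd_factorial : Nat.card G ∣ (Nat.card Ω).factorial := by
  rw [← Nat.card_perm]
  have hinj : Function.Injective (MulAction.toPermHom G Ω) := MulAction.toPerm_injective
  have h1 : Nat.card G = Nat.card (MulAction.toPermHom G Ω).range :=
    Nat.card_congr (MonoidHom.ofInjective hinj).toEquiv
  rw [h1]
  exact Subgroup.card_subgroup_dvd_card _

end aff

end Cfsg.Agent.Lib.Helper11.CLen
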