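import Cfsg.Agent.Lib.Helper30.CLen.Defs

/-!
# Project CLEN (helper30, S5722), modules CLEN-[AUT] and CLEN-[GEN] (helper11)

* `card_mulAut_le`: a group generated by `s` has at most `(|N| - 1) ^ |s|` automorphisms.
* `exists_generators`: a finite group is generated by at most `Ω(|N|)` elements.
-/

set_option autoImplicit false

namespace Cfsg.Agent.Lib.Helper11.CLen

open Cfsg.Agent.Lib.Helper30.CLen

universe u

/-- CLEN-[AUT] -/
theorem card_mulAut_le {N : Type u} [Group N] [Finite N] [Nontrivial N] (s : Finset N)
    (hs : Subgroup.closure (s : Set N) = ⊤) : Nat.card (MulAut N) ≤ (Nat.card N - 1) ^ s.card := by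
  classical
  have : Fintype N := Fintype.ofFinite N
  let s' : Finset N := s.erase 1
  let F : MulAut N → (s' → {x : N // x ≠ 1}) := fun φ x =>
    ⟨φ x.1, fun h => (Finset.mem_erase.mp x.2).1 (by
      have : φ x.1 = φ 1 := by rw [h, map_one]
      exact φ.injective this)⟩
  have hF : Function.Injective F := by
    intro φ ψ h
    have hEq : Set.EqOn φ.toMonoidHom ψ.toMonoidHom (s : Set N) := by
      intro x hx
      by_cases hx1 : x = 1
      · subst hx1
        show φ 1 = ψ 1
        rw [map_one, map_one]
      · have hx' : x ∈ s' := Finset.mem_erase.mpr ⟨hx1, hx⟩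
        have := congrFun h ⟨x, hx'⟩
        exact congrArg Subtype.val this
    have := MonoidHom.eq_of_eqOn_dense hs hEq
    ext x
    exact DFunLike.congr_fun this x
  have h1 : Nat.card (MulAut N) ≤ Nat.card (s' → {x : N // x ≠ 1}) := Nat.card_le_card_of_injective F hF
  have h2 : Nat.card (s' → {x : N // x ≠ 1}) = (Nat.card N - 1) ^ s'.card := by
    rw [Nat.card_fun]
    congr 1
    · rw [Nat.card_eq_fintype_card, Nat.card_eq_fintype_card, Fintype.card_subtype_compl, Fintype.card_subtype_eq]
    · rw [Nat.card_eq_fintype_card, Fintype.card_coe]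
  have hn1 : 1 ≤ Nat.card N - 1 := by
    have : 1 < Nat.card N := Finite.one_lt_card
    omega
  calc Nat.card (MulAut N) ≤ (Nat.card N - 1) ^ s'.card := h2 ▸ h1
    _ ≤ (Nat.card N - 1) ^ s.card := Nat.pow_le_pow_right hn1 (Finset.card_erase_le)

/-- a strictly larger subgroup has strictly more prime factors (with multiplicity) in its order -/
theorem cardFactors_lt_of_lt {N : Type u} [Group N] [Finite N] {B C : Subgroup N} (h : B < C) :
    ArithmeticFunction.cardFactors (Nat.card B) + 1 ≤ ArithmeticFunction.cardFactors (Nat.card C) := by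
  obtain ⟨k, hk⟩ := Subgroup.card_dvd_of_le h.le
  have hB0 : Nat.card B ≠ 0 := Nat.card_pos.ne'
  have hC0 : Nat.card C ≠ 0 := Nat.card_pos.ne'
  have hk0 : k ≠ 0 := by
    rintro rfl
    rw [mul_zero] at hk
    exact hC0 hk
  have hk1 : k ≠ 1 := by
    rintro rfl
    rw [mul_one] at hk
    exact h.ne (Subgroup.eq_of_le_of_card_ge h.le hk.le)
  rw [hk, ArithmeticFunction.cardFactors_mul hB0 hk0]
  have : 0 < ArithmeticFunction.cardFactors k :=
    ArithmeticFunction.cardFactors_pos_iff_one_lt.mpr (by omega)
  omega

/-- CLEN-[GEN] -/
theorem exists_generators (N : Type u) [Group N] [Finite N] :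
    ∃ s : Finset N, Subgroup.closure (s : Set N) = ⊤ ∧
      s.card ≤ ArithmeticFunction.cardFactors (Nat.card N) := by
  classical
  have key : ∀ k : ℕ, ∀ s : Finset N,
      Nat.card N - Nat.card (Subgroup.closure (s : Set N)) ≤ k →
      s.card ≤ ArithmeticFunction.cardFactors (Nat.card (Subgroup.closure (s : Set N))) →
      ∃ t : Finset N, Subgroup.closure (t : Set N) = ⊤ ∧
        t.card ≤ ArithmeticFunction.cardFactors (Nat.card N) := by
    intro k
    induction k with
    | zero =>
      intro s hk hs
      have hle : Nat.card (Subgroup.closure (s : Set N)) ≤ Nat.card N := Subgroup.card_le_card_group _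
      have htop : Subgroup.closure (s : Set N) = ⊤ := Subgroup.eq_top_of_le_card _ (by omega)
      refine ⟨s, htop, ?_⟩
      rw [htop, Subgroup.card_top] at hs
      exact hs
    | succ k ih =>
      intro s hk hs
      by_cases htop : Subgroup.closure (s : Set N) = ⊤
      · refine ⟨s, htop, ?_⟩
        rw [htop, Subgroup.card_top] at hs
        exact hs
      · obtain ⟨x, hx⟩ : ∃ x : N, x ∉ Subgroup.closure (s : Set N) := by
          by_contra hcon
          push Not at hcon
          exact htop (Subgroup.eq_top_iff' _ |>.mpr hcon)
        have hlt : Subgroup.closure (s : Set N) < Subgroup.closure ((insert x s : Finset N) : Set N) := by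
          refine lt_of_le_of_ne (Subgroup.closure_mono (by simp)) ?_
          intro heq
          apply hx
          rw [heq]
          exact Subgroup.subset_closure (by simp)
        have hΩ := cardFactors_lt_of_lt hlt
        have hcardlt : Nat.card (Subgroup.closure (s : Set N))
            < Nat.card (Subgroup.closure ((insert x s : Finset N) : Set N)) := by
          by_contra hcon
          push Not at hcon
          exact hlt.ne (Subgroup.eq_of_le_of_card_ge hlt.le hcon)
        have hle : Nat.card (Subgroup.closure ((insert x s : Finset N) : Set N)) ≤ Nat.card N :=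
          Subgroup.card_le_card_group _
        apply ih (insert x s)
        · omega
        · have : (insert x s).card ≤ s.card + 1 := Finset.card_insert_le x s
          omega
  apply key (Nat.card N) ∅
  · omega
  · simp

end Cfsg.Agent.Lib.Helper11.CLen
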