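import Cfsg.Agent.Lib.Helper30.CLen.Defs

/-!
# Project CLEN (helper30, S5722), module CLEN-[R1] (helper11): the intransitive reduction, assembled from the stub
statements of CLEN-[BASIC-A], [ADD], [ORB], [QUOT], which enter as hypotheses.
-/

set_option autoImplicit false

namespace Cfsg.Agent.Lib.Helper11.CLen

open Cfsg.Agent.Lib.Helper30.CLen

universe u v

/-- CLEN-[R1] with the other modules as hypotheses (stated exactly as in `CLEN_STUBS.lean.txt`) -/
theorem bound_of_not_transitive_of
    (clen_eq_zero : ∀ (G : Type u) [Group G] [Subsingleton G], clen G = 0)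
    (clen_le_add : ∀ (G : Type u) [Group G] [Finite G] (K : Subgroup G) [K.Normal],
      clen G ≤ clen K + clen (G ⧸ K))
    (norb_le_card : ∀ (G : Type u) [Group G] (Ω : Type v) [MulAction G Ω] [Finite Ω],
      norb G Ω ≤ Nat.card Ω)
    (norb_eq_one : ∀ (G : Type u) [Group G] (Ω : Type v) [MulAction G Ω]
      [MulAction.IsPretransitive G Ω] [Nonempty Ω], norb G Ω = 1)
    (norb_of_fixes_orbit : ∀ (G : Type u) [Group G] (Ω : Type v) [MulAction G Ω] [Finite Ω]
      (K : Subgroup G) (a : Ω), (∀ k ∈ K, ∀ x ∈ MulAction.orbit G a, k • x = x) →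
      Nat.card (MulAction.orbit G a) + norb G Ω ≤ norb K Ω + 1)
    (good_sub : ∀ {k : ℕ}, Good.{u, v} k → ∀ (G : Type u) [Group G] [Finite G] (Ω : Type v)
      [MulAction G Ω] [FaithfulSMul G Ω] [Finite Ω] (H : Subgroup G),
      Nat.card H + Nat.card Ω ≤ k → 3 * clen H ≤ 4 * (Nat.card Ω - norb H Ω))
    (good_quot : ∀ {k : ℕ}, Good.{u, v} k → ∀ (G : Type u) [Group G] [Finite G] (X : Type v)
      [MulAction G X] [Finite X],
      Nat.card (G ⧸ (MulAction.toPermHom G X).ker) + Nat.card X ≤ k →
      3 * clen (G ⧸ (MulAction.toPermHom G X).ker) ≤ 4 * (Nat.card X - norb G X))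
    {k : ℕ} {G : Type u} [Group G] [Finite G] {Ω : Type v} [MulAction G Ω] [FaithfulSMul G Ω]
    [Finite Ω]
    (hk : Good.{u, v} k) (hcard : Nat.card G + Nat.card Ω = k + 1)
    (hnt : ¬ MulAction.IsPretransitive G Ω) : 3 * clen G ≤ 4 * (Nat.card Ω - norb G Ω) := by
  by_cases htriv : ∀ (g : G) (ω : Ω), g • ω = ω
  · -- `G` is trivial
    have hsub : Subsingleton G := by
      constructor
      intro g h
      apply FaithfulSMul.eq_of_smul_eq_smul (α := Ω)
      intro ω
      rw [htriv g ω, htriv h ω]
    rw [clen_eq_zero G]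
    exact Nat.zero_le _
  · push Not at htriv
    obtain ⟨g, a, hga⟩ := htriv
    -- the orbit `X` of `a` and the kernel `K` of the action on it
    let K : Subgroup G := (MulAction.toPermHom G (MulAction.orbit G a)).ker
    have hKfix : ∀ k ∈ K, ∀ x ∈ MulAction.orbit G a, k • x = x := by
      intro k hk' x hx
      have h1 : MulAction.toPermHom G (MulAction.orbit G a) k = 1 := MonoidHom.mem_ker.mp hk'
      have h2 := congrArg (fun σ : Equiv.Perm (MulAction.orbit G a) => ((σ ⟨x, hx⟩ : MulAction.orbit G a) : Ω)) h1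
      simpa using h2
    have hgK : g ∉ K := by
      intro hg
      exact hga (hKfix g hg a (MulAction.mem_orbit_self a))
    have hKlt : Nat.card K < Nat.card G := by
      by_contra hcon
      push Not at hcon
      have : K = ⊤ := Subgroup.eq_top_of_le_card K hcon
      exact hgK (this ▸ Subgroup.mem_top g)
    -- the orbit is not everything
    have hXlt : Nat.card (MulAction.orbit G a) < Nat.card Ω := by
      have hne : MulAction.orbit G a ≠ Set.univ := by
        intro huniv
        apply hnt
        constructor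
        intro x y
        have hx : x ∈ MulAction.orbit G a := huniv ▸ Set.mem_univ x
        have hy : y ∈ MulAction.orbit G a := huniv ▸ Set.mem_univ y
        obtain ⟨g₁, rfl⟩ := hx
        obtain ⟨g₂, rfl⟩ := hy
        refine ⟨g₂ * g₁⁻¹, ?_⟩
        simp only [mul_smul, inv_smul_smul]
      have hss : MulAction.orbit G a ⊂ Set.univ := Set.ssubset_univ_iff.mpr hne
      have := Set.ncard_lt_ncard hss Set.finite_univ
      rwa [Set.ncard_univ, ← Nat.card_coe_set_eq] at this
    have hQle : Nat.card (G ⧸ K) ≤ Nat.card G :=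
      Nat.card_le_card_of_surjective (QuotientGroup.mk' K) (QuotientGroup.mk'_surjective K)
    have hXne : Nonempty (MulAction.orbit G a) := ⟨⟨a, MulAction.mem_orbit_self a⟩⟩
    have hXpos : 0 < Nat.card (MulAction.orbit G a) := Nat.card_pos
    -- the three inputs
    have h1 := clen_le_add G K
    have h2 := good_sub hk G Ω K (by omega)
    have h3 := good_quot hk G (MulAction.orbit G a) (by
      show Nat.card (G ⧸ K) + Nat.card (MulAction.orbit G a) ≤ k
      omega)
    have h4 : norb G (MulAction.orbit G a) = 1 := norb_eq_one G (MulAction.orbit G a)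
    have h5 := norb_of_fixes_orbit G Ω K a hKfix
    have h6 : norb K Ω ≤ Nat.card Ω := norb_le_card K Ω
    rw [h4] at h3
    have h3' : 3 * clen (G ⧸ K) ≤ 4 * (Nat.card (MulAction.orbit G a) - 1) := h3
    omega

end Cfsg.Agent.Lib.Helper11.CLen
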