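/-
helper11: CLBN-[TR-SP] (helper42's sheet CLBN, S2545): Mathlib's `Matrix.symplecticGroup (Fin m) F` is the form group of
`spGram m F` (reindex along `Fin m ⊕ Fin m ≃ Fin (m + m)`, second summand reversed).  Exact stub statement `sp_equiv`.
-/
import Mathlib
import Cfsg.Agent.Lib.Helper42.ClBN.Defs

set_option autoImplicit false

namespace Cfsg.Agent.Lib.Helper42.ClBN

open Matrix

universe u

variable {F : Type u} [Field F]

namespace TRSP

/-- the reindexing: `inl i ↦ i`, `inr i ↦ 2m - 1 - i` -/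
def idx (m : ℕ) : Fin m ⊕ Fin m ≃ Fin (m + m) :=
  (Equiv.sumCongr (Equiv.refl _) Fin.revPerm).trans finSumFinEquiv

lemma idx_inl (m : ℕ) (i : Fin m) : ((idx m (Sum.inl i) : Fin (m + m)) : ℕ) = i := by
  simp [idx]

lemma idx_inr (m : ℕ) (i : Fin m) : ((idx m (Sum.inr i) : Fin (m + m)) : ℕ) = m + (m - 1 - i) := by
  simp [idx]
  omega

lemma spGram_submatrix (m : ℕ) :
    (spGram m F).submatrix (idx m) (idx m) = Matrix.J (Fin m) F := by
  ext a b
  rcases a with i | i <;> rcases b with j | j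
  · rw [Matrix.submatrix_apply, Matrix.J, Matrix.fromBlocks_apply₁₁, Matrix.zero_apply, spGram, if_neg]
    rw [Fin.ext_iff, Fin.val_rev, idx_inl, idx_inl]
    have := i.isLt; have := j.isLt
    omega
  · rw [Matrix.submatrix_apply, Matrix.J, Matrix.fromBlocks_apply₁₂, Matrix.neg_apply, Matrix.one_apply, spGram]
    have hi := i.isLt; have hj := j.isLt
    by_cases hij : i = j
    · subst hij
      rw [if_pos rfl, if_pos, if_pos]
      · rw [idx_inl]; exact hi
      · rw [Fin.ext_iff, Fin.val_rev, idx_inl, idx_inr]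
        omega
    · rw [if_neg hij, if_neg, neg_zero]
      rw [Fin.ext_iff, Fin.val_rev, idx_inl, idx_inr]
      intro h
      apply hij
      apply Fin.ext
      omega
  · rw [Matrix.submatrix_apply, Matrix.J, Matrix.fromBlocks_apply₂₁, Matrix.one_apply, spGram]
    have hi := i.isLt; have hj := j.isLt
    by_cases hij : i = j
    · subst hij
      rw [if_pos rfl, if_pos, if_neg]
      · rw [idx_inr]; omega
      · rw [Fin.ext_iff, Fin.val_rev, idx_inl, idx_inr]
        omega
    · rw [if_neg hij, if_neg]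
      rw [Fin.ext_iff, Fin.val_rev, idx_inl, idx_inr]
      intro h
      apply hij
      apply Fin.ext
      omega
  · rw [Matrix.submatrix_apply, Matrix.J, Matrix.fromBlocks_apply₂₂, Matrix.zero_apply, spGram, if_neg]
    rw [Fin.ext_iff, Fin.val_rev, idx_inr, idx_inr]
    have := i.isLt; have := j.isLt
    omega

/-- reindexing as a ring isomorphism -/
noncomputable def ri (m : ℕ) : Matrix (Fin m ⊕ Fin m) (Fin m ⊕ Fin m) F ≃+* Matrix (Fin (m + m)) (Fin (m + m)) F :=
  (Matrix.reindexAlgEquiv F F (idx m)).toRingEquiv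

lemma ri_apply (m : ℕ) (A : Matrix (Fin m ⊕ Fin m) (Fin m ⊕ Fin m) F) :
    ri m A = A.submatrix (idx m).symm (idx m).symm := by
  simp [ri, Matrix.reindex_apply]

lemma ri_J (m : ℕ) : ri m (Matrix.J (Fin m) F) = spGram m F := by
  rw [ri_apply, ← spGram_submatrix]
  ext i j
  simp

lemma ri_transpose (m : ℕ) (A : Matrix (Fin m ⊕ Fin m) (Fin m ⊕ Fin m) F) :
    ri m Aᵀ = (ri m A)ᵀ := by
  rw [ri_apply, ri_apply]
  rfl

lemma map_id (m : ℕ) (g : Matrix (Fin (m + m)) (Fin (m + m)) F) : g.map (RingHom.id F) = g := by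
  ext i j
  simp

/-- membership in the form group, transported -/
lemma ri_mem_iff (m : ℕ) (A : Matrix (Fin m ⊕ Fin m) (Fin m ⊕ Fin m) F) :
    A ∈ Matrix.symplecticGroup (Fin m) F ↔
      ri m A * spGram m F * ((ri m A).map (RingHom.id F))ᵀ = spGram m F := by
  rw [_root_.SymplecticGroup.mem_iff, map_id, ← ri_J, ← ri_transpose, ← map_mul, ← map_mul]
  exact ((ri m).injective.eq_iff).symm

/-- the monoid hom to `GL` -/
noncomputable def toGL (m : ℕ) : Matrix.symplecticGroup (Fin m) F →* GL (Fin (m + m)) F :=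
  (Units.map (((ri m).toMonoidHom : _ →* Matrix (Fin (m + m)) (Fin (m + m)) F).comp
    (Matrix.symplecticGroup (Fin m) F).subtype)).comp toUnits.toMonoidHom

lemma toGL_val (m : ℕ) (A : Matrix.symplecticGroup (Fin m) F) :
    ((toGL m A : GL (Fin (m + m)) F) : Matrix (Fin (m + m)) (Fin (m + m)) F) = ri m A.1 := rfl

lemma toGL_mem (m : ℕ) (A : Matrix.symplecticGroup (Fin m) F) :
    toGL m A ∈ formGrp (spGram m F) (RingHom.id F) := by
  rw [mem_formGrp, toGL_val]
  exact (ri_mem_iff m A.1).1 A.2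

end TRSP

open TRSP in
theorem sp_equiv (m : ℕ) :
    Nonempty (Matrix.symplecticGroup (Fin m) F ≃* ↥(formGrp (spGram m F) (RingHom.id F))) := by
  refine ⟨MulEquiv.ofBijective ((toGL m).codRestrict (formGrp (spGram m F) (RingHom.id F)) (toGL_mem m))
    ⟨?_, ?_⟩⟩
  · intro A B hAB
    have h1 : toGL m A = toGL m B := congrArg Subtype.val hAB
    have h2 : ri m A.1 = ri m B.1 := by
      rw [← toGL_val, ← toGL_val, h1]
    exact Subtype.ext ((ri m).injective h2)
  · rintro ⟨g, hg⟩
    rw [mem_formGrp] at hg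
    have hA : (ri m).symm (g : Matrix (Fin (m + m)) (Fin (m + m)) F) ∈ Matrix.symplecticGroup (Fin m) F := by
      rw [ri_mem_iff, RingEquiv.apply_symm_apply]
      exact hg
    refine ⟨⟨_, hA⟩, ?_⟩
    apply Subtype.ext
    apply Units.ext
    show ri m ((ri m).symm (g : Matrix (Fin (m + m)) (Fin (m + m)) F)) = g
    exact RingEquiv.apply_symm_apply _ _

end Cfsg.Agent.Lib.Helper42.ClBN
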