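import Mathlib
import Cfsg.Agent.Lib.Helper34.SylowConj
import Cfsg.Agent.Lib.Helper76.SylowNorm

set_option autoImplicit false

namespace Cfsg.Agent.Lib.Helper11

open Cfsg
open scoped commutatorElement

variable {Y : Type*} [Group Y]

/-- With a maximal Sylow `p`-subgroup `T` complemented by the normal subgroup `K`, a subgroup of
`K` normalized by `T` is trivial or all of `K`. -/
theorem eq_bot_or_eq_of_coatom {p : ℕ} (T : Sylow p Y) (hT : IsCoatom (T : Subgroup Y))
    (K : Subgroup Y) (hK : K.IsComplement' (T : Subgroup Y)) (M : Subgroup Y) (hMK : M ≤ K)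
    (hTM : (T : Subgroup Y) ≤ Subgroup.normalizer (M : Set Y)) : M = ⊥ ∨ M = K := by
  have hdisj : K ⊓ (T : Subgroup Y) = ⊥ := hK.disjoint.eq_bot
  rcases eq_or_lt_of_le (le_sup_left : (T : Subgroup Y) ≤ (T : Subgroup Y) ⊔ M) with h | h
  · left
    rw [eq_bot_iff, ← hdisj]
    refine le_inf hMK ?_
    rw [h]
    exact le_sup_right
  · right
    have htop : (T : Subgroup Y) ⊔ M = ⊤ := hT.2 _ h
    have hMn : M.Normal := by
      rw [← Subgroup.normalizer_eq_top_iff, eq_top_iff, ← htop]
      exact sup_le hTM Subgroup.le_normalizer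
    apply le_antisymm hMK
    intro l hl
    have h1 : l ∈ ((T : Subgroup Y) ⊔ M : Subgroup Y) := by rw [htop]; exact Subgroup.mem_top _
    rw [← SetLike.mem_coe, Subgroup.mul_normal] at h1
    obtain ⟨t, ht, m, hm, rfl⟩ := h1
    change t * m ∈ K at hl
    change t * m ∈ M
    have ht' : t ∈ K ⊓ (T : Subgroup Y) := by
      refine ⟨?_, ht⟩
      have : t = (t * m) * m⁻¹ := by group
      rw [this]
      exact K.mul_mem hl (K.inv_mem (hMK hm))
    rw [hdisj, Subgroup.mem_bot] at ht'
    rw [ht', one_mul]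
    exact hm

/-- If a Sylow `p`-subgroup `T` of the finite group `Y` is a maximal subgroup and has a normal
complement `K`, then `K` is abelian. -/
theorem comm_of_coatom_sylow [Finite Y] {p : ℕ} [hp : Fact p.Prime] (T : Sylow p Y)
    (hT : IsCoatom (T : Subgroup Y)) (K : Subgroup Y) [hKn : K.Normal]
    (hK : K.IsComplement' (T : Subgroup Y)) : ∀ x ∈ K, ∀ y ∈ K, x * y = y * x := by
  have hKcop : (Nat.card K).Coprime p := by
    have h1 : Nat.card K = (T : Subgroup Y).index := hK.index_eq_card.symm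
    rw [h1]
    exact ((Nat.Prime.coprime_iff_not_dvd hp.out).mpr T.not_dvd_index).symm
  by_cases hbot : K = ⊥
  · intro x hx y hy
    rw [hbot, Subgroup.mem_bot] at hx hy
    rw [hx, hy]
  -- a prime `q` dividing `|K|`
  have hcard : Nat.card K ≠ 1 := by
    intro h
    exact hbot (Subgroup.card_eq_one.mp h)
  obtain ⟨q, hq, hqK⟩ := Nat.exists_prime_and_dvd hcard
  have : Fact q.Prime := ⟨hq⟩
  obtain ⟨Q'⟩ : Nonempty (Sylow q K) := inferInstance
  set Q : Subgroup Y := (Q' : Subgroup K).map K.subtype with hQ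
  have hfr : Subgroup.normalizer (Q : Set Y) ⊔ K = ⊤ := Sylow.normalizer_sup_eq_top Q'
  have hidx : ¬ p ∣ (Subgroup.normalizer (Q : Set Y)).index := by
    have h1 : (Subgroup.normalizer (Q : Set Y)).index ∣ Nat.card K := by
      rw [← Subgroup.relIndex_top_right, ← hfr, Cfsg.Agent.Lib.Helper76.relIndex_sup_of_normal]
      exact Subgroup.relIndex_dvd_card _ _
    intro h2
    exact (Nat.Prime.coprime_iff_not_dvd hp.out).mp hKcop.symm (dvd_trans h2 h1)
  obtain ⟨S, hS⟩ := Cfsg.Agent.Lib.Helper76.exists_sylow_le_of_not_dvd_index p _ hidx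
  obtain ⟨g, hg⟩ := MulAction.exists_smul_eq Y S T
  set Q₁ : Subgroup Y := Q.map (MulAut.conj g).toMonoidHom with hQ₁
  have hTQ₁ : (T : Subgroup Y) ≤ Subgroup.normalizer (Q₁ : Set Y) := by
    rw [← hg, Cfsg.Agent.Lib.Helper34.sylow_smul_eq_map_conj, hQ₁,
      ← Cfsg.Agent.Lib.Helper34.map_conj_normalizer]
    exact Subgroup.map_mono hS
  have hQK : Q ≤ K := Subgroup.map_subtype_le _
  have hQ₁K : Q₁ ≤ K := by
    rintro _ ⟨x, hx, rfl⟩
    exact hKn.conj_mem x (hQK hx) g
  have hQne : Q₁ ≠ ⊥ := by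
    intro h
    have h1 : Nat.card Q₁ = 1 := by rw [h]; exact Subgroup.card_bot
    rw [hQ₁, Cfsg.Agent.Lib.Helper34.card_map_conj, hQ,
      Subgroup.card_map_of_injective K.subtype_injective] at h1
    have h2 := Q'.card_eq_multiplicity
    rw [h1] at h2
    have h3 : (Nat.card K).factorization q = 0 := by
      by_contra hne
      have : 1 < q ^ (Nat.card K).factorization q := Nat.one_lt_pow hne hq.one_lt
      omega
    have h4 : 0 < (Nat.card K).factorization q :=
      hq.factorization_pos_of_dvd Nat.card_pos.ne' hqK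
    omega
  have hQ₁eq : Q₁ = K := by
    rcases eq_bot_or_eq_of_coatom T hT K hK Q₁ hQ₁K hTQ₁ with h | h
    · exact absurd h hQne
    · exact h
  -- K is a q-group, hence solvable
  have hKq : IsPGroup q K := by
    have h1 : IsPGroup q Q₁ := (Q'.2.map K.subtype).map _
    rw [hQ₁eq] at h1
    exact h1
  have : Group.IsNilpotent K := hKq.isNilpotent
  have : Nontrivial K := (Subgroup.nontrivial_iff_ne_bot K).mpr hbot
  have hlt : _root_.commutator K < ⊤ := Group.IsSolvable.commutator_lt_top_of_nontrivial K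
  -- D = [K, K] as a subgroup of Y
  set D : Subgroup Y := ⁅K, K⁆ with hD
  have hDn : D.Normal := Subgroup.commutator_normal K K
  have hDK : D ≤ K := Subgroup.commutator_le_left K K
  have hDne : D ≠ K := by
    intro h
    apply hlt.ne
    rw [eq_top_iff]
    intro x _
    have hx : (x : Y) ∈ D := by rw [h]; exact x.2
    -- map of commutator K under subtype is ⁅K, K⁆
    have h2 : (_root_.commutator K).map K.subtype = D := by
      rw [_root_.commutator_def, Subgroup.map_commutator, ← MonoidHom.range_eq_map,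
        Subgroup.range_subtype]
    rw [← h2] at hx
    obtain ⟨z, hz, hzx⟩ := hx
    have : z = x := Subtype.ext hzx
    rw [← this]
    exact hz
  have hDbot : D = ⊥ := by
    rcases eq_bot_or_eq_of_coatom T hT K hK D hDK
        (by rw [Subgroup.normalizer_eq_top]; exact le_top) with h | h
    · exact h
    · exact absurd h hDne
  intro x hx y hy
  have h1 : ⁅x, y⁆ ∈ D := Subgroup.commutator_mem_commutator hx hy
  rw [hDbot, Subgroup.mem_bot, commutatorElement_eq_one_iff_mul_comm] at h1
  exact h1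

end Cfsg.Agent.Lib.Helper11
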