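import Mathlib
import Cfsg.Agent.Lib.Helper84.Alperin2
import Cfsg.Agent.Lib.Helper87.FusionCore
import Cfsg.Agent.S5090

/-!
# DSQW-[NOESS] : a saturated fusion system without essential subgroups is realizable
(module for helper84's S5248 project)
-/

set_option autoImplicit false
universe u

namespace Cfsg.Agent.Lib.Helper11.DSQW

open Cfsg Cfsg.FusionSystem Cfsg.Agent.Lib.Helper84 Cfsg.Agent.Lib.Helper87

theorem isNormal_self_of_no_essential {Ω : Type u} [Group Ω] {S : Subgroup Ω} [Finite S] {p : ℕ}
    [Fact p.Prime] (hS : IsPGroup p S) (F : FusionSystem S) (hF : F.IsSaturated p)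
    (h : ∀ E : Subgroup Ω, ¬ F.IsEssential p E) : F.IsNormal S := by
  apply isNormal_of_forall_essential F hS hF S
  intro P hP
  rcases hP with rfl | hP
  · refine ⟨le_refl _, ?_⟩
    intro α _
    rw [Subgroup.subgroupOf_self]
    exact Subgroup.map_top_of_surjective _ α.surjective
  · exact absurd hP (h P)

theorem isCentric_self {Ω : Type u} [Group Ω] {S : Subgroup Ω} [Finite S] (F : FusionSystem S) :
    F.IsCentric S := by
  refine ⟨le_refl _, ?_⟩
  intro Q hQ
  have hQS : Q ≤ S := IsConj_le_right hQ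
  have hcard : Nat.card S = Nat.card Q := IsConj_card_eq hQ
  have hQeq : Q = S := by
    have hfin : Finite (S : Set Ω) := ‹Finite S›
    have : (Q : Set Ω) = (S : Set Ω) := by
      apply Set.eq_of_subset_of_ncard_le hQS _ (Set.toFinite _)
      rw [← Nat.card_coe_set_eq, ← Nat.card_coe_set_eq]
      exact hcard.le
    exact SetLike.coe_injective this
  rw [hQeq]
  exact inf_le_left

theorem isRealizable_of_no_essential {Ω : Type u} [Group Ω] {S : Subgroup Ω} [Finite S] {p : ℕ} [Fact p.Prime]
    (hS : IsPGroup p S) (F : FusionSystem S) (hF : F.IsSaturated p)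
    (h : ∀ E : Subgroup Ω, ¬ F.IsEssential p E) : F.IsRealizable p := by
  have hcons : F.IsConstrained p :=
    ⟨hF, S, isNormal_self_of_no_essential hS F hF h, isCentric_self F⟩
  obtain ⟨G, hG, ι, hfin, hreal, hsyl, -⟩ := Cfsg.Agent.S5090.result p hS F hcons
  exact ⟨G, hG, hfin, ι, hreal, hsyl⟩

end Cfsg.Agent.Lib.Helper11.DSQW
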