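/-
helper11: module E67-[COUNT] (project E67 of helper35), the Mathlib-level core: the number of solutions of `c ^ M = 1`
in `(Kˣ)^l` for an integer matrix `M = P S Q` with `P`, `Q` unimodular and `S = diag(1, …, 1, d)` is `gcd(d, q - 1)`.
-/
import Cfsg.Agent.Lib.Helper18.MPow

set_option autoImplicit false

namespace Cfsg.Agent.Lib.Helper11.E67

open Cfsg.Agent.Lib.Helper18

theorem mpow_diagonal {G : Type*} [CommGroup G] {l : ℕ} (c : Fin l → G) (e : Fin l → ℤ) (j : Fin l) :
    mpow c (Matrix.diagonal e) j = c j ^ e j := by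
  unfold mpow
  rw [Finset.prod_eq_single j]
  · simp
  · intro i _ hij
    simp [Matrix.diagonal_apply_ne _ hij]
  · intro h
    exact absurd (Finset.mem_univ j) h

/-- The kernel of the exponent action of `diag(e)`, all `e j = 1` but one, in a finite cyclic group. -/
theorem card_ker_mpowHom_diagonal {G : Type*} [CommGroup G] [IsCyclic G] [Finite G] {l : ℕ} (e : Fin l → ℕ)
    (j0 : Fin l) (h1 : ∀ j, j ≠ j0 → e j = 1) :
    Nat.card (mpowHom (G := G) (Matrix.diagonal fun j => ((e j : ℕ) : ℤ))).ker = (Nat.card G).gcd (e j0) := by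
  classical
  rw [← IsCyclic.card_powMonoidHom_ker G (e j0)]
  apply Nat.card_congr
  refine ⟨fun c => ⟨c.1 j0, ?_⟩, fun x => ⟨Pi.mulSingle j0 x.1, ?_⟩, ?_, ?_⟩
  · have hc := c.2
    rw [MonoidHom.mem_ker, mpowHom_apply] at hc
    have h2 := congrFun hc j0
    rw [mpow_diagonal, zpow_natCast] at h2
    rw [MonoidHom.mem_ker, powMonoidHom_apply]
    exact h2
  · have hx := x.2
    rw [MonoidHom.mem_ker, powMonoidHom_apply] at hx
    rw [MonoidHom.mem_ker, mpowHom_apply]
    funext j
    rw [mpow_diagonal, zpow_natCast]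
    by_cases hj : j = j0
    · subst hj
      rw [Pi.mulSingle_eq_same]
      exact hx
    · rw [Pi.mulSingle_eq_of_ne hj]
      simp
  · intro c
    apply Subtype.ext
    funext j
    by_cases hj : j = j0
    · subst hj
      simp
    · have hc := c.2
      rw [MonoidHom.mem_ker, mpowHom_apply] at hc
      have h2 := congrFun hc j
      rw [mpow_diagonal, zpow_natCast, h1 j hj, pow_one] at h2
      show (Pi.mulSingle j0 (c.1 j0) : Fin l → G) j = c.1 j
      rw [Pi.mulSingle_eq_of_ne hj, h2]
      rfl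
  · intro x
    apply Subtype.ext
    show (Pi.mulSingle j0 x.1 : Fin l → G) j0 = x.1
    rw [Pi.mulSingle_eq_same]

universe u

/-- The count through a diagonalisation certificate `M = P * diag(ds) * Q`, `ds = (1, …, 1, d)`, over the units of a
finite field. -/
theorem card_ker_mpowHom_of_snf {K : Type u} [Field K] [Fintype K] {l : ℕ}
    (M P P' Q Q' : Matrix (Fin l) (Fin l) ℤ) (ds : List ℕ)
    (hM : M = P * (Matrix.diagonal fun j : Fin l => ((ds.getD j 0 : ℕ) : ℤ)) * Q)
    (hP1 : P * P' = 1) (hP2 : P' * P = 1) (hQ1 : Q * Q' = 1)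
    (d : ℕ) (hl : 0 < l) (h1 : ∀ j < l - 1, ds.getD j 0 = 1) (h2 : ds.getD (l - 1) 0 = d) :
    Nat.card (mpowHom (G := Kˣ) M).ker = Nat.gcd d (Fintype.card K - 1) := by
  classical
  rw [card_ker_mpow_eq M P P' _ Q Q' hM hP1 hP2 hQ1]
  have key := card_ker_mpowHom_diagonal (G := Kˣ) (fun j : Fin l => ds.getD j 0) ⟨l - 1, by omega⟩
    (by
      intro j hj
      apply h1
      have : (j : ℕ) ≠ l - 1 := fun h => hj (Fin.ext h)
      have := j.2
      omega)
  rw [key, Nat.card_eq_fintype_card, Fintype.card_units, Nat.gcd_comm]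
  simp only [h2]

end Cfsg.Agent.Lib.Helper11.E67
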