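/-
helper11: module E67-[COUNT] (project E67 of helper35): the kernels of the adjoint torus homomorphisms of E6 and E7 over a
finite field have `gcd(3, q - 1)` resp. `gcd(2, q - 1)` elements.  (Core in `E67Count.lean`; here only the table facts of
helper18 are plugged in.)
-/
import Cfsg.Agent.Lib.Helper18.TorusHom
import Cfsg.Agent.Lib.Helper18.CartanSNF
import Cfsg.Agent.Lib.Helper11.E67Count

set_option autoImplicit false

namespace Cfsg.Agent.Lib.Helper11.E67

open Cfsg Cfsg.Lie Cfsg.Agent.Lib.Helper18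

universe u
variable {K : Type u} [Field K]

theorem card_ker_torusHom_E6 [Fintype K] :
    Nat.card (torusHom chevE6 K).ker = Nat.gcd 3 (Fintype.card K - 1) := by
  rw [ker_torusHom chevE6 rootCoeffs_E6 rootComb_E6 (fun j => (simpleList_E6 j j.2).2)]
  obtain ⟨hM, hP1, hP2, hQ1⟩ := snfCert_E6
  exact card_ker_mpowHom_of_snf _ _ _ _ _ snfD_E6 hM hP1 hP2 hQ1 3 (by decide) (by decide) (by decide)

theorem card_ker_torusHom_E7 [Fintype K] :
    Nat.card (torusHom chevE7 K).ker = Nat.gcd 2 (Fintype.card K - 1) := by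
  rw [ker_torusHom chevE7 rootCoeffs_E7 rootComb_E7 (fun j => (simpleList_E7 j j.2).2)]
  obtain ⟨hM, hP1, hP2, hQ1⟩ := snfCert_E7
  exact card_ker_mpowHom_of_snf _ _ _ _ _ snfD_E7 hM hP1 hP2 hQ1 2 (by decide) (by decide) (by decide)

end Cfsg.Agent.Lib.Helper11.E67
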