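/-
helper11: HEDGE of GOUT-[GL-KER2] (helper76's project GOUT = S3066, amendment (S2)): an automorphism in `fixAut E ⊔ (stabAut E ⊓ Inn G)` is inner
modulo `stabAut S ⊓ fixAut E` (`S` a Sylow 2-subgroup normalizing `E`).  `b = conj g * c`, `c ∈ fixAut E`; `s⁻¹ c(s) ∈ C_G(E)` for `s ∈ S`, so
`c(S) ≤ L = C_G(E)·S`; `c(S)` and `S` are Sylow in `L`, `c(S) = h S h⁻¹` with `h ∈ C_G(E)`; `k = (conj h)⁻¹ c` stabilizes `S` and fixes `E`.
Exact skeleton statement, in my namespace.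
-/
import Mathlib
import Cfsg.Prelude.Def_KGroupFacts
import Cfsg.Agent.Lib.Helper76.GOut.GlueDefs
import Cfsg.Agent.Lib.Helper46.Amalgam3

set_option autoImplicit false

namespace Cfsg.Agent.Lib.Helper11.GOutGL

open Cfsg Cfsg.Agent.Lib.Helper76.GOut Cfsg.Agent.Lib.Helper46

/-- if `M` normalizes `K` then every element of `K ⊔ M` is a product `c * m` -/
theorem exists_mul_of_mem_sup {A : Type*} [Group A] (K M : Subgroup A)
    (h : ∀ m ∈ M, ∀ c ∈ K, m * c * m⁻¹ ∈ K) {x : A} (hx : x ∈ K ⊔ M) :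
    ∃ c ∈ K, ∃ m ∈ M, x = c * m := by
  let W : Subgroup A :=
    { carrier := {x | ∃ c ∈ K, ∃ m ∈ M, x = c * m}
      one_mem' := ⟨1, K.one_mem, 1, M.one_mem, by simp⟩
      mul_mem' := by
        rintro _ _ ⟨c, hc, m, hm, rfl⟩ ⟨c', hc', m', hm', rfl⟩
        refine ⟨c * (m * c' * m⁻¹), K.mul_mem hc (h m hm c' hc'), m * m', M.mul_mem hm hm', ?_⟩
        group
      inv_mem' := by
        rintro _ ⟨c, hc, m, hm, rfl⟩
        refine ⟨m⁻¹ * c⁻¹ * m⁻¹⁻¹, h m⁻¹ (M.inv_mem hm) c⁻¹ (K.inv_mem hc), m⁻¹, M.inv_mem hm, ?_⟩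
        group }
  have hle : K ⊔ M ≤ W := by
    apply sup_le
    · intro c hc; exact ⟨c, hc, 1, M.one_mem, by simp⟩
    · intro m hm; exact ⟨1, K.one_mem, m, hm, by simp⟩
  exact hle hx

variable {G : Type*} [Group G] [Finite G]

/-- GOUT-[GL-KER2] -/
theorem inf_sup_le_inn_sup (S : Sylow 2 G) (E : Subgroup G) (hES : E ≤ (S : Subgroup G))
    (hchar : stabAut (S : Subgroup G) ≤ stabAut E) :
    stabAut (S : Subgroup G) ⊓ (fixAut E ⊔ (stabAut E ⊓ Inn G)) ≤
      Inn G ⊔ (stabAut (S : Subgroup G) ⊓ fixAut E) := by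
  classical
  rintro b ⟨-, hb⟩
  -- `S` normalizes `E`
  have hSE : ∀ s ∈ (S : Subgroup G), ∀ e : G, s * e * s⁻¹ ∈ E ↔ e ∈ E := by
    intro s hs e
    have h1 : MulAut.conj s ∈ stabAut (S : Subgroup G) := by
      intro x
      rw [MulAut.conj_apply]
      constructor
      · intro hx
        have : x = s⁻¹ * (s * x * s⁻¹) * s := by group
        rw [this]
        exact (S : Subgroup G).mul_mem ((S : Subgroup G).mul_mem ((S : Subgroup G).inv_mem hs) hx) hs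
      · intro hx
        exact (S : Subgroup G).mul_mem ((S : Subgroup G).mul_mem hs hx) ((S : Subgroup G).inv_mem hs)
    have h2 := hchar h1 e
    rwa [MulAut.conj_apply] at h2
  -- `stabAut E ⊓ Inn G` normalizes `fixAut E`
  have hnorm : ∀ m ∈ stabAut E ⊓ Inn G, ∀ c ∈ fixAut E, m * c * m⁻¹ ∈ fixAut E := by
    rintro m ⟨hm, -⟩ c hc e he
    have h1 : m⁻¹ e ∈ E := ((stabAut E).inv_mem hm e).2 he
    show m (c (m⁻¹ e)) = e
    rw [hc _ h1, MulAut.apply_inv_self]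
  -- `b⁻¹ = c * m`, so `b = m⁻¹ * c⁻¹`
  obtain ⟨c₀, hc₀, m₀, hm₀, hbinv⟩ := exists_mul_of_mem_sup (fixAut E) (stabAut E ⊓ Inn G) hnorm
    ((fixAut E ⊔ (stabAut E ⊓ Inn G)).inv_mem hb)
  have hbeq : b = m₀⁻¹ * c₀⁻¹ := by
    have : b = (b⁻¹)⁻¹ := (inv_inv b).symm
    rw [this, hbinv, mul_inv_rev]
  obtain ⟨g, hg⟩ : ∃ g : G, MulAut.conj g = m₀⁻¹ := (Inn G).inv_mem hm₀.2
  set c : MulAut G := c₀⁻¹ with hc
  have hcE : c ∈ fixAut E := (fixAut E).inv_mem hc₀
  -- `s⁻¹ * c s` centralizes `E`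
  set C : Subgroup G := Subgroup.centralizer (E : Set G) with hC
  have hsc : ∀ s ∈ (S : Subgroup G), s⁻¹ * c s ∈ C := by
    intro s hs
    rw [hC, Subgroup.mem_centralizer_iff]
    intro e he
    have h1 : s * e * s⁻¹ ∈ E := (hSE s hs e).2 he
    have h2 : c (s * e * s⁻¹) = s * e * s⁻¹ := hcE _ h1
    rw [map_mul, map_mul, map_inv, hcE e he] at h2
    -- `c s * e * (c s)⁻¹ = s * e * s⁻¹`
    calc e * (s⁻¹ * c s) = s⁻¹ * (s * e * s⁻¹) * c s := by group
      _ = s⁻¹ * (c s * e * (c s)⁻¹) * c s := by rw [h2]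
      _ = s⁻¹ * c s * e := by group
  -- `S` normalizes `C`
  have hSC : ∀ s ∈ (S : Subgroup G), ∀ h ∈ C, s * h * s⁻¹ ∈ C := by
    intro s hs h hh
    rw [hC, Subgroup.mem_centralizer_iff] at hh ⊢
    intro e he
    have h1 : s⁻¹ * e * s⁻¹⁻¹ ∈ E := (hSE s⁻¹ ((S : Subgroup G).inv_mem hs) e).2 he
    have h2 := hh _ h1
    calc e * (s * h * s⁻¹) = s * ((s⁻¹ * e * s⁻¹⁻¹) * h) * s⁻¹ := by group
      _ = s * (h * (s⁻¹ * e * s⁻¹⁻¹)) * s⁻¹ := by rw [h2]
      _ = s * h * s⁻¹ * e := by group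
  set L : Subgroup G := C ⊔ (S : Subgroup G) with hL
  have hSL : (S : Subgroup G) ≤ L := le_sup_right
  have hCL : C ≤ L := le_sup_left
  -- the image of `S` under `c`
  set S' : Subgroup G := (S : Subgroup G).map c.toMonoidHom with hS'
  have hS'L : S' ≤ L := by
    rintro _ ⟨s, hs, rfl⟩
    have : c.toMonoidHom s = s * (s⁻¹ * c s) := by
      show c s = s * (s⁻¹ * c s)
      group
    rw [this]
    exact L.mul_mem (hSL hs) (hCL (hsc s hs))
  have hsyl : IsSylIn 2 (S : Subgroup G) L := by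
    rw [isSylIn_iff]
    exact ⟨hSL, S.isPGroup', fun Q hQ hSQ _ => S.is_maximal' hQ hSQ⟩
  have hsyl' : IsSylIn 2 S' L := by
    rw [isSylIn_iff]
    refine ⟨hS'L, S.isPGroup'.map _, fun Q hQ hSQ _ => ?_⟩
    have h1 : IsPGroup 2 (Q.comap c.toMonoidHom) := hQ.comap_of_injective _ c.injective
    have h2 : (S : Subgroup G) ≤ Q.comap c.toMonoidHom := by
      intro s hs
      exact hSQ ⟨s, hs, rfl⟩
    have h3 : Q.comap c.toMonoidHom = S := S.is_maximal' h1 h2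
    rw [hS', ← h3, Subgroup.map_comap_eq_self_of_surjective c.surjective]
  obtain ⟨l, hl, hlS⟩ := isSylIn_conj hsyl hsyl'
  -- `l = h * s`
  obtain ⟨h, hh, s, hs, rfl⟩ := exists_mul_of_mem_sup C (S : Subgroup G) hSC hl
  -- `c(S) = h S h⁻¹`
  have hcS : ∀ x : G, c x ∈ (S : Subgroup G).map (MulAut.conj h).toMonoidHom ↔ x ∈ (S : Subgroup G) := by
    intro x
    have e1 : (S : Subgroup G).map (MulAut.conj (h * s)).toMonoidHom =
        (S : Subgroup G).map (MulAut.conj h).toMonoidHom := by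
      ext y
      constructor
      · rintro ⟨t, ht, rfl⟩
        refine ⟨s * t * s⁻¹, (S : Subgroup G).mul_mem ((S : Subgroup G).mul_mem hs ht)
          ((S : Subgroup G).inv_mem hs), ?_⟩
        show h * (s * t * s⁻¹) * h⁻¹ = (h * s) * t * (h * s)⁻¹
        group
      · rintro ⟨t, ht, rfl⟩
        refine ⟨s⁻¹ * t * s, (S : Subgroup G).mul_mem ((S : Subgroup G).mul_mem
          ((S : Subgroup G).inv_mem hs) ht) hs, ?_⟩
        show (h * s) * (s⁻¹ * t * s) * (h * s)⁻¹ = h * t * h⁻¹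
        group
    rw [← e1, ← hlS]
    constructor
    · rintro ⟨y, hy, hyx⟩
      have : y = x := c.injective hyx
      rw [← this]; exact hy
    · intro hx
      exact ⟨x, hx, rfl⟩
  -- the automorphism `k`
  set k : MulAut G := (MulAut.conj h)⁻¹ * c with hk
  have hkS : k ∈ stabAut (S : Subgroup G) := by
    intro x
    rw [← hcS x]
    show (MulAut.conj h)⁻¹ (c x) ∈ (S : Subgroup G) ↔ _
    constructor
    · intro hx
      exact ⟨(MulAut.conj h)⁻¹ (c x), hx, MulAut.apply_inv_self _ _ _⟩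
    · rintro ⟨t, ht, hty⟩
      have : (MulAut.conj h)⁻¹ (c x) = t := by
        rw [← hty]; exact MulAut.inv_apply_self _ _ _
      rw [this]; exact ht
  have hkE : k ∈ fixAut E := by
    intro e he
    show (MulAut.conj h)⁻¹ (c e) = e
    rw [hcE e he, MulAut.conj_inv_apply]
    have := Subgroup.mem_centralizer_iff.mp hh e he
    calc h⁻¹ * e * h = h⁻¹ * (e * h) := by group
      _ = h⁻¹ * (h * e) := by rw [this]
      _ = e := by group
  have hbk : b = MulAut.conj (g * h) * k := by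
    rw [hbeq, ← hg, hk, map_mul]
    group
  rw [hbk]
  exact Subgroup.mul_mem_sup ⟨g * h, rfl⟩ ⟨hkS, hkE⟩

end Cfsg.Agent.Lib.Helper11.GOutGL
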