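/-
helper11: HEDGE of GOUT-[P1-CYC] (helper76's project GOUT = S3066): an abelian irreducible subgroup of `GL(V)`, `V` a finite
`𝔽₂`-space, is cyclic.  The subring of `End V` generated by `P` is a finite commutative domain (a nonzero element commutes with `P`,
so its kernel is `P`-invariant, hence zero), and `P` embeds in it.  Exact skeleton statement, in my namespace.
-/
import Mathlib
import Cfsg.Agent.Lib.Helper76.GOut.P1Defs

set_option autoImplicit false
set_option linter.deprecated false
set_option linter.style.haveILetI false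

namespace Cfsg.Agent.Lib.Helper11.GOutP1

open Cfsg.Agent.Lib.Helper76.GOut

variable {V : Type*} [AddCommGroup V] [Module (ZMod 2) V] [Finite V]

/-- GOUT-[P1-CYC] -/
theorem isCyclic_of_irrSub_of_comm (P : Subgroup (V ≃ₗ[ZMod 2] V)) (hP : IrrSub P)
    (hc : ∀ a ∈ P, ∀ b ∈ P, a * b = b * a) : IsCyclic ↥P := by
  classical
  by_cases hV : Subsingleton V
  · have h1 : Subsingleton (V ≃ₗ[ZMod 2] V) := ⟨fun a b => by ext v; exact Subsingleton.elim _ _⟩
    have h2 : Subsingleton ↥P := inferInstance
    exact isCyclic_of_subsingleton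
  rw [not_subsingleton_iff_nontrivial] at hV
  let ι : (V ≃ₗ[ZMod 2] V) →* Module.End (ZMod 2) V := LinearEquiv.automorphismGroup.toLinearMapMonoidHom
  have hι : ∀ (x : V ≃ₗ[ZMod 2] V) (w : V), ι x w = x w := fun x w => rfl
  set s : Set (Module.End (ZMod 2) V) := ι '' (P : Set (V ≃ₗ[ZMod 2] V)) with hs
  have hcomm : ∀ x ∈ s, ∀ y ∈ s, x * y = y * x := by
    rintro _ ⟨a, ha, rfl⟩ _ ⟨b, hb, rfl⟩
    rw [← map_mul, ← map_mul, hc a ha b hb]
  letI : CommRing ↥(Subring.closure s) := Subring.closureCommRingOfComm hcomm
  -- the elements of the closure commute with `P`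
  have hcent : ∀ f ∈ Subring.closure s, ∀ x ∈ s, x * f = f * x := by
    intro f hf
    have hle : Subring.closure s ≤ Subring.centralizer s := Subring.closure_le.mpr (fun y hy => by
      rw [SetLike.mem_coe, Subring.mem_centralizer_iff]
      intro x hx
      exact hcomm x hx y hy)
    exact Subring.mem_centralizer_iff.mp (hle hf)
  have hinj : ∀ f ∈ Subring.closure s, f ≠ 0 → Function.Injective f := by
    intro f hf hf0
    have hker : LinearMap.ker f = ⊥ ∨ LinearMap.ker f = ⊤ := by
      apply hP
      intro x hx w hw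
      rw [LinearMap.mem_ker] at hw ⊢
      have h1 := hcent f hf (ι x) ⟨x, hx, rfl⟩
      have h2 := congrArg (fun g : Module.End (ZMod 2) V => g w) h1
      simp only [Module.End.mul_apply] at h2
      rw [← hι x w, ← h2, hw, map_zero]
    rcases hker with h | h
    · exact LinearMap.ker_eq_bot.mp h
    · exact absurd (LinearMap.ker_eq_top.mp h) hf0
  have hnzd : NoZeroDivisors ↥(Subring.closure s) := ⟨by
    intro a b hab
    by_contra hcon
    push Not at hcon
    obtain ⟨ha, hb⟩ := hcon
    have ha' : (a : Module.End (ZMod 2) V) ≠ 0 := fun h => ha (Subtype.ext h)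
    have hai := hinj a a.2 ha'
    apply hb
    apply Subtype.ext
    apply LinearMap.ext
    intro v
    apply hai
    have h3 := congrArg (fun g : ↥(Subring.closure s) => (g : Module.End (ZMod 2) V) v) hab
    simpa using h3⟩
  have hnt : Nontrivial ↥(Subring.closure s) := ⟨⟨0, 1, fun h => by
    obtain ⟨v, hv⟩ := exists_ne (0 : V)
    have h3 := congrArg (fun g : ↥(Subring.closure s) => (g : Module.End (ZMod 2) V) v) h
    simp at h3
    exact hv h3.symm⟩⟩
  have hdom : IsDomain ↥(Subring.closure s) := NoZeroDivisors.to_isDomain _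
  let φ : ↥P →* ↥(Subring.closure s) :=
    { toFun := fun p => ⟨ι p, Subring.subset_closure ⟨p, p.2, rfl⟩⟩
      map_one' := Subtype.ext (map_one ι)
      map_mul' := fun a b => Subtype.ext (map_mul ι a.1 b.1) }
  have hφ : Function.Injective φ := by
    intro a b hab
    have h1 : ι a = ι b := congrArg (fun g : ↥(Subring.closure s) => (g : Module.End (ZMod 2) V)) hab
    apply Subtype.ext
    apply LinearEquiv.toLinearMap_injective
    exact h1
  exact isCyclic_of_injective_ringHom φ hφ

end Cfsg.Agent.Lib.Helper11.GOutP1
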