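/-
helper11: HEDGE of GOUT-[P1-IRRSOLV] (helper76's project GOUT = S3066), `_of` form: the skeleton statements of GOUT-[P1-CENT],
GOUT-[P1-CYC] and the odd order theorem (`Cfsg.Agent.S0205.result`) enter as hypotheses.  Exact skeleton statement:
`isSolvable_normalizer_of_irr P r hP hP1 hirr :=
   Cfsg.Agent.Lib.Helper11.GOutP1.isSolvable_normalizer_of_irr_of (fun H _ _ h => Cfsg.Agent.S0205.result h)
     odd_card_centralizer_of_irrSub isCyclic_of_irrSub_of_comm P r hP hP1 hirr`.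
-/
import Mathlib
import Cfsg.Agent.Lib.Helper76.GOut.P1Defs

set_option autoImplicit false

namespace Cfsg.Agent.Lib.Helper11.GOutP1

open Cfsg.Agent.Lib.Helper76.GOut

universe u

variable {V : Type u} [AddCommGroup V] [Module (ZMod 2) V] [Finite V]

/-- GOUT-[P1-IRRSOLV], `_of` form. -/
theorem isSolvable_normalizer_of_irr_of
    (hFT : ∀ (H : Type u) [Group H] [Finite H], Odd (Nat.card H) → Group.IsSolvable H)
    (hCENT : ∀ Q : Subgroup (V ≃ₗ[ZMod 2] V), IrrSub Q →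
      Odd (Nat.card ↥(Subgroup.centralizer (Q : Set (V ≃ₗ[ZMod 2] V)))))
    (hCYC : ∀ Q : Subgroup (V ≃ₗ[ZMod 2] V), IrrSub Q → (∀ a ∈ Q, ∀ b ∈ Q, a * b = b * a) → IsCyclic ↥Q)
    (P : Subgroup (V ≃ₗ[ZMod 2] V)) (r : ℕ) [Fact r.Prime]
    (hP : IsPGroup r P) (hP1 : P ≠ ⊥)
    (hirr : ∀ x ∈ P, x ≠ 1 → IrrSub (Subgroup.zpowers x)) :
    Group.IsSolvable ↥(Subgroup.normalizer (P : Set (V ≃ₗ[ZMod 2] V))) := by
  classical
  set A : Subgroup (V ≃ₗ[ZMod 2] V) := P ⊓ Subgroup.centralizer (P : Set (V ≃ₗ[ZMod 2] V)) with hA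
  -- a nontrivial central element of `P`
  have hnt : Nontrivial ↥P := (Subgroup.nontrivial_iff_ne_bot P).mpr hP1
  have hcn : Nontrivial (Subgroup.center ↥P) := hP.center_nontrivial
  obtain ⟨z, hz1⟩ := exists_ne (1 : Subgroup.center ↥P)
  have hxP : ((z : ↥P) : V ≃ₗ[ZMod 2] V) ∈ P := (z : ↥P).2
  have hx1 : ((z : ↥P) : V ≃ₗ[ZMod 2] V) ≠ 1 := by
    intro h
    apply hz1
    apply Subtype.ext
    apply Subtype.ext
    exact h
  have hxA : ((z : ↥P) : V ≃ₗ[ZMod 2] V) ∈ A := by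
    refine ⟨hxP, ?_⟩
    show ((z : ↥P) : V ≃ₗ[ZMod 2] V) ∈ Subgroup.centralizer (P : Set (V ≃ₗ[ZMod 2] V))
    rw [Subgroup.mem_centralizer_iff]
    intro p hp
    have := Subgroup.mem_center_iff.mp z.2 ⟨p, hp⟩
    exact congrArg Subtype.val this
  -- `A` is irreducible, abelian, hence cyclic
  have hAirr : IrrSub A := by
    intro W hW
    apply hirr _ hxP hx1 W
    intro y hy w hw
    exact hW y ((Subgroup.zpowers_le.mpr hxA) hy) w hw
  have hAcomm : ∀ a ∈ A, ∀ b ∈ A, a * b = b * a := by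
    intro a ha b hb
    exact Subgroup.mem_centralizer_iff.mp hb.2 a ha.1
  have hAcyc : IsCyclic ↥A := hCYC A hAirr hAcomm
  -- `N(P)` normalizes `A`
  have hconj : ∀ n ∈ Subgroup.normalizer (P : Set (V ≃ₗ[ZMod 2] V)), ∀ a ∈ A, n * a * n⁻¹ ∈ A := by
    intro n hn a ha
    rw [Subgroup.mem_set_normalizer_iff] at hn
    refine ⟨(hn a).mp ha.1, ?_⟩
    show n * a * n⁻¹ ∈ Subgroup.centralizer (P : Set (V ≃ₗ[ZMod 2] V))
    rw [Subgroup.mem_centralizer_iff]
    intro p hp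
    have hp' : n⁻¹ * p * n ∈ P := by
      apply (hn (n⁻¹ * p * n)).mpr
      have : n * (n⁻¹ * p * n) * n⁻¹ = p := by group
      rw [this]; exact hp
    have hc := Subgroup.mem_centralizer_iff.mp ha.2 _ hp'
    calc p * (n * a * n⁻¹) = n * ((n⁻¹ * p * n) * a) * n⁻¹ := by group
      _ = n * (a * (n⁻¹ * p * n)) * n⁻¹ := by rw [hc]
      _ = n * a * n⁻¹ * p := by group
  have hNA : Subgroup.normalizer (P : Set (V ≃ₗ[ZMod 2] V)) ≤ Subgroup.normalizer (A : Set (V ≃ₗ[ZMod 2] V)) := by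
    intro n hn
    rw [Subgroup.mem_set_normalizer_iff]
    intro a
    constructor
    · intro ha; exact hconj n hn a ha
    · intro ha
      have := hconj n⁻¹ (Subgroup.inv_mem _ hn) _ ha
      have e : n⁻¹ * (n * a * n⁻¹) * n⁻¹⁻¹ = a := by group
      rwa [e] at this
  -- the conjugation action `N(P) → Aut(A)`
  let g : ↥(Subgroup.normalizer (P : Set (V ≃ₗ[ZMod 2] V))) →* MulAut ↥A :=
    A.normalizerMonoidHom.comp (Subgroup.inclusion hNA)
  -- the kernel has odd order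
  have hkerC : ∀ n : ↥(Subgroup.normalizer (P : Set (V ≃ₗ[ZMod 2] V))), n ∈ g.ker →
      (n : V ≃ₗ[ZMod 2] V) ∈ Subgroup.centralizer (A : Set (V ≃ₗ[ZMod 2] V)) := by
    intro n hn
    have h1 : Subgroup.inclusion hNA n ∈ A.normalizerMonoidHom.ker := hn
    rw [Subgroup.normalizerMonoidHom_ker, Subgroup.mem_subgroupOf] at h1
    exact h1
  let φ : ↥g.ker →* ↥(Subgroup.centralizer (A : Set (V ≃ₗ[ZMod 2] V))) :=
    { toFun := fun n => ⟨((n : ↥(Subgroup.normalizer (P : Set (V ≃ₗ[ZMod 2] V)))) : V ≃ₗ[ZMod 2] V), hkerC n.1 n.2⟩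
      map_one' := rfl
      map_mul' := fun _ _ => rfl }
  have hφ : Function.Injective φ := by
    intro a b hab
    apply Subtype.ext
    apply Subtype.ext
    exact congrArg (fun t : ↥(Subgroup.centralizer (A : Set (V ≃ₗ[ZMod 2] V))) => (t : V ≃ₗ[ZMod 2] V)) hab
  have hodd : Odd (Nat.card ↥g.ker) :=
    Odd.of_dvd_nat (hCENT A hAirr) (Subgroup.card_dvd_of_injective φ hφ)
  have hsK : Group.IsSolvable ↥g.ker := hFT _ hodd
  -- `Aut(A)` is abelian
  have hsA : Group.IsSolvable (MulAut ↥A) :=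
    Group.isSolvable_of_isSolvable_injective (f := (IsCyclic.mulAutMulEquiv ↥A).toMonoidHom)
      (IsCyclic.mulAutMulEquiv ↥A).injective
  exact Group.isSolvable_of_ker_le_range g.ker.subtype g (by rw [Subgroup.range_subtype])

end Cfsg.Agent.Lib.Helper11.GOutP1
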