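/-
helper11, project GAG (S4561, coordinator helper76).  Module GAG-[CRIT]: a finite group with cyclic centre and
`(*)` (`StarC`) has a faithful irreducible character `χ` with `χ(1)² = |H : Z(H)|`.
-/
import Mathlib
import Cfsg.Agent.Lib.Helper3.WreathEmb
import Cfsg.Agent.Lib.Helper76.Gag.Defs
import Cfsg.Prelude.Def_Characters
import Cfsg.Prelude.Def_Blocks
import Cfsg.Agent.Lib.Helper80.ItoMichler
import Cfsg.Agent.Lib.Helper78.CentralTwist
import Cfsg.Agent.Lib.Helper77.CenterIrr
import Cfsg.Agent.Lib.Helper77.Linear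

set_option autoImplicit false

namespace Cfsg.Agent.Lib.Helper11.GagCrit

open scoped commutatorElement ComplexConjugate
open Cfsg Cfsg.Agent.Lib.Helper76.Gag

universe u

/-- a finite cyclic group has a faithful linear character -/
theorem exists_injective_hom_of_isCyclic (Z : Type*) [Group Z] [Finite Z] [IsCyclic Z] :
    ∃ l : Z →* ℂˣ, Function.Injective l := by
  have hm : NeZero (Nat.card Z) := ⟨Nat.card_pos.ne'⟩
  have hcard : Nat.card Z = Nat.card (rootsOfUnity (Nat.card Z) ℂ) :=
    (Complex.card_rootsOfUnity (Nat.card Z)).symm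
  let e : Z ≃* rootsOfUnity (Nat.card Z) ℂ := mulEquivOfCyclicCardEq hcard
  refine ⟨(rootsOfUnity (Nat.card Z) ℂ).subtype.comp e.toMonoidHom, ?_⟩
  intro a b hab
  apply e.injective
  apply Subtype.ext
  exact hab

end Cfsg.Agent.Lib.Helper11.GagCrit

namespace Cfsg.Agent.Lib.Helper76.Gag

open scoped commutatorElement ComplexConjugate
open Cfsg Cfsg.Agent.Lib.Helper77

universe u

/-- a group with cyclic centre and `(*)` is of central type: a faithful irreducible character of degree
`√|H : Z(H)|` -/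
theorem exists_fully_ramified {H : Type u} [Group H] [Finite H] (hcyc : IsCyclic (Subgroup.center H))
    (hstar : StarC H) :
    ∃ χ : Cfsg.IrrCharacter H, (∀ h : H, (χ : H → ℂ) h = (χ : H → ℂ) 1 → h = 1) ∧
      (Cfsg.charDegree (χ : H → ℂ)) ^ 2 = (Subgroup.center H).index := by
  classical
  have : Fintype H := Fintype.ofFinite H
  have : Fintype (Subgroup.center H) := Fintype.ofFinite _
  obtain ⟨l, hl⟩ := Cfsg.Agent.Lib.Helper11.GagCrit.exists_injective_hom_of_isCyclic (Subgroup.center H)
  have hθ : IsIrrCharacter (Subgroup.center H) (fun z => ((l z : ℂˣ) : ℂ)) :=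
    isIrrCharacter_of_monoidHom l
  obtain ⟨χ0, hχ0, hne⟩ := Cfsg.Agent.Lib.Helper80.exists_irr_over' (Subgroup.center H) hθ
  let χ : IrrCharacter H := ⟨χ0, hχ0⟩
  -- the central character
  let incl : Subgroup.center H →* irrCenter χ :=
    Subgroup.inclusion (Cfsg.Agent.Lib.Helper78.center_le_irrCenter χ)
  let ε : Subgroup.center H →* ℂ := (irrCenterScalar χ).comp incl
  have hε : ∀ (z : Subgroup.center H) (g : H), (χ : H → ℂ) ((z : H) * g) = ε z * (χ : H → ℂ) g := by
    intro z g
    exact irr_center_mul χ (incl z) g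
  have hχ1 : (χ : H → ℂ) 1 = (irrDim χ : ℂ) := irr_apply_one χ
  have hd0 : irrDim χ ≠ 0 := irrDim_ne_zero χ
  have hχ1ne : (χ : H → ℂ) 1 ≠ 0 := by
    rw [hχ1]
    exact_mod_cast hd0
  have hεz : ∀ z : Subgroup.center H, (χ : H → ℂ) (z : H) = ε z * (χ : H → ℂ) 1 := by
    intro z
    have := hε z 1
    rwa [mul_one] at this
  -- `ε z = 1` implies `z = 1`
  have hfaith : ∀ z : Subgroup.center H, ε z = 1 → z = 1 := by
    -- the hom `ψ = ε * conj l`
    let ψ : Subgroup.center H →* ℂ :=
      { toFun := fun z => ε z * conj ((l z : ℂˣ) : ℂ)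
        map_one' := by simp
        map_mul' := by
          intro a b
          simp only [map_mul, Units.val_mul]
          ring }
    have hψ1 : ψ = 1 := by
      by_contra hcon
      have hsum := sum_hom_units_eq_zero ψ hcon
      apply hne
      unfold classInner
      have : ∑ g : Subgroup.center H, (χ0 (g : H)) * conj ((l g : ℂˣ) : ℂ) =
          (χ : H → ℂ) 1 * ∑ g : Subgroup.center H, ψ g := by
        rw [Finset.mul_sum]
        apply Finset.sum_congr rfl
        intro z _
        have h1 : χ0 (z : H) = ε z * (χ : H → ℂ) 1 := hεz z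
        rw [h1]
        show ε z * (χ : H → ℂ) 1 * conj ((l z : ℂˣ) : ℂ) =
          (χ : H → ℂ) 1 * (ε z * conj ((l z : ℂˣ) : ℂ))
        ring
      rw [this, hsum, mul_zero, mul_zero]
    intro z hz
    apply hl
    rw [map_one]
    have h1 : ψ z = 1 := by rw [hψ1]; rfl
    have h2 : ε z * conj ((l z : ℂˣ) : ℂ) = 1 := h1
    rw [hz, one_mul] at h2
    have h3 : ((l z : ℂˣ) : ℂ) = 1 := by
      have := congrArg conj h2
      rwa [Complex.conj_conj, map_one] at this
    exact Units.ext h3
  -- `χ` vanishes off the centre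
  have hcf : IsClassFunction H (χ : H → ℂ) :=
    Cfsg.Agent.Lib.Helper78.IsCharacter.isClassFunction
      (Cfsg.Agent.Lib.Helper78.IsIrrCharacter.isCharacter χ.2)
  have hvanish : ∀ h : H, h ∉ Subgroup.center H → (χ : H → ℂ) h = 0 := by
    intro h hh
    obtain ⟨g, hgz, hg1⟩ := hstar h hh
    by_contra hχh
    -- `g h g⁻¹ = z⁻¹ h`
    set z : Subgroup.center H := ⟨⁅h, g⁆, hgz⟩ with hz
    have hconj : g * h * g⁻¹ = ((z⁻¹ : Subgroup.center H) : H) * h := by
      have hzc : ∀ x : H, x * ⁅h, g⁆ = ⁅h, g⁆ * x := Subgroup.mem_center_iff.mp hgz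
      have h1 : ⁅h, g⁆ * (g * h * g⁻¹) = h := by
        rw [commutatorElement_def]; group
      show g * h * g⁻¹ = (⁅h, g⁆)⁻¹ * h
      rw [eq_inv_mul_iff_mul_eq]
      exact h1
    have h2 : (χ : H → ℂ) h = ε z⁻¹ * (χ : H → ℂ) h := by
      rw [← hε, ← hconj]
      exact (hcf h g).symm
    have h3 : ε z⁻¹ = 1 := by
      have h4 : (ε z⁻¹ - 1) * (χ : H → ℂ) h = 0 := by
        rw [sub_mul, one_mul, ← h2, sub_self]
      rcases mul_eq_zero.1 h4 with h5 | h5
      · exact sub_eq_zero.1 h5
      · exact absurd h5 hχh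
    have h6 := hfaith _ h3
    rw [inv_eq_one] at h6
    apply hg1
    have := congrArg (Subtype.val) h6
    simpa [hz] using this
  -- norms on the centre
  have hnorm : ∀ z : Subgroup.center H, ‖(χ : H → ℂ) (z : H)‖ = ‖(χ : H → ℂ) 1‖ := by
    intro z
    exact (mem_irrCenter χ (z : H)).mp (Cfsg.Agent.Lib.Helper78.center_le_irrCenter χ z.2)
  -- the degree equation
  have hsum := sum_normSq_irr χ
  have hsplit : ∑ g : H, ‖(χ : H → ℂ) g‖ ^ 2 =
      (Nat.card (Subgroup.center H) : ℝ) * ‖(χ : H → ℂ) 1‖ ^ 2 := by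
    rw [← Finset.sum_subset (Finset.subset_univ (Finset.univ.filter (fun g : H => g ∈ Subgroup.center H)))]
    · rw [Finset.sum_congr rfl (fun g hg => by
        rw [hnorm ⟨g, (Finset.mem_filter.mp hg).2⟩]), Finset.sum_const, nsmul_eq_mul]
      congr 2
      rw [Nat.card_eq_fintype_card, Fintype.card_subtype]
    · intro g _ hg
      have hgz : g ∉ Subgroup.center H := fun h => hg (Finset.mem_filter.mpr ⟨Finset.mem_univ _, h⟩)
      rw [hvanish g hgz, norm_zero]
      norm_num
  have hnat : Nat.card (Subgroup.center H) * (irrDim χ) ^ 2 = Nat.card H := by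
    have h1 : (Nat.card (Subgroup.center H) : ℝ) * ((irrDim χ : ℕ) : ℝ) ^ 2 = (Nat.card H : ℝ) := by
      rw [← hsum, hsplit, hχ1]
      simp
    exact_mod_cast h1
  have hidx : (irrDim χ) ^ 2 = (Subgroup.center H).index := by
    have h1 := Subgroup.card_mul_index (Subgroup.center H)
    have hpos : 0 < Nat.card (Subgroup.center H) := Nat.card_pos
    apply Nat.eq_of_mul_eq_mul_left hpos
    rw [hnat, h1]
  have hdeg : charDegree (χ : H → ℂ) = irrDim χ := by
    unfold charDegree
    rw [hχ1]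
    simp
  refine ⟨χ, ?_, ?_⟩
  · intro h hh
    by_cases hz : h ∈ Subgroup.center H
    · have h1 := hεz ⟨h, hz⟩
      rw [hh] at h1
      have h2 : ε ⟨h, hz⟩ = 1 := by
        have h3 : (ε ⟨h, hz⟩ - 1) * (χ : H → ℂ) 1 = 0 := by
          rw [sub_mul, one_mul, ← h1, sub_self]
        rcases mul_eq_zero.1 h3 with h5 | h5
        · exact sub_eq_zero.1 h5
        · exact absurd h5 hχ1ne
      have := hfaith _ h2
      exact congrArg Subtype.val this
    · exfalso
      apply hχ1ne
      rw [← hh]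
      exact hvanish h hz
  · rw [hdeg]
    exact hidx

end Cfsg.Agent.Lib.Helper76.Gag
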