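import Mathlib
import Cfsg.Agent.Lib.Helper88.GlaubSubDefs

/-!
# S5278, module [ACT-C] (helper88 #3914): S2999 in action form

Transport of the `SL₂`-lemma through the semidirect product `U ⋊ Hh`.
-/

set_option autoImplicit false
set_option linter.unusedSectionVars false
set_option linter.unusedVariables false

namespace Cfsg.Agent.Lib.Helper11.GlaubSub

open Cfsg Cfsg.Agent.Lib.Helper88.GlaubSub

universe u

section transportPMin

variable {H K : Type*} [Group H] [Group K] {p : ℕ}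

/-- `p`-minimality is invariant under isomorphism. -/
theorem isPMinimal_of_mulEquiv (e : K ≃* H) (h : IsPMinimal p H) : IsPMinimal p K := by
  intro S'
  have hr : (S' : Subgroup K) ≤ (e.symm.toMonoidHom).range := by
    rw [MonoidHom.range_eq_top.mpr e.symm.surjective]; exact le_top
  let S : Sylow p H := S'.comapOfInjective e.symm.toMonoidHom e.symm.injective hr
  have hS : (S : Subgroup H) = (S' : Subgroup K).comap e.symm.toMonoidHom :=
    Sylow.coe_comapOfInjective _ _ _ _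
  obtain ⟨hn, M₀, ⟨hM₀, hSM₀⟩, huniq⟩ := h S
  refine ⟨?_, M₀.comap e.toMonoidHom, ⟨?_, ?_⟩, ?_⟩
  · intro hN
    apply hn
    rw [hS]
    exact hN.comap _
  · have := (OrderIso.isCoatom_iff (e.comapSubgroup) M₀).mpr hM₀
    simpa using this
  · intro k hk
    rw [Subgroup.mem_comap]
    apply hSM₀
    rw [hS, Subgroup.mem_comap]
    simpa using hk
  · rintro M'' ⟨hM'', hSM''⟩
    have h1 : IsCoatom (M''.comap e.symm.toMonoidHom) := by
      have := (OrderIso.isCoatom_iff (e.symm.comapSubgroup) M'').mpr hM''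
      simpa using this
    have h2 : (S : Subgroup H) ≤ M''.comap e.symm.toMonoidHom := by
      rw [hS]; exact Subgroup.comap_mono hSM''
    have h3 := huniq _ ⟨h1, h2⟩
    rw [← h3]
    ext k
    simp

end transportPMin

section main

open SemidirectProduct

variable {Hh U : Type u} [Group Hh] [CommGroup U] [MulDistribMulAction Hh U]

/-- conjugation in the semidirect product -/
theorem sd_conj (h : Hh) (n : U) :
    (inr h : U ⋊[MulDistribMulAction.toMulAut Hh U] Hh) * inl n * (inr h)⁻¹ = inl (h • n) := by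
  rw [← map_inv, ← inl_aut]
  rfl

/-- fixed points versus centralizers in the semidirect product -/
theorem sd_cent (B : Subgroup Hh) :
    (inl : U →* U ⋊[MulDistribMulAction.toMulAut Hh U] Hh).range ⊓
      Subgroup.centralizer ((B.map (inr : Hh →* U ⋊[MulDistribMulAction.toMulAut Hh U] Hh) :
        Subgroup (U ⋊[MulDistribMulAction.toMulAut Hh U] Hh)) : Set _) =
      (fixOf (U := U) B).map inl := by
  ext x
  constructor
  · rintro ⟨⟨n, rfl⟩, hx⟩
    refine ⟨n, ?_, rfl⟩
    intro b hb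
    have h1 := Subgroup.mem_centralizer_iff.mp hx (inr b) ⟨b, hb, rfl⟩
    -- inr b * inl n = inl n * inr b
    have h2 : (inr b : U ⋊[MulDistribMulAction.toMulAut Hh U] Hh) * inl n * (inr b)⁻¹ = inl n := by
      rw [h1]; group
    rw [sd_conj] at h2
    exact inl_injective h2
  · rintro ⟨n, hn, rfl⟩
    refine Subgroup.mem_inf.mpr ⟨⟨n, rfl⟩, ?_⟩
    rw [Subgroup.mem_centralizer_iff]
    rintro _ ⟨b, hb, rfl⟩
    have h2 : (inr b : U ⋊[MulDistribMulAction.toMulAut Hh U] Hh) * inl n * (inr b)⁻¹ = inl n := by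
      rw [sd_conj, hn b hb]
    calc (inr b : U ⋊[MulDistribMulAction.toMulAut Hh U] Hh) * inl n
        = (inr b * inl n * (inr b)⁻¹) * inr b := by group
      _ = inl n * inr b := by rw [h2]

theorem sd_card_cent [Finite U] (B : Subgroup Hh) :
    Nat.card ↥((inl : U →* U ⋊[MulDistribMulAction.toMulAut Hh U] Hh).range ⊓
      Subgroup.centralizer ((B.map (inr : Hh →* U ⋊[MulDistribMulAction.toMulAut Hh U] Hh) :
        Subgroup (U ⋊[MulDistribMulAction.toMulAut Hh U] Hh)) : Set _)) =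
      Nat.card ↥(fixOf (U := U) B) := by
  rw [sd_cent]
  exact (Nat.card_congr ((fixOf (U := U) B).equivMapOfInjective inl inl_injective).toEquiv).symm

end main

section final

open SemidirectProduct

variable {Hh U : Type u} [Group Hh] [Finite Hh] [CommGroup U] [Finite U] [MulDistribMulAction Hh U] {p : ℕ} [Fact p.Prime]

/-- [ACT-C] S2999 in action form (transport through the semidirect product `U ⋊ Hh`). -/
theorem sl2_of_action (h2999 : S2999Stmt.{u}) [FaithfulSMul Hh U] (hU : ∀ u : U, u ^ p = 1) (Ls : Subgroup Hh) (hmin : IsPMinimal p ↥Ls)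
    (Ts : Sylow p ↥Ls) (Msub : Subgroup ↥Ls) (hM : IsCoatom Msub) (hTM : (Ts : Subgroup ↥Ls) ≤ Msub)
    (A : Subgroup Hh) (hAT : A ≤ (Ts : Subgroup ↥Ls).map Ls.subtype)
    (hAc : ∀ a ∈ A, ∀ b ∈ A, a * b = b * a) (hAp : ∀ a ∈ A, a ^ p = 1)
    (hi1 : Nat.card U ≤ Nat.card A * Nat.card (fixOf (U := U) A))
    (hi2 : ∀ B : Subgroup Hh, B ≤ A → B ≠ ⊥ → B ≠ A →
      Nat.card B * Nat.card (fixOf (U := U) B) < Nat.card A * Nat.card (fixOf (U := U) A))
    (hii : ∃ u : U, (∀ h ∈ (Ts : Subgroup ↥Ls).map Ls.subtype, h • u = u) ∧ ∃ h ∈ Ls, h • u ≠ u)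
    (hiii : ∀ x : ↥Ls, x ∉ Msub → A ⊔ A.map (MulAut.conj (x : Hh)).toMonoidHom = Ls) :
    ∃ (F : Type) (_ : Field F) (_ : Fintype F), Fintype.card F = Nat.card A ∧
      ∃ (ρ : ↥Ls ≃* Matrix.SpecialLinearGroup (Fin 2) F) (ψ : U →* Multiplicative (Fin 2 → F)),
        Function.Surjective ψ ∧ (∀ u : U, ψ u = 1 ↔ ∀ h ∈ Ls, h • u = u) ∧
        ∀ (h : ↥Ls) (u : U), Multiplicative.toAdd (ψ ((h : Hh) • u)) =
          ((ρ h : Matrix.SpecialLinearGroup (Fin 2) F) : Matrix (Fin 2) (Fin 2) F).mulVec (Multiplicative.toAdd (ψ u)) := by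
  classical
  let G := U ⋊[MulDistribMulAction.toMulAut Hh U] Hh
  have : Finite G := Finite.of_equiv _ (SemidirectProduct.equivProd (φ := MulDistribMulAction.toMulAut Hh U)).symm
  let iU : U →* G := inl
  let iH : Hh →* G := inr
  have hiU : Function.Injective iU := inl_injective
  have hiH : Function.Injective iH := inr_injective
  let V : Subgroup G := iU.range
  let P : Subgroup G := Ls.map iH
  let A' : Subgroup G := A.map iH
  let e : ↥Ls ≃* ↥P := Ls.equivMapOfInjective iH hiH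
  have he : ∀ y : ↥Ls, ((e y : ↥P) : G) = iH (y : Hh) := fun y =>
    Subgroup.coe_equivMapOfInjective_apply _ _ _ _
  have hconj : ∀ (h : Hh) (n : U), iH h * iU n * (iH h)⁻¹ = iU (h • n) := fun h n => sd_conj h n
  -- the Sylow subgroup and the maximal subgroup
  have hr : (Ts : Subgroup ↥Ls) ≤ (e.symm.toMonoidHom).range := by
    rw [MonoidHom.range_eq_top.mpr e.symm.surjective]; exact le_top
  let T' : Sylow p ↥P := Ts.comapOfInjective e.symm.toMonoidHom e.symm.injective hr
  have hT' : (T' : Subgroup ↥P) = (Ts : Subgroup ↥Ls).comap e.symm.toMonoidHom :=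
    Sylow.coe_comapOfInjective _ _ _ _
  let M' : Subgroup ↥P := Msub.comap e.symm.toMonoidHom
  have hM' : IsCoatom M' := (OrderIso.isCoatom_iff (e.symm.comapSubgroup) Msub).mpr hM
  have hTM' : (T' : Subgroup ↥P) ≤ M' := by rw [hT']; exact Subgroup.comap_mono hTM
  -- hypotheses of S2999
  have hVc : IsMulCommutative ↥V := ⟨⟨by
    rintro ⟨_, n, rfl⟩ ⟨_, m, rfl⟩
    apply Subtype.ext
    show iU n * iU m = iU m * iU n
    rw [← map_mul, ← map_mul, mul_comm]⟩⟩
  have hV : IsElementaryAbelian p V := by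
    refine ⟨hVc, ?_⟩
    rintro _ ⟨n, rfl⟩
    rw [← map_pow, hU, map_one]
  have hVn : V.Normal := by
    have : V = (rightHom : G →* Hh).ker := range_inl_eq_ker_rightHom
    rw [this]; infer_instance
  have hPV : P ≤ Subgroup.normalizer (V : Set G) := by
    rw [Subgroup.normalizer_eq_top_iff.mpr hVn]; exact le_top
  have hfaith : P ⊓ Subgroup.centralizer (V : Set G) = ⊥ := by
    rw [Subgroup.eq_bot_iff_forall]
    rintro x ⟨⟨h, hh, rfl⟩, hx⟩
    have h1 : h = 1 := by
      apply FaithfulSMul.eq_of_smul_eq_smul (α := U)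
      intro n
      rw [one_smul]
      have h2 := Subgroup.mem_centralizer_iff.mp hx (iU n) ⟨n, rfl⟩
      have h3 : iH h * iU n * (iH h)⁻¹ = iU n := by
        rw [← h2, mul_inv_cancel_right]
      rw [hconj] at h3
      exact hiU h3
    rw [h1, map_one]
  have hmin' : IsPMinimal p ↥P := isPMinimal_of_mulEquiv e.symm hmin
  have hAT' : A' ≤ (T' : Subgroup ↥P).map P.subtype := by
    rintro _ ⟨a, ha, rfl⟩
    obtain ⟨t, ht, hta⟩ := hAT ha
    refine ⟨e t, ?_, ?_⟩
    · rw [SetLike.mem_coe, hT', Subgroup.mem_comap]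
      show e.symm (e t) ∈ (Ts : Subgroup ↥Ls)
      rw [MulEquiv.symm_apply_apply]; exact ht
    · rw [Subgroup.subtype_apply, he, ← hta]
      rfl
  have hAel' : IsElementaryAbelian p A' := by
    refine ⟨⟨⟨?_⟩⟩, ?_⟩
    · rintro ⟨_, a, ha, rfl⟩ ⟨_, b, hb, rfl⟩
      apply Subtype.ext
      show iH a * iH b = iH b * iH a
      rw [← map_mul, ← map_mul, hAc a ha b hb]
    · rintro _ ⟨a, ha, rfl⟩
      rw [← map_pow, hAp a ha, map_one]
  have hcV : Nat.card ↥V = Nat.card U :=
    (Nat.card_congr (MonoidHom.ofInjective hiU).toEquiv).symm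
  have hcmap : ∀ B : Subgroup Hh, Nat.card ↥(B.map iH) = Nat.card ↥B := fun B =>
    (Nat.card_congr (B.equivMapOfInjective iH hiH).toEquiv).symm
  have hi' : Nat.card ↥V ≤ Nat.card ↥A' * Nat.card ↥(V ⊓ Subgroup.centralizer ((A' : Subgroup G) : Set G)) ∧
      ∀ A₀ : Subgroup G, A₀ ≤ A' → A₀ ≠ ⊥ → A₀ ≠ A' →
        Nat.card ↥A₀ * Nat.card ↥(V ⊓ Subgroup.centralizer ((A₀ : Subgroup G) : Set G)) <
          Nat.card ↥A' * Nat.card ↥(V ⊓ Subgroup.centralizer ((A' : Subgroup G) : Set G)) := by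
    constructor
    · rw [hcV, hcmap A, sd_card_cent A]; exact hi1
    · intro A₀ hA₀ hne hneA
      have hA₀r : A₀ ≤ iH.range := hA₀.trans (Subgroup.map_le_range iH A)
      have hA₀eq : (A₀.comap iH).map iH = A₀ := Subgroup.map_comap_eq_self hA₀r
      have hBA : A₀.comap iH ≤ A := by
        intro b hb
        obtain ⟨a, ha, hab⟩ := hA₀ (Subgroup.mem_comap.mp hb)
        rw [← hiH hab]; exact ha
      have hBne : A₀.comap iH ≠ ⊥ := by
        intro h
        apply hne
        rw [← hA₀eq, h, Subgroup.map_bot]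
      have hBneA : A₀.comap iH ≠ A := by
        intro h
        apply hneA
        rw [← hA₀eq, h]
      have := hi2 (A₀.comap iH) hBA hBne hBneA
      rw [← hA₀eq, hcmap, sd_card_cent, hcmap A, sd_card_cent A]
      exact this
  have hii' : ⁅(V ⊓ Subgroup.centralizer ((((T' : Subgroup ↥P).map P.subtype) : Subgroup G) : Set G)), P⁆ ≠ ⊥ := by
    obtain ⟨u, hfix, h, hh, hne⟩ := hii
    intro hbot
    have hu : iU u ∈ V ⊓ Subgroup.centralizer ((((T' : Subgroup ↥P).map P.subtype) : Subgroup G) : Set G) := by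
      refine Subgroup.mem_inf.mpr ⟨⟨u, rfl⟩, ?_⟩
      rw [Subgroup.mem_centralizer_iff]
      rintro _ ⟨y, hy, rfl⟩
      rw [SetLike.mem_coe, hT', Subgroup.mem_comap] at hy
      have hy2 : ((y : ↥P) : G) = iH ((e.symm y : ↥Ls) : Hh) := by
        rw [← he]; simp
      rw [Subgroup.subtype_apply, hy2]
      have h3 : iH ((e.symm y : ↥Ls) : Hh) * iU u * (iH ((e.symm y : ↥Ls) : Hh))⁻¹ = iU u := by
        have := hfix ((e.symm y : ↥Ls) : Hh) ⟨e.symm y, hy, rfl⟩
        rw [hconj, this]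
      calc iH ((e.symm y : ↥Ls) : Hh) * iU u
          = (iH ((e.symm y : ↥Ls) : Hh) * iU u * (iH ((e.symm y : ↥Ls) : Hh))⁻¹) *
              iH ((e.symm y : ↥Ls) : Hh) := (inv_mul_cancel_right _ _).symm
        _ = iU u * iH ((e.symm y : ↥Ls) : Hh) := by rw [h3]
    have hhP : iH h ∈ P := Subgroup.mem_map_of_mem iH hh
    have hmem := Subgroup.commutator_mem_commutator hu hhP
    rw [hbot, Subgroup.mem_bot, commutatorElement_def] at hmem
    have h4 : iU u * iH h * (iU u)⁻¹ * (iH h)⁻¹ = iU u * (iH h * iU u⁻¹ * (iH h)⁻¹) := by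
      rw [map_inv]; simp only [mul_assoc]
    rw [h4, hconj, ← map_mul] at hmem
    have h5 : u * h • u⁻¹ = 1 := hiU (by rw [hmem, map_one])
    apply hne
    rw [smul_inv'] at h5
    exact (mul_inv_eq_one.mp h5).symm
  have hiii' : ∀ x : ↥P, x ∉ M' → A' ⊔ A'.map (MulAut.conj (x : G)).toMonoidHom = P := by
    intro x hx
    have hy : e.symm x ∉ Msub := fun h => hx (Subgroup.mem_comap.mpr h)
    have hxy : (x : G) = iH ((e.symm x : ↥Ls) : Hh) := by
      rw [← he]; simp
    have h1 := hiii (e.symm x) hy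
    have h2 : (MulAut.conj (x : G)).toMonoidHom.comp iH =
        iH.comp (MulAut.conj ((e.symm x : ↥Ls) : Hh)).toMonoidHom := by
      ext z : 1
      simp only [MonoidHom.comp_apply, MulEquiv.toMonoidHom_eq_coe, MonoidHom.coe_coe,
        MulAut.conj_apply, hxy, map_mul, map_inv]
    show A.map iH ⊔ (A.map iH).map (MulAut.conj (x : G)).toMonoidHom = Ls.map iH
    rw [Subgroup.map_map, h2, ← Subgroup.map_map, ← Subgroup.map_sup, h1]
  obtain ⟨F, iF, iFt, hcard, ⟨σ⟩, -, hact⟩ :=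
    @h2999 G _ _ p _ V P hV hPV hfaith hmin' T' M' hM' hTM' A' hAT' hAel' hi' hii' hiii'
  obtain ⟨-, -, ρ', ψ', hρ', hψs, hψk, hequiv⟩ := hact
  refine ⟨F, iF, iFt, by rw [hcard, hcmap A], ?_⟩
  -- the isomorphism
  let f : ↥Ls →* Matrix.SpecialLinearGroup (Fin 2) F := ρ'.comp e.toMonoidHom
  have hfs : Function.Surjective f := by
    intro m
    obtain ⟨y, hy⟩ := MonoidHom.range_eq_top.mp hρ' m
    exact ⟨e.symm y, by simp [f, hy]⟩
  have hcardLs : Nat.card ↥Ls = Nat.card (Matrix.SpecialLinearGroup (Fin 2) F) :=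
    Nat.card_congr (e.trans σ).toEquiv
  have hfb : Function.Bijective f := hfs.bijective_of_nat_card_le hcardLs.le
  let ρ : ↥Ls ≃* Matrix.SpecialLinearGroup (Fin 2) F := MulEquiv.ofBijective f hfb
  let ψ : U →* Multiplicative (Fin 2 → F) := ψ'.comp iU.rangeRestrict
  refine ⟨ρ, ψ, ?_, ?_, ?_⟩
  · exact hψs.comp iU.rangeRestrict_surjective
  · intro u
    show ψ' (iU.rangeRestrict u) = 1 ↔ _
    rw [hψk]
    show iU u ∈ V ⊓ Subgroup.centralizer ((Ls.map iH : Subgroup G) : Set G) ↔ _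
    rw [sd_cent Ls]
    constructor
    · rintro ⟨n, hn, hnu⟩
      rw [← hiU hnu]; exact hn
    · intro h; exact ⟨u, h, rfl⟩
  · intro h u
    obtain ⟨w, hw, hwe⟩ := hequiv (e h) (iU.rangeRestrict u)
    have hw2 : w = iU.rangeRestrict ((h : Hh) • u) := by
      apply Subtype.ext
      rw [hw, he]
      exact hconj _ _
    rw [hw2] at hwe
    exact hwe

end final

end Cfsg.Agent.Lib.Helper11.GlaubSub
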