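/-
helper11: S5278 module [G-L1c] for helper88: the image `f(A0)` of a quadratic abelian subgroup of largest order `A0` of
the Sylow subgroup in the quotient `Hh = G / C_G(V)` acting on `V₁ = Ω₁(V)` is a nontrivial elementary abelian best
offender on `V₁`.  `↥(om p T)` carries no `CommGroup` instance (it is a subgroup of a noncommutative group), so the
statement is given twice: `quotient_offender_set`, free of instances, with the fixed points as a `Set`, and
`quotient_offender` with `fixOf` for the instance `omCommGroup h` (same multiplication).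
-/
import Cfsg.Agent.Lib.Helper88.GlaubSubDefs3

set_option autoImplicit false
set_option linter.unusedSectionVars false
set_option linter.style.haveILetI false

universe u

namespace Cfsg.Agent.Lib.Helper11.GlaubSub

open Cfsg Cfsg.Agent.Lib.Helper47 Cfsg.Agent.Lib.Helper88.GlaubSub Cfsg.Agent.Lib.Helper88.StabWC

section general

/-- `|K| = |f(K)| · |K ∩ ker f|`. -/
theorem card_eq_card_map_mul_card_inf_ker {G H : Type*} [Group G] [Group H] (f : G →* H) (K : Subgroup G) :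
    Nat.card K = Nat.card (K.map f) * Nat.card ↥(K ⊓ f.ker) := by
  have h1 := Subgroup.relIndex_mul_relIndex (⊥ : Subgroup G) (K ⊓ f.ker) K bot_le inf_le_left
  rw [Subgroup.relIndex_bot_left, Subgroup.relIndex_bot_left, Subgroup.inf_relIndex_left,
    Subgroup.relIndex_ker] at h1
  rw [← h1, mul_comm]

/-- if `a` commutes with `c = a v a⁻¹ v⁻¹` then `a ^ j * v * a ^ (-j) = c ^ j * v`. -/
theorem conj_pow_eq_of_commute {G : Type*} [Group G] (a v : G)
    (hc : a * (a * v * a⁻¹ * v⁻¹) = (a * v * a⁻¹ * v⁻¹) * a) (j : ℕ) :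
    a ^ j * v * (a ^ j)⁻¹ = (a * v * a⁻¹ * v⁻¹) ^ j * v := by
  obtain ⟨c, hcdef⟩ : ∃ c : G, c = a * v * a⁻¹ * v⁻¹ := ⟨_, rfl⟩
  rw [← hcdef] at hc ⊢
  induction j with
  | zero => simp
  | succ j ih =>
    have hcj : a * c ^ j = c ^ j * a := ((show Commute a c from hc).pow_right j).eq
    calc a ^ (j + 1) * v * (a ^ (j + 1))⁻¹ = a * (a ^ j * v * (a ^ j)⁻¹) * a⁻¹ := by
          rw [pow_succ']; group
      _ = a * (c ^ j * v) * a⁻¹ := by rw [ih]
      _ = (a * c ^ j) * v * a⁻¹ := by group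
      _ = c ^ j * (a * v * a⁻¹ * v⁻¹) * v := by rw [hcj]; group
      _ = c ^ (j + 1) * v := by rw [← hcdef, ← pow_succ]

/-- in a quadratic action `[[V, A], A] = 1`, `a ∈ A` commutes with `a v a⁻¹ v⁻¹` for `v ∈ V`. -/
theorem commute_comm_of_quadratic {G : Type*} [Group G] {V A : Subgroup G} (hq : ⁅⁅V, A⁆, A⁆ = ⊥) {a v : G}
    (ha : a ∈ A) (hv : v ∈ V) : a * (a * v * a⁻¹ * v⁻¹) = (a * v * a⁻¹ * v⁻¹) * a := by
  have h1 : a * v * a⁻¹ * v⁻¹ ∈ ⁅V, A⁆ := by
    rw [Subgroup.commutator_comm]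
    have := Subgroup.commutator_mem_commutator ha hv
    rwa [commutatorElement_def] at this
  have h2 := Subgroup.commutator_mem_commutator h1 ha
  rw [hq, Subgroup.mem_bot, commutatorElement_def] at h2
  have h3 := mul_inv_eq_one.1 h2
  exact (mul_inv_eq_iff_eq_mul.1 h3).symm

end general

variable {G : Type u} [Group G] [Finite G] {p : ℕ} [Fact p.Prime] {R : Sylow p G} {T : Subgroup G}
variable {Hh : Type u} [Group Hh] [MulDistribMulAction Hh ↥(om p T)] {f : G →* Hh}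

/-- the commutative group structure on `V₁ = Ω₁(V)` in the minimal configuration (same multiplication). -/
@[reducible] def omCommGroup (h : MinimalHyp p R T) : CommGroup ↥(om p T) :=
  { (inferInstance : Group ↥(om p T)) with
    mul_comm := fun a b => Subtype.ext (nc_comm h a (om_le_nc h a.2) b (om_le_nc h b.2)) }

/-- the `p`-th power of an element of a quadratic `A0` centralizes `V₁`. -/
theorem pow_mem_cc_of_quadratic (h : MinimalHyp p R T) {A0 : Subgroup G} (hq : ⁅⁅nc T, A0⁆, A0⁆ = ⊥) {x : G}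
    (hx : x ∈ A0) : x ^ p ∈ cc T := by
  rw [← centralizer_om h, Subgroup.mem_centralizer_iff]
  intro v hv
  have hvV : v ∈ nc T := om_le_nc h hv
  haveI : (om p T).Normal := om_normal T
  have hcom : x * v * x⁻¹ * v⁻¹ ∈ om p T :=
    mul_mem ((om_normal T).conj_mem v hv x) (inv_mem hv)
  have hcp : (x * v * x⁻¹ * v⁻¹) ^ p = 1 := ((mem_om_iff h _).1 hcom).2
  have h1 := conj_pow_eq_of_commute x v (commute_comm_of_quadratic hq hx hvV) p
  rw [hcp, one_mul] at h1
  exact (mul_inv_eq_iff_eq_mul.1 h1).symm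

/-- the fixed points of `f(B0)` on `V₁` are `V₁ ∩ C_G(B0)`. -/
theorem card_fixed_eq (hD : ActData p T f) (B0 : Subgroup G) :
    Nat.card {u : ↥(om p T) | ∀ b ∈ B0.map f, b • u = u} =
      Nat.card ↥(om p T ⊓ Subgroup.centralizer (B0 : Set G)) := by
  refine Nat.card_congr ⟨fun u => ⟨(u.1 : G), Subgroup.mem_inf.2 ⟨u.1.2, ?_⟩⟩,
    fun w => ⟨⟨(w : G), (Subgroup.mem_inf.1 w.2).1⟩, ?_⟩, ?_, ?_⟩
  · rw [Subgroup.mem_centralizer_iff]
    intro x hx
    have h1 := u.2 (f x) (Subgroup.mem_map_of_mem f hx)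
    have h2 := congrArg (fun z : ↥(om p T) => (z : G)) h1
    simp only [hD.act] at h2
    exact (mul_inv_eq_iff_eq_mul.1 h2)
  · rintro b ⟨x, hx, rfl⟩
    apply Subtype.ext
    rw [hD.act]
    have h1 := (Subgroup.mem_centralizer_iff.1 (Subgroup.mem_inf.1 w.2).2) x hx
    exact mul_inv_eq_iff_eq_mul.2 h1
  · intro u
    rfl
  · intro w
    rfl

/-- [G-L1c], instance-free form: the fixed points are given as a `Set`. -/
theorem quotient_offender_set (h : MinimalHyp p R T) (hD : ActData p T f) {A0 : Subgroup G}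
    (hA0 : A0 ∈ maxAbIn (R : Subgroup G)) (hA0C : ¬ A0 ≤ cc T) (hq : ⁅⁅nc T, A0⁆, A0⁆ = ⊥) :
    A0.map f ≠ ⊥ ∧ (∀ a ∈ A0.map f, ∀ b ∈ A0.map f, a * b = b * a) ∧ (∀ a ∈ A0.map f, a ^ p = 1) ∧
      ∀ B : Subgroup Hh, B ≤ A0.map f →
        Nat.card B * Nat.card {u : ↥(om p T) | ∀ b ∈ B, b • u = u} ≤
          Nat.card (A0.map f) * Nat.card {u : ↥(om p T) | ∀ b ∈ A0.map f, b • u = u} := by
  have hcommA : ∀ a ∈ A0, ∀ b ∈ A0, a * b = b * a := fun a ha b hb =>
    congrArg Subtype.val (hA0.2.1.is_comm.comm ⟨a, ha⟩ ⟨b, hb⟩)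
  refine ⟨?_, ?_, ?_, ?_⟩
  · intro hbot
    apply hA0C
    intro a ha
    have h1 : f a ∈ A0.map f := Subgroup.mem_map_of_mem f ha
    rw [hbot, Subgroup.mem_bot] at h1
    rw [← hD.ker]
    exact MonoidHom.mem_ker.2 h1
  · rintro _ ⟨x, hx, rfl⟩ _ ⟨y, hy, rfl⟩
    rw [← map_mul, ← map_mul, hcommA x hx y hy]
  · rintro _ ⟨x, hx, rfl⟩
    rw [← map_pow]
    have h1 := pow_mem_cc_of_quadratic h hq hx
    rw [← hD.ker] at h1
    exact MonoidHom.mem_ker.1 h1
  · intro B hB
    obtain ⟨B0, hB0def⟩ : ∃ B0 : Subgroup G, B0 = B.comap f ⊓ A0 := ⟨_, rfl⟩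
    have hB0A : B0 ≤ A0 := hB0def ▸ inf_le_right
    have hmap : B0.map f = B := by
      apply le_antisymm
      · rintro _ ⟨x, hx, rfl⟩
        rw [hB0def] at hx
        exact (Subgroup.mem_inf.1 hx).1
      · intro b hb
        obtain ⟨a, ha, rfl⟩ := hB hb
        refine ⟨a, ?_, rfl⟩
        rw [hB0def]
        exact Subgroup.mem_inf.2 ⟨hb, ha⟩
    have hker : B0 ⊓ f.ker = A0 ⊓ f.ker := by
      apply le_antisymm
      · exact inf_le_inf_right _ hB0A
      · intro x hx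
        refine Subgroup.mem_inf.2 ⟨?_, (Subgroup.mem_inf.1 hx).2⟩
        rw [hB0def]
        refine Subgroup.mem_inf.2 ⟨?_, (Subgroup.mem_inf.1 hx).1⟩
        show f x ∈ B
        rw [MonoidHom.mem_ker.1 (Subgroup.mem_inf.1 hx).2]
        exact one_mem B
    have hc1 : Nat.card B0 = Nat.card B * Nat.card ↥(A0 ⊓ f.ker) := by
      rw [card_eq_card_map_mul_card_inf_ker f B0, hmap, hker]
    have hc2 : Nat.card A0 = Nat.card (A0.map f) * Nat.card ↥(A0 ⊓ f.ker) :=
      card_eq_card_map_mul_card_inf_ker f A0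
    have hf1 : Nat.card {u : ↥(om p T) | ∀ b ∈ B, b • u = u} =
        Nat.card ↥(om p T ⊓ Subgroup.centralizer (B0 : Set G)) := by
      rw [← card_fixed_eq hD B0, hmap]
    have hf2 := card_fixed_eq hD A0
    have hoff := offender_ineq hA0 (om p T) ((om_le_nc h).trans (nc_le_sylow h))
      (fun a ha b hb => nc_comm h a (om_le_nc h ha) b (om_le_nc h hb)) B0 hB0A
    rw [hf1, hf2]
    rw [hc1, hc2] at hoff
    have hpos : 0 < Nat.card ↥(A0 ⊓ f.ker) := Nat.card_pos
    have hoff' : Nat.card ↥(A0 ⊓ f.ker) * (Nat.card B * Nat.card ↥(om p T ⊓ Subgroup.centralizer (B0 : Set G))) ≤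
        Nat.card ↥(A0 ⊓ f.ker) *
          (Nat.card (A0.map f) * Nat.card ↥(om p T ⊓ Subgroup.centralizer (A0 : Set G))) := by
      calc _ = Nat.card B * Nat.card ↥(A0 ⊓ f.ker) *
            Nat.card ↥(om p T ⊓ Subgroup.centralizer (B0 : Set G)) := by ring
        _ ≤ _ := hoff
        _ = _ := by ring
    exact Nat.le_of_mul_le_mul_left hoff' hpos

/-- [G-L1c] with `fixOf`, for the commutative group structure `omCommGroup h` on `V₁`. -/
theorem quotient_offender (h : MinimalHyp p R T) (hD : ActData p T f) {A0 : Subgroup G}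
    (hA0 : A0 ∈ maxAbIn (R : Subgroup G)) (hA0C : ¬ A0 ≤ cc T) (hq : ⁅⁅nc T, A0⁆, A0⁆ = ⊥) :
    letI : CommGroup ↥(om p T) := omCommGroup h
    A0.map f ≠ ⊥ ∧ (∀ a ∈ A0.map f, ∀ b ∈ A0.map f, a * b = b * a) ∧ (∀ a ∈ A0.map f, a ^ p = 1) ∧
      ∀ B : Subgroup Hh, B ≤ A0.map f →
        Nat.card B * Nat.card (fixOf (U := ↥(om p T)) B) ≤
          Nat.card (A0.map f) * Nat.card (fixOf (U := ↥(om p T)) (A0.map f)) :=
  quotient_offender_set h hD hA0 hA0C hq

end Cfsg.Agent.Lib.Helper11.GlaubSub
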