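/-
helper11: S5278 module [MIN-TRANS] for helper88: the passage from an arbitrary group `L` with `C_L(O_p(L)) ≤ O_p(L)`,
a Sylow `p`-subgroup `R`, `T ≤ Z(R)` and `N_L(J(R)) ≤ N_L(T)` to a minimal configuration: a subgroup `P ≥ R` of least order
not normalizing `T` satisfies `MinimalHyp`, and a torus element for `T` in `P` is one in `L`.
-/
import Cfsg.Agent.Lib.Helper88.GlaubSubDefs3

set_option autoImplicit false
set_option linter.unusedSectionVars false
set_option linter.style.haveILetI false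

universe u

namespace Cfsg.Agent.Lib.Helper11.GlaubSub

open Cfsg Cfsg.Agent.Lib.Helper47 Cfsg.Agent.Lib.Helper88.GlaubSub Cfsg.Agent.Lib.Helper88.StabWC

/-- `J(R)` computed in a subgroup `P ≥ R` maps onto `J(R)` computed in the ambient group. -/
theorem thompsonSubgroupAOf_subgroupOf_map {L : Type u} [Group L] (R P : Subgroup L) (hRP : R ≤ P) :
    (thompsonSubgroupAOf (R.subgroupOf P)).map P.subtype = thompsonSubgroupAOf R := by
  unfold thompsonSubgroupAOf
  rw [Subgroup.map_map]
  have hcomp : P.subtype.comp (R.subgroupOf P).subtype =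
      R.subtype.comp (Subgroup.subgroupOfEquivOfLe hRP).toMonoidHom := by
    ext x; rfl
  rw [hcomp, ← Subgroup.map_map]
  congr 1
  exact thompsonSubgroupA_map_equiv (Subgroup.subgroupOfEquivOfLe hRP)

/-- transfer of a torus element from a subgroup `P ≥ T` to the ambient group. -/
theorem torusOn_of_subgroupOf {L : Type u} [Group L] {p : ℕ} (T P : Subgroup L) (hTP : T ≤ P) (d : ↥P)
    (hd : TorusOn p (T.subgroupOf P) d) : TorusOn p T (d : L) := by
  obtain ⟨hdN, ⟨t0, ht0, hdt0⟩, ⟨m, hm, hdm⟩, htrans⟩ := hd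
  refine ⟨?_, ?_, ?_, ?_⟩
  · rw [← Subgroup.subgroupOf_normalizer_eq hTP] at hdN
    exact Subgroup.mem_subgroupOf.1 hdN
  · refine ⟨(t0 : L), Subgroup.mem_subgroupOf.1 ht0, ?_⟩
    intro heq
    apply hdt0
    apply Subtype.ext
    simpa using heq
  · refine ⟨m, hm, ?_⟩
    intro t ht
    have h1 := hdm ⟨t, hTP ht⟩ (Subgroup.mem_subgroupOf.2 ht)
    have h2 := congrArg (fun z : ↥P => (z : L)) h1
    simpa using h2
  · have hcl : Subgroup.closure {y : L | ∃ k : ℤ, ∃ t ∈ T, y = (d : L) ^ k * t * ((d : L) ^ k)⁻¹ * t⁻¹} =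
        (Subgroup.closure {y : ↥P | ∃ k : ℤ, ∃ t ∈ T.subgroupOf P, y = d ^ k * t * (d ^ k)⁻¹ * t⁻¹}).map
          P.subtype := by
      rw [MonoidHom.map_closure]
      congr 1
      ext y
      constructor
      · rintro ⟨k, t, ht, rfl⟩
        refine ⟨d ^ k * ⟨t, hTP ht⟩ * (d ^ k)⁻¹ * (⟨t, hTP ht⟩ : ↥P)⁻¹,
          ⟨k, ⟨t, hTP ht⟩, Subgroup.mem_subgroupOf.2 ht, rfl⟩, ?_⟩
        simp
      · rintro ⟨y', ⟨k, t, ht, rfl⟩, rfl⟩
        refine ⟨k, (t : L), Subgroup.mem_subgroupOf.1 ht, ?_⟩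
        simp
    intro a b ha hb ha1 hb1
    rw [hcl] at ha hb
    obtain ⟨a', ha', rfl⟩ := ha
    obtain ⟨b', hb', rfl⟩ := hb
    have ha1' : a' ≠ 1 := by
      rintro rfl
      exact ha1 rfl
    have hb1' : b' ≠ 1 := by
      rintro rfl
      exact hb1 rfl
    obtain ⟨k, hk⟩ := htrans a' b' ha' hb' ha1' hb1'
    refine ⟨k, ?_⟩
    have h2 := congrArg (fun z : ↥P => (z : L)) hk
    simpa using h2

/-- [MIN-TRANS] from the minimal configuration to an arbitrary group with `C_L(O_p(L)) ≤ O_p(L)`. -/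
theorem core_of_minimal {p : ℕ} [Fact p.Prime]
    (hmin : ∀ (G : Type u) [Group G] [Finite G] (R : Sylow p G) (T : Subgroup G), MinimalHyp p R T → ∃ d : G, TorusOn p T d)
    {L : Type u} [Group L] [Finite L] (R : Sylow p L)
    (hc : Subgroup.centralizer ((pCore p L : Subgroup L) : Set L) ≤ pCore p L)
    (T : Subgroup L) (hT : T ≤ (R : Subgroup L) ⊓ Subgroup.centralizer ((R : Subgroup L) : Set L))
    (hN : Subgroup.normalizer (((thompsonSubgroupA ↥(R : Subgroup L)).map (R : Subgroup L).subtype : Subgroup L) : Set L) ≤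
      Subgroup.normalizer (T : Set L)) :
    T.Normal ∨ ∃ d : L, TorusOn p T d := by
  classical
  by_cases hTn : T.Normal
  · exact Or.inl hTn
  right
  have hnn : ¬ (⊤ : Subgroup L) ≤ Subgroup.normalizer (T : Set L) := by
    intro htop
    exact hTn (Subgroup.normalizer_eq_top_iff.1 (top_le_iff.1 htop))
  obtain ⟨P, hPmem, hPmin⟩ := Set.exists_min_image
    {P : Subgroup L | (R : Subgroup L) ≤ P ∧ ¬ P ≤ Subgroup.normalizer (T : Set L)}
    (fun P => Nat.card P) (Set.toFinite _) ⟨⊤, le_top, hnn⟩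
  obtain ⟨hRP, hPN⟩ := hPmem
  have hTP : T ≤ P := fun t ht => hRP (hT ht).1
  have hR' : ((R.subtype hRP : Sylow p ↥P) : Subgroup ↥P) = (R : Subgroup L).subgroupOf P := Sylow.coe_subtype (P := R) hRP
  have hNeq : Subgroup.normalizer ((T.subgroupOf P : Subgroup ↥P) : Set ↥P) =
      (Subgroup.normalizer (T : Set L)).subgroupOf P := (Subgroup.subgroupOf_normalizer_eq hTP).symm
  have hM : MinimalHyp p (R.subtype hRP) (T.subgroupOf P) := by
    refine ⟨?_, ?_, ?_, ?_, ?_⟩
    · -- `C_P(O_p(P)) ≤ O_p(P)`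
      have hOP : pCore p L ≤ P := (Cfsg.Agent.Lib.Helper76.pCore_le_sylow p R).trans hRP
      have hOn : (pCore p L).Normal := Subgroup.sSup_normal _ (fun _ h => h.1)
      have hO' : (pCore p L).subgroupOf P ≤ pCore p ↥P := by
        apply Cfsg.Agent.Lib.Helper76.le_pCore p _ (hOn.subgroupOf P)
        exact (Cfsg.Agent.Lib.Helper76.pCore_isPGroup (G := L) p).comap_subtype
      intro x hx
      apply hO'
      rw [Subgroup.mem_subgroupOf]
      apply hc
      rw [Subgroup.mem_centralizer_iff]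
      intro o ho
      have h1 := (Subgroup.mem_centralizer_iff.1 hx) ⟨o, hOP ho⟩ (hO' (Subgroup.mem_subgroupOf.2 ho))
      exact congrArg (fun z : ↥P => (z : L)) h1
    · -- `T ≤ Z(R)`
      intro t ht
      have ht' : (t : L) ∈ T := Subgroup.mem_subgroupOf.1 ht
      refine Subgroup.mem_inf.2 ⟨?_, ?_⟩
      · rw [hR']
        exact Subgroup.mem_subgroupOf.2 (hT ht').1
      · rw [Subgroup.mem_centralizer_iff]
        intro r hr
        have hr' : (r : L) ∈ (R : Subgroup L) := by
          have : r ∈ (R : Subgroup L).subgroupOf P := hR' ▸ hr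
          exact Subgroup.mem_subgroupOf.1 this
        apply Subtype.ext
        exact (Subgroup.mem_centralizer_iff.1 (hT ht').2) (r : L) hr'
    · -- `N_P(J(R)) ≤ N_P(T)`
      intro x hx
      rw [hNeq, Subgroup.mem_subgroupOf]
      apply hN
      have h1 : (x : L) ∈ (Subgroup.normalizer ((thompsonSubgroupAOf ((R.subtype hRP : Sylow p ↥P) : Subgroup ↥P) :
          Subgroup ↥P) : Set ↥P)).map P.subtype := ⟨x, hx, rfl⟩
      have h2 := Subgroup.le_normalizer_map P.subtype h1
      rw [hR', thompsonSubgroupAOf_subgroupOf_map (R : Subgroup L) P hRP] at h2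
      exact h2
    · -- `N_P(T) ≠ P`
      intro htop
      rw [hNeq, Subgroup.subgroupOf_eq_top] at htop
      exact hPN htop
    · -- maximality
      intro Y hRY hYtop
      have hle : Y.map P.subtype ≤ Subgroup.normalizer (T : Set L) := by
        by_contra hcon
        have hRY' : (R : Subgroup L) ≤ Y.map P.subtype := by
          intro r hr
          refine ⟨⟨r, hRP hr⟩, hRY ?_, rfl⟩
          rw [hR']
          exact Subgroup.mem_subgroupOf.2 hr
        have h1 : Nat.card P ≤ Nat.card (Y.map P.subtype) := hPmin _ ⟨hRY', hcon⟩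
        rw [Subgroup.card_map_of_injective P.subtype_injective] at h1
        exact hYtop (Subgroup.eq_top_of_le_card Y h1)
      intro y hy
      rw [hNeq, Subgroup.mem_subgroupOf]
      exact hle ⟨y, hy, rfl⟩
  obtain ⟨d, hd⟩ := hmin ↥P (R.subtype hRP) (T.subgroupOf P) hM
  exact ⟨(d : L), torusOn_of_subgroupOf T P hTP d hd⟩

end Cfsg.Agent.Lib.Helper11.GlaubSub
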