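import Mathlib
import Cfsg.Prelude.Def_FusionSystem
import Cfsg.Agent.Lib.Helper85.FusionRealized
import Cfsg.Agent.Lib.Helper85.FusionGroup
import Cfsg.Agent.Lib.Helper87.FusionNormalizer
import Cfsg.Agent.Lib.Helper88.FusionModelBasic
import Cfsg.Agent.Lib.Helper33.CentricNormal
import Cfsg.Agent.Lib.Helper76.PCore

/-!
# Models of the normalizer systems of a group fusion system (helper11)

For a finite group `G` with Sylow `p`-subgroup `P` and `Q ≤ P` fully normalized and centric in `F = F_P(G)`, every normalizer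
system `N` of `Q` in `F` is realized by `N_G(Q)` on `N_P(Q)`, and `N_G(Q) / O_{p'}(N_G(Q))` is a model of `N`.
-/

set_option autoImplicit false

namespace Cfsg.Agent.Lib.Helper11

open Cfsg Cfsg.FusionSystem

universe u

variable {G : Type u} [Group G]

/-- the inclusion `N_P(Q) → N_G(Q)` -/
abbrev nsIncl (P Q : Subgroup G) :
    ↥(normalizerIn P Q) →* ↥(Subgroup.normalizer (Q : Set G)) :=
  Subgroup.inclusion (inf_le_right : normalizerIn P Q ≤ Subgroup.normalizer (Q : Set G))

theorem nsIncl_range (P Q : Subgroup G) :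
    (nsIncl P Q).range = (normalizerIn P Q).subgroupOf (Subgroup.normalizer (Q : Set G)) :=
  Subgroup.inclusion_range _

/-- Every normalizer system of `Q` in `F_P(G)` is realized by `N_G(Q)`. -/
theorem normalizerSystem_isRealizedBy (P Q : Subgroup G) (hQP : Q ≤ P)
    (N : FusionSystem (normalizerIn P Q))
    (hN : (groupFusionSystem P).IsNormalizerSystem Q N) :
    N.IsRealizedBy (nsIncl P Q) := by
  refine ⟨Subgroup.inclusion_injective _, ?_⟩
  intro P' hP' φ hφ
  rw [hN P']
  constructor
  · rintro ⟨-, -, -, ψ, hψF, hext, hmap⟩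
    obtain ⟨-, -, h, hh⟩ := hψF
    rw [Cfsg.Agent.Lib.Helper87.map_subgroupOf_eq_iff] at hmap
    obtain ⟨hm1, hm2⟩ := hmap
    have hhN : h ∈ Subgroup.normalizer (Q : Set G) := by
      rw [Subgroup.mem_normalizer_iff]
      intro x
      constructor
      · intro hx
        have hxs : x ∈ P' ⊔ Q := (le_sup_right : Q ≤ P' ⊔ Q) hx
        have := hm1 ⟨x, hxs⟩ hx
        rwa [hh] at this
      · intro hx
        obtain ⟨y, hyQ, hy⟩ := hm2 _ hx
        rw [hh] at hy
        have : (y : G) = x := by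
          have h1 := mul_left_cancel (mul_right_cancel hy)
          exact h1
        rw [← this]
        exact hyQ
    refine ⟨⟨h, hhN⟩, fun x => Subtype.ext ?_⟩
    show φ x = h * (x : G) * h⁻¹
    rw [← hext x, hh]
    rfl
  · rintro ⟨g, hg⟩
    have hgx : ∀ x : P', φ x = (g : G) * (x : G) * (g : G)⁻¹ := by
      intro x
      have := congrArg Subtype.val (hg x)
      exact this
    have hTP : normalizerIn P Q ≤ P := inf_le_left
    have hgN : ∀ x, x ∈ Q ↔ (g : G) * x * (g : G)⁻¹ ∈ Q := fun x =>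
      (Subgroup.mem_normalizer_iff.mp g.2) x
    refine ⟨⟨hP'.trans hTP, fun x => hTP (hφ x), g, hgx⟩, hP', hφ, conjHom (P' ⊔ Q) g, ?_, ?_, ?_⟩
    · refine ⟨sup_le (hP'.trans hTP) hQP, ?_, g, fun _ => rfl⟩
      apply Cfsg.Agent.Lib.Helper87.map_sup_mem
      · intro x
        show (g : G) * (x : G) * (g : G)⁻¹ ∈ P
        rw [← hgx x]
        exact hTP (hφ x)
      · intro x
        show (g : G) * (x : G) * (g : G)⁻¹ ∈ P
        exact hQP ((hgN x).mp x.2)
    · intro x
      show (g : G) * (x : G) * (g : G)⁻¹ = φ x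
      exact (hgx x).symm
    · rw [Cfsg.Agent.Lib.Helper87.map_subgroupOf_eq_iff]
      constructor
      · intro x hx
        exact (hgN x).mp hx
      · intro q hq
        have hq' : (g : G)⁻¹ * q * (g : G) ∈ Q := by
          rw [hgN]
          have : (g : G) * ((g : G)⁻¹ * q * (g : G)) * (g : G)⁻¹ = q := by group
          rw [this]
          exact hq
        refine ⟨⟨(g : G)⁻¹ * q * (g : G), (le_sup_right : Q ≤ P' ⊔ Q) hq'⟩, hq', ?_⟩
        show (g : G) * ((g : G)⁻¹ * q * (g : G)) * (g : G)⁻¹ = q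
        group

variable [Finite G] {p : ℕ} [Fact p.Prime]

/-- For `Q` fully normalized in `F_P(G)`, `N_P(Q)` is a Sylow `p`-subgroup of `N_G(Q)`. -/
theorem exists_sylow_normalizer_of_fullyNormalized (P : Sylow p G) (Q : Subgroup G)
    (hfn : (groupFusionSystem (P : Subgroup G)).IsFullyNormalized Q) :
    ∃ R : Sylow p ↥(Subgroup.normalizer (Q : Set G)),
      (R : Subgroup ↥(Subgroup.normalizer (Q : Set G))) = (nsIncl (P : Subgroup G) Q).range := by
  obtain ⟨R, hR⟩ := (Cfsg.Agent.Lib.Helper85.groupFusionSystem_isFullyNormalized_iff P hfn.1).mp hfn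
  refine ⟨R, ?_⟩
  rw [hR, nsIncl_range]

/-- **The model of a normalizer system of a group fusion system.** -/
theorem normalizerSystem_isModel (P : Sylow p G) (Q : Subgroup G)
    (hfn : (groupFusionSystem (P : Subgroup G)).IsFullyNormalized Q)
    (hcen : (groupFusionSystem (P : Subgroup G)).IsCentric Q)
    (N : FusionSystem (normalizerIn (P : Subgroup G) Q))
    (hN : (groupFusionSystem (P : Subgroup G)).IsNormalizerSystem Q N) :
    N.IsModel p (↥(Subgroup.normalizer (Q : Set G)) ⧸ pPrimeCore p ↥(Subgroup.normalizer (Q : Set G)))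
      ((QuotientGroup.mk' (pPrimeCore p ↥(Subgroup.normalizer (Q : Set G)))).comp
        (nsIncl (P : Subgroup G) Q)) := by
  have hQP : Q ≤ (P : Subgroup G) := hfn.1
  have hS : IsPGroup p ↥(normalizerIn (P : Subgroup G) Q) := P.isPGroup'.to_le inf_le_left
  have hR := normalizerSystem_isRealizedBy (P : Subgroup G) Q hQP N hN
  obtain ⟨R, hRr⟩ := exists_sylow_normalizer_of_fullyNormalized P Q hfn
  refine ⟨inferInstance, Cfsg.Agent.Lib.Helper88.Model.realizedBy_mk N hS hR R hRr,
    Cfsg.Agent.Lib.Helper88.Model.exists_sylow_mk R hRr, ?_⟩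
  -- the centralizer condition
  have hQn : (Q.subgroupOf (Subgroup.normalizer (Q : Set G))).Normal :=
    Subgroup.normal_in_normalizer
  have hUS : Q.subgroupOf (Subgroup.normalizer (Q : Set G)) ≤
      (R : Subgroup ↥(Subgroup.normalizer (Q : Set G))) := by
    rw [hRr, nsIncl_range]
    intro x hx
    rw [Subgroup.mem_subgroupOf] at hx ⊢
    exact ⟨hQP hx, x.2⟩
  have hcent : (R : Subgroup ↥(Subgroup.normalizer (Q : Set G))) ⊓
      Subgroup.centralizer ((Q.subgroupOf (Subgroup.normalizer (Q : Set G)) :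
        Subgroup ↥(Subgroup.normalizer (Q : Set G))) : Set ↥(Subgroup.normalizer (Q : Set G))) ≤
      Q.subgroupOf (Subgroup.normalizer (Q : Set G)) := by
    rw [hRr, nsIncl_range]
    intro x hx
    obtain ⟨hx1, hx2⟩ := Subgroup.mem_inf.mp hx
    rw [Subgroup.mem_subgroupOf] at hx1 ⊢
    have hxc : (x : G) ∈ centralizerIn (P : Subgroup G) Q := by
      refine Subgroup.mem_inf.mpr ⟨hx1.1, ?_⟩
      rw [Subgroup.mem_centralizer_iff]
      intro q hq
      have hqN : q ∈ Subgroup.normalizer (Q : Set G) := Subgroup.le_normalizer hq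
      have := (Subgroup.mem_centralizer_iff.mp hx2) ⟨q, hqN⟩ (Subgroup.mem_subgroupOf.mpr hq)
      exact congrArg Subtype.val this
    exact hcen.2 Q (Cfsg.Agent.Lib.Helper85.groupFusionSystem_isConj_iff.mpr
      ⟨hQP, hQP, 1, by rw [map_one]; exact Subgroup.map_id Q⟩) hxc
  exact Cfsg.Agent.Lib.Helper33.constrained_quotient_of_normal_centric R
    (Q.subgroupOf (Subgroup.normalizer (Q : Set G))) hUS hcent
    (pPrimeCore p ↥(Subgroup.normalizer (Q : Set G)))
    (Cfsg.Agent.Lib.Helper76.pPrimeCore_coprime p)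
    (fun K hK hKc => Cfsg.Agent.Lib.Helper76.le_pPrimeCore p K hK hKc)

end Cfsg.Agent.Lib.Helper11
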