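import Mathlib
import Cfsg.Agent.Lib.Helper5.HeckeDefB
import Cfsg.Agent.Lib.Helper3.IrrBasis

/-!
# S2319-[ONE] : the generic Hecke multiplication at `c = 1` is the group algebra of `W`
(module for helper5's S2319 project)
-/

set_option autoImplicit false
set_option linter.unusedSectionVars false

namespace Cfsg.Agent.Lib.Helper11.HeckeOne

open Cfsg.Agent.Lib.Helper5.HeckeDef

variable {W : Type*} [Group W] (D : LenData W)

lemma Ls_one_apply (s : W) (g : W → ℂ) (v : W) : Ls D (1 : ℂ) s g v = g (s * v) := by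
  rw [Ls_apply]
  split_ifs <;> ring

lemma Lw_one_apply (l : List W) (g : W → ℂ) (v : W) :
    Lw D (1 : ℂ) l g v = g (l.reverse.prod * v) := by
  induction l generalizing v with
  | nil => simp
  | cons s l ih =>
    rw [Lw_cons, LinearMap.comp_apply, Ls_one_apply, ih, List.reverse_cons, List.prod_append,
      List.prod_singleton, mul_assoc]

lemma reverse_prod_of_invol (l : List W) (h : ∀ s ∈ l, s * s = 1) : l.reverse.prod = l.prod⁻¹ := by
  induction l with
  | nil => simp
  | cons s l ih =>
    have hs : s⁻¹ = s := by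
      rw [inv_eq_iff_mul_eq_one]
      exact h s List.mem_cons_self
    rw [List.reverse_cons, List.prod_append, List.prod_singleton, List.prod_cons, mul_inv_rev,
      ih (fun t ht => h t (List.mem_cons_of_mem _ ht)), hs]

lemma Mw_one_apply (x : W) (g : W → ℂ) (v : W) : Mw D (1 : ℂ) x g v = g (x⁻¹ * v) := by
  unfold Mw
  rw [Lw_one_apply, reverse_prod_of_invol _ (fun s hs => D.gen_sq s (D.word_gen x s hs)),
    D.word_prod]

variable [Fintype W] [DecidableEq W]

theorem hmul_one_apply (f g : W → ℂ) (v : W) :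
    hmul D (1 : ℂ) f g v = ∑ x : W, f x * g (x⁻¹ * v) := by
  rw [hmul_apply]
  exact Finset.sum_congr rfl fun x _ => by rw [Mw_one_apply]

lemma hmul_one_single_single (x y : W) :
    hmul D (1 : ℂ) (Pi.single x 1) (Pi.single y 1) = Pi.single (x * y) 1 := by
  funext v
  rw [hmul_one_apply, Finset.sum_eq_single x]
  · rw [Pi.single_eq_same, one_mul]
    by_cases h : v = x * y
    · rw [h, ← mul_assoc, inv_mul_cancel, one_mul, Pi.single_eq_same, Pi.single_eq_same]
    · have h' : x⁻¹ * v ≠ y := fun e => h (by rw [← e, ← mul_assoc, mul_inv_cancel, one_mul])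
      rw [Pi.single_eq_of_ne h', Pi.single_eq_of_ne h]
  · intro w _ hw
    rw [Pi.single_eq_of_ne hw, zero_mul]
  · intro h
    exact absurd (Finset.mem_univ _) h

lemma hmul_one_single_right (z : W → ℂ) (y v : W) :
    hmul D (1 : ℂ) z (Pi.single y 1) v = z (v * y⁻¹) := by
  rw [hmul_one_apply, Finset.sum_eq_single (v * y⁻¹)]
  · have : (v * y⁻¹)⁻¹ * v = y := by group
    rw [this, Pi.single_eq_same, mul_one]
  · intro w _ hw
    have h' : w⁻¹ * v ≠ y := fun e => hw (by rw [← e]; group)
    rw [Pi.single_eq_of_ne h', mul_zero]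
  · intro h
    exact absurd (Finset.mem_univ _) h

lemma hmul_one_single_left (z : W → ℂ) (y v : W) :
    hmul D (1 : ℂ) (Pi.single y 1) z v = z (y⁻¹ * v) := by
  rw [hmul_one_apply, Finset.sum_eq_single y]
  · rw [Pi.single_eq_same, one_mul]
  · intro w _ hw
    rw [Pi.single_eq_of_ne hw, zero_mul]
  · intro h
    exact absurd (Finset.mem_univ _) h

theorem genuine_one : Genuine D (1 : ℂ) := by
  refine ⟨one_ne_zero, ?_, ?_⟩
  · intro f g h
    funext v
    rw [hmul_one_apply, hmul_one_apply]
    simp_rw [hmul_one_apply, Finset.sum_mul, Finset.mul_sum]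
    rw [Finset.sum_comm]
    refine Finset.sum_congr rfl fun y _ => ?_
    rw [← Equiv.sum_comp (Equiv.mulLeft y)]
    refine Finset.sum_congr rfl fun z _ => ?_
    rw [Equiv.coe_mulLeft, ← mul_assoc y⁻¹, inv_mul_cancel, one_mul, mul_inv_rev, mul_assoc,
      mul_assoc]
  · intro x y
    rw [hmul_one_single_single, one_pow]
    by_cases h : y = x⁻¹
    · rw [if_pos h, h, mul_inv_cancel, Pi.single_eq_same]
    · rw [if_neg h]
      have h' : (1 : W) ≠ x * y := fun e => h (by
        rw [eq_comm, inv_eq_iff_mul_eq_one]; exact e.symm)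
      rw [Pi.single_eq_of_ne h']

lemma z0_one : z0 D (1 : ℂ) = (Fintype.card W : ℂ) • (Pi.single 1 1 : W → ℂ) := by
  unfold z0
  rw [cas_apply]
  have : ∀ w : W, (1 : ℂ) ^ (Lmax D - D.len w) •
      hmul D (1 : ℂ) (hmul D (1 : ℂ) (Pi.single w 1) (Pi.single 1 1)) (Pi.single w⁻¹ 1) =
      (Pi.single 1 1 : W → ℂ) := by
    intro w
    rw [one_pow, one_smul, hmul_one_right, hmul_one_single_single, mul_inv_cancel]
  rw [Finset.sum_congr rfl (fun w _ => this w), Finset.sum_const, Finset.card_univ,
    Nat.cast_smul_eq_nsmul]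

theorem zInj_one : ZInj D (1 : ℂ) := by
  intro f g hfg
  simp only [z0_one, hmul_smul_left, hmul_one_left] at hfg
  have hne : (Fintype.card W : ℂ) ≠ 0 := by
    rw [Nat.cast_ne_zero]
    exact Fintype.card_ne_zero
  exact smul_right_injective _ hne hfg

lemma center_one_eq : center D (1 : ℂ) = Cfsg.Agent.Lib.Helper3.classFunctions W := by
  ext z
  rw [mem_center_iff, Cfsg.Agent.Lib.Helper3.mem_classFunctions]
  constructor
  · intro h g k
    -- z (k g k⁻¹) = z g
    have h1 := congrFun (h k) (k * g)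
    rw [hmul_one_single_right, hmul_one_single_left] at h1
    rw [h1, ← mul_assoc, inv_mul_cancel, one_mul]
  · intro h y
    funext v
    rw [hmul_one_single_right, hmul_one_single_left]
    have := h (v * y⁻¹) y⁻¹
    rw [inv_inv] at this
    rw [← this]
    congr 1
    group

theorem finrank_center_one :
    Module.finrank ℂ ↥(center D (1 : ℂ)) = Nat.card (ConjClasses W) := by
  rw [center_one_eq]
  exact Cfsg.Agent.Lib.Helper3.finrank_classFunctions

end Cfsg.Agent.Lib.Helper11.HeckeOne
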