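import Mathlib
import Cfsg.Agent.Lib.Helper41.N22.Defs
import Cfsg.Agent.Lib.Helper73.N22FixMod

/-!
# S4346, module [B-NC11] (helper41 #4025): no element of order 3 or 7 normalizes a subgroup of order 11
-/

set_option autoImplicit false
set_option linter.unusedVariables false

namespace Cfsg.Agent.Lib.Helper11.N22
open Cfsg.Agent.Lib.Helper41.N22

section B
variable {Ω : Type*} [Finite Ω] {H : Subgroup (Equiv.Perm Ω)} {α : Ω} {x : Equiv.Perm Ω}

/-- the arithmetic core: `w` of order `q ∈ {3, 7}` normalizing `⟨g⟩`, `g` of order 11, centralizes `g`. -/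
theorem commute_of_normalize_eleven {G : Type*} [Group G] (g w : G) (hog : orderOf g = 11)
    (how : orderOf w = 3 ∨ orderOf w = 7) (hn : w * g * w⁻¹ ∈ Subgroup.zpowers g) :
    w * g = g * w := by
  obtain ⟨k, hk⟩ := Subgroup.mem_zpowers_iff.mp hn
  have hpow : ∀ j : ℕ, w ^ j * g * (w ^ j)⁻¹ = g ^ (k ^ j) := by
    intro j
    induction j with
    | zero => simp
    | succ j ih =>
      have h1 : w ^ (j + 1) * g * (w ^ (j + 1))⁻¹ = w * (w ^ j * g * (w ^ j)⁻¹) * w⁻¹ := by
        rw [pow_succ']; group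
      rw [h1, ih, ← conj_zpow, ← hk, ← zpow_mul, pow_succ']
  have hq := hpow (orderOf w)
  rw [pow_orderOf_eq_one, one_mul, inv_one, mul_one] at hq
  have h1 : g ^ (k ^ orderOf w - 1) = 1 := by
    rw [zpow_sub, zpow_one, ← hq, mul_inv_cancel]
  have h2 : ((orderOf g : ℕ) : ℤ) ∣ k ^ orderOf w - 1 := orderOf_dvd_iff_zpow_eq_one.mpr h1
  rw [hog] at h2
  have h3 : ((k ^ orderOf w - 1 : ℤ) : ZMod 11) = 0 :=
    (ZMod.intCast_zmod_eq_zero_iff_dvd _ 11).mpr (by exact_mod_cast h2)
  have h4 : (k : ZMod 11) ^ orderOf w = 1 := by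
    push_cast at h3
    exact sub_eq_zero.mp h3
  have key3 : ∀ c : ZMod 11, c ^ 3 = 1 → c = 1 := by decide
  have key7 : ∀ c : ZMod 11, c ^ 7 = 1 → c = 1 := by decide
  have h5 : (k : ZMod 11) = 1 := by
    rcases how with h | h
    · rw [h] at h4; exact key3 _ h4
    · rw [h] at h4; exact key7 _ h4
  have h6 : ((k - 1 : ℤ) : ZMod 11) = 0 := by
    push_cast; rw [h5, sub_self]
  have h7 : ((11 : ℕ) : ℤ) ∣ k - 1 := (ZMod.intCast_zmod_eq_zero_iff_dvd _ 11).mp h6
  rw [← hog] at h7
  have h8 : g ^ (k - 1) = 1 := orderOf_dvd_iff_zpow_eq_one.mp h7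
  have h9 : g ^ k = g := by
    rw [zpow_sub, zpow_one] at h8
    exact mul_inv_eq_one.mp h8
  rw [h9] at hk
  calc w * g = (w * g * w⁻¹) * w := by group
    _ = g * w := by rw [← hk]

/-- [B-NC11] -/
theorem not_normalize_eleven (hD : PermData H α x)
    (hone : ∀ w ∈ H, orderOf w = 3 ∨ orderOf w = 7 → ∃ γ : Ω, ∀ ω, w ω = ω ↔ ω = γ)
    (g w : Equiv.Perm Ω) (hg : g ∈ H) (hw : w ∈ H)
    (hog : orderOf g = 11) (how : orderOf w = 3 ∨ orderOf w = 7)
    (hn : w * g * w⁻¹ ∈ Subgroup.zpowers g) : False := by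
  classical
  have : Fintype Ω := Fintype.ofFinite Ω
  have hcard : Fintype.card Ω = 22 := by rw [← Nat.card_eq_fintype_card]; exact hD.card
  have hcomm : w * g = g * w := commute_of_normalize_eleven g w hog how hn
  obtain ⟨β, hβ⟩ := hone w hw how
  have hgβ : g β = β := by
    apply (hβ (g β)).mp
    have := congrArg (fun f : Equiv.Perm Ω => f β) hcomm
    simp only [Equiv.Perm.mul_apply] at this
    rw [this, (hβ β).mpr rfl]
  -- the fixed points of `g`
  set F : Finset Ω := Finset.univ.filter (fun ω => g ω = ω) with hF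
  have : Fact (Nat.Prime 11) := ⟨by norm_num⟩
  have hg11 : g ^ 11 = 1 := by rw [← hog]; exact pow_orderOf_eq_one g
  have hmod : F.card ≡ 22 [MOD 11] := by
    have := Cfsg.Agent.Lib.Helper73.N22.card_fixed_modEq g 11 hg11 Finset.univ
      (fun ω _ => Finset.mem_univ _)
    rwa [Finset.card_univ, hcard] at this
  have hβF : β ∈ F := Finset.mem_filter.mpr ⟨Finset.mem_univ _, hgβ⟩
  have hFpos : 1 ≤ F.card := Finset.card_pos.mpr ⟨β, hβF⟩
  have hFle : F.card ≤ 22 := by rw [← hcard]; exact Finset.card_le_univ _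
  have hFne : F.card ≠ 22 := by
    intro h
    have hFuniv : F = Finset.univ := by
      apply Finset.eq_univ_of_card; rw [h, hcard]
    have hg1 : g = 1 := by
      ext ω
      have : ω ∈ F := by rw [hFuniv]; exact Finset.mem_univ _
      exact (Finset.mem_filter.mp this).2
    rw [hg1, orderOf_one] at hog
    omega
  have hF11 : F.card = 11 := by
    have := hmod
    unfold Nat.ModEq at this
    omega
  -- `w` acts on `F`
  have hinv : ∀ ω ∈ F, w ω ∈ F := by
    intro ω hω
    rw [hF, Finset.mem_filter] at hω ⊢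
    refine ⟨Finset.mem_univ _, ?_⟩
    have := congrArg (fun f : Equiv.Perm Ω => f ω) hcomm
    simp only [Equiv.Perm.mul_apply] at this
    rw [← this, hω.2]
  have hfilt : (F.filter (fun ω => w ω = ω)) = {β} := by
    ext ω
    rw [Finset.mem_filter, Finset.mem_singleton]
    constructor
    · rintro ⟨-, h⟩; exact (hβ ω).mp h
    · rintro rfl; exact ⟨hβF, (hβ ω).mpr rfl⟩
  rcases how with h | h
  · have : Fact (Nat.Prime 3) := ⟨Nat.prime_three⟩
    have hw3 : w ^ 3 = 1 := by rw [← h]; exact pow_orderOf_eq_one w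
    have hm := Cfsg.Agent.Lib.Helper73.N22.card_fixed_modEq w 3 hw3 F hinv
    rw [hfilt, Finset.card_singleton, hF11] at hm
    exact absurd hm (by decide)
  · have : Fact (Nat.Prime 7) := ⟨by norm_num⟩
    have hw7 : w ^ 7 = 1 := by rw [← h]; exact pow_orderOf_eq_one w
    have hm := Cfsg.Agent.Lib.Helper73.N22.card_fixed_modEq w 7 hw7 F hinv
    rw [hfilt, Finset.card_singleton, hF11] at hm
    exact absurd hm (by decide)

end B

end Cfsg.Agent.Lib.Helper11.N22
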