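import Mathlib
import Cfsg.Agent.Lib.Helper41.N22.Defs

/-!
# S4346, module [C42-CYC] (helper41 #4025)
-/

set_option autoImplicit false

namespace Cfsg.Agent.Lib.Helper11.N22
open Cfsg.Agent.Lib.Helper41.N22

/-- [C42-CYC] -/
theorem cycleType_eq {Ω : Type*} [Fintype Ω] [DecidableEq Ω] (hΩ : Fintype.card Ω = 22)
    (x : Equiv.Perm Ω) (α : Ω) (hx : x ^ 3 = 1) (hfix : ∀ ω, x ω = ω ↔ ω = α) :
    x.cycleType = Multiset.replicate 7 3 ∧ x.cycleFactorsFinset.card = 7 := by
  have hsupp : x.support = Finset.univ.erase α := by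
    ext ω
    rw [Equiv.Perm.mem_support, Finset.mem_erase]
    constructor
    · intro h; exact ⟨fun e => h ((hfix ω).mpr e), Finset.mem_univ _⟩
    · intro h e; exact h.1 ((hfix ω).mp e)
  have hcard : x.support.card = 21 := by
    rw [hsupp, Finset.card_erase_of_mem (Finset.mem_univ _), Finset.card_univ, hΩ]
  have hne : x ≠ 1 := by
    intro h
    rw [h, Equiv.Perm.support_one, Finset.card_empty] at hcard
    omega
  have ho : orderOf x = 3 := orderOf_eq_prime hx hne
  obtain ⟨n, hn⟩ := Equiv.Perm.cycleType_prime_order (σ := x) (by rw [ho]; exact Nat.prime_three)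
  rw [ho] at hn
  have hsum := Equiv.Perm.sum_cycleType x
  rw [hn, Multiset.sum_replicate, hcard, smul_eq_mul] at hsum
  have hn6 : n = 6 := by omega
  have h1 : x.cycleType = Multiset.replicate 7 3 := by rw [hn, hn6]
  refine ⟨h1, ?_⟩
  have h2 : Multiset.card x.cycleType = x.cycleFactorsFinset.card := by
    rw [Equiv.Perm.cycleType_def, Multiset.card_map]
    rfl
  rw [← h2, h1, Multiset.card_replicate]

end Cfsg.Agent.Lib.Helper11.N22
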