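import Mathlib
import Cfsg.Agent.Lib.Helper41.N22.Defs

/-!
# S4346, module [C42-KER] (helper41 #4025): the kernel of the action of `C(x)` on the cycles of `x` is a 3-group
-/

set_option autoImplicit false

namespace Cfsg.Agent.Lib.Helper11.N22
open Cfsg.Agent.Lib.Helper41.N22

/-- [C42-KER] -/
theorem isPGroup_ker_toPermHom {Ω : Type*} [Fintype Ω] [DecidableEq Ω]
    (x : Equiv.Perm Ω) (α : Ω) (hx : x ^ 3 = 1) (hfix : ∀ ω, x ω = ω ↔ ω = α) :
    IsPGroup 3 (Equiv.Perm.OnCycleFactors.toPermHom x).ker := by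
  classical
  have : Fact (Nat.Prime 3) := ⟨Nat.prime_three⟩
  have hsupp : x.support = Finset.univ.erase α := by
    ext ω
    rw [Equiv.Perm.mem_support, Finset.mem_erase]
    constructor
    · intro h; exact ⟨fun e => h ((hfix ω).mpr e), Finset.mem_univ _⟩
    · intro h e; exact h.1 ((hfix ω).mp e)
  have hsum : x.cycleType.sum = Fintype.card Ω - 1 := by
    rw [Equiv.Perm.sum_cycleType, hsupp, Finset.card_erase_of_mem (Finset.mem_univ _),
      Finset.card_univ]
  have hpos : 0 < Fintype.card Ω := Fintype.card_pos_iff.mpr ⟨α⟩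
  have hone : Fintype.card Ω - x.cycleType.sum = 1 := by rw [hsum]; omega
  have hall : ∀ n ∈ x.cycleType, n = 3 := by
    intro n hn
    have h1 : n ∣ orderOf x := Equiv.Perm.dvd_of_mem_cycleType hn
    have h2 : orderOf x ∣ 3 := orderOf_dvd_of_pow_eq_one hx
    have h3 : 2 ≤ n := Equiv.Perm.two_le_of_mem_cycleType hn
    have h4 : n ∣ 3 := h1.trans h2
    rcases (Nat.dvd_prime Nat.prime_three).mp h4 with h | h
    · omega
    · exact h
  have hrep : x.cycleType = Multiset.replicate (Multiset.card x.cycleType) 3 :=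
    Multiset.eq_replicate.mpr ⟨rfl, hall⟩
  have hprod : x.cycleType.prod = 3 ^ (Multiset.card x.cycleType) := by
    conv_lhs => rw [hrep]
    rw [Multiset.prod_replicate]
  have hcard := Equiv.Perm.OnCycleFactors.kerParam_range_card x
  rw [hone, hprod, Nat.factorial_one, one_mul, ← Nat.card_eq_fintype_card,
    Equiv.Perm.OnCycleFactors.kerParam_range_eq] at hcard
  have hker : Nat.card (Equiv.Perm.OnCycleFactors.toPermHom x).ker =
      3 ^ (Multiset.card x.cycleType) := by
    rw [← hcard]
    exact Nat.card_congr (((Equiv.Perm.OnCycleFactors.toPermHom x).ker.equivMapOfInjective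
      (Subgroup.subtype _) (Subgroup.subtype_injective _)).toEquiv)
  exact IsPGroup.of_card hker

end Cfsg.Agent.Lib.Helper11.N22
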