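import Mathlib
import Cfsg.Agent.Lib.Helper41.N22.Defs

/-!
# S4346, module [LINES] (helper41 #4025): a linear space on 22 points with constant line size `f ≥ 3` has `f = 22`
-/

set_option autoImplicit false

namespace Cfsg.Agent.Lib.Helper11.N22
open Cfsg.Agent.Lib.Helper41.N22

/-- [LINES] -/
theorem lines_22 {Ω : Type*} [Fintype Ω] [DecidableEq Ω] (hΩ : Fintype.card Ω = 22)
    (B : Ω → Ω → Finset Ω) (f : ℕ)
    (hmem : ∀ a b, a ≠ b → a ∈ B a b ∧ b ∈ B a b)
    (heq : ∀ a b c d, a ≠ b → c ∈ B a b → d ∈ B a b → c ≠ d → B c d = B a b)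
    (hcard : ∀ a b, a ≠ b → (B a b).card = f) (hf : 3 ≤ f) : f = 22 := by
  classical
  obtain ⟨a, b₀, hab₀⟩ : ∃ a b : Ω, a ≠ b :=
    Fintype.exists_pair_of_one_lt_card (by rw [hΩ]; norm_num)
  have hf22 : f ≤ 22 := by
    rw [← hcard a b₀ hab₀, ← hΩ]
    exact Finset.card_le_univ _
  -- local count at `a`
  have hlocal : (f - 1) ∣ 21 := by
    set s : Finset Ω := Finset.univ.erase a with hs
    have hscard : s.card = 21 := by
      rw [hs, Finset.card_erase_of_mem (Finset.mem_univ _), Finset.card_univ, hΩ]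
    set t : Finset (Finset Ω) := s.image (B a) with ht
    have hfib : ∀ L ∈ t, (s.filter fun b => B a b = L).card = f - 1 := by
      intro L hL
      obtain ⟨b₁, hb₁, rfl⟩ := Finset.mem_image.mp hL
      have hab₁ : a ≠ b₁ := (Finset.ne_of_mem_erase hb₁).symm
      have : (s.filter fun b => B a b = B a b₁) = (B a b₁).erase a := by
        ext b
        rw [Finset.mem_filter, Finset.mem_erase, Finset.mem_erase]
        constructor
        · rintro ⟨⟨hba, -⟩, hb⟩
          refine ⟨hba, ?_⟩
          rw [← hb]; exact (hmem a b (Ne.symm hba)).2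
        · rintro ⟨hba, hb⟩
          exact ⟨⟨hba, Finset.mem_univ _⟩,
            heq a b₁ a b hab₁ (hmem a b₁ hab₁).1 hb (Ne.symm hba)⟩
      rw [this, Finset.card_erase_of_mem (hmem a b₁ hab₁).1, hcard a b₁ hab₁]
    have h1 := Finset.card_eq_sum_card_fiberwise (s := s) (t := t) (f := B a)
      (fun b hb => Finset.mem_image_of_mem _ hb)
    rw [Finset.sum_congr rfl hfib, Finset.sum_const, smul_eq_mul, hscard] at h1
    exact ⟨t.card, by rw [h1, mul_comm]⟩
  -- global count
  have hglobal : (f * f - f) ∣ 462 := by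
    set s : Finset (Ω × Ω) := (Finset.univ : Finset Ω).offDiag with hs
    have hscard : s.card = 462 := by
      rw [hs, Finset.offDiag_card, Finset.card_univ, hΩ]
    set t : Finset (Finset Ω) := s.image (fun q => B q.1 q.2) with ht
    have hfib : ∀ L ∈ t, (s.filter fun q => B q.1 q.2 = L).card = f * f - f := by
      intro L hL
      obtain ⟨⟨c₀, d₀⟩, hq₀, rfl⟩ := Finset.mem_image.mp hL
      have hcd₀ : c₀ ≠ d₀ := (Finset.mem_offDiag.mp hq₀).2.2
      have : (s.filter fun q => B q.1 q.2 = B c₀ d₀) = (B c₀ d₀).offDiag := by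
        ext ⟨c, d⟩
        rw [Finset.mem_filter, Finset.mem_offDiag, Finset.mem_offDiag]
        constructor
        · rintro ⟨⟨-, -, hcd⟩, hb⟩
          simp only at hb
          rw [← hb]
          exact ⟨(hmem c d hcd).1, (hmem c d hcd).2, hcd⟩
        · rintro ⟨hc, hd, hcd⟩
          exact ⟨⟨Finset.mem_univ _, Finset.mem_univ _, hcd⟩, heq c₀ d₀ c d hcd₀ hc hd hcd⟩
      rw [this, Finset.offDiag_card, hcard c₀ d₀ hcd₀]
    have h1 := Finset.card_eq_sum_card_fiberwise (s := s) (t := t) (f := fun q => B q.1 q.2)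
      (fun q hq => Finset.mem_image_of_mem _ hq)
    rw [Finset.sum_congr rfl hfib, Finset.sum_const, smul_eq_mul, hscard] at h1
    exact ⟨t.card, by rw [h1, mul_comm]⟩
  -- arithmetic
  interval_cases f <;> simp_all

end Cfsg.Agent.Lib.Helper11.N22
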