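import Mathlib
import Cfsg.Agent.Lib.Helper41.N22.Defs

/-!
# S4346, module [T7-SWAP] (helper41 #4025): a transitive group of degree 7 of order divisible by 16 is `S₇`
-/

set_option autoImplicit false

namespace Cfsg.Agent.Lib.Helper11.N22
open Cfsg.Agent.Lib.Helper41.N22

theorem factorization_5040 : (5040 : ℕ).factorization 2 = 4 := by
  have h2 : Nat.Prime 2 := Nat.prime_two
  have : (5040 : ℕ).factorization 2 = (2 ^ 4 * 315).factorization 2 := by norm_num
  rw [this, Nat.factorization_mul (by norm_num) (by norm_num), Finsupp.add_apply,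
    Nat.Prime.factorization_pow h2, Finsupp.single_eq_same,
    Nat.factorization_eq_zero_of_not_dvd (by norm_num : ¬ 2 ∣ 315)]

/-- [T7-SWAP] -/
theorem eq_top_of_sixteen_dvd {X : Type*} [Fintype X] [DecidableEq X] (hX : Fintype.card X = 7)
    (T : Subgroup (Equiv.Perm X)) [MulAction.IsPretransitive T X] (h16 : 16 ∣ Nat.card T) :
    T = ⊤ := by
  classical
  have : Fact (Nat.Prime 2) := ⟨Nat.prime_two⟩
  have hcardX : Nat.card X = 7 := by rw [Nat.card_eq_fintype_card, hX]
  have hprim : MulAction.IsPreprimitive T X :=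
    MulAction.IsPreprimitive.of_prime_card (by rw [hcardX]; norm_num)
  have hcardP : Nat.card (Equiv.Perm X) = 5040 := by
    rw [Nat.card_perm, hcardX]; rfl
  -- a subgroup of order 16 of `T`, which is a Sylow 2-subgroup of `Perm X`
  obtain ⟨Q, hQ⟩ := Sylow.exists_subgroup_card_pow_prime (G := ↥T) 2 (n := 4) (by simpa using h16)
  have hQ' : Nat.card (Q.map T.subtype) = 2 ^ (Nat.card (Equiv.Perm X)).factorization 2 := by
    rw [hcardP, factorization_5040, ← hQ]
    exact (Nat.card_congr (Q.equivMapOfInjective T.subtype T.subtype_injective).toEquiv).symm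
  let S₀ : Sylow 2 (Equiv.Perm X) := Sylow.ofCard (Q.map T.subtype) hQ'
  have hS₀ : (S₀ : Subgroup (Equiv.Perm X)) = Q.map T.subtype := rfl
  have hS₀T : (S₀ : Subgroup (Equiv.Perm X)) ≤ T := by
    rw [hS₀]; exact Subgroup.map_subtype_le Q
  -- two distinct points
  obtain ⟨a, b, hab⟩ : ∃ a b : X, a ≠ b :=
    Fintype.exists_pair_of_one_lt_card (by rw [hX]; norm_num)
  -- the swap generates a 2-group
  have hswap2 : IsPGroup 2 (Subgroup.zpowers (Equiv.swap a b)) := by
    apply IsPGroup.of_card (n := 1)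
    rw [Nat.card_zpowers, pow_one]
    exact orderOf_eq_prime (by rw [pow_two, Equiv.swap_mul_self]) (by
      intro h
      have := congrArg (fun f : Equiv.Perm X => f a) h
      simp at this
      exact hab this.symm)
  obtain ⟨R, hR⟩ := hswap2.exists_le_sylow
  obtain ⟨g, hg⟩ := MulAction.exists_smul_eq (Equiv.Perm X) R S₀
  have hmem : g * Equiv.swap a b * g⁻¹ ∈ (S₀ : Subgroup (Equiv.Perm X)) := by
    rw [← hg, Sylow.coe_subgroup_smul]
    have h1 : Equiv.swap a b ∈ (R : Subgroup (Equiv.Perm X)) :=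
      hR (Subgroup.mem_zpowers _)
    have h2 := Subgroup.smul_mem_pointwise_smul (Equiv.swap a b) (MulAut.conj g)
      (R : Subgroup (Equiv.Perm X)) h1
    simpa [MulAut.smul_def] using h2
  have hsw : g * Equiv.swap a b * g⁻¹ = Equiv.swap (g a) (g b) :=
    Equiv.swap_apply_apply g a b |>.symm
  refine Equiv.Perm.subgroup_eq_top_of_isPreprimitive_of_isSwap_mem hprim
    (Equiv.swap (g a) (g b)) ⟨g a, g b, fun h => hab (g.injective h), rfl⟩ ?_
  rw [← hsw]
  exact hS₀T hmem

end Cfsg.Agent.Lib.Helper11.N22
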