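import Mathlib

/-!
# helper11: group-theoretic tools for normal subsystems of constrained group fusion systems (S5121)

* `stab_eq_one`, `stab_mem`: a `p'`-element stabilizing a two-step chain (modulo a normal subgroup)
  acts trivially;
* `isPGroup_of_pprime_trivial`: a subgroup without nontrivial `p'`-elements is a `p`-group;
* `exists_pow_coprime_apply_eq`: lifting `p'`-elements along a homomorphism by taking powers;
* `transfer_eq_pow_of_forall'`, `le_of_transfer_trivial`: a transfer argument.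
-/

set_option autoImplicit false

namespace Cfsg.Agent.Lib.Helper11.NS

section stab

variable {G : Type*} [Group G]

theorem stab_pow_mul (y b a : G) (hb : y * b = b * a * y) (ha : y * a = a * y) (j : ℕ) :
    y ^ j * b = b * a ^ j * y ^ j := by
  induction j with
  | zero => simp
  | succ j ih =>
    have hc : ∀ i : ℕ, y * a ^ i = a ^ i * y := fun i => (Commute.pow_right (show Commute y a from ha) i)
    calc y ^ (j + 1) * b = y * (y ^ j * b) := by rw [pow_succ', mul_assoc]
      _ = y * (b * a ^ j * y ^ j) := by rw [ih]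
      _ = (y * b) * a ^ j * y ^ j := by simp only [mul_assoc]
      _ = b * a * (y * a ^ j) * y ^ j := by rw [hb]; simp only [mul_assoc]
      _ = b * a * (a ^ j * y) * y ^ j := by rw [hc]
      _ = b * a ^ (j + 1) * y ^ (j + 1) := by rw [pow_succ' a, pow_succ' y]; simp only [mul_assoc]

/-- A `p'`-element `y` with `y b y⁻¹ = b a`, `y a y⁻¹ = a` and `a` a `p`-element has `a = 1`. -/
theorem stab_eq_one {p : ℕ} (y b a : G) (hb : y * b * y⁻¹ = b * a) (ha : y * a * y⁻¹ = a) {n : ℕ}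
    (hn : y ^ n = 1) (hnp : Nat.Coprime n p) {e : ℕ} (hae : a ^ (p ^ e) = 1) : a = 1 := by
  have hb' : y * b = b * a * y := by rw [← hb]; group
  have ha' : y * a = a * y := by
    calc y * a = (y * a * y⁻¹) * y := by group
      _ = a * y := by rw [ha]
  have h1 := stab_pow_mul y b a hb' ha' n
  rw [hn, one_mul, mul_one] at h1
  have h2 : a ^ n = 1 := by
    have : b * 1 = b * a ^ n := by rw [mul_one]; exact h1
    exact (mul_left_cancel this).symm
  have h3 : orderOf a ∣ n := orderOf_dvd_of_pow_eq_one h2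
  have h4 : orderOf a ∣ p ^ e := orderOf_dvd_of_pow_eq_one hae
  have h5 : orderOf a ∣ Nat.gcd n (p ^ e) := Nat.dvd_gcd h3 h4
  have h6 : Nat.gcd n (p ^ e) = 1 := Nat.Coprime.pow_right e hnp
  rw [h6, Nat.dvd_one] at h5
  exact orderOf_eq_one_iff.mp h5

/-- The same modulo a normal subgroup `Z`. -/
theorem stab_mem {p : ℕ} (Z : Subgroup G) [Z.Normal] (y b a : G) (hb : y * b * y⁻¹ = b * a)
    (ha : a⁻¹ * (y * a * y⁻¹) ∈ Z) {n : ℕ} (hn : y ^ n = 1) (hnp : Nat.Coprime n p) {e : ℕ}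
    (hae : a ^ (p ^ e) ∈ Z) : a ∈ Z := by
  rw [← QuotientGroup.eq_one_iff]
  have hb2 : (y : G ⧸ Z) * (b : G ⧸ Z) * (y : G ⧸ Z)⁻¹ = (b : G ⧸ Z) * (a : G ⧸ Z) := by
    have := congrArg (fun x : G => (x : G ⧸ Z)) hb
    simpa using this
  have ha2 : (y : G ⧸ Z) * (a : G ⧸ Z) * (y : G ⧸ Z)⁻¹ = (a : G ⧸ Z) := by
    have h := (QuotientGroup.eq (s := Z) (a := a) (b := y * a * y⁻¹)).mpr ha
    exact h.symm
  have hn2 : (y : G ⧸ Z) ^ n = 1 := by
    rw [← QuotientGroup.mk_pow, hn]; rfl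
  have hae2 : (a : G ⧸ Z) ^ (p ^ e) = 1 := by
    rw [← QuotientGroup.mk_pow]
    exact (QuotientGroup.eq_one_iff _).mpr hae
  exact stab_eq_one (y : G ⧸ Z) (b : G ⧸ Z) (a : G ⧸ Z) hb2 ha2 hn2 hnp hae2

/-- commuting modulo a normal subgroup, in the quotient -/
theorem comm_mem_iff (Z : Subgroup G) [Z.Normal] (x y : G) :
    x * y * x⁻¹ * y⁻¹ ∈ Z ↔ (x : G ⧸ Z) * (y : G ⧸ Z) = (y : G ⧸ Z) * (x : G ⧸ Z) := by
  rw [← QuotientGroup.eq_one_iff]
  constructor
  · intro h
    have h2 : (x : G ⧸ Z) * (y : G ⧸ Z) * (x : G ⧸ Z)⁻¹ * (y : G ⧸ Z)⁻¹ = 1 := by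
      simpa using h
    calc (x : G ⧸ Z) * (y : G ⧸ Z) = ((x : G ⧸ Z) * (y : G ⧸ Z) * (x : G ⧸ Z)⁻¹ * (y : G ⧸ Z)⁻¹) *
          ((y : G ⧸ Z) * (x : G ⧸ Z)) := by group
      _ = (y : G ⧸ Z) * (x : G ⧸ Z) := by rw [h2, one_mul]
  · intro h
    have : ((x * y * x⁻¹ * y⁻¹ : G) : G ⧸ Z) =
        ((x : G ⧸ Z) * (y : G ⧸ Z)) * (x : G ⧸ Z)⁻¹ * (y : G ⧸ Z)⁻¹ := by simp
    rw [this, h]
    group

end stab

section pgroup

variable {G : Type*} [Group G]

/-- A subgroup of a finite group without nontrivial `p'`-elements is a `p`-group. -/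
theorem isPGroup_of_pprime_trivial [Finite G] {p : ℕ} [hp : Fact p.Prime] (K : Subgroup G)
    (h : ∀ y ∈ K, (orderOf y).Coprime p → y = 1) : IsPGroup p K := by
  intro x
  have hn : orderOf (x : G) ≠ 0 := (orderOf_pos (x : G)).ne'
  set n := orderOf (x : G) with hndef
  refine ⟨n.factorization p, ?_⟩
  have h1 : ((x : G) ^ p ^ n.factorization p) ^ (n / p ^ n.factorization p) = 1 := by
    rw [← pow_mul, Nat.ordProj_mul_ordCompl_eq_self, hndef]
    exact pow_orderOf_eq_one _
  have h2 : orderOf ((x : G) ^ p ^ n.factorization p) ∣ n / p ^ n.factorization p :=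
    orderOf_dvd_of_pow_eq_one h1
  have h3 : Nat.Coprime (n / p ^ n.factorization p) p := (Nat.coprime_ordCompl hp.out hn).symm
  have h4 := h _ (K.pow_mem x.2 _) (Nat.Coprime.coprime_dvd_left h2 h3)
  apply Subtype.ext
  rw [Subgroup.coe_pow]
  exact h4

/-- A power `g ^ j` which is a `p'`-element, with `j ≡ 1` modulo the order of a given `p'`-element. -/
theorem exists_pow_coprime [Finite G] {M : Type*} [Group M] {p : ℕ} [hp : Fact p.Prime]
    (g : G) (α : M) (hα : Nat.Coprime (orderOf α) p) :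
    ∃ j : ℕ, Nat.Coprime (orderOf (g ^ j)) p ∧ α ^ j = α := by
  have hn : orderOf g ≠ 0 := (orderOf_pos g).ne'
  set n := orderOf g with hndef
  have hcop : Nat.Coprime (p ^ n.factorization p) (orderOf α) :=
    (Nat.Coprime.pow_right _ hα).symm
  obtain ⟨m, hm⟩ := exists_pow_eq_self_of_coprime hcop
  refine ⟨p ^ n.factorization p * m, ?_, ?_⟩
  · have h1 : (g ^ (p ^ n.factorization p * m)) ^ (n / p ^ n.factorization p) = 1 := by
      rw [← pow_mul, mul_right_comm, Nat.ordProj_mul_ordCompl_eq_self, pow_mul, hndef,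
        pow_orderOf_eq_one, one_pow]
    have h2 := orderOf_dvd_of_pow_eq_one h1
    exact Nat.Coprime.coprime_dvd_left h2 (Nat.coprime_ordCompl hp.out hn).symm
  · rw [pow_mul, hm]

/-- Lifting a `p'`-element along a homomorphism by a power which is itself a `p'`-element. -/
theorem exists_pow_coprime_apply_eq [Finite G] {M : Type*} [Group M] {p : ℕ} [hp : Fact p.Prime]
    (f : G →* M) (g : G) (hg : Nat.Coprime (orderOf (f g)) p) :
    ∃ j : ℕ, Nat.Coprime (orderOf (g ^ j)) p ∧ f (g ^ j) = f g := by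
  have hn : orderOf g ≠ 0 := (orderOf_pos g).ne'
  set n := orderOf g with hndef
  have hcop : Nat.Coprime (p ^ n.factorization p) (orderOf (f g)) :=
    (Nat.Coprime.pow_right _ hg).symm
  obtain ⟨m, hm⟩ := exists_pow_eq_self_of_coprime hcop
  refine ⟨p ^ n.factorization p * m, ?_, ?_⟩
  · have h1 : (g ^ (p ^ n.factorization p * m)) ^ (n / p ^ n.factorization p) = 1 := by
      rw [← pow_mul, mul_right_comm, Nat.ordProj_mul_ordCompl_eq_self, pow_mul, hndef,
        pow_orderOf_eq_one, one_pow]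
    have h2 := orderOf_dvd_of_pow_eq_one h1
    exact Nat.Coprime.coprime_dvd_left h2 (Nat.coprime_ordCompl hp.out hn).symm
  · rw [pow_mul, map_pow, map_pow, hm]

end pgroup

end Cfsg.Agent.Lib.Helper11.NS
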