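import Mathlib
import Cfsg.Prelude.Def_Solvable
import Cfsg.Agent.Lib.Helper97.Cores
import Cfsg.Agent.Lib.Helper11.NSGroup

/-!
# helper11: the group-theoretic setting of S5121

`G` is a finite group with `C_G(O_p(G)) ≤ O_p(G)`, `S` a Sylow `p`-subgroup, and `T ≤ S` is strongly
closed in `S` with respect to `G`.  We put `T₀ = T ∩ O_p(G)`, `C = C_G(T₀)`, `Z₀ = Z(T₀)` and prove
* `T₀ ⊴ G`, `C_T(T₀) ≤ T₀`;
* `C` normalizes `T` and `[T, C] ≤ Z₀`;
* normal subgroups of `G` have characteristic `p`;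
* a `p'`-element centralizing `O_p(C)` modulo `Z₀` centralizes `C` modulo `Z₀`.
-/

set_option autoImplicit false
set_option linter.unusedSectionVars false

namespace Cfsg.Agent.Lib.Helper11.NS

open Cfsg Cfsg.Agent.Lib.Helper97

variable {G : Type*} [Group G]

/-- the elements of `G` centralizing `A` modulo the normal subgroup `N` -/
def centMod (N A : Subgroup G) [N.Normal] : Subgroup G :=
  (Subgroup.centralizer ((A.map (QuotientGroup.mk' N) : Subgroup (G ⧸ N)) : Set (G ⧸ N))).comap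
    (QuotientGroup.mk' N)

theorem mem_centMod_iff {N A : Subgroup G} [N.Normal] {g : G} :
    g ∈ centMod N A ↔ ∀ a ∈ A, g * a * g⁻¹ * a⁻¹ ∈ N := by
  unfold centMod
  rw [Subgroup.mem_comap, Subgroup.mem_centralizer_iff]
  constructor
  · intro h a ha
    rw [comm_mem_iff]
    exact (h _ (Subgroup.mem_map_of_mem _ ha)).symm
  · rintro h _ ⟨a, ha, rfl⟩
    exact ((comm_mem_iff N g a).mp (h a ha)).symm

instance centMod_normal (N A : Subgroup G) [N.Normal] [hA : A.Normal] : (centMod N A).Normal := by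
  unfold centMod
  have : (A.map (QuotientGroup.mk' N)).Normal := hA.map _ (QuotientGroup.mk'_surjective N)
  infer_instance

theorem eq_one_of_mem_isPGroup_of_coprime {p : ℕ} {K : Subgroup G} (hK : IsPGroup p K) {y : G}
    (hy : y ∈ K) (hc : (orderOf y).Coprime p) : y = 1 := by
  obtain ⟨k, hk⟩ := hK ⟨y, hy⟩
  have h1 : y ^ p ^ k = 1 := congrArg Subtype.val hk
  have h2 : orderOf y ∣ p ^ k := orderOf_dvd_of_pow_eq_one h1
  have h3 : orderOf y ∣ Nat.gcd (orderOf y) (p ^ k) := Nat.dvd_gcd dvd_rfl h2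
  rw [Nat.Coprime.pow_right k hc, Nat.dvd_one] at h3
  exact orderOf_eq_one_iff.mp h3

theorem exists_pow_eq_one_of_mem_isPGroup {p : ℕ} {K : Subgroup G} (hK : IsPGroup p K) {y : G}
    (hy : y ∈ K) : ∃ e : ℕ, y ^ p ^ e = 1 := by
  obtain ⟨k, hk⟩ := hK ⟨y, hy⟩
  exact ⟨k, congrArg Subtype.val hk⟩

/-- the hypotheses of S5121 on the group side -/
structure Setup (p : ℕ) (S : Sylow p G) (T : Subgroup G) : Prop where
  hG : Subgroup.centralizer ((pCore p G : Subgroup G) : Set G) ≤ pCore p G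
  hTS : T ≤ S
  hsc : ∀ g x : G, x ∈ T → g * x * g⁻¹ ∈ (S : Subgroup G) → g * x * g⁻¹ ∈ T

/-- `T₀ = T ∩ O_p(G)` -/
def T0 (p : ℕ) (T : Subgroup G) : Subgroup G := T ⊓ pCore p G

/-- `C = C_G(T₀)` -/
def CC (p : ℕ) (T : Subgroup G) : Subgroup G := Subgroup.centralizer (T0 p T : Set G)

/-- `Z₀ = Z(T₀)` -/
def Z0 (p : ℕ) (T : Subgroup G) : Subgroup G := T0 p T ⊓ CC p T

theorem T0_le (p : ℕ) (T : Subgroup G) : T0 p T ≤ T := inf_le_left

theorem T0_le_pCore (p : ℕ) (T : Subgroup G) : T0 p T ≤ pCore p G := inf_le_right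

theorem Z0_le_T0 (p : ℕ) (T : Subgroup G) : Z0 p T ≤ T0 p T := inf_le_left

theorem Z0_le_CC (p : ℕ) (T : Subgroup G) : Z0 p T ≤ CC p T := inf_le_right

theorem mem_CC_iff {p : ℕ} {T : Subgroup G} {c : G} :
    c ∈ CC p T ↔ ∀ x ∈ T0 p T, x * c = c * x := Subgroup.mem_centralizer_iff

theorem conj_eq_of_mem_CC {p : ℕ} {T : Subgroup G} {c x : G} (hc : c ∈ CC p T) (hx : x ∈ T0 p T) :
    c * x * c⁻¹ = x := by
  rw [← mem_CC_iff.mp hc x hx]; group

variable {p : ℕ} {S : Sylow p G} {T : Subgroup G}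

theorem Setup.T0_normal [Fact p.Prime] (h : Setup p S T) : (T0 p T).Normal := by
  constructor
  intro n hn g
  have h1 : g * n * g⁻¹ ∈ pCore p G := (inferInstance : (pCore p G).Normal).conj_mem n hn.2 g
  exact ⟨h.hsc g n hn.1 (pCore_le_sylow' S h1), h1⟩

instance CC_normal [(T0 p T).Normal] : (CC p T).Normal := by
  unfold CC; infer_instance

instance Z0_normal [(T0 p T).Normal] : (Z0 p T).Normal := by
  unfold Z0; infer_instance

theorem Setup.conj_mem_T_of_mem_S (h : Setup p S T) {s t : G} (hs : s ∈ (S : Subgroup G)) (ht : t ∈ T) :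
    s * t * s⁻¹ ∈ T :=
  h.hsc s t ht ((S : Subgroup G).mul_mem ((S : Subgroup G).mul_mem hs (h.hTS ht)) ((S : Subgroup G).inv_mem hs))

section main

variable [Finite G] [Fact p.Prime] [(T0 p T).Normal]

/-- `T ≤ C_G(O_p(G)/T₀)` -/
theorem Setup.T_le_centMod (h : Setup p S T) : T ≤ centMod (T0 p T) (pCore p G) := by
  intro t ht
  rw [mem_centMod_iff]
  intro r hr
  have hrS : r ∈ (S : Subgroup G) := pCore_le_sylow' S hr
  refine ⟨?_, ?_⟩
  · have h1 : r * t⁻¹ * r⁻¹ ∈ T := h.conj_mem_T_of_mem_S hrS (T.inv_mem ht)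
    have : t * r * t⁻¹ * r⁻¹ = t * (r * t⁻¹ * r⁻¹) := by group
    rw [this]
    exact T.mul_mem ht h1
  · have h1 : t * r * t⁻¹ ∈ pCore p G := (inferInstance : (pCore p G).Normal).conj_mem r hr t
    exact (pCore p G).mul_mem h1 ((pCore p G).inv_mem hr)

/-- a `p'`-element of a normal subgroup `N` centralizing `N ∩ O_p(G)` is trivial -/
theorem Setup.pprime_eq_one (h : Setup p S T) (N : Subgroup G) [hN : N.Normal] {y : G} (hyN : y ∈ N)
    (hc : (orderOf y).Coprime p) (hcen : ∀ r ∈ N ⊓ pCore p G, y * r * y⁻¹ = r) : y = 1 := by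
  have hR : IsPGroup p (pCore p G) := isPGroup_pCore p G
  have hcenR : y ∈ Subgroup.centralizer ((pCore p G : Subgroup G) : Set G) := by
    rw [Subgroup.mem_centralizer_iff]
    intro r hr
    set a := r⁻¹ * (y * r * y⁻¹) with ha
    have haR : a ∈ pCore p G :=
      (pCore p G).mul_mem ((pCore p G).inv_mem hr) ((inferInstance : (pCore p G).Normal).conj_mem r hr y)
    have haN : a ∈ N := by
      have : a = (r⁻¹ * y * r⁻¹⁻¹) * y⁻¹ := by rw [ha]; group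
      rw [this]
      exact N.mul_mem (hN.conj_mem y hyN r⁻¹) (N.inv_mem hyN)
    obtain ⟨e, he⟩ := exists_pow_eq_one_of_mem_isPGroup hR haR
    have h1 : a = 1 := stab_eq_one (p := p) y r a (by rw [ha]; group) (hcen a ⟨haN, haR⟩)
      (pow_orderOf_eq_one y) hc he
    have h2 : y * r * y⁻¹ = r := by
      have : y * r * y⁻¹ = r * a := by rw [ha]; group
      rw [this, h1, mul_one]
    calc r * y = (y * r * y⁻¹) * y := by rw [h2]
      _ = y * r := by group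
  exact eq_one_of_mem_isPGroup_of_coprime hR (h.hG hcenR) hc

/-- a normal subgroup all of whose `p'`-elements centralize its intersection with `O_p(G)` modulo a
subgroup they centralize lies in `O_p(G)`; concrete form used below -/
theorem Setup.le_pCore_of_stab (h : Setup p S T) (N A W : Subgroup G) [hN : N.Normal] [hW : W.Normal]
    (hWN : W ≤ N)
    (hA : ∀ y ∈ W, ∀ r ∈ N ⊓ pCore p G, r⁻¹ * (y * r * y⁻¹) ∈ A)
    (hAp : IsPGroup p A)
    (hAc : ∀ y ∈ W, ∀ a ∈ A, y * a * y⁻¹ = a) : W ≤ pCore p G := by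
  apply le_pCore_of_normal hW
  apply isPGroup_of_pprime_trivial
  intro y hy hc
  apply h.pprime_eq_one N (hWN hy) hc
  intro r hr
  set a := r⁻¹ * (y * r * y⁻¹) with ha
  have haA : a ∈ A := hA y hy r hr
  obtain ⟨e, he⟩ := exists_pow_eq_one_of_mem_isPGroup hAp haA
  have h1 : a = 1 := stab_eq_one (p := p) y r a (by rw [ha]; group) (hAc y hy a haA)
    (pow_orderOf_eq_one y) hc he
  have : y * r * y⁻¹ = r * a := by rw [ha]; group
  rw [this, h1, mul_one]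

theorem T0_isPGroup : IsPGroup p (T0 p T) := (isPGroup_pCore p G).to_le (T0_le_pCore p T)

theorem Z0_isPGroup : IsPGroup p (Z0 p T) := (T0_isPGroup (p := p) (T := T)).to_le (Z0_le_T0 p T)

/-- `X = C_G(T₀) ∩ C_G(O_p(G)/T₀) ≤ O_p(G)` -/
theorem Setup.X_le_pCore (h : Setup p S T) :
    CC p T ⊓ centMod (T0 p T) (pCore p G) ≤ pCore p G := by
  apply h.le_pCore_of_stab ⊤ (T0 p T) _ le_top
  · intro y hy r hr
    have h1 := mem_centMod_iff.mp hy.2 r hr.2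
    have : r⁻¹ * (y * r * y⁻¹) = r⁻¹ * (y * r * y⁻¹ * r⁻¹) * r⁻¹⁻¹ := by group
    rw [this]
    exact (inferInstance : (T0 p T).Normal).conj_mem _ h1 _
  · exact T0_isPGroup
  · intro y hy a ha
    exact conj_eq_of_mem_CC hy.1 ha

/-- `C_T(T₀) ≤ T₀` -/
theorem Setup.cent_le (h : Setup p S T) : T ⊓ CC p T ≤ T0 p T := by
  intro x hx
  exact ⟨hx.1, h.X_le_pCore ⟨hx.2, h.T_le_centMod hx.1⟩⟩

theorem Setup.inf_CC_eq (h : Setup p S T) : T ⊓ CC p T = Z0 p T := by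
  apply le_antisymm
  · intro x hx
    exact ⟨h.cent_le hx, hx.2⟩
  · intro x hx
    exact ⟨T0_le p T hx.1, hx.2⟩

/-- `C` normalizes `T`, and `[C, T] ≤ Z₀` -/
theorem Setup.comm_mem (h : Setup p S T) {c t : G} (hc : c ∈ CC p T) (ht : t ∈ T) :
    c * t * c⁻¹ ∈ T ∧ c * t * c⁻¹ * t⁻¹ ∈ Z0 p T := by
  have hD : (centMod (T0 p T) (pCore p G)).Normal := inferInstance
  have hCn : (CC p T).Normal := inferInstance
  have ha1 : c * t * c⁻¹ * t⁻¹ ∈ CC p T := by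
    have : c * t * c⁻¹ * t⁻¹ = c * (t * c⁻¹ * t⁻¹) := by group
    rw [this]
    exact (CC p T).mul_mem hc (hCn.conj_mem _ ((CC p T).inv_mem hc) t)
  have ha2 : c * t * c⁻¹ * t⁻¹ ∈ centMod (T0 p T) (pCore p G) :=
    Subgroup.mul_mem _ (hD.conj_mem t (h.T_le_centMod ht) c) (Subgroup.inv_mem _ (h.T_le_centMod ht))
  have ha3 : c * t * c⁻¹ * t⁻¹ ∈ (S : Subgroup G) := pCore_le_sylow' S (h.X_le_pCore ⟨ha1, ha2⟩)
  have h1 : c * t * c⁻¹ ∈ T := by
    apply h.hsc c t ht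
    have : c * t * c⁻¹ = (c * t * c⁻¹ * t⁻¹) * t := by group
    rw [this]
    exact (S : Subgroup G).mul_mem ha3 (h.hTS ht)
  refine ⟨h1, ?_⟩
  rw [← h.inf_CC_eq]
  exact ⟨T.mul_mem h1 (T.inv_mem ht), ha1⟩

/-- `W = {w ∈ C : [w, C ∩ O_p(G)] ≤ Z₀} ≤ O_p(G)` -/
theorem Setup.W_le_pCore (h : Setup p S T) :
    CC p T ⊓ centMod (Z0 p T) (CC p T ⊓ pCore p G) ≤ pCore p G := by
  apply h.le_pCore_of_stab (CC p T) (Z0 p T) _ inf_le_left
  · intro y hy r hr
    have h1 := mem_centMod_iff.mp hy.2 r hr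
    have : r⁻¹ * (y * r * y⁻¹) = r⁻¹ * (y * r * y⁻¹ * r⁻¹) * r⁻¹⁻¹ := by group
    rw [this]
    exact (inferInstance : (Z0 p T).Normal).conj_mem _ h1 _
  · exact Z0_isPGroup
  · intro y hy a ha
    exact conj_eq_of_mem_CC hy.1 (Z0_le_T0 p T ha)

theorem comm_conj_aux {Q : Type*} [Group Q] (μ γ ρ : Q) (h1 : μ * ρ = ρ * μ)
    (h2 : μ * (γ * ρ * γ⁻¹) = (γ * ρ * γ⁻¹) * μ) :
    (γ⁻¹ * (μ * γ * μ⁻¹)) * ρ = ρ * (γ⁻¹ * (μ * γ * μ⁻¹)) := by
  have h1' : μ⁻¹ * ρ = ρ * μ⁻¹ := by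
    have : Commute μ ρ := h1
    exact this.inv_left
  calc (γ⁻¹ * (μ * γ * μ⁻¹)) * ρ = γ⁻¹ * μ * γ * (μ⁻¹ * ρ) := by group
    _ = γ⁻¹ * μ * γ * (ρ * μ⁻¹) := by rw [h1']
    _ = γ⁻¹ * (μ * (γ * ρ * γ⁻¹)) * γ * μ⁻¹ := by group
    _ = γ⁻¹ * ((γ * ρ * γ⁻¹) * μ) * γ * μ⁻¹ := by rw [h2]
    _ = ρ * (γ⁻¹ * (μ * γ * μ⁻¹)) := by group

/-- a `p'`-element centralizing `C ∩ O_p(G)` modulo `Z₀` centralizes `C` modulo `Z₀` -/
theorem Setup.comm_CC_of_comm_inf (h : Setup p S T) {m : G} (hm : (orderOf m).Coprime p)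
    (hmr : ∀ r ∈ CC p T ⊓ pCore p G, m * r * m⁻¹ * r⁻¹ ∈ Z0 p T) :
    ∀ c ∈ CC p T, m * c * m⁻¹ * c⁻¹ ∈ Z0 p T := by
  intro c hc
  have hCn : (CC p T).Normal := inferInstance
  have hZn : (Z0 p T).Normal := inferInstance
  have hRn : (CC p T ⊓ pCore p G).Normal := inferInstance
  set a := c⁻¹ * (m * c * m⁻¹) with ha
  have haC : a ∈ CC p T := (CC p T).mul_mem ((CC p T).inv_mem hc) (hCn.conj_mem c hc m)
  have haW : a ∈ centMod (Z0 p T) (CC p T ⊓ pCore p G) := by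
    rw [mem_centMod_iff]
    intro r hr
    rw [comm_mem_iff]
    have e1 := (comm_mem_iff (Z0 p T) m r).mp (hmr r hr)
    have e2 := (comm_mem_iff (Z0 p T) m (c * r * c⁻¹)).mp (hmr _ (hRn.conj_mem r hr c))
    have := comm_conj_aux (m : G ⧸ Z0 p T) (c : G ⧸ Z0 p T) (r : G ⧸ Z0 p T) e1 (by simpa using e2)
    rw [ha]
    simpa using this
  have haR : a ∈ pCore p G := h.W_le_pCore ⟨haC, haW⟩
  obtain ⟨e, he⟩ := exists_pow_eq_one_of_mem_isPGroup (isPGroup_pCore p G) haR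
  have h1 : a ∈ Z0 p T := by
    apply stab_mem (p := p) (Z0 p T) m c a (by rw [ha]; group) _ (pow_orderOf_eq_one m) hm
      (e := e) (by rw [he]; exact (Z0 p T).one_mem)
    have h2 := hmr a ⟨haC, haR⟩
    have : a⁻¹ * (m * a * m⁻¹) = a⁻¹ * (m * a * m⁻¹ * a⁻¹) * a⁻¹⁻¹ := by group
    rw [this]
    exact hZn.conj_mem _ h2 _
  have : m * c * m⁻¹ * c⁻¹ = c * a * c⁻¹ := by rw [ha]; group
  rw [this]
  exact hZn.conj_mem a h1 c

end main

end Cfsg.Agent.Lib.Helper11.NS
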