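import Mathlib
import Cfsg.Prelude.Def_FusionSystem
import Cfsg.Agent.Lib.Helper87.FusionCore
import Cfsg.Agent.Lib.Helper87.FusionSat
import Cfsg.Agent.Lib.Helper87.FusionNormal
import Cfsg.Agent.Lib.Helper88.FusionAut
import Cfsg.Agent.Lib.Helper88.FusionInvariance
import Cfsg.Agent.Lib.Helper11.NSSetup

/-!
# helper11: a normal subsystem `E` of `F_S(G)` (S5121), fusion-theoretic part

For `E ⊴ F_S(G)` over `T`, with `C_G(O_p(G)) ≤ O_p(G)`:
* maps of `E` are conjugations by elements of `G`; `T₀ = T ∩ O_p(G)` is weakly closed in `E`;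
* `aut_T_fix_T0`: an element of `Aut_E(T)` centralizing `T₀` is conjugation by an element of `Z(T₀)`;
* `exists_pprime_lift`: every `p'`-element of `Aut_E(T)` is induced by a `p'`-element of `G`
  centralizing `C_G(T₀)` modulo `Z(T₀)` (this is where the extension condition is used);
* `T0_le_of_centric_radical`: `T₀` lies in every `E`-centric `E`-radical subgroup.
-/

set_option autoImplicit false
set_option linter.unusedSectionVars false
set_option linter.style.haveILetI false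

namespace Cfsg.Agent.Lib.Helper11.NS

open Cfsg Cfsg.FusionSystem Cfsg.Agent.Lib.Helper97 Cfsg.Agent.Lib.Helper87

variable {G : Type*} [Group G] {p : ℕ} {S : Sylow p G} {T : Subgroup G} {E : FusionSystem T}

/-- strong closure, elementwise -/
theorem setup_of_isNormalIn
    (hG : Subgroup.centralizer ((pCore p G : Subgroup G) : Set G) ≤ pCore p G) (hTS : T ≤ S)
    (hE : E.IsNormalIn (groupFusionSystem (S : Subgroup G)) p) : Setup p S T := by
  refine ⟨hG, hTS, ?_⟩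
  intro g x hx hgx
  have hsc := hE.1.2.2.2.1
  have hle : Subgroup.zpowers x ≤ T := by
    rw [Subgroup.zpowers_le]; exact hx
  have hφ : conjHom (Subgroup.zpowers x) g ∈ (groupFusionSystem (S : Subgroup G)).Hom (Subgroup.zpowers x) := by
    refine ⟨hle.trans hTS, ?_, g, fun y => rfl⟩
    rintro ⟨y, hy⟩
    obtain ⟨k, rfl⟩ := Subgroup.mem_zpowers_iff.mp hy
    show g * x ^ k * g⁻¹ ∈ (S : Subgroup G)
    have : g * x ^ k * g⁻¹ = (g * x * g⁻¹) ^ k := by
      rw [conj_zpow]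
    rw [this]
    exact Subgroup.zpow_mem _ hgx k
  exact hsc.2 _ hle _ hφ ⟨x, Subgroup.mem_zpowers x⟩

/-- maps of `E` are conjugations -/
theorem E_hom_conj (hE : E.IsNormalIn (groupFusionSystem (S : Subgroup G)) p) {P : Subgroup G}
    {φ : P →* G} (hφ : φ ∈ E.Hom P) : ∃ g : G, ∀ x : P, φ x = g * (x : G) * g⁻¹ :=
  (hE.1.2.2.1 P hφ).2.2

theorem autE_conj (hE : E.IsNormalIn (groupFusionSystem (S : Subgroup G)) p) {P : Subgroup G}
    (hPT : P ≤ T) {α : MulAut P} (hα : α ∈ E.autGroup P) :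
    ∃ g : G, ∀ x : P, ((α x : P) : G) = g * (x : G) * g⁻¹ :=
  E_hom_conj hE ((mem_autGroup_iff E hPT).1 hα)

theorem mem_normalizer_of_conj_aut {P : Subgroup G} {α : MulAut P} {g : G}
    (hg : ∀ x : P, ((α x : P) : G) = g * (x : G) * g⁻¹) : g ∈ Subgroup.normalizer (P : Set G) := by
  rw [Subgroup.mem_normalizer_iff]
  intro x
  constructor
  · intro hx
    rw [← hg ⟨x, hx⟩]
    exact (α ⟨x, hx⟩).2
  · intro hx
    have h1 := hg (α⁻¹ ⟨g * x * g⁻¹, hx⟩)
    rw [MulAut.apply_inv_self] at h1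
    have h2 : x = ((α⁻¹ ⟨g * x * g⁻¹, hx⟩ : P) : G) := by
      have : g * x * g⁻¹ = g * ((α⁻¹ ⟨g * x * g⁻¹, hx⟩ : P) : G) * g⁻¹ := h1
      exact mul_left_cancel (mul_right_cancel this)
    rw [h2]
    exact (α⁻¹ ⟨g * x * g⁻¹, hx⟩).2

section main

variable [Finite G] [Fact p.Prime] [(T0 p T).Normal]

theorem finite_S : Finite (S : Subgroup G) := inferInstance

/-- `T₀` is weakly closed in `E` -/
theorem T0_weaklyClosed (hE : E.IsNormalIn (groupFusionSystem (S : Subgroup G)) p) :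
    E.WeaklyClosed (T0 p T) := by
  refine ⟨T0_le p T, fun φ hφ => ?_⟩
  obtain ⟨g, hg⟩ := E_hom_conj hE hφ
  have hn : (T0 p T).Normal := inferInstance
  ext y
  constructor
  · rintro ⟨x, rfl⟩
    rw [hg]
    exact hn.conj_mem x x.2 g
  · intro hy
    refine ⟨⟨g⁻¹ * y * g⁻¹⁻¹, hn.conj_mem y hy g⁻¹⟩, ?_⟩
    rw [hg]
    show g * (g⁻¹ * y * g⁻¹⁻¹) * g⁻¹ = y
    group

/-- `T` is weakly closed in `E` -/
theorem T_weaklyClosed (E : FusionSystem T) : E.WeaklyClosed T := by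
  refine ⟨le_rfl, fun φ hφ => ?_⟩
  have hfin : Finite T := inferInstance
  have hle : φ.range ≤ T := by
    rintro _ ⟨x, rfl⟩
    exact (E.le_of_mem hφ).2 x
  apply Subgroup.eq_of_le_of_card_ge hle
  have : Nat.card T = Nat.card φ.range :=
    Nat.card_congr (Equiv.ofInjective φ (E.injective_of_mem hφ))
  rw [← this]

/-- the automorphisms of `T` fixing `Q` pointwise -/
def fixSub (T Q : Subgroup G) : Subgroup (MulAut T) where
  carrier := {β | ∀ x : T, (x : G) ∈ Q → β x = x}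
  one_mem' := fun x _ => rfl
  mul_mem' := by
    intro a b ha hb x hx
    rw [MulAut.mul_apply, hb x hx, ha x hx]
  inv_mem' := by
    intro a ha x hx
    have := ha x hx
    calc a⁻¹ x = a⁻¹ (a x) := by rw [this]
      _ = x := MulAut.inv_apply_self _ _ _

theorem mem_fixSub {T Q : Subgroup G} {β : MulAut T} :
    β ∈ fixSub T Q ↔ ∀ x : T, (x : G) ∈ Q → β x = x := Iff.rfl

theorem T_fullyAutomized (hE : E.IsNormalIn (groupFusionSystem (S : Subgroup G)) p) :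
    E.IsFullyAutomized p T :=
  (Cfsg.Agent.Lib.Helper88.fullyAutomized_receptive_of_weaklyClosed E p hE.1.1 (T_weaklyClosed E)).1

/-- an automorphism of `T` in `E` centralizing `T₀` is conjugation by an element of `Z(T₀)` -/
theorem aut_T_fix_T0 (h : Setup p S T) (hE : E.IsNormalIn (groupFusionSystem (S : Subgroup G)) p)
    {α : MulAut T} (hα : α ∈ E.autGroup T) (hfix : α ∈ fixSub T (T0 p T)) :
    ∃ z ∈ Z0 p T, ∀ x : T, ((α x : T) : G) = z * (x : G) * z⁻¹ := by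
  have hn : (T0 p T).Normal := inferInstance
  have hfin : Finite T := inferInstance
  have hTa : E.IsFullyAutomized p T := T_fullyAutomized hE
  let K : Subgroup (MulAut T) := fixSub T (T0 p T) ⊓ E.autGroup T
  have hK : K ≤ E.autGroup T := inf_le_right
  have hKn : ∀ α ∈ E.autGroup T, ∀ β ∈ K, α * β * α⁻¹ ∈ K := by
    intro α hα β hβ
    refine ⟨?_, Subgroup.mul_mem _ (Subgroup.mul_mem _ hα hβ.2) (Subgroup.inv_mem _ hα)⟩
    intro x hx
    obtain ⟨g, hg⟩ := autE_conj hE le_rfl (Subgroup.inv_mem _ hα)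
    have h1 : ((α⁻¹ x : T) : G) ∈ T0 p T := by
      rw [hg]; exact hn.conj_mem _ hx g
    rw [MulAut.mul_apply, MulAut.mul_apply, hβ.1 _ h1, MulAut.apply_inv_self]
  -- the displacement lies in `Z₀`
  have hb : ∀ β ∈ K, ∀ x : T, ((x⁻¹ * β x : T) : G) ∈ Z0 p T := by
    intro β hβ x
    rw [← h.inf_CC_eq]
    refine ⟨(x⁻¹ * β x).2, mem_CC_iff.mpr ?_⟩
    intro y hy
    let y' : T := ⟨y, T0_le p T hy⟩
    have h1 : ((x * y' * x⁻¹ : T) : G) ∈ T0 p T := hn.conj_mem y hy (x : G)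
    have h2 : β (x * y' * x⁻¹) = x * y' * x⁻¹ := hβ.1 _ h1
    have h3 : β y' = y' := hβ.1 y' hy
    rw [map_mul, map_mul, map_inv, h3] at h2
    have h4 : y' * (x⁻¹ * β x) = (x⁻¹ * β x) * y' := by
      calc y' * (x⁻¹ * β x) = x⁻¹ * (x * y' * x⁻¹) * β x := by group
        _ = x⁻¹ * (β x * y' * (β x)⁻¹) * β x := by rw [h2]
        _ = (x⁻¹ * β x) * y' := by group
    exact congrArg (fun z : T => (z : G)) h4
  have hKp : IsPGroup p K := by
    obtain ⟨k, hk⟩ := (IsPGroup.iff_card).mp (Z0_isPGroup (p := p) (T := T))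
    rintro ⟨β, hβ⟩
    refine ⟨k, ?_⟩
    apply Subtype.ext
    show β ^ p ^ k = 1
    ext x
    have hbx := hb β hβ x
    have hfixb : β (x⁻¹ * β x) = x⁻¹ * β x := hβ.1 _ (Z0_le_T0 p T hbx)
    have hx : β x = x * (x⁻¹ * β x) := by group
    rw [pow_apply_mul_pow' β x (x⁻¹ * β x) hx hfixb]
    have h1 : (⟨_, hbx⟩ : Z0 p T) ^ Nat.card (Z0 p T) = 1 := pow_card_eq_one'
    rw [hk] at h1
    have h2 : ((x⁻¹ * β x : T) : G) ^ p ^ k = 1 := congrArg Subtype.val h1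
    have h3 : (x⁻¹ * β x) ^ p ^ k = (1 : T) := by
      apply Subtype.ext
      rw [Subgroup.coe_pow]
      exact h2
    rw [h3, mul_one]
    rfl
  have hle := le_autInducedBy_of_normal_isPGroup E hTa K hK hKn hKp
  obtain ⟨s, hs, hsα⟩ := mem_autInducedBy_iff.1 (hle ⟨hfix, hα⟩)
  refine ⟨s, ?_, hsα⟩
  rw [← h.inf_CC_eq]
  refine ⟨hs, mem_CC_iff.mpr ?_⟩
  intro y hy
  have h1 := hsα ⟨y, T0_le p T hy⟩
  rw [hfix ⟨y, T0_le p T hy⟩ hy] at h1
  have h2 : y = s * y * s⁻¹ := h1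
  calc y * s = (s * y * s⁻¹) * s := by rw [← h2]
    _ = s * y := by group

theorem inv_apply_of_conj {P : Subgroup G} {α : MulAut P} {g : G}
    (hg : ∀ x : P, ((α x : P) : G) = g * (x : G) * g⁻¹) (x : P) :
    ((α⁻¹ x : P) : G) = g⁻¹ * (x : G) * g := by
  have h1 := hg (α⁻¹ x)
  rw [MulAut.apply_inv_self] at h1
  rw [h1]; group

theorem SI_of_isNormalIn (hE : E.IsNormalIn (groupFusionSystem (S : Subgroup G)) p) :
    Cfsg.Agent.Lib.Helper88.Invariance.SIProp E (groupFusionSystem (S : Subgroup G)) :=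
  (Cfsg.Agent.Lib.Helper88.Invariance.invariant_iff_strong p S.isPGroup' _ hE.1.2.1 E hE.1.2.2.1
    hE.1.2.2.2.1).1 hE.1.2.2

theorem CC_le_normalizer (h : Setup p S T) : CC p T ≤ Subgroup.normalizer (T : Set G) := by
  intro c hc
  rw [Subgroup.mem_normalizer_iff]
  intro x
  constructor
  · intro hx
    exact (h.comm_mem hc hx).1
  · intro hx
    have := (h.comm_mem ((CC p T).inv_mem hc) hx).1
    have e : c⁻¹ * (c * x * c⁻¹) * c⁻¹⁻¹ = x := by group
    rwa [e] at this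

theorem centralizer_le_CC : Subgroup.centralizer (T : Set G) ≤ CC p T :=
  Subgroup.centralizer_le (T0_le p T)

theorem ZT_le_Z0 (h : Setup p S T) : T ⊓ Subgroup.centralizer (T : Set G) ≤ Z0 p T := by
  intro x hx
  rw [← h.inf_CC_eq]
  exact ⟨hx.1, centralizer_le_CC hx.2⟩

/-- conjugation by an element of `G` normalizing `T` is in `Aut_F(T)` -/
theorem conjAut_mem_autGroup (h : Setup p S T) {g : G} (hg : g ∈ Subgroup.normalizer (T : Set G)) :
    conjAut T g hg ∈ (groupFusionSystem (S : Subgroup G)).autGroup T := by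
  rw [mem_autGroup_iff _ h.hTS]
  exact ⟨h.hTS, fun x => h.hTS (conjAut T g hg x).2, g, fun x => rfl⟩

theorem pow_comm_mem {m₁ : G} {K ZT : Subgroup G} (hZ : ∀ z ∈ ZT, m₁ * z * m₁⁻¹ ∈ ZT)
    (hK : ∀ c ∈ K, c⁻¹ * (m₁ * c * m₁⁻¹) ∈ ZT) (j : ℕ) :
    ∀ c ∈ K, c⁻¹ * (m₁ ^ j * c * (m₁ ^ j)⁻¹) ∈ ZT := by
  induction j with
  | zero =>
    intro c _
    have : c⁻¹ * (m₁ ^ 0 * c * (m₁ ^ 0)⁻¹) = 1 := by simp
    rw [this]; exact ZT.one_mem
  | succ j ih =>
    intro c hc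
    have h1 := ih c hc
    have h2 : c⁻¹ * (m₁ ^ (j + 1) * c * (m₁ ^ (j + 1))⁻¹) =
        (c⁻¹ * (m₁ * c * m₁⁻¹)) * (m₁ * (c⁻¹ * (m₁ ^ j * c * (m₁ ^ j)⁻¹)) * m₁⁻¹) := by
      rw [pow_succ']; group
    rw [h2]
    exact ZT.mul_mem (hK c hc) (hZ _ h1)

/-- **The extension condition at work.** Every `p'`-element of `Aut_E(T)` is induced by a `p'`-element
of `G` which centralizes `C_G(T₀)` modulo `Z(T₀)`. -/
theorem exists_pprime_lift (h : Setup p S T) (hE : E.IsNormalIn (groupFusionSystem (S : Subgroup G)) p)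
    {α : MulAut T} (hα : α ∈ E.autGroup T) (hαc : (orderOf α).Coprime p) :
    ∃ m : G, (orderOf m).Coprime p ∧ (∀ x : T, ((α x : T) : G) = m * (x : G) * m⁻¹) ∧
      ∀ c ∈ CC p T, m * c * m⁻¹ * c⁻¹ ∈ Z0 p T := by
  have hZn : (Z0 p T).Normal := inferInstance
  have hCn : (CC p T).Normal := inferInstance
  have hRn : (pCore p G).Normal := inferInstance
  obtain ⟨β, hβ, hβα, hβc⟩ := hE.2 α hα
  have hKS : centralizerIn (S : Subgroup G) T ≤ S := inf_le_left
  have hTK : T ⊔ centralizerIn (S : Subgroup G) T ≤ S := sup_le h.hTS hKS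
  obtain ⟨-, -, m₁, hm₁⟩ := (mem_autGroup_iff _ hTK).1 hβ
  have hm1T : ∀ x : T, ((α x : T) : G) = m₁ * (x : G) * m₁⁻¹ := by
    intro x
    rw [← hβα x]
    exact hm₁ (Subgroup.inclusion le_sup_left x)
  have hm1K : ∀ c ∈ centralizerIn (S : Subgroup G) T,
      c⁻¹ * (m₁ * c * m₁⁻¹) ∈ T ⊓ Subgroup.centralizer (T : Set G) := by
    intro c hc
    have h1 := hβc ⟨c, (le_sup_right : centralizerIn (S : Subgroup G) T ≤ _) hc⟩ hc
    have h2 := hm₁ ⟨c, (le_sup_right : centralizerIn (S : Subgroup G) T ≤ _) hc⟩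
    have h3 : ((β ⟨c, (le_sup_right : centralizerIn (S : Subgroup G) T ≤ _) hc⟩ :
        ↥(T ⊔ centralizerIn (S : Subgroup G) T)) : G) = m₁ * c * m₁⁻¹ := h2
    rw [h3] at h1
    exact h1
  have hm1N : m₁ ∈ Subgroup.normalizer (T : Set G) := mem_normalizer_of_conj_aut hm1T
  have hZ1 : ∀ z ∈ T ⊓ Subgroup.centralizer (T : Set G),
      m₁ * z * m₁⁻¹ ∈ T ⊓ Subgroup.centralizer (T : Set G) := by
    intro z hz
    refine ⟨?_, Cfsg.Agent.Lib.Helper88.conj_mem_centralizer_of_mem_normalizer hm1N hz.2⟩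
    exact (Subgroup.mem_normalizer_iff.mp hm1N z).mp hz.1
  obtain ⟨j, hjc, hjα⟩ := exists_pow_coprime m₁ α hαc
  refine ⟨m₁ ^ j, hjc, ?_, ?_⟩
  · intro x
    have := conj_pow_apply hm1T j x
    rw [hjα] at this
    exact this
  set m := m₁ ^ j with hm
  have hmT : ∀ x : T, ((α x : T) : G) = m * (x : G) * m⁻¹ := by
    intro x
    have := conj_pow_apply hm1T j x
    rw [hjα] at this
    exact this
  have hmK : ∀ c ∈ centralizerIn (S : Subgroup G) T, c⁻¹ * (m * c * m⁻¹) ∈ Z0 p T :=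
    fun c hc => ZT_le_Z0 h (pow_comm_mem hZ1 hm1K j c hc)
  have hSI := SI_of_isNormalIn hE
  apply h.comm_CC_of_comm_inf hjc
  intro r hr
  set a := r⁻¹ * (m * r * m⁻¹) with ha
  have haC : a ∈ CC p T := (CC p T).mul_mem ((CC p T).inv_mem hr.1) (hCn.conj_mem r hr.1 m)
  have haR : a ∈ pCore p G := (pCore p G).mul_mem ((pCore p G).inv_mem hr.2) (hRn.conj_mem r hr.2 m)
  have haN : a ∈ Subgroup.normalizer (T : Set G) := CC_le_normalizer h haC
  have hrN : r⁻¹ ∈ Subgroup.normalizer (T : Set G) := CC_le_normalizer h ((CC p T).inv_mem hr.1)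
  -- (A1): `a` acts on `T` as an element of `Z₀`
  have hψ : conjAut T r⁻¹ hrN ∈ (groupFusionSystem (S : Subgroup G)).autGroup T :=
    conjAut_mem_autGroup h hrN
  have hγ1 : conjAut T r⁻¹ hrN * α * (conjAut T r⁻¹ hrN)⁻¹ ∈ E.autGroup T :=
    Cfsg.Agent.Lib.Helper88.Invariance.autE_conj_mem E _ h.hTS hSI le_rfl hα hψ
  have hγ : conjAut T r⁻¹ hrN * α * (conjAut T r⁻¹ hrN)⁻¹ * α⁻¹ ∈ E.autGroup T :=
    Subgroup.mul_mem _ hγ1 (Subgroup.inv_mem _ hα)
  have hγa : ∀ x : T, (((conjAut T r⁻¹ hrN * α * (conjAut T r⁻¹ hrN)⁻¹ * α⁻¹) x : T) : G) =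
      a * (x : G) * a⁻¹ := by
    intro x
    rw [MulAut.mul_apply, MulAut.mul_apply, MulAut.mul_apply, conjAut_apply, hmT,
      inv_apply_of_conj (fun y => conjAut_apply T r⁻¹ hrN y), inv_apply_of_conj hmT, ha]
    group
  have hγfix : conjAut T r⁻¹ hrN * α * (conjAut T r⁻¹ hrN)⁻¹ * α⁻¹ ∈ fixSub T (T0 p T) := by
    intro x hx
    apply Subtype.ext
    rw [hγa x]
    exact conj_eq_of_mem_CC haC hx
  obtain ⟨z, hz, hzγ⟩ := aut_T_fix_T0 h hE hγ hγfix
  -- `k = z⁻¹ a ∈ C_S(T)`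
  have hk : z⁻¹ * a ∈ centralizerIn (S : Subgroup G) T := by
    refine ⟨pCore_le_sylow' S ((pCore p G).mul_mem ((pCore p G).inv_mem
      (T0_le_pCore p T (Z0_le_T0 p T hz))) haR), ?_⟩
    show z⁻¹ * a ∈ Subgroup.centralizer (T : Set G)
    rw [Subgroup.mem_centralizer_iff]
    intro x hx
    have h1 : a * x * a⁻¹ = z * x * z⁻¹ := by
      rw [← hγa ⟨x, hx⟩, hzγ ⟨x, hx⟩]
    calc x * (z⁻¹ * a) = z⁻¹ * (z * x * z⁻¹) * a := by group
      _ = z⁻¹ * (a * x * a⁻¹) * a := by rw [h1]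
      _ = z⁻¹ * a * x := by group
  have hk2 := hmK _ hk
  obtain ⟨e, he⟩ := exists_pow_eq_one_of_mem_isPGroup (isPGroup_pCore p G) haR
  have haZ : a ∈ Z0 p T := by
    apply stab_mem (p := p) (Z0 p T) m r a (by rw [ha]; group) _ (pow_orderOf_eq_one m) hjc
      (e := e) (by rw [he]; exact (Z0 p T).one_mem)
    have h3 : a⁻¹ * (m * a * m⁻¹) =
        ((z⁻¹ * a)⁻¹ * (z⁻¹ * (m * z * m⁻¹)) * (z⁻¹ * a)⁻¹⁻¹) *
          ((z⁻¹ * a)⁻¹ * (m * (z⁻¹ * a) * m⁻¹)) := by group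
    rw [h3]
    refine (Z0 p T).mul_mem (hZn.conj_mem _ ?_ _) hk2
    exact (Z0 p T).mul_mem ((Z0 p T).inv_mem hz) (hZn.conj_mem z hz m)
  have : m * r * m⁻¹ * r⁻¹ = r * a * r⁻¹ := by rw [ha]; group
  rw [this]
  exact hZn.conj_mem a haZ r

/-- `T₀` is contained in every `E`-centric `E`-radical subgroup -/
theorem T0_le_of_centric_radical (h : Setup p S T)
    (hE : E.IsNormalIn (groupFusionSystem (S : Subgroup G)) p) {R : Subgroup G}
    (hcen : E.IsCentric R) (hrad : E.IsRadical p R) : T0 p T ≤ R := by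
  have hn : (T0 p T).Normal := inferInstance
  have hRT : R ≤ T := hcen.1
  have hTp : IsPGroup p T := S.isPGroup'.to_le h.hTS
  have hfin : Finite T := inferInstance
  by_contra hne
  obtain ⟨x, hxM, hxN, hxR⟩ := exists_mem_normalizer_not_mem (S := T) hTp (T0_le p T) hRT
    (fun g _ x hx => hn.conj_mem x hx g) hne
  let K : Subgroup (MulAut R) := autInducedBy (T0 p T ⊓ Subgroup.normalizer (R : Set G)) R
  have hKE : K ≤ E.autGroup R := by
    intro κ hκ
    obtain ⟨g, hg, hgκ⟩ := mem_autInducedBy_iff.1 hκ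
    apply Cfsg.Agent.Lib.Helper87.autInducedBy_le_autGroup E hRT
    exact mem_autInducedBy_iff.2 ⟨g, T0_le p T hg.1, hgκ⟩
  have hKn : (K.subgroupOf (E.autGroup R)).Normal := by
    constructor
    intro n hn' g
    rw [Subgroup.mem_subgroupOf] at hn' ⊢
    obtain ⟨t, ht, htn⟩ := mem_autInducedBy_iff.1 hn'
    obtain ⟨g', hg'⟩ := autE_conj hE hRT g.2
    have hg'N : g' ∈ Subgroup.normalizer (R : Set G) := mem_normalizer_of_conj_aut hg'
    show (g : MulAut R) * (n : MulAut R) * (g : MulAut R)⁻¹ ∈ K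
    rw [mem_autInducedBy_iff]
    refine ⟨g' * t * g'⁻¹, ⟨hn.conj_mem t ht.1 g', ?_⟩, fun y => ?_⟩
    · exact Subgroup.mul_mem _ (Subgroup.mul_mem _ hg'N ht.2) (Subgroup.inv_mem _ hg'N)
    · rw [MulAut.mul_apply, MulAut.mul_apply, hg', htn, inv_apply_of_conj hg']
      group
  have hKp : IsPGroup p (K.subgroupOf (E.autGroup R)) := by
    have h1 : IsPGroup p ↥(T0 p T ⊓ Subgroup.normalizer (R : Set G)) :=
      (T0_isPGroup (p := p) (T := T)).to_le inf_le_left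
    exact (autInducedBy_isPGroup h1 R).comap_subtype
  have hle : K.subgroupOf (E.autGroup R) ≤ pCore p (E.autGroup R) := le_sSup ⟨hKn, hKp⟩
  have hcx : conjAut R x hxN ∈ K :=
    mem_autInducedBy_iff.2 ⟨x, ⟨hxM, hxN⟩, fun y => rfl⟩
  have hmem : conjAut R x hxN ∈ (pCore p (E.autGroup R)).map (E.autGroup R).subtype :=
    ⟨⟨conjAut R x hxN, hKE hcx⟩, hle (Subgroup.mem_subgroupOf.mpr hcx), rfl⟩
  rw [hrad.2] at hmem
  obtain ⟨r, hr⟩ := hmem
  have hcent : (r : G)⁻¹ * x ∈ centralizerIn T R := by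
    refine ⟨T.mul_mem (T.inv_mem (hRT r.2)) (T0_le p T hxM), ?_⟩
    show (r : G)⁻¹ * x ∈ Subgroup.centralizer (R : Set G)
    rw [Subgroup.mem_centralizer_iff]
    intro y hy
    have := congrArg (fun a : MulAut R => ((a ⟨y, hy⟩ : R) : G)) hr
    have hh : (r : G) * y * (r : G)⁻¹ = x * y * x⁻¹ := this
    calc y * ((r : G)⁻¹ * x) = (r : G)⁻¹ * ((r : G) * y * (r : G)⁻¹) * x := by group
      _ = (r : G)⁻¹ * (x * y * x⁻¹) * x := by rw [hh]
      _ = (r : G)⁻¹ * x * y := by group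
  have hin : (r : G)⁻¹ * x ∈ R := hcen.2 R (isConj_refl E hRT) hcent
  apply hxR
  have : x = (r : G) * ((r : G)⁻¹ * x) := by group
  rw [this]
  exact R.mul_mem r.2 hin

end main

end Cfsg.Agent.Lib.Helper11.NS
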