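import Mathlib

/-!
# helper11: a transfer argument (for S5121)

`le_of_transfer_trivial`: let `P` be a Sylow `p`-subgroup of the finite group `X`, `T ⊴ P`,
`Y ≤ P` with `P = T Y` and `[X, Y] ≤ T`.  If `X` is generated by `p'`-elements and by elements `g`
all of whose conjugates of powers lying in `P` lie in `T`, then `Y ≤ T`.
-/

set_option autoImplicit false

namespace Cfsg.Agent.Lib.Helper11.NS

open Subgroup

theorem transfer_eq_pow_of_forall' {G : Type*} [Group G] {H : Subgroup G} {A : Type*} [CommGroup A]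
    (ϕ : H →* A) [H.FiniteIndex] (g : G) (a : A)
    (key : ∀ (k : ℕ) (g₀ : G) (hk : g₀⁻¹ * g ^ k * g₀ ∈ H), ϕ ⟨g₀⁻¹ * g ^ k * g₀, hk⟩ = a ^ k) :
    MonoidHom.transfer ϕ g = a ^ H.index := by
  classical
  let := H.fintypeQuotientOfFiniteIndex
  rw [MonoidHom.transfer_eq_prod_quotient_orbitRel_zpowers_quot, Subgroup.index_eq_sum_minimalPeriod H g,
    ← Finset.prod_pow_eq_pow_sum]
  exact Finset.prod_congr rfl (fun q _ => key _ _ _)

open scoped IsMulCommutative in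
theorem le_of_transfer_trivial {X : Type*} [Group X] [Finite X] {p : ℕ} [Fact p.Prime]
    (P : Sylow p X) (T Y : Subgroup X) (hYP : Y ≤ P)
    (hTn : ∀ x ∈ (P : Subgroup X), ∀ t ∈ T, x * t * x⁻¹ ∈ T)
    (hPTY : ∀ x ∈ (P : Subgroup X), ∃ t ∈ T, ∃ y ∈ Y, x = t * y)
    (hY : ∀ y ∈ Y, ∀ x : X, x⁻¹ * y * x * y⁻¹ ∈ T)
    (s : Set X) (hs : Subgroup.closure s = ⊤)
    (hgen : ∀ g ∈ s, (orderOf g).Coprime p ∨
      ∀ (k : ℕ) (x : X), x⁻¹ * g ^ k * x ∈ (P : Subgroup X) → x⁻¹ * g ^ k * x ∈ T) :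
    Y ≤ T := by
  classical
  -- the quotient `P / T`
  let T' : Subgroup (P : Subgroup X) := T.subgroupOf P
  have hT'n : T'.Normal := by
    constructor
    intro n hn g
    rw [Subgroup.mem_subgroupOf] at hn ⊢
    exact hTn g g.2 n hn
  -- classes of elements of `Y` exhaust the quotient and are central
  have hcentral : ∀ (y : (P : Subgroup X)), (y : X) ∈ Y → ∀ b : (P : Subgroup X) ⧸ T',
      (y : (P : Subgroup X) ⧸ T') * b = b * (y : (P : Subgroup X) ⧸ T') := by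
    intro y hy b
    obtain ⟨x, rfl⟩ := QuotientGroup.mk_surjective b
    rw [← QuotientGroup.mk_mul, ← QuotientGroup.mk_mul, QuotientGroup.eq]
    show ((y * x)⁻¹ * (x * y) : (P : Subgroup X)) ∈ T.subgroupOf P
    rw [Subgroup.mem_subgroupOf]
    have h1 := hY (y : X)⁻¹ (Y.inv_mem hy) (x : X)
    have h2 : (((y * x)⁻¹ * (x * y) : (P : Subgroup X)) : X) =
        (x : X)⁻¹ * (y : X)⁻¹ * (x : X) * ((y : X)⁻¹)⁻¹ := by
      push_cast
      group
    rw [h2]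
    exact h1
  have hrep : ∀ b : (P : Subgroup X) ⧸ T', ∃ y : (P : Subgroup X), (y : X) ∈ Y ∧
      b = (y : (P : Subgroup X) ⧸ T') := by
    intro b
    obtain ⟨x, rfl⟩ := QuotientGroup.mk_surjective b
    obtain ⟨t, ht, y, hy, hxy⟩ := hPTY x x.2
    refine ⟨⟨y, hYP hy⟩, hy, ?_⟩
    rw [QuotientGroup.eq]
    show (x⁻¹ * ⟨y, hYP hy⟩ : (P : Subgroup X)) ∈ T.subgroupOf P
    rw [Subgroup.mem_subgroupOf]
    have : ((x⁻¹ * ⟨y, hYP hy⟩ : (P : Subgroup X)) : X) = y⁻¹ * t⁻¹ * y := by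
      push_cast
      rw [hxy]
      group
    rw [this]
    have := hTn y⁻¹ ((P : Subgroup X).inv_mem (hYP hy)) t⁻¹ (T.inv_mem ht)
    simpa using this
  have hcomm : IsMulCommutative ((P : Subgroup X) ⧸ T') := by
    refine ⟨⟨fun a b => ?_⟩⟩
    obtain ⟨y, hy, rfl⟩ := hrep a
    exact hcentral y hy b
  let ϕ : (P : Subgroup X) →* (P : Subgroup X) ⧸ T' := QuotientGroup.mk' T'
  have hϕ1 : ∀ x : (P : Subgroup X), (x : X) ∈ T → ϕ x = 1 := by
    intro x hx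
    exact (QuotientGroup.eq_one_iff x).mpr (Subgroup.mem_subgroupOf.mpr hx)
  have hϕ2 : ∀ x : (P : Subgroup X), ϕ x = 1 → (x : X) ∈ T := by
    intro x hx
    exact Subgroup.mem_subgroupOf.mp ((QuotientGroup.eq_one_iff x).mp hx)
  have hAp : IsPGroup p ((P : Subgroup X) ⧸ T') := P.2.to_quotient T'
  let V : X →* (P : Subgroup X) ⧸ T' := MonoidHom.transfer ϕ
  -- `V` kills the generators
  have hV1 : ∀ g ∈ s, V g = 1 := by
    intro g hg
    rcases hgen g hg with hc | hc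
    · obtain ⟨k, hk⟩ := hAp (V g)
      have h1 : orderOf (V g) ∣ p ^ k := orderOf_dvd_of_pow_eq_one hk
      have h2 : orderOf (V g) ∣ orderOf g := orderOf_map_dvd V g
      have h3 : orderOf (V g) ∣ Nat.gcd (orderOf g) (p ^ k) := Nat.dvd_gcd h2 h1
      rw [Nat.Coprime.pow_right k hc, Nat.dvd_one] at h3
      exact orderOf_eq_one_iff.mp h3
    · have := transfer_eq_pow_of_forall' ϕ g 1 (fun k g₀ hk => by
        rw [one_pow]
        exact hϕ1 _ (hc k g₀ hk))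
      rw [one_pow] at this
      exact this
  have hV : ∀ x : X, V x = 1 := by
    have : Subgroup.closure s ≤ V.ker := by
      rw [Subgroup.closure_le]
      intro g hg
      exact hV1 g hg
    rw [hs] at this
    intro x
    exact this (Subgroup.mem_top x)
  -- evaluate on `Y`
  intro y hy
  have hyP : y ∈ (P : Subgroup X) := hYP hy
  have h1 : V y = (ϕ ⟨y, hyP⟩) ^ (P : Subgroup X).index := by
    apply transfer_eq_pow_of_forall' ϕ y (ϕ ⟨y, hyP⟩)
    intro k g₀ hk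
    rw [← map_pow]
    show ((⟨g₀⁻¹ * y ^ k * g₀, hk⟩ : (P : Subgroup X)) : (P : Subgroup X) ⧸ T') =
      (((⟨y, hyP⟩ : (P : Subgroup X)) ^ k : (P : Subgroup X)) : (P : Subgroup X) ⧸ T')
    rw [QuotientGroup.eq]
    show ((⟨g₀⁻¹ * y ^ k * g₀, hk⟩ : (P : Subgroup X))⁻¹ * (⟨y, hyP⟩ : (P : Subgroup X)) ^ k) ∈
      T.subgroupOf P
    rw [Subgroup.mem_subgroupOf]
    have h2 := hY (y ^ k)⁻¹ (Y.inv_mem (Y.pow_mem hy k)) g₀
    have h3 : (((⟨g₀⁻¹ * y ^ k * g₀, hk⟩ : (P : Subgroup X))⁻¹ *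
        (⟨y, hyP⟩ : (P : Subgroup X)) ^ k : (P : Subgroup X)) : X) =
        g₀⁻¹ * (y ^ k)⁻¹ * g₀ * ((y ^ k)⁻¹)⁻¹ := by
      push_cast
      group
    rw [h3]
    exact h2
  rw [hV y] at h1
  obtain ⟨k, hk⟩ := hAp (ϕ ⟨y, hyP⟩)
  have h4 : orderOf (ϕ ⟨y, hyP⟩) ∣ (P : Subgroup X).index := orderOf_dvd_of_pow_eq_one h1.symm
  have h5 : orderOf (ϕ ⟨y, hyP⟩) ∣ p ^ k := orderOf_dvd_of_pow_eq_one hk
  have h6 : Nat.Coprime (P : Subgroup X).index p := by
    have := P.not_dvd_index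
    exact ((Nat.Prime.coprime_iff_not_dvd Fact.out).mpr this).symm
  have h7 : orderOf (ϕ ⟨y, hyP⟩) ∣ Nat.gcd (P : Subgroup X).index (p ^ k) := Nat.dvd_gcd h4 h5
  rw [Nat.Coprime.pow_right k h6, Nat.dvd_one] at h7
  exact hϕ2 ⟨y, hyP⟩ (orderOf_eq_one_iff.mp h7)

end Cfsg.Agent.Lib.Helper11.NS
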