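import Mathlib
import Cfsg.Agent.Lib.Helper84.SubgroupFusion
import Cfsg.Agent.Lib.Helper88.FusionNormalSubgroup
import Cfsg.Agent.Lib.Helper11.NSFusion
import Cfsg.Agent.Lib.Helper11.NSTransfer

/-!
# helper11: the normal subgroup `H` realizing a normal subsystem `E ⊴ F_S(G)` (S5121)

`H` is the normal closure of `T` together with the `p'`-elements of
`L = {g : c_g|T₀ ∈ Aut_E(T₀)} ∩ C_G(C_G(T₀)/Z(T₀))`.
-/

set_option autoImplicit false
set_option linter.unusedSectionVars false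
set_option linter.style.haveILetI false

namespace Cfsg.Agent.Lib.Helper11.NS

open Cfsg Cfsg.FusionSystem Cfsg.Agent.Lib.Helper97 Cfsg.Agent.Lib.Helper87

variable {G : Type*} [Group G] {p : ℕ} {S : Sylow p G} {T : Subgroup G}

/-- `H₁ = {g : c_g|T₀ ∈ Aut_E(T₀)}` -/
def H1 (E : FusionSystem T) [(T0 p T).Normal] : Subgroup G :=
  (E.autGroup (T0 p T)).comap (MulAut.conjNormal : G →* MulAut (T0 p T))

/-- `K₂ = C_G(C_G(T₀)/Z(T₀))` -/
def K2 (p : ℕ) (T : Subgroup G) [(T0 p T).Normal] : Subgroup G := centMod (Z0 p T) (CC p T)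

/-- the `p'`-elements of `H₁ ∩ K₂` -/
def pL (E : FusionSystem T) [(T0 p T).Normal] : Set G :=
  {m | m ∈ H1 (p := p) E ∧ m ∈ K2 p T ∧ (orderOf m).Coprime p}

/-- the subgroup `H` -/
def HH (E : FusionSystem T) [(T0 p T).Normal] : Subgroup G :=
  Subgroup.normalClosure ((T : Set G) ∪ pL (p := p) E)

variable {E : FusionSystem T} [(T0 p T).Normal]

theorem mem_H1_iff {g : G} : g ∈ H1 (p := p) E ↔
    ∃ α ∈ E.autGroup (T0 p T), ∀ x : T0 p T, ((α x : T0 p T) : G) = g * (x : G) * g⁻¹ := by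
  unfold H1
  rw [Subgroup.mem_comap]
  constructor
  · intro h
    exact ⟨_, h, fun x => rfl⟩
  · rintro ⟨α, hα, hαg⟩
    have : (MulAut.conjNormal g : MulAut (T0 p T)) = α := by
      ext x
      rw [hαg x]
      rfl
    rw [this]
    exact hα

theorem mem_K2_iff {g : G} : g ∈ K2 p T ↔ ∀ c ∈ CC p T, g * c * g⁻¹ * c⁻¹ ∈ Z0 p T :=
  mem_centMod_iff

instance K2_normal : (K2 p T).Normal := by
  unfold K2; infer_instance

instance HH_normal : (HH (p := p) E).Normal := by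
  unfold HH; infer_instance

theorem T_le_HH : T ≤ HH (p := p) E := fun _ ht =>
  Subgroup.subset_normalClosure (Or.inl ht)

theorem pL_subset_HH : pL (p := p) E ⊆ HH (p := p) E := fun _ hm =>
  Subgroup.subset_normalClosure (Or.inr hm)

section main

variable [Finite G] [Fact p.Prime]

/-- a map of `E` defined on a subgroup containing `T₀`, given as conjugation by `g`, puts `g` in `H₁` -/
theorem mem_H1_of_hom {P : Subgroup G} {φ : P →* G} (hφ : φ ∈ E.Hom P) (hP : T0 p T ≤ P) {g : G}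
    (hg : ∀ x : P, φ x = g * (x : G) * g⁻¹) : g ∈ H1 (p := p) E := by
  unfold H1
  rw [Subgroup.mem_comap, mem_autGroup_iff E (T0_le p T)]
  refine restrict_mem' E hφ hP (fun x => ?_)
  rw [hg]
  rfl

theorem H1_normal (h : Setup p S T) (hE : E.IsNormalIn (groupFusionSystem (S : Subgroup G)) p) :
    (H1 (p := p) E).Normal := by
  constructor
  intro n hn g
  unfold H1 at hn ⊢
  rw [Subgroup.mem_comap] at hn ⊢
  rw [map_mul, map_mul, map_inv]
  have hψ : (MulAut.conjNormal g : MulAut (T0 p T)) ∈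
      (groupFusionSystem (S : Subgroup G)).autGroup (T0 p T) := by
    rw [mem_autGroup_iff _ ((T0_le p T).trans h.hTS)]
    exact ⟨(T0_le p T).trans h.hTS, fun x => h.hTS (T0_le p T (MulAut.conjNormal g x).2), g, fun x => rfl⟩
  exact Cfsg.Agent.Lib.Helper88.Invariance.autE_conj_mem E _ h.hTS (SI_of_isNormalIn hE)
    (T0_le p T) hn hψ

theorem T_le_H1 : T ≤ H1 (p := p) E := by
  intro t ht
  unfold H1
  rw [Subgroup.mem_comap]
  apply Cfsg.Agent.Lib.Helper87.autInducedBy_le_autGroup E (T0_le p T)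
  exact mem_autInducedBy_iff.2 ⟨t, ht, fun x => rfl⟩

theorem T_le_K2 (h : Setup p S T) : T ≤ K2 p T := by
  intro t ht
  rw [mem_K2_iff]
  intro c hc
  have h1 := (h.comm_mem hc ht).2
  have : t * c * t⁻¹ * c⁻¹ = (c * t * c⁻¹ * t⁻¹)⁻¹ := by group
  rw [this]
  exact (Z0 p T).inv_mem h1

theorem HH_le_H1 (h : Setup p S T) (hE : E.IsNormalIn (groupFusionSystem (S : Subgroup G)) p) :
    HH (p := p) E ≤ H1 (p := p) E := by
  haveI := H1_normal h hE
  apply Subgroup.normalClosure_le_normal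
  rintro x (hx | hx)
  · exact T_le_H1 hx
  · exact hx.1

theorem HH_le_K2 (h : Setup p S T) : HH (p := p) E ≤ K2 p T := by
  apply Subgroup.normalClosure_le_normal
  rintro x (hx | hx)
  · exact T_le_K2 h hx
  · exact hx.2.1

/-- `[H, C] ≤ Z₀` -/
theorem HH_comm (h : Setup p S T) {x c : G} (hx : x ∈ HH (p := p) E) (hc : c ∈ CC p T) :
    x * c * x⁻¹ * c⁻¹ ∈ Z0 p T :=
  mem_K2_iff.mp (HH_le_K2 h hx) c hc

/-- every element of `Aut_E(T)` is induced by an element of `H` -/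
theorem autE_T_le (h : Setup p S T) (hE : E.IsNormalIn (groupFusionSystem (S : Subgroup G)) p) :
    E.autGroup T ≤ autInducedBy (HH (p := p) E) T := by
  have hfin : Finite T := inferInstance
  intro α hα
  obtain ⟨β, hβ, γ, hγ, rfl⟩ := Cfsg.Agent.Lib.Helper84.exists_pResidual_mul_autInducedBy p E
    (T_fullyAutomized hE) hα
  refine Subgroup.mul_mem _ ?_ ?_
  · have hle : pResidual p (E.autGroup T) ≤
        (autInducedBy (HH (p := p) E) T).comap (E.autGroup T).subtype := by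
      unfold pResidual
      rw [Subgroup.closure_le]
      intro b hb
      have hb' : (orderOf (b : MulAut T)).Coprime p := by
        rw [Subgroup.orderOf_coe]; exact hb
      obtain ⟨m, hmc, hmT, hmC⟩ := exists_pprime_lift h hE b.2 hb'
      show (b : MulAut T) ∈ autInducedBy (HH (p := p) E) T
      rw [mem_autInducedBy_iff]
      refine ⟨m, pL_subset_HH ⟨?_, mem_K2_iff.mpr hmC, hmc⟩, hmT⟩
      exact mem_H1_of_hom ((mem_autGroup_iff E le_rfl).1 b.2) (T0_le p T) hmT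
    exact hle hβ
  · obtain ⟨t, ht, htγ⟩ := mem_autInducedBy_iff.1 hγ
    exact mem_autInducedBy_iff.2 ⟨t, T_le_HH ht, htγ⟩

theorem CC_le_H1 : CC p T ≤ H1 (p := p) E := by
  intro c hc
  unfold H1
  rw [Subgroup.mem_comap]
  have : (MulAut.conjNormal c : MulAut (T0 p T)) = 1 := by
    ext x
    rw [MulAut.conjNormal_apply]
    exact conj_eq_of_mem_CC hc x.2
  rw [this]
  exact Subgroup.one_mem _

theorem T0_receptive (hE : E.IsNormalIn (groupFusionSystem (S : Subgroup G)) p) :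
    E.IsFullyAutomized p (T0 p T) ∧ E.IsReceptive (T0 p T) :=
  Cfsg.Agent.Lib.Helper88.fullyAutomized_receptive_of_weaklyClosed E p hE.1.1 (T0_weaklyClosed hE)

/-- If `g` normalizes a subgroup `P` of `T` containing `T₀`... more precisely: if `P ≤ T` and
`g P g⁻¹ ≤ T` with `c_g|T₀ ∈ Aut_E(T₀)`, then some map of `E` on `P` agrees with `c_g` on `T₀`
(receptivity of `T₀`). -/
theorem exists_hom_of_mem_H1 (hE : E.IsNormalIn (groupFusionSystem (S : Subgroup G)) p)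
    {P : Subgroup G} (hPT : P ≤ T) {g : G} (hg : g ∈ H1 (p := p) E)
    (hgP : ∀ x ∈ P, g * x * g⁻¹ ∈ T) :
    ∃ χ ∈ E.Hom P, ∀ x : P, (x : G) ∈ T0 p T → χ x = g * (x : G) * g⁻¹ := by
  have hn : (T0 p T).Normal := inferInstance
  have hr := (T0_receptive hE).2
  unfold H1 at hg
  rw [Subgroup.mem_comap, mem_autGroup_iff E (T0_le p T)] at hg
  have hφr : ((T0 p T).subtype.comp ((MulAut.conjNormal g : MulAut (T0 p T)) :
      T0 p T ≃* T0 p T).toMonoidHom).range = T0 p T := range_subtype_comp _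
  obtain ⟨ψ, hψ, hψe⟩ := hr.2 (T0 p T) _ hg hφr
  have hle : P ≤ extender T (T0 p T) ((T0 p T).subtype.comp
      ((MulAut.conjNormal g : MulAut (T0 p T)) : T0 p T ≃* T0 p T).toMonoidHom) := by
    intro t ht
    apply Subgroup.subset_closure
    refine ⟨hPT ht, ?_, g * t * g⁻¹, hgP t ht, ?_⟩
    · have : Subgroup.normalizer ((T0 p T : Subgroup G) : Set G) = ⊤ :=
        Subgroup.normalizer_eq_top_iff.mpr hn
      rw [this]; exact Subgroup.mem_top _
    · intro x hx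
      show g * (t * (x : G) * t⁻¹) * g⁻¹ = g * t * g⁻¹ * (g * (x : G) * g⁻¹) * (g * t * g⁻¹)⁻¹
      group
  refine ⟨ψ.comp (Subgroup.inclusion hle), restrict_mem E hψ hle, ?_⟩
  intro x hx
  have := hψe (x : G) hx (hle x.2)
  exact this

/-- `H₁ ≤ H C` -/
theorem H1_le_sup (h : Setup p S T) (hE : E.IsNormalIn (groupFusionSystem (S : Subgroup G)) p) :
    H1 (p := p) E ≤ HH (p := p) E ⊔ CC p T := by
  intro g hg
  obtain ⟨n₀, hn₀, n, hn, rfl⟩ := Cfsg.Agent.Lib.Helper88.frattini_inf S (HH (p := p) E ⊔ CC p T) g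
  suffices hs : n₀ ∈ HH (p := p) E ⊔ CC p T from Subgroup.mul_mem _ hs hn
  have hnH1 : n ∈ H1 (p := p) E := (sup_le (HH_le_H1 h hE) CC_le_H1) hn
  have hn₀H1 : n₀ ∈ H1 (p := p) E := by
    have : n₀ = (n₀ * n) * n⁻¹ := by group
    rw [this]
    exact Subgroup.mul_mem _ hg (Subgroup.inv_mem _ hnH1)
  -- elements normalizing `S ∩ HC` map `T` into `T`
  have hkey : ∀ g' ∈ Subgroup.normalizer ((((S : Subgroup G) ⊓ (HH (p := p) E ⊔ CC p T) :
      Subgroup G)) : Set G), ∀ t ∈ T, g' * t * g'⁻¹ ∈ T := by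
    intro g' hg' t ht
    have h1 : t ∈ (S : Subgroup G) ⊓ (HH (p := p) E ⊔ CC p T) :=
      ⟨h.hTS ht, (le_sup_left : HH (p := p) E ≤ _) (T_le_HH ht)⟩
    have h2 := (Subgroup.mem_normalizer_iff.mp hg' t).mp h1
    exact h.hsc g' t ht h2.1
  obtain ⟨χ, hχ, hχe⟩ := exists_hom_of_mem_H1 hE le_rfl hn₀H1 (hkey n₀ hn₀)
  obtain ⟨α, hα, hαχ⟩ := Cfsg.Agent.Lib.Helper88.exists_aut_of_range_eq E hχ ((T_weaklyClosed E).2 χ hχ)
  obtain ⟨g', hg', hg'α⟩ := mem_autInducedBy_iff.1 (autE_T_le h hE hα)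
  have hc : g'⁻¹ * n₀ ∈ CC p T := by
    rw [mem_CC_iff]
    intro x hx
    have h1 := hg'α ⟨x, T0_le p T hx⟩
    rw [hαχ, hχe ⟨x, T0_le p T hx⟩ hx] at h1
    have h2 : n₀ * x * n₀⁻¹ = g' * x * g'⁻¹ := h1
    calc x * (g'⁻¹ * n₀) = g'⁻¹ * (g' * x * g'⁻¹) * n₀ := by group
      _ = g'⁻¹ * (n₀ * x * n₀⁻¹) * n₀ := by rw [h2]
      _ = g'⁻¹ * n₀ * x := by group
  have : n₀ = g' * (g'⁻¹ * n₀) := by group
  rw [this]
  exact Subgroup.mul_mem _ ((le_sup_left : HH (p := p) E ≤ _) hg') ((le_sup_right : CC p T ≤ _) hc)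

/-- `H ∩ C ≤ O_p(G)` -/
theorem HH_inf_CC_le_pCore (h : Setup p S T) : HH (p := p) E ⊓ CC p T ≤ pCore p G := by
  intro y hy
  apply h.W_le_pCore
  refine ⟨hy.2, mem_centMod_iff.mpr (fun r hr => ?_)⟩
  exact HH_comm h hy.1 hr.1

/-- `S ∩ H ⊆ T (H ∩ C)` -/
theorem exists_mul_of_mem_S_inf_HH (h : Setup p S T)
    (hE : E.IsNormalIn (groupFusionSystem (S : Subgroup G)) p) {x : G}
    (hx : x ∈ (S : Subgroup G) ⊓ HH (p := p) E) : ∃ t ∈ T, t⁻¹ * x ∈ HH (p := p) E ⊓ CC p T := by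
  have hfin : Finite (T0 p T) := inferInstance
  obtain ⟨-, R, hR⟩ := (T0_receptive hE).1
  have hSHp : IsPGroup p ↥((S : Subgroup G) ⊓ HH (p := p) E) := S.isPGroup'.to_le inf_le_left
  have hQp : IsPGroup p ((autInducedBy ((S : Subgroup G) ⊓ HH (p := p) E) (T0 p T)).subgroupOf
      (E.autGroup (T0 p T))) := (autInducedBy_isPGroup hSHp (T0 p T)).comap_subtype
  have hRQ : (R : Subgroup (E.autGroup (T0 p T))) ≤
      (autInducedBy ((S : Subgroup G) ⊓ HH (p := p) E) (T0 p T)).subgroupOf (E.autGroup (T0 p T)) := by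
    rw [hR]
    intro a ha
    rw [Subgroup.mem_subgroupOf] at ha ⊢
    obtain ⟨t, ht, hta⟩ := mem_autInducedBy_iff.1 ha
    exact mem_autInducedBy_iff.2 ⟨t, ⟨h.hTS ht, T_le_HH ht⟩, hta⟩
  have hQR := R.is_maximal' hQp hRQ
  have hxH1 : x ∈ H1 (p := p) E := HH_le_H1 h hE hx.2
  have hxE : (MulAut.conjNormal x : MulAut (T0 p T)) ∈ E.autGroup (T0 p T) := hxH1
  have hxQ : (⟨MulAut.conjNormal x, hxE⟩ : E.autGroup (T0 p T)) ∈
      (autInducedBy ((S : Subgroup G) ⊓ HH (p := p) E) (T0 p T)).subgroupOf (E.autGroup (T0 p T)) := by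
    rw [Subgroup.mem_subgroupOf]
    exact mem_autInducedBy_iff.2 ⟨x, hx, fun y => rfl⟩
  rw [hQR, hR, Subgroup.mem_subgroupOf] at hxQ
  obtain ⟨t, ht, htx⟩ := mem_autInducedBy_iff.1 hxQ
  refine ⟨t, ht, Subgroup.mul_mem _ (Subgroup.inv_mem _ (T_le_HH ht)) hx.2, ?_⟩
  show t⁻¹ * x ∈ CC p T
  rw [mem_CC_iff]
  intro y hy
  have h1 : x * y * x⁻¹ = t * y * t⁻¹ := htx ⟨y, hy⟩
  calc y * (t⁻¹ * x) = t⁻¹ * (t * y * t⁻¹) * x := by group
    _ = t⁻¹ * (x * y * x⁻¹) * x := by rw [h1]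
    _ = t⁻¹ * x * y := by group

/-- **Transfer.** `H ∩ C_G(T₀) ≤ Z(T₀)` -/
theorem HH_inf_CC_le_Z0 (h : Setup p S T) (hE : E.IsNormalIn (groupFusionSystem (S : Subgroup G)) p) :
    HH (p := p) E ⊓ CC p T ≤ Z0 p T := by
  obtain ⟨P, hP⟩ := Cfsg.Agent.Lib.Helper88.sylow_inf_normal S (HH (p := p) E)
  have hmemP : ∀ x : HH (p := p) E, x ∈ (P : Subgroup (HH (p := p) E)) ↔ (x : G) ∈ (S : Subgroup G) := by
    intro x
    have : x ∈ (P : Subgroup (HH (p := p) E)) ↔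
        x ∈ ((S : Subgroup G) ⊓ HH (p := p) E).subgroupOf (HH (p := p) E) := by rw [hP]
    rw [this, Subgroup.mem_subgroupOf]
    exact ⟨fun h => h.1, fun h => ⟨h, x.2⟩⟩
  have hs : Subgroup.closure (((↑) : HH (p := p) E → G) ⁻¹'
      (Group.conjugatesOfSet ((T : Set G) ∪ pL (p := p) E))) = ⊤ :=
    Subgroup.closure_closure_coe_preimage
  have key := le_of_transfer_trivial P (T.subgroupOf (HH (p := p) E))
    ((HH (p := p) E ⊓ CC p T).subgroupOf (HH (p := p) E)) ?_ ?_ ?_ ?_ _ hs ?_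
  · intro y hy
    have : (⟨y, hy.1⟩ : HH (p := p) E) ∈ T.subgroupOf (HH (p := p) E) :=
      key (Subgroup.mem_subgroupOf.2 hy)
    rw [← h.inf_CC_eq]
    exact ⟨Subgroup.mem_subgroupOf.1 this, hy.2⟩
  · intro y hy
    rw [hmemP]
    exact pCore_le_sylow' S (HH_inf_CC_le_pCore h (Subgroup.mem_subgroupOf.1 hy))
  · intro x hx t ht
    rw [Subgroup.mem_subgroupOf] at ht ⊢
    exact h.conj_mem_T_of_mem_S ((hmemP x).1 hx) ht
  · intro x hx
    obtain ⟨t, ht, hy⟩ := exists_mul_of_mem_S_inf_HH h hE ⟨(hmemP x).1 hx, x.2⟩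
    refine ⟨⟨t, T_le_HH ht⟩, Subgroup.mem_subgroupOf.2 ht, ⟨t⁻¹ * x, hy.1⟩,
      Subgroup.mem_subgroupOf.2 hy, Subtype.ext ?_⟩
    show (x : G) = t * (t⁻¹ * x)
    group
  · intro y hy x
    rw [Subgroup.mem_subgroupOf] at hy ⊢
    have h1 := HH_comm h (Subgroup.inv_mem _ x.2) hy.2
    rw [inv_inv] at h1
    exact T0_le p T (Z0_le_T0 p T h1)
  · intro g hg
    obtain ⟨b, hb, hbg⟩ := Group.mem_conjugatesOfSet_iff.mp hg
    obtain ⟨a, ha⟩ := isConj_iff.mp hbg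
    rcases hb with hb | hb
    · right
      intro k x hx
      rw [Subgroup.mem_subgroupOf]
      have h1 : ((x⁻¹ * g ^ k * x : HH (p := p) E) : G) = (x⁻¹ * a : G) * b ^ k * (x⁻¹ * a : G)⁻¹ := by
        push_cast
        rw [← ha, conj_pow]
        group
      rw [h1]
      apply h.hsc _ _ (T.pow_mem hb k)
      rw [← h1]
      exact (hmemP _).1 hx
    · left
      have h1 : orderOf g = orderOf (g : G) := (Subgroup.orderOf_coe g).symm
      have h2 : orderOf (g : G) = orderOf b := by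
        rw [← ha]
        exact (MulAut.conj a).orderOf_eq b
      rw [h1, h2]
      exact hb.2.2

/-- `S ∩ H = T` -/
theorem S_inf_HH_eq (h : Setup p S T) (hE : E.IsNormalIn (groupFusionSystem (S : Subgroup G)) p) :
    (S : Subgroup G) ⊓ HH (p := p) E = T := by
  apply le_antisymm
  · intro x hx
    obtain ⟨t, ht, hy⟩ := exists_mul_of_mem_S_inf_HH h hE hx
    have h1 : t⁻¹ * x ∈ T := T0_le p T (Z0_le_T0 p T (HH_inf_CC_le_Z0 h hE hy))
    have : x = t * (t⁻¹ * x) := by group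
    rw [this]
    exact T.mul_mem ht h1
  · exact le_inf h.hTS T_le_HH

/-- `T` is a Sylow `p`-subgroup of `H` -/
theorem exists_sylow_HH (h : Setup p S T) (hE : E.IsNormalIn (groupFusionSystem (S : Subgroup G)) p) :
    ∃ R : Sylow p (HH (p := p) E), (R : Subgroup (HH (p := p) E)) = T.subgroupOf (HH (p := p) E) := by
  obtain ⟨P, hP⟩ := Cfsg.Agent.Lib.Helper88.sylow_inf_normal S (HH (p := p) E)
  refine ⟨P, ?_⟩
  rw [hP, S_inf_HH_eq h hE]

/-- If `N` centralizes `C` modulo `Z₀` and `N ∩ C ≤ Z₀ ≤ N`, then for `x ∈ N`, `c ∈ C` with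
`(x c)^n = 1` we have `c^n ∈ Z₀`. -/
theorem pow_mem_Z0_of_mul_pow_eq_one {N : Subgroup G}
    (hNC : ∀ x ∈ N, ∀ c ∈ CC p T, x * c * x⁻¹ * c⁻¹ ∈ Z0 p T) (hNZ : N ⊓ CC p T ≤ Z0 p T)
    (hZN : Z0 p T ≤ N) {x c : G} (hx : x ∈ N) (hc : c ∈ CC p T) {n : ℕ} (hn : (x * c) ^ n = 1) :
    c ^ n ∈ Z0 p T := by
  have hcomm : Commute (x : G ⧸ Z0 p T) (c : G ⧸ Z0 p T) :=
    (comm_mem_iff (Z0 p T) x c).mp (hNC x hx c hc)
  have h1 : ((x * c : G) : G ⧸ Z0 p T) ^ n = 1 := by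
    rw [← QuotientGroup.mk_pow, hn]; rfl
  rw [QuotientGroup.mk_mul, hcomm.mul_pow, ← QuotientGroup.mk_pow, ← QuotientGroup.mk_pow,
    ← QuotientGroup.mk_mul, QuotientGroup.eq_one_iff] at h1
  apply hNZ
  refine ⟨?_, (CC p T).pow_mem hc n⟩
  have : c ^ n = (x ^ n)⁻¹ * (x ^ n * c ^ n) := by group
  rw [this]
  exact N.mul_mem (N.inv_mem (N.pow_mem hx n)) (hZN h1)

/-- If `c ∈ C` and `c^n ∈ Z₀` with `n` prime to `p`, then `c` acts on `T` as an element of `Z₀`. -/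
theorem exists_Z0_conj_eq (h : Setup p S T) {c : G} (hc : c ∈ CC p T) {n : ℕ} (hn : n.Coprime p)
    (hcn : c ^ n ∈ Z0 p T) : ∃ z ∈ Z0 p T, ∀ y ∈ T, c * y * c⁻¹ = z * y * z⁻¹ := by
  have hZn : (Z0 p T).Normal := inferInstance
  obtain ⟨e, he⟩ := (IsPGroup.iff_card).mp (Z0_isPGroup (p := p) (T := T))
  have hpow : ∀ w ∈ Z0 p T, w ^ p ^ e = 1 := by
    intro w hw
    have h1 : (⟨w, hw⟩ : Z0 p T) ^ Nat.card (Z0 p T) = 1 := pow_card_eq_one'
    rw [he] at h1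
    exact congrArg Subtype.val h1
  -- displacement
  have hw : ∀ y ∈ T, y⁻¹ * (c * y * c⁻¹) ∈ Z0 p T := by
    intro y hy
    have h1 := (h.comm_mem hc hy).2
    have : y⁻¹ * (c * y * c⁻¹) = y⁻¹ * (c * y * c⁻¹ * y⁻¹) * y⁻¹⁻¹ := by group
    rw [this]
    exact hZn.conj_mem _ h1 _
  have hcw : ∀ w ∈ Z0 p T, c * w = w * c := fun w hw => (mem_CC_iff.mp hc w (Z0_le_T0 p T hw)).symm
  have hpowc : ∀ (j : ℕ), ∀ y ∈ T, c ^ j * y * (c ^ j)⁻¹ = y * (y⁻¹ * (c * y * c⁻¹)) ^ j := by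
    intro j y hy
    have h1 := stab_pow_mul c y (y⁻¹ * (c * y * c⁻¹)) (by group) (hcw _ (hw y hy)) j
    rw [h1]; group
  have hne : p ^ e ≠ 0 := pow_ne_zero e (Fact.out : p.Prime).ne_zero
  obtain ⟨u, -, hu⟩ := Nat.exists_mul_mod_eq_of_coprime 1 (Nat.Coprime.pow_right e hn) hne
  refine ⟨(c ^ n) ^ u, (Z0 p T).pow_mem hcn u, fun y hy => ?_⟩
  rw [← pow_mul, hpowc (n * u) y hy, pow_eq_pow_mod (n * u) (hpow _ (hw y hy)), hu,
    ← pow_eq_pow_mod 1 (hpow _ (hw y hy)), pow_one]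
  group

theorem Z0_le_HH : Z0 p T ≤ HH (p := p) E :=
  (Z0_le_T0 p T).trans ((T0_le p T).trans T_le_HH)

/-- `Aut_E(R) ≤ Aut_H(R)` for fully automized `R ⊇ T₀` -/
theorem autE_le_of_T0_le (h : Setup p S T) (hE : E.IsNormalIn (groupFusionSystem (S : Subgroup G)) p)
    {R : Subgroup G} (hRT : R ≤ T) (hT0R : T0 p T ≤ R) (hRa : E.IsFullyAutomized p R) :
    E.autGroup R ≤ autInducedBy (HH (p := p) E) R := by
  have hfin : Finite T := inferInstance
  have hHn : (HH (p := p) E).Normal := inferInstance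
  intro α hα
  obtain ⟨β, hβ, γ, hγ, rfl⟩ := Cfsg.Agent.Lib.Helper84.exists_pResidual_mul_autInducedBy p E hRa hα
  refine Subgroup.mul_mem _ ?_ ?_
  · have hle : pResidual p (E.autGroup R) ≤
        (autInducedBy (HH (p := p) E) R).comap (E.autGroup R).subtype := by
      unfold pResidual
      rw [Subgroup.closure_le]
      intro b hb
      have hb' : (orderOf (b : MulAut R)).Coprime p := by
        rw [Subgroup.orderOf_coe]; exact hb
      obtain ⟨g₀, hg₀⟩ := autE_conj hE hRT b.2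
      obtain ⟨j, hjc, hjb⟩ := exists_pow_coprime g₀ (b : MulAut R) hb'
      have hg : ∀ x : R, (((b : MulAut R) x : R) : G) = g₀ ^ j * (x : G) * (g₀ ^ j)⁻¹ := by
        intro x
        have := conj_pow_apply hg₀ j x
        rw [hjb] at this
        exact this
      have hgH1 : g₀ ^ j ∈ H1 (p := p) E :=
        mem_H1_of_hom ((mem_autGroup_iff E hRT).1 b.2) hT0R hg
      obtain ⟨x, hx, c, hc, hxc⟩ := exists_mul_of_mem_sup (H := HH (p := p) E) (K := CC p T)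
        (fun k _ h' hh' => hHn.conj_mem h' hh' k) (H1_le_sup h hE hgH1)
      have hcn : c ^ orderOf (g₀ ^ j) ∈ Z0 p T :=
        pow_mem_Z0_of_mul_pow_eq_one (N := HH (p := p) E) (fun x hx c hc => HH_comm h hx hc)
          (HH_inf_CC_le_Z0 h hE) Z0_le_HH hx hc (by rw [← hxc]; exact pow_orderOf_eq_one _)
      obtain ⟨z, hz, hzc⟩ := exists_Z0_conj_eq h hc hjc hcn
      show (b : MulAut R) ∈ autInducedBy (HH (p := p) E) R
      rw [mem_autInducedBy_iff]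
      refine ⟨x * z, Subgroup.mul_mem _ hx (Z0_le_HH hz), fun y => ?_⟩
      rw [hg y, hxc]
      have h1 := hzc y (hRT y.2)
      calc x * c * (y : G) * (x * c)⁻¹ = x * (c * (y : G) * c⁻¹) * x⁻¹ := by group
        _ = x * (z * (y : G) * z⁻¹) * x⁻¹ := by rw [h1]
        _ = x * z * (y : G) * (x * z)⁻¹ := by group
    exact hle hβ
  · obtain ⟨t, ht, htγ⟩ := mem_autInducedBy_iff.1 hγ
    exact mem_autInducedBy_iff.2 ⟨t, T_le_HH ht, htγ⟩

/-- `E ⊆ F_T(H)` -/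
theorem E_le (h : Setup p S T) (hE : E.IsNormalIn (groupFusionSystem (S : Subgroup G)) p) :
    ∀ P : Subgroup G, E.Hom P ⊆ (fusionSystemOfSubgroup (HH (p := p) E) T T_le_HH).Hom P := by
  have hTp : IsPGroup p T := S.isPGroup'.to_le h.hTS
  have hfin : Finite T := inferInstance
  apply Cfsg.Agent.Lib.Helper88.alperin_cr E _ hTp hE.1.1
  intro R _ hcen hrad hRa _ α hα
  have hT0R := T0_le_of_centric_radical h hE hcen hrad
  have hRT : R ≤ T := hcen.1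
  obtain ⟨g, hg, hgα⟩ := mem_autInducedBy_iff.1 (autE_le_of_T0_le h hE hRT hT0R hRa hα)
  exact ⟨hRT, fun x => hRT (α x).2, g, hg, fun x => hgα x⟩

/-- `F_T(H) ⊆ E` -/
theorem le_E (h : Setup p S T) (hE : E.IsNormalIn (groupFusionSystem (S : Subgroup G)) p) :
    ∀ P : Subgroup G, (fusionSystemOfSubgroup (HH (p := p) E) T T_le_HH).Hom P ⊆ E.Hom P := by
  have hn : (T0 p T).Normal := inferInstance
  rintro P φ ⟨hPT, hφT, g, hg, hgφ⟩
  have hP'T : P ⊔ T0 p T ≤ T := sup_le hPT (T0_le p T)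
  have hgP' : ∀ x ∈ P ⊔ T0 p T, g * x * g⁻¹ ∈ T := by
    have hle : P ⊔ T0 p T ≤ T.comap (MulAut.conj g).toMonoidHom := by
      apply sup_le
      · intro x hx
        show g * x * g⁻¹ ∈ T
        rw [← hgφ ⟨x, hx⟩]
        exact hφT ⟨x, hx⟩
      · intro x hx
        exact T0_le p T (hn.conj_mem x hx g)
    exact fun x hx => hle hx
  obtain ⟨χ, hχ, hχe⟩ := exists_hom_of_mem_H1 hE hP'T (HH_le_H1 h hE hg) hgP'
  obtain ⟨-, -, g₂, hg₂, hg₂χ⟩ := E_le h hE _ hχ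
  -- `z = g₂⁻¹ g ∈ H ∩ C ≤ Z₀`
  have hz : g₂⁻¹ * g ∈ Z0 p T := by
    apply HH_inf_CC_le_Z0 h hE
    refine ⟨Subgroup.mul_mem _ (Subgroup.inv_mem _ hg₂) hg, mem_CC_iff.mpr ?_⟩
    intro x hx
    have hx' : x ∈ P ⊔ T0 p T := (le_sup_right : T0 p T ≤ _) hx
    have h1 : g₂ * x * g₂⁻¹ = g * x * g⁻¹ := by
      rw [← hg₂χ ⟨x, hx'⟩, hχe ⟨x, hx'⟩ hx]
    calc x * (g₂⁻¹ * g) = g₂⁻¹ * (g₂ * x * g₂⁻¹) * g := by group
      _ = g₂⁻¹ * (g * x * g⁻¹) * g := by rw [h1]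
      _ = g₂⁻¹ * g * x := by group
  have hzT : g₂⁻¹ * g ∈ T := T0_le p T (Z0_le_T0 p T hz)
  have hzP' : ∀ x : P, conjHom P (g₂⁻¹ * g) x ∈ P ⊔ T0 p T := by
    intro x
    have hz' : g₂⁻¹ * g ∈ P ⊔ T0 p T := (le_sup_right : T0 p T ≤ _) (Z0_le_T0 p T hz)
    exact Subgroup.mul_mem _ (Subgroup.mul_mem _ hz' ((le_sup_left : P ≤ _) x.2)) (Subgroup.inv_mem _ hz')
  refine comp_mem' E (E.conj_mem hPT hzT) hχ hzP' (fun x => ?_)
  rw [hg₂χ, hgφ]
  show g * (x : G) * g⁻¹ = g₂ * ((g₂⁻¹ * g) * (x : G) * (g₂⁻¹ * g)⁻¹) * g₂⁻¹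
  group

/-- **Existence.** `E = F_T(H)` -/
theorem hom_eq (h : Setup p S T) (hE : E.IsNormalIn (groupFusionSystem (S : Subgroup G)) p)
    (P : Subgroup G) :
    E.Hom P = (fusionSystemOfSubgroup (HH (p := p) E) T T_le_HH).Hom P :=
  Set.Subset.antisymm (E_le h hE P) (le_E h hE P)

end main

end Cfsg.Agent.Lib.Helper11.NS
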