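import Mathlib
import Cfsg.Agent.Lib.Helper11.NSMain

/-!
# helper11: uniqueness of the normal subgroup realizing a normal subsystem (S5121)
-/

set_option autoImplicit false
set_option linter.unusedSectionVars false
set_option linter.style.haveILetI false

namespace Cfsg.Agent.Lib.Helper11.NS

open Cfsg Cfsg.FusionSystem Cfsg.Agent.Lib.Helper97 Cfsg.Agent.Lib.Helper87

variable {G : Type*} [Group G]

theorem mem_of_pow_mem_of_coprime {N : Subgroup G} {x : G} {m n : ℕ} (hmn : Nat.Coprime m n)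
    (hm : x ^ m ∈ N) (hn : x ^ n ∈ N) : x ∈ N := by
  have h1 : ((Nat.gcd m n : ℕ) : ℤ) = m * Nat.gcdA m n + n * Nat.gcdB m n := Nat.gcd_eq_gcd_ab m n
  rw [hmn] at h1
  have h2 : x = (x ^ m) ^ (Nat.gcdA m n) * (x ^ n) ^ (Nat.gcdB m n) := by
    rw [← zpow_natCast x m, ← zpow_natCast x n, ← zpow_mul, ← zpow_mul, ← zpow_add, ← h1]
    simp
  rw [h2]
  exact N.mul_mem (N.zpow_mem hm _) (N.zpow_mem hn _)

variable {p : ℕ} {S : Sylow p G} {T : Subgroup G} {E : FusionSystem T} [(T0 p T).Normal]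
  [Finite G] [Fact p.Prime]

/-- **Uniqueness.** -/
theorem eq_HH (h : Setup p S T) {H' : Subgroup G} (hTH' : T ≤ H') (hH'n : H'.Normal)
    (hSyl : ∃ R : Sylow p H', (R : Subgroup H') = T.subgroupOf H')
    (hfus : ∀ P : Subgroup G, E.Hom P = (fusionSystemOfSubgroup H' T hTH').Hom P) :
    H' = HH (p := p) E := by
  have hn : (T0 p T).Normal := inferInstance
  have hCn : (CC p T).Normal := inferInstance
  have hHn : (HH (p := p) E).Normal := inferInstance
  -- (U0) `S ∩ H' = T`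
  have hU0 : (S : Subgroup G) ⊓ H' ≤ T := by
    obtain ⟨R, hR⟩ := hSyl
    haveI := hH'n
    obtain ⟨P', hP'⟩ := Cfsg.Agent.Lib.Helper88.sylow_inf_normal S H'
    have hle : (R : Subgroup H') ≤ (P' : Subgroup H') := by
      rw [hR, hP']
      intro x hx
      rw [Subgroup.mem_subgroupOf] at hx ⊢
      exact ⟨h.hTS hx, x.2⟩
    have heq := R.is_maximal' P'.isPGroup' hle
    intro x hx
    have h1 : (⟨x, hx.2⟩ : H') ∈ (P' : Subgroup H') := by
      rw [hP', Subgroup.mem_subgroupOf]; exact hx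
    rw [heq, hR, Subgroup.mem_subgroupOf] at h1
    exact h1
  -- (U1)
  have hU1 : H' ⊓ pCore p G ≤ T0 p T := fun x hx =>
    ⟨hU0 ⟨pCore_le_sylow' S hx.2, hx.1⟩, hx.2⟩
  -- (U2) `H' ∩ C ≤ Z₀`
  have hU2 : H' ⊓ CC p T ≤ Z0 p T := by
    haveI := hH'n
    have hle : H' ⊓ CC p T ≤ pCore p G := by
      apply h.le_pCore_of_stab H' (T0 p T) _ inf_le_left
      · intro y hy r hr
        have hr0 := hU1 hr
        exact (T0 p T).mul_mem ((T0 p T).inv_mem hr0) (hn.conj_mem r hr0 y)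
      · exact T0_isPGroup
      · intro y hy a ha
        exact conj_eq_of_mem_CC hy.2 ha
    intro x hx
    exact ⟨hU1 ⟨hx.1, hle hx⟩, hx.2⟩
  -- (U3) `[H', C] ≤ Z₀`
  have hU3 : ∀ x ∈ H', ∀ c ∈ CC p T, x * c * x⁻¹ * c⁻¹ ∈ Z0 p T := by
    intro x hx c hc
    apply hU2
    constructor
    · have : x * c * x⁻¹ * c⁻¹ = x * (c * x⁻¹ * c⁻¹) := by group
      rw [this]
      exact H'.mul_mem hx (hH'n.conj_mem _ (H'.inv_mem hx) c)
    · exact (CC p T).mul_mem (hCn.conj_mem c hc x) ((CC p T).inv_mem hc)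
  have hH'K2 : H' ≤ K2 p T := fun x hx => mem_K2_iff.mpr (hU3 x hx)
  -- (U4) `H' ≤ H₁`
  have hU4 : H' ≤ H1 (p := p) E := by
    intro x hx
    unfold H1
    rw [Subgroup.mem_comap, mem_autGroup_iff E (T0_le p T)]
    show _ ∈ E.Hom (T0 p T)
    rw [hfus]
    exact ⟨T0_le p T, fun y => T0_le p T (MulAut.conjNormal x y).2, x, hx, fun y => rfl⟩
  have hZH' : Z0 p T ≤ H' := (Z0_le_T0 p T).trans ((T0_le p T).trans hTH')
  apply le_antisymm
  · -- (U5) `H' ≤ H`
    intro x hx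
    have hx0 : orderOf x ≠ 0 := (orderOf_pos x).ne'
    set n := orderOf x with hndef
    have hcop : Nat.Coprime (p ^ n.factorization p) (n / p ^ n.factorization p) :=
      (Nat.Coprime.pow_left _ (Nat.coprime_ordCompl (Fact.out : p.Prime) hx0))
    apply mem_of_pow_mem_of_coprime hcop
    · -- the `p'`-part
      apply pL_subset_HH
      refine ⟨hU4 (H'.pow_mem hx _), hH'K2 (H'.pow_mem hx _), ?_⟩
      have h1 : (x ^ p ^ n.factorization p) ^ (n / p ^ n.factorization p) = 1 := by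
        rw [← pow_mul, Nat.ordProj_mul_ordCompl_eq_self, hndef, pow_orderOf_eq_one]
      exact Nat.Coprime.coprime_dvd_left (orderOf_dvd_of_pow_eq_one h1)
        (Nat.coprime_ordCompl (Fact.out : p.Prime) hx0).symm
    · -- the `p`-part
      set w := x ^ (n / p ^ n.factorization p) with hw
      have hwp : w ^ p ^ n.factorization p = 1 := by
        rw [hw, ← pow_mul, mul_comm, Nat.ordProj_mul_ordCompl_eq_self, hndef, pow_orderOf_eq_one]
      have hzp : IsPGroup p (Subgroup.zpowers w) := by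
        obtain ⟨k, -, hk⟩ := (Nat.dvd_prime_pow (Fact.out : p.Prime)).mp (orderOf_dvd_of_pow_eq_one hwp)
        apply IsPGroup.of_card (n := k)
        rw [Nat.card_zpowers, hk]
      obtain ⟨g, hg⟩ := Cfsg.Agent.Lib.Helper85.exists_conj_le_sylow S hzp
      have h1 : g * w * g⁻¹ ∈ (S : Subgroup G) := hg ⟨w, Subgroup.mem_zpowers w, rfl⟩
      have h2 : g * w * g⁻¹ ∈ H' := hH'n.conj_mem w (H'.pow_mem hx _) g
      have h3 : g * w * g⁻¹ ∈ HH (p := p) E := T_le_HH (hU0 ⟨h1, h2⟩)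
      have h4 := hHn.conj_mem _ h3 g⁻¹
      have : g⁻¹ * (g * w * g⁻¹) * g⁻¹⁻¹ = w := by group
      rwa [this] at h4
  · -- (U6) `H ≤ H'`
    haveI := hH'n
    apply Subgroup.normalClosure_le_normal
    rintro m (hm | hm)
    · exact hTH' hm
    · obtain ⟨hm1, hm2, hmc⟩ := hm
      unfold H1 at hm1
      rw [Subgroup.mem_comap, mem_autGroup_iff E (T0_le p T)] at hm1
      have hm1' : (T0 p T).subtype.comp ((MulAut.conjNormal m : MulAut (T0 p T)) :
          T0 p T ≃* T0 p T).toMonoidHom ∈ E.Hom (T0 p T) := hm1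
      rw [hfus] at hm1'
      obtain ⟨-, -, h', hh', hh'm⟩ := hm1'
      have hc : h'⁻¹ * m ∈ CC p T := by
        rw [mem_CC_iff]
        intro y hy
        have h1 : m * y * m⁻¹ = h' * y * h'⁻¹ := hh'm ⟨y, hy⟩
        calc y * (h'⁻¹ * m) = h'⁻¹ * (h' * y * h'⁻¹) * m := by group
          _ = h'⁻¹ * (m * y * m⁻¹) * m := by rw [h1]
          _ = h'⁻¹ * m * y := by group
      have hcK2 : h'⁻¹ * m ∈ K2 p T :=
        (K2 p T).mul_mem ((K2 p T).inv_mem (hH'K2 hh')) hm2
      have hcR : h'⁻¹ * m ∈ pCore p G := by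
        apply h.W_le_pCore
        refine ⟨hc, mem_centMod_iff.mpr (fun r hr => ?_)⟩
        exact mem_K2_iff.mp hcK2 r hr.1
      have hmn : (h' * (h'⁻¹ * m)) ^ orderOf m = 1 := by
        have : h' * (h'⁻¹ * m) = m := by group
        rw [this, pow_orderOf_eq_one]
      have hcn := pow_mem_Z0_of_mul_pow_eq_one (N := H') hU3 hU2 hZH' hh' hc hmn
      obtain ⟨e, he⟩ := exists_pow_eq_one_of_mem_isPGroup (isPGroup_pCore p G) hcR
      have hco : Nat.Coprime (orderOf m) (orderOf (h'⁻¹ * m)) :=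
        Nat.Coprime.coprime_dvd_right (orderOf_dvd_of_pow_eq_one he) (Nat.Coprime.pow_right e hmc)
      obtain ⟨u, hu⟩ := exists_pow_eq_self_of_coprime hco
      have hcZ : h'⁻¹ * m ∈ Z0 p T := by
        rw [← hu]; exact (Z0 p T).pow_mem hcn u
      have : m = h' * (h'⁻¹ * m) := by group
      rw [this]
      exact H'.mul_mem hh' (hZH' hcZ)

end Cfsg.Agent.Lib.Helper11.NS
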