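import Mathlib
import Cfsg.Agent.Lib.Helper11.DicksonFull

/-!
# The natural `𝔽_p`-form of a copy of `SL₂(p)` inside `SL₂(F)` (helper11)

A pair of non-commuting trace-`2` elements of `SL₂(F)` satisfying the braid relation
`x y⁻¹ x = y⁻¹ x y⁻¹` is simultaneously conjugate (in `GL₂(F)`) to the standard pair
`u(1), l(1)`.  Consequently any abstract copy `K₁ ≃ SL₂(𝔽_p)` inside `SL₂(F)`, `char F = p`, acts on
a `2`-dimensional `𝔽_p`-form of `F²` as the natural module.
-/

set_option autoImplicit false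

namespace Cfsg.Agent.Lib.Helper11

open Cfsg.Agent.Lib.Helper41

variable {F : Type*} [Field F]

/-- the braid relation forces `s c = 1` -/
theorem braid_normalized (s : F) (y : Matrix.SpecialLinearGroup (Fin 2) F) (hy : tr2 y = 2)
    (hc : (y : Matrix (Fin 2) (Fin 2) F) 1 0 ≠ 0)
    (hbr : upperU s * y⁻¹ * upperU s = y⁻¹ * upperU s * y⁻¹) :
    s * (y : Matrix (Fin 2) (Fin 2) F) 1 0 = 1 := by
  have h := congrArg (fun g : Matrix.SpecialLinearGroup (Fin 2) F =>
    (g : Matrix (Fin 2) (Fin 2) F) 1 0) hbr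
  simp only [mul_apply_10, mul_apply_11, inv_apply_00, inv_apply_01,
    inv_apply_10, inv_apply_11, coe_upperU] at h
  simp at h
  unfold tr2 at hy
  have h2 : (y : Matrix (Fin 2) (Fin 2) F) 1 0 * (s * (y : Matrix (Fin 2) (Fin 2) F) 1 0 - 1) = 0 := by
    linear_combination -h + (y : Matrix (Fin 2) (Fin 2) F) 1 0 * hy
  rcases mul_eq_zero.mp h2 with h3 | h3
  · exact absurd h3 hc
  · linear_combination h3

/-- normalized form of the simultaneous conjugation -/
theorem natural_basis_normalized (s : F) (y : Matrix.SpecialLinearGroup (Fin 2) F)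
    (hy : tr2 y = 2) (hsc : s * (y : Matrix (Fin 2) (Fin 2) F) 1 0 = 1) :
    ((upperU s : Matrix.SpecialLinearGroup (Fin 2) F) : Matrix (Fin 2) (Fin 2) F) *
        !![1, (y : Matrix (Fin 2) (Fin 2) F) 0 0 - 1; 0, (y : Matrix (Fin 2) (Fin 2) F) 1 0] =
      !![1, (y : Matrix (Fin 2) (Fin 2) F) 0 0 - 1; 0, (y : Matrix (Fin 2) (Fin 2) F) 1 0] *
        !![1, 1; 0, 1] ∧
    (y : Matrix (Fin 2) (Fin 2) F) *
        !![1, (y : Matrix (Fin 2) (Fin 2) F) 0 0 - 1; 0, (y : Matrix (Fin 2) (Fin 2) F) 1 0] =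
      !![1, (y : Matrix (Fin 2) (Fin 2) F) 0 0 - 1; 0, (y : Matrix (Fin 2) (Fin 2) F) 1 0] *
        !![1, 0; 1, 1] := by
  have hdet := sl2_det y
  unfold tr2 at hy
  constructor
  · rw [coe_upperU]
    ext i j
    fin_cases i <;> fin_cases j <;> simp [Matrix.mul_apply, Fin.sum_univ_two]
    linear_combination hsc
  · ext i j
    fin_cases i <;> fin_cases j <;> simp [Matrix.mul_apply, Fin.sum_univ_two]
    · linear_combination -hdet + (y : Matrix (Fin 2) (Fin 2) F) 0 0 * hy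
    · linear_combination (y : Matrix (Fin 2) (Fin 2) F) 1 0 * hy

/-- **Braid lemma**: non-commuting trace-`2` elements satisfying the braid relation are
simultaneously conjugate to the standard transvections. -/
theorem exists_natural_basis (x y : Matrix.SpecialLinearGroup (Fin 2) F)
    (hx : tr2 x = 2) (hy : tr2 y = 2) (hxy : x * y ≠ y * x)
    (hbr : x * y⁻¹ * x = y⁻¹ * x * y⁻¹) :
    ∃ C : Matrix (Fin 2) (Fin 2) F, C.det ≠ 0 ∧
      (x : Matrix (Fin 2) (Fin 2) F) * C = C * !![1, 1; 0, 1] ∧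
      (y : Matrix (Fin 2) (Fin 2) F) * C = C * !![1, 0; 1, 1] := by
  obtain ⟨w, hw⟩ := exists_conj_mem_uniSub_of_tr2 x hx
  obtain ⟨s, hs⟩ : ∃ s : F, w * x * w⁻¹ = upperU s := ⟨_, eq_upperU_of_mem_uniSub hw⟩
  obtain ⟨y', hy'⟩ : ∃ y' : Matrix.SpecialLinearGroup (Fin 2) F, y' = w * y * w⁻¹ := ⟨_, rfl⟩
  have hty' : tr2 y' = 2 := by rw [hy', tr2_conj]; exact hy
  have hc : (y' : Matrix (Fin 2) (Fin 2) F) 1 0 ≠ 0 := by
    intro hyb
    have hyU : y' ∈ uniSub F := mem_uniSub_of_tr2 hyb hty'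
    have hcomm := uniSub_comm hw hyU
    apply hxy
    rw [hy'] at hcomm
    have e1 : w * (x * y) * w⁻¹ = w * (y * x) * w⁻¹ := by
      calc w * (x * y) * w⁻¹ = (w * x * w⁻¹) * (w * y * w⁻¹) := by group
        _ = (w * y * w⁻¹) * (w * x * w⁻¹) := hcomm
        _ = w * (y * x) * w⁻¹ := by group
    exact mul_left_cancel (mul_right_cancel e1)
  have hbr' : upperU s * y'⁻¹ * upperU s = y'⁻¹ * upperU s * y'⁻¹ := by
    rw [← hs, hy']
    calc w * x * w⁻¹ * (w * y * w⁻¹)⁻¹ * (w * x * w⁻¹) = w * (x * y⁻¹ * x) * w⁻¹ := by group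
      _ = w * (y⁻¹ * x * y⁻¹) * w⁻¹ := by rw [hbr]
      _ = (w * y * w⁻¹)⁻¹ * (w * x * w⁻¹) * (w * y * w⁻¹)⁻¹ := by group
  have hsc := braid_normalized s y' hty' hc hbr'
  obtain ⟨h1, h2⟩ := natural_basis_normalized s y' hty' hsc
  refine ⟨((w⁻¹ : Matrix.SpecialLinearGroup (Fin 2) F) : Matrix (Fin 2) (Fin 2) F) *
    !![1, (y' : Matrix (Fin 2) (Fin 2) F) 0 0 - 1; 0, (y' : Matrix (Fin 2) (Fin 2) F) 1 0],
    ?_, ?_, ?_⟩
  · rw [Matrix.det_mul, Matrix.SpecialLinearGroup.det_coe, one_mul, Matrix.det_fin_two_of]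
    simpa using hc
  · have e : (x : Matrix (Fin 2) (Fin 2) F) *
        ((w⁻¹ : Matrix.SpecialLinearGroup (Fin 2) F) : Matrix (Fin 2) (Fin 2) F) =
        ((w⁻¹ : Matrix.SpecialLinearGroup (Fin 2) F) : Matrix (Fin 2) (Fin 2) F) *
          ((upperU s : Matrix.SpecialLinearGroup (Fin 2) F) : Matrix (Fin 2) (Fin 2) F) := by
      have e0 : x * w⁻¹ = w⁻¹ * (w * x * w⁻¹) := by group
      rw [← Matrix.SpecialLinearGroup.coe_mul, ← Matrix.SpecialLinearGroup.coe_mul, ← hs, e0]
    rw [← Matrix.mul_assoc, e, Matrix.mul_assoc, h1, Matrix.mul_assoc]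
  · have e : (y : Matrix (Fin 2) (Fin 2) F) *
        ((w⁻¹ : Matrix.SpecialLinearGroup (Fin 2) F) : Matrix (Fin 2) (Fin 2) F) =
        ((w⁻¹ : Matrix.SpecialLinearGroup (Fin 2) F) : Matrix (Fin 2) (Fin 2) F) *
          (y' : Matrix (Fin 2) (Fin 2) F) := by
      have e0 : y * w⁻¹ = w⁻¹ * (w * y * w⁻¹) := by group
      rw [← Matrix.SpecialLinearGroup.coe_mul, ← Matrix.SpecialLinearGroup.coe_mul, hy', e0]
    rw [← Matrix.mul_assoc, e, Matrix.mul_assoc, h2, Matrix.mul_assoc]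

/-- the entrywise embedding `SL₂(𝔽_p) → SL₂(F)` -/
noncomputable def castSL (p : ℕ) [Fact p.Prime] (F : Type*) [Field F] [CharP F p] :
    Matrix.SpecialLinearGroup (Fin 2) (ZMod p) →* Matrix.SpecialLinearGroup (Fin 2) F :=
  Matrix.SpecialLinearGroup.map (ZMod.castHom (dvd_refl p) F)

theorem coe_castSL (p : ℕ) [Fact p.Prime] [CharP F p]
    (A : Matrix.SpecialLinearGroup (Fin 2) (ZMod p)) (i j : Fin 2) :
    ((castSL p F A : Matrix.SpecialLinearGroup (Fin 2) F) : Matrix (Fin 2) (Fin 2) F) i j =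
      ZMod.castHom (dvd_refl p) F ((A : Matrix (Fin 2) (Fin 2) (ZMod p)) i j) := rfl

theorem coe_castSL_upperU (p : ℕ) [Fact p.Prime] [CharP F p] :
    ((castSL p F (upperU 1) : Matrix.SpecialLinearGroup (Fin 2) F) :
      Matrix (Fin 2) (Fin 2) F) = !![1, 1; 0, 1] := by
  ext i j
  rw [coe_castSL, coe_upperU]
  fin_cases i <;> fin_cases j <;> simp

theorem coe_castSL_lowerU (p : ℕ) [Fact p.Prime] [CharP F p] :
    ((castSL p F (lowerU 1) : Matrix.SpecialLinearGroup (Fin 2) F) :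
      Matrix (Fin 2) (Fin 2) F) = !![1, 0; 1, 1] := by
  ext i j
  rw [coe_castSL, coe_lowerU]
  fin_cases i <;> fin_cases j <;> simp

/-- `SL₂(𝔽_p)` is generated by `u(1)` and `l(1)` -/
theorem closure_upperU_lowerU_one (p : ℕ) [Fact p.Prime] :
    Subgroup.closure ({upperU (1 : ZMod p), lowerU (1 : ZMod p)} :
      Set (Matrix.SpecialLinearGroup (Fin 2) (ZMod p))) = ⊤ := by
  apply sl2_generated
  · intro b
    have h := upperU_nat_mul (Subgroup.closure ({upperU (1 : ZMod p), lowerU (1 : ZMod p)} :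
      Set (Matrix.SpecialLinearGroup (Fin 2) (ZMod p)))) 1
      (Subgroup.subset_closure (by simp)) b.val
    rwa [one_mul, ZMod.natCast_zmod_val] at h
  · intro b
    have h := lowerU_nat_mul (Subgroup.closure ({upperU (1 : ZMod p), lowerU (1 : ZMod p)} :
      Set (Matrix.SpecialLinearGroup (Fin 2) (ZMod p)))) 1
      (Subgroup.subset_closure (by simp)) b.val
    rwa [one_mul, ZMod.natCast_zmod_val] at h

theorem braid_upperU_lowerU (R : Type*) [Field R] :
    upperU (1 : R) * (lowerU (1 : R))⁻¹ * upperU 1 =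
      (lowerU (1 : R))⁻¹ * upperU 1 * (lowerU (1 : R))⁻¹ := by
  apply sl2_ext <;>
  simp only [mul_apply_00, mul_apply_01, mul_apply_10, mul_apply_11, inv_apply_00, inv_apply_01,
    inv_apply_10, inv_apply_11, coe_upperU, coe_lowerU] <;> simp

theorem upperU_lowerU_noncomm (R : Type*) [Field R] :
    upperU (1 : R) * lowerU (1 : R) ≠ lowerU 1 * upperU 1 := by
  intro h
  have := congrArg (fun g : Matrix.SpecialLinearGroup (Fin 2) R =>
    (g : Matrix (Fin 2) (Fin 2) R) 0 0) h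
  simp only [mul_apply_00, coe_upperU, coe_lowerU] at this
  simp at this

/-- **Natural form**: an abstract copy of `SL₂(𝔽_p)` inside `SL₂(F)`, `char F = p`, is conjugate
(by a matrix `C`) to the standard copy: `T C = C (e T)` for all `T`. -/
theorem exists_natural_form (p : ℕ) [Fact p.Prime] [CharP F p]
    (K₁ : Subgroup (Matrix.SpecialLinearGroup (Fin 2) F))
    (e : ↥K₁ ≃* Matrix.SpecialLinearGroup (Fin 2) (ZMod p)) :
    ∃ C : Matrix (Fin 2) (Fin 2) F, C.det ≠ 0 ∧
      ∀ T : ↥K₁, ((T : Matrix.SpecialLinearGroup (Fin 2) F) : Matrix (Fin 2) (Fin 2) F) * C =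
        C * ((castSL p F (e T) : Matrix.SpecialLinearGroup (Fin 2) F) :
          Matrix (Fin 2) (Fin 2) F) := by
  obtain ⟨T₁, hT₁⟩ : ∃ T₁ : ↥K₁, T₁ = e.symm (upperU 1) := ⟨_, rfl⟩
  obtain ⟨T₂, hT₂⟩ : ∃ T₂ : ↥K₁, T₂ = e.symm (lowerU 1) := ⟨_, rfl⟩
  have heT₁ : e T₁ = upperU 1 := by rw [hT₁, MulEquiv.apply_symm_apply]
  have heT₂ : e T₂ = lowerU 1 := by rw [hT₂, MulEquiv.apply_symm_apply]
  have hpow : ∀ T : ↥K₁, (e T) ^ p = 1 →
      tr2 (T : Matrix.SpecialLinearGroup (Fin 2) F) = 2 := by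
    intro T hT
    have h1 : T ^ p = 1 := by
      apply e.injective
      rw [map_pow, hT, map_one]
    apply tr2_eq_two_of_pow p _ 1
    rw [pow_one, ← Subgroup.coe_pow, h1, Subgroup.coe_one]
  have htr₁ : tr2 (T₁ : Matrix.SpecialLinearGroup (Fin 2) F) = 2 := by
    apply hpow
    rw [heT₁]
    apply pow_char_eq_one_of_tr2 p
    unfold tr2
    rw [coe_upperU]
    simp
    norm_num
  have htr₂ : tr2 (T₂ : Matrix.SpecialLinearGroup (Fin 2) F) = 2 := by
    apply hpow
    rw [heT₂]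
    apply pow_char_eq_one_of_tr2 p
    unfold tr2
    rw [coe_lowerU]
    simp
    norm_num
  have hnc : (T₁ : Matrix.SpecialLinearGroup (Fin 2) F) * T₂ ≠ T₂ * T₁ := by
    intro h
    have h1 : T₁ * T₂ = T₂ * T₁ := Subtype.ext h
    have h2 := congrArg e h1
    rw [map_mul, map_mul, heT₁, heT₂] at h2
    exact upperU_lowerU_noncomm (ZMod p) h2
  have hbr : (T₁ : Matrix.SpecialLinearGroup (Fin 2) F) * (T₂ : Matrix.SpecialLinearGroup (Fin 2) F)⁻¹
      * T₁ = (T₂ : Matrix.SpecialLinearGroup (Fin 2) F)⁻¹ * T₁ *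
        (T₂ : Matrix.SpecialLinearGroup (Fin 2) F)⁻¹ := by
    have h1 : T₁ * T₂⁻¹ * T₁ = T₂⁻¹ * T₁ * T₂⁻¹ := by
      apply e.injective
      rw [map_mul, map_mul, map_mul, map_mul, map_inv, heT₁, heT₂]
      exact braid_upperU_lowerU (ZMod p)
    have h2 := congrArg (Subtype.val) h1
    simpa using h2
  obtain ⟨C, hC, hC₁, hC₂⟩ := exists_natural_basis _ _ htr₁ htr₂ hnc hbr
  refine ⟨C, hC, ?_⟩
  let S : Subgroup ↥K₁ :=
    { carrier := {T | ((T : Matrix.SpecialLinearGroup (Fin 2) F) : Matrix (Fin 2) (Fin 2) F) * C =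
        C * ((castSL p F (e T) : Matrix.SpecialLinearGroup (Fin 2) F) : Matrix (Fin 2) (Fin 2) F)}
      one_mem' := by
        show (((1 : ↥K₁) : Matrix.SpecialLinearGroup (Fin 2) F) : Matrix (Fin 2) (Fin 2) F) * C =
          C * ((castSL p F (e 1) : Matrix.SpecialLinearGroup (Fin 2) F) : Matrix (Fin 2) (Fin 2) F)
        rw [map_one, map_one, Subgroup.coe_one, Matrix.SpecialLinearGroup.coe_one, Matrix.one_mul,
          Matrix.mul_one]
      mul_mem' := by
        intro a b ha hb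
        show (((a * b : ↥K₁) : Matrix.SpecialLinearGroup (Fin 2) F) : Matrix (Fin 2) (Fin 2) F) * C =
          C * ((castSL p F (e (a * b)) : Matrix.SpecialLinearGroup (Fin 2) F) :
            Matrix (Fin 2) (Fin 2) F)
        have ha' : ((a : Matrix.SpecialLinearGroup (Fin 2) F) : Matrix (Fin 2) (Fin 2) F) * C =
          C * ((castSL p F (e a) : Matrix.SpecialLinearGroup (Fin 2) F) :
            Matrix (Fin 2) (Fin 2) F) := ha
        have hb' : ((b : Matrix.SpecialLinearGroup (Fin 2) F) : Matrix (Fin 2) (Fin 2) F) * C =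
          C * ((castSL p F (e b) : Matrix.SpecialLinearGroup (Fin 2) F) :
            Matrix (Fin 2) (Fin 2) F) := hb
        rw [Subgroup.coe_mul, Matrix.SpecialLinearGroup.coe_mul, Matrix.mul_assoc, hb',
          ← Matrix.mul_assoc, ha', Matrix.mul_assoc, map_mul, map_mul,
          Matrix.SpecialLinearGroup.coe_mul]
      inv_mem' := by
        intro a ha
        show (((a⁻¹ : ↥K₁) : Matrix.SpecialLinearGroup (Fin 2) F) : Matrix (Fin 2) (Fin 2) F) * C =
          C * ((castSL p F (e a⁻¹) : Matrix.SpecialLinearGroup (Fin 2) F) :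
            Matrix (Fin 2) (Fin 2) F)
        have ha' : ((a : Matrix.SpecialLinearGroup (Fin 2) F) : Matrix (Fin 2) (Fin 2) F) * C =
          C * ((castSL p F (e a) : Matrix.SpecialLinearGroup (Fin 2) F) :
            Matrix (Fin 2) (Fin 2) F) := ha
        have h1 : C = ((a : Matrix.SpecialLinearGroup (Fin 2) F) : Matrix (Fin 2) (Fin 2) F) *
            (C * ((castSL p F (e a⁻¹) : Matrix.SpecialLinearGroup (Fin 2) F) :
              Matrix (Fin 2) (Fin 2) F)) := by
          rw [← Matrix.mul_assoc, ha', Matrix.mul_assoc, ← Matrix.SpecialLinearGroup.coe_mul,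
            ← map_mul, ← map_mul, mul_inv_cancel, map_one, map_one,
            Matrix.SpecialLinearGroup.coe_one, Matrix.mul_one]
        have h2 : (((a⁻¹ : ↥K₁) : Matrix.SpecialLinearGroup (Fin 2) F) : Matrix (Fin 2) (Fin 2) F) *
            ((a : Matrix.SpecialLinearGroup (Fin 2) F) : Matrix (Fin 2) (Fin 2) F) = 1 := by
          rw [← Matrix.SpecialLinearGroup.coe_mul, ← Subgroup.coe_mul, inv_mul_cancel,
            Subgroup.coe_one, Matrix.SpecialLinearGroup.coe_one]
        conv_lhs => rw [h1]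
        rw [← Matrix.mul_assoc, h2, Matrix.one_mul] }
  have hS : S = ⊤ := by
    have hle : Subgroup.closure ({T₁, T₂} : Set ↥K₁) ≤ S := by
      rw [Subgroup.closure_le]
      intro T hT
      rcases hT with rfl | hT
      · show ((T : Matrix.SpecialLinearGroup (Fin 2) F) : Matrix (Fin 2) (Fin 2) F) * C =
          C * ((castSL p F (e T) : Matrix.SpecialLinearGroup (Fin 2) F) : Matrix (Fin 2) (Fin 2) F)
        rw [heT₁, coe_castSL_upperU]
        exact hC₁
      · rw [Set.mem_singleton_iff] at hT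
        subst hT
        show ((T : Matrix.SpecialLinearGroup (Fin 2) F) : Matrix (Fin 2) (Fin 2) F) * C =
          C * ((castSL p F (e T) : Matrix.SpecialLinearGroup (Fin 2) F) : Matrix (Fin 2) (Fin 2) F)
        rw [heT₂, coe_castSL_lowerU]
        exact hC₂
    have hcl : Subgroup.closure ({T₁, T₂} : Set ↥K₁) = ⊤ := by
      have h1 := congrArg (Subgroup.map e.symm.toMonoidHom) (closure_upperU_lowerU_one p)
      rw [MonoidHom.map_closure, Subgroup.map_top_of_surjective _ e.symm.surjective] at h1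
      rw [← h1]
      congr 1
      rw [Set.image_pair]
      simp [hT₁, hT₂]
    rw [eq_top_iff, ← hcl]
    exact hle
  intro T
  have : T ∈ S := by rw [hS]; exact Subgroup.mem_top T
  exact this

end Cfsg.Agent.Lib.Helper11
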