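import Mathlib
import Cfsg.Agent.Lib.Helper11.QuadPair

/-!
# The pair lemma, generic form (helper11)

`NoTransvectionPair p H a b`: no homomorphism of `H` to `2 × 2` matrices over a field of
characteristic `p` sends `a`, `b` to a pair of opposite transvections.  Under this hypothesis a group
generated by two elements acting quadratically on a finite `𝔽_p`-module acts as a `p`-group.
-/

set_option autoImplicit false
set_option linter.style.haveILetI false
set_option linter.deprecated false

namespace Cfsg.Agent.Lib.Helper11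

open Module

universe u v

/-- no quotient of `H` is generated by a pair of opposite transvections (images of `a`, `b`) in
characteristic `p`. -/
def NoTransvectionPair (p : ℕ) (H : Type u) [Group H] (a b : H) : Prop :=
  ∀ (K : Type v) [Field K] [CharP K p] (φ : H →* Matrix (Fin 2) (Fin 2) K) (s : K), s ≠ 0 →
    φ a = !![1, s; 0, 1] → φ b = !![1, 0; 1, 1] → False

section QuadPairGen

variable {p : ℕ} [hp : Fact p.Prime] {M : Type v} [AddCommGroup M] [Module (ZMod p) M]
  {H : Type u} [Group H] (ρ : H →* Module.End (ZMod p) M)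

/-- Irreducible case, `xy + yx ≠ 0`: impossible if `H` has no transvection pair quotient. -/
theorem false_of_irreducible_of_ne_zero_gen [Finite M] [Finite H] (a b : H)
    (hNo : NoTransvectionPair.{u, v} p H a b)
    (hgen : Subgroup.closure ({a, b} : Set H) = ⊤)
    (hx : (ρ a - 1) * (ρ a - 1) = 0) (hy : (ρ b - 1) * (ρ b - 1) = 0)
    (hs : (ρ a - 1) * (ρ b - 1) + (ρ b - 1) * (ρ a - 1) ≠ 0)
    (hirr : ∀ N : Submodule (ZMod p) M, InvSub ρ N → N = ⊥ ∨ N = ⊤) : False := by
  classical
  obtain ⟨x, hxdef⟩ : ∃ x, x = ρ a - 1 := ⟨_, rfl⟩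
  obtain ⟨y, hydef⟩ : ∃ y, y = ρ b - 1 := ⟨_, rfl⟩
  rw [← hxdef] at hx hs
  rw [← hydef] at hy hs
  obtain ⟨s, hsdef⟩ : ∃ s, s = x * y + y * x := ⟨_, rfl⟩
  rw [← hsdef] at hs
  have hρa : ρ a = x + 1 := by rw [hxdef, sub_add_cancel]
  have hρb : ρ b = y + 1 := by rw [hydef, sub_add_cancel]
  have hsx : s * x = x * s := by
    rw [hsdef, add_mul, mul_add, mul_assoc y x x, hx, mul_zero, add_zero, ← mul_assoc x x y, hx,
      zero_mul, zero_add, mul_assoc]
  have hsy : s * y = y * s := by
    rw [hsdef, add_mul, mul_add, mul_assoc x y y, hy, mul_zero, zero_add, ← mul_assoc y y x, hy,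
      zero_mul, add_zero, mul_assoc]
  have hsa : s * ρ a = ρ a * s := by rw [hρa, mul_add, add_mul, hsx, mul_one, one_mul]
  have hsb : s * ρ b = ρ b * s := by rw [hρb, mul_add, add_mul, hsy, mul_one, one_mul]
  have hsc : ∀ h : H, s * ρ h = ρ h * s := commute_of_closure ρ a b hgen s hsa hsb
  set K' := Subring.closure ({s} : Set (Module.End (ZMod p) M)) with hK'
  have hK'c : ∀ k ∈ K', ∀ h : H, k * ρ h = ρ h * k := by
    intro k hk h
    have hle : K' ≤ Subring.centralizer {ρ h} := by
      rw [hK', Subring.closure_le]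
      intro z hz
      rw [Set.mem_singleton_iff] at hz
      subst hz
      rw [SetLike.mem_coe, Subring.mem_centralizer_iff]
      intro g hg
      rw [Set.mem_singleton_iff] at hg
      subst hg
      exact (hsc h).symm
    exact (Subring.mem_centralizer_iff.mp (hle hk) (ρ h) rfl).symm
  have hinj : ∀ k ∈ K', k ≠ 0 → Function.Injective k := by
    intro k hk hk0
    have hinv := invSub_ker_of_commute ρ k (hK'c k hk)
    rcases hirr _ hinv with h | h
    · exact LinearMap.ker_eq_bot.mp h
    · exact absurd (LinearMap.ker_eq_top.mp h) hk0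
  -- `x ≠ 0`, hence a vector `v ≠ 0` with `x v = 0`
  have hx0 : x ≠ 0 := by
    intro h0
    apply hs
    rw [hsdef, h0, zero_mul, mul_zero, add_zero]
  obtain ⟨m₀, hm₀⟩ : ∃ m : M, x m ≠ 0 := by
    by_contra hcon
    push Not at hcon
    apply hx0
    ext m
    rw [hcon m, LinearMap.zero_apply]
  have hxx : ∀ m, x (x m) = 0 := fun m => by
    have := DFunLike.congr_fun hx m
    simpa using this
  have hyy : ∀ m, y (y m) = 0 := fun m => by
    have := DFunLike.congr_fun hy m
    simpa using this
  set v := x m₀ with hvdef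
  have hxv : x v = 0 := hxx m₀
  set w := y v with hwdef
  have hyw : y w = 0 := hyy v
  have hxw : x w = s v := by
    rw [hsdef, LinearMap.add_apply, Module.End.mul_apply, Module.End.mul_apply, hxv, map_zero,
      add_zero]
  have hav : ρ a v = v := by rw [hρa, LinearMap.add_apply, hxv, zero_add, Module.End.one_apply]
  have haw : ρ a w = w + s v := by
    rw [hρa, LinearMap.add_apply, hxw, Module.End.one_apply, add_comm]
  have hbv : ρ b v = v + w := by rw [hρb, LinearMap.add_apply, Module.End.one_apply, add_comm]
  have hbw : ρ b w = w := by rw [hρb, LinearMap.add_apply, hyw, zero_add, Module.End.one_apply]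
  -- the field structure
  letI : CommRing K' := Subring.closureCommRingOfComm (by
    intro z hz z' hz'
    rw [Set.mem_singleton_iff] at hz hz'
    rw [hz, hz'])
  haveI : Finite (Module.End (ZMod p) M) :=
    Finite.of_injective (fun f => (f : M → M)) DFunLike.coe_injective
  haveI : Finite K' := inferInstance
  haveI : Nontrivial M := ⟨⟨v, 0, hm₀⟩⟩
  haveI : Nontrivial K' := inferInstance
  haveI : NoZeroDivisors K' := by
    constructor
    intro k₁ k₂ h
    by_cases h1 : k₁ = 0
    · exact Or.inl h1
    · right
      have hinj' := hinj k₁.1 k₁.2 (fun h0 => h1 (Subtype.ext h0))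
      apply Subtype.ext
      ext m
      apply hinj'
      have := congrArg (fun k : K' => (k : Module.End (ZMod p) M) m) h
      simpa using this
  haveI : IsDomain K' := NoZeroDivisors.to_isDomain K'
  letI : Field K' := (Finite.isField_of_domain K').toField
  have hsmul : ∀ (k : K') (m : M), k • m = (k : Module.End (ZMod p) M) m := fun k m => rfl
  set σ : K' := ⟨s, Subring.subset_closure rfl⟩ with hσdef
  have hσ : σ ≠ 0 := by
    intro h0
    apply hs
    have := congrArg Subtype.val h0
    exact this
  have hσv : σ • v = s v := rfl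
  have hlin : ∀ (h : H) (k : K') (m : M), ρ h (k • m) = k • ρ h m := by
    intro h k m
    rw [hsmul, hsmul]
    have := DFunLike.congr_fun (hK'c k.1 k.2 h) m
    simp only [Module.End.mul_apply] at this
    exact this.symm
  let ρK : H →* Module.End K' M :=
    { toFun := fun h =>
        { toFun := ρ h
          map_add' := map_add _
          map_smul' := fun k m => hlin h k m }
      map_one' := by
        ext m
        show ρ 1 m = m
        rw [map_one, Module.End.one_apply]
      map_mul' := by
        intro g h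
        ext m
        show ρ (g * h) m = ρ g (ρ h m)
        rw [map_mul, Module.End.mul_apply] }
  have hρK : ∀ (h : H) (m : M), ρK h m = ρ h m := fun h m => rfl
  have hsm : ∀ k : K', k • v = 0 → k = 0 := by
    intro k hk
    by_contra hk0
    have hinj' := hinj k.1 k.2 (fun h0 => hk0 (Subtype.ext h0))
    apply hm₀
    apply hinj'
    rw [map_zero]
    exact hk
  have hxk : ∀ (k : K') (m : M), x (k • m) = k • x m := by
    intro k m
    rw [hxdef, LinearMap.sub_apply, LinearMap.sub_apply, hlin, Module.End.one_apply,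
      Module.End.one_apply, smul_sub]
  have hli : LinearIndependent K' ![v, w] := by
    rw [LinearIndependent.pair_iff]
    intro α β h
    have h1 : (β * σ) • v = 0 := by
      have h2 := congrArg x h
      rw [map_add, hxk, hxk, hxv, smul_zero, zero_add, hxw, map_zero] at h2
      rw [mul_smul, hσv]
      exact h2
    have hβ : β = 0 := by
      rcases mul_eq_zero.mp (hsm _ h1) with h | h
      · exact h
      · exact absurd h hσ
    rw [hβ, zero_smul, add_zero] at h
    exact ⟨hsm _ h, hβ⟩
  have hsp : ⊤ ≤ Submodule.span K' (Set.range ![v, w]) := by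
    let N' : AddSubgroup M :=
      { carrier := {m | ∃ α β : K', m = α • v + β • w}
        add_mem' := by
          rintro _ _ ⟨α, β, rfl⟩ ⟨α', β', rfl⟩
          exact ⟨α + α', β + β', by module⟩
        zero_mem' := ⟨0, 0, by rw [zero_smul, zero_smul, add_zero]⟩
        neg_mem' := by
          rintro _ ⟨α, β, rfl⟩
          exact ⟨-α, -β, by module⟩ }
    have hN'a : ∀ m ∈ AddSubgroup.toZModSubmodule p N', ρ a m ∈ AddSubgroup.toZModSubmodule p N' := by
      rintro _ ⟨α, β, rfl⟩
      refine ⟨α + β * σ, β, ?_⟩
      rw [map_add, hlin, hlin, hav, haw, ← hσv]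
      module
    have hN'b : ∀ m ∈ AddSubgroup.toZModSubmodule p N', ρ b m ∈ AddSubgroup.toZModSubmodule p N' := by
      rintro _ ⟨α, β, rfl⟩
      refine ⟨α, α + β, ?_⟩
      rw [map_add, hlin, hlin, hbv, hbw]
      module
    have hNinv := invSub_of_gens ρ a b hgen _ hN'a hN'b
    have hvN : v ∈ AddSubgroup.toZModSubmodule p N' := ⟨1, 0, by rw [one_smul, zero_smul, add_zero]⟩
    have hNtop : AddSubgroup.toZModSubmodule p N' = ⊤ := by
      rcases hirr _ hNinv with h | h
      · rw [h, Submodule.mem_bot] at hvN
        exact absurd hvN hm₀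
      · exact h
    intro m _
    have hm : m ∈ AddSubgroup.toZModSubmodule p N' := by rw [hNtop]; exact Submodule.mem_top
    obtain ⟨α, β, rfl⟩ := hm
    exact Submodule.add_mem _ (Submodule.smul_mem _ _ (Submodule.subset_span ⟨0, rfl⟩))
      (Submodule.smul_mem _ _ (Submodule.subset_span ⟨1, rfl⟩))
  set bs := Module.Basis.mk hli hsp with hbs
  have hb0 : bs 0 = v := by rw [hbs, Module.Basis.mk_apply]; rfl
  have hb1 : bs 1 = w := by rw [hbs, Module.Basis.mk_apply]; rfl
  haveI : CharP K' p := by
    rw [CharP.charP_iff_prime_eq_zero hp.out]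
    apply Subtype.ext
    apply LinearMap.ext
    intro m
    show ((p : K') : Module.End (ZMod p) M) m = 0
    have h1 : ((p : K') : Module.End (ZMod p) M) = (p : Module.End (ZMod p) M) := by
      simp
    rw [h1, Module.End.natCast_apply, ZModModule.char_nsmul_eq_zero p]
  refine hNo K' ((LinearMap.toMatrixAlgEquiv bs).toAlgHom.toRingHom.toMonoidHom.comp ρK) σ hσ ?_ ?_
  · apply Matrix.ext
    intro i j
    rw [MonoidHom.comp_apply]
    show (LinearMap.toMatrixAlgEquiv bs) (ρK a) i j = _
    rw [LinearMap.toMatrixAlgEquiv_apply]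
    have e0 : ρK a (bs 0) = bs 0 := by rw [hb0, hρK, hav]
    have e1 : ρK a (bs 1) = bs 1 + σ • bs 0 := by rw [hb1, hb0, hρK, haw, hσv]
    fin_cases i <;> fin_cases j <;> simp [e0, e1]
  · apply Matrix.ext
    intro i j
    rw [MonoidHom.comp_apply]
    show (LinearMap.toMatrixAlgEquiv bs) (ρK b) i j = _
    rw [LinearMap.toMatrixAlgEquiv_apply]
    have e0 : ρK b (bs 0) = bs 0 + bs 1 := by rw [hb0, hb1, hρK, hbv]
    have e1 : ρK b (bs 1) = bs 1 := by rw [hb1, hρK, hbw]
    fin_cases i <;> fin_cases j <;> simp [e0, e1]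


end QuadPairGen

section QuadPairGenMain

variable {p : ℕ} [hp : Fact p.Prime] {H : Type u} [Group H]

/-- **Pair lemma, generic form.** -/
theorem quadPair_gen [Finite H] (a b : H)
    (hNo : NoTransvectionPair.{u, v} p H a b)
    (hgen : Subgroup.closure ({a, b} : Set H) = ⊤) :
    ∀ (n : ℕ) (M : Type v) [AddCommGroup M] [Module (ZMod p) M] [Finite M]
      (ρ : H →* Module.End (ZMod p) M), Nat.card M = n → QuadEnd (ρ a) → QuadEnd (ρ b) →
      ∀ h : H, ∃ k : ℕ, ρ (h ^ (p ^ k)) = 1 := by
  intro n
  induction n using Nat.strong_induction_on with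
  | _ n ih =>
    intro M _ _ _ ρ hn ha hb h
    by_cases hirr : ∀ N : Submodule (ZMod p) M, InvSub ρ N → N = ⊥ ∨ N = ⊤
    · refine ⟨0, ?_⟩
      rw [pow_zero, pow_one]
      by_cases hs : (ρ a - 1) * (ρ b - 1) + (ρ b - 1) * (ρ a - 1) = 0
      · exact trivial_of_irreducible_of_anticomm ρ a b hgen ((quadEnd_iff _).mp ha)
          ((quadEnd_iff _).mp hb) hs hirr h
      · exact (false_of_irreducible_of_ne_zero_gen ρ a b hNo hgen ((quadEnd_iff _).mp ha)
          ((quadEnd_iff _).mp hb) hs hirr).elim
    · push Not at hirr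
      obtain ⟨N, hN, hNbot, hNtop⟩ := hirr
      have hcard := Submodule.card_eq_card_quotient_mul_card N
      haveI : Finite (M ⧸ N) := Finite.of_surjective _ (Submodule.Quotient.mk_surjective N)
      have hN1 : 1 < Nat.card N := by
        haveI : Nontrivial N := (Submodule.nontrivial_iff_ne_bot).mpr hNbot
        exact Finite.one_lt_card
      have hQ1 : 1 < Nat.card (M ⧸ N) := by
        haveI : Nontrivial (M ⧸ N) := Submodule.Quotient.nontrivial_iff.mpr hNtop
        exact Finite.one_lt_card
      have hcN : Nat.card N < n := by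
        rw [← hn, hcard]
        nlinarith
      have hcQ : Nat.card (M ⧸ N) < n := by
        rw [← hn, hcard]
        nlinarith
      have haN : QuadEnd (resHom ρ N hN a) := by
        intro m
        apply Subtype.ext
        exact ha m
      have hbN : QuadEnd (resHom ρ N hN b) := by
        intro m
        apply Subtype.ext
        exact hb m
      have haQ : QuadEnd (quotHom ρ N hN a) := by
        intro m
        induction m using Submodule.Quotient.induction_on with
        | H m =>
          rw [quotHom_apply, quotHom_apply, ← Submodule.Quotient.mk_add, ← Submodule.Quotient.mk_add,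
            ha m]
      have hbQ : QuadEnd (quotHom ρ N hN b) := by
        intro m
        induction m using Submodule.Quotient.induction_on with
        | H m =>
          rw [quotHom_apply, quotHom_apply, ← Submodule.Quotient.mk_add, ← Submodule.Quotient.mk_add,
            hb m]
      obtain ⟨k₁, hk₁⟩ := ih _ hcN ↥N (resHom ρ N hN) rfl haN hbN h
      obtain ⟨k₂, hk₂⟩ := ih _ hcQ (M ⧸ N) (quotHom ρ N hN) rfl haQ hbQ h
      refine ⟨k₁ + k₂ + 1, ?_⟩
      obtain ⟨g, hg⟩ : ∃ g : H, g = h ^ (p ^ (k₁ + k₂)) := ⟨_, rfl⟩
      have hgN : resHom ρ N hN g = 1 := by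
        rw [hg, pow_add, pow_mul, map_pow, hk₁, one_pow]
      have hgQ : quotHom ρ N hN g = 1 := by
        rw [hg, pow_add, mul_comm, pow_mul, map_pow, hk₂, one_pow]
      have hg1 : ∀ m ∈ N, ρ g m = m := by
        intro m hm
        have := congrArg Subtype.val (DFunLike.congr_fun hgN ⟨m, hm⟩)
        exact this
      have hg2 : ∀ m : M, ρ g m - m ∈ N := by
        intro m
        have := DFunLike.congr_fun hgQ (Submodule.Quotient.mk m)
        rw [quotHom_apply, Module.End.one_apply] at this
        exact (Submodule.Quotient.eq N).mp this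
      have hfin : ρ (g ^ p) = 1 := by
        rw [map_pow]
        exact pow_p_eq_one_of_trivial (ρ g) N hg1 hg2
      rw [pow_succ, pow_mul, ← hg]
      exact hfin

end QuadPairGenMain

end Cfsg.Agent.Lib.Helper11
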