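import Mathlib
import Cfsg.Agent.Lib.Helper11.DicksonFull
import Cfsg.Agent.Lib.Helper11.QuadPairGen

set_option autoImplicit false

/-!
# A transvection pair quotient gives an `SL₂(p)` section (helper11)
-/

namespace Cfsg.Agent.Lib.Helper11

open Cfsg.Agent.Lib.Helper41

universe u v

/-- packaging a surjection from a subgroup as a section (after helper10's S0594) -/
theorem exists_section_of_surj' {G : Type*} [Group G] (H K : Subgroup G) (hKH : K ≤ H)
    {T : Type*} [Group T] (f : K →* T) (hf : Function.Surjective f) :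
    ∃ (K' L : Subgroup G) (_ : (L.subgroupOf K').Normal), K' ≤ H ∧
      Nonempty ((K' ⧸ L.subgroupOf K') ≃* T) := by
  have heq : (f.ker.map K.subtype).subgroupOf K = f.ker :=
    Subgroup.comap_map_eq_self_of_injective K.subtype_injective f.ker
  have hL : ((f.ker.map K.subtype).subgroupOf K).Normal := by rw [heq]; infer_instance
  exact ⟨K, f.ker.map K.subtype, hL, hKH,
    ⟨(QuotientGroup.quotientMulEquivOfEq heq).trans
      (QuotientGroup.quotientKerEquivOfSurjective f hf)⟩⟩

/-- a finite group generated by `a, b` with a representation sending them to a pair of opposite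
transvections in odd characteristic `p` has a subgroup mapping onto `SL₂(𝔽_p)` -/
theorem exists_surj_of_transvection_pair {X : Type u} [Group X] [Finite X] {p : ℕ}
    [Fact p.Prime] (hp : p ≠ 2) (a b : X) (hgen : Subgroup.closure ({a, b} : Set X) = ⊤)
    (K : Type v) [Field K] [CharP K p] (ψ : X →* Matrix (Fin 2) (Fin 2) K) (s : K) (hs : s ≠ 0)
    (ha : ψ a = !![1, s; 0, 1]) (hb : ψ b = !![1, 0; 1, 1]) :
    ∃ (D : Subgroup X) (f : D →* Matrix.SpecialLinearGroup (Fin 2) (ZMod p)),
      Function.Surjective f := by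
  -- determinants
  have hdet : ∀ h : X, (ψ h).det = 1 := by
    intro h
    have hh : h ∈ Subgroup.closure ({a, b} : Set X) := by rw [hgen]; exact Subgroup.mem_top h
    induction hh using Subgroup.closure_induction with
    | mem x hx =>
      rcases hx with rfl | rfl
      · rw [ha, Matrix.det_fin_two_of]; ring
      · rw [hb, Matrix.det_fin_two_of]; ring
    | one => rw [map_one, Matrix.det_one]
    | mul x y _ _ hx hy => rw [map_mul, Matrix.det_mul, hx, hy, mul_one]
    | inv x _ hx =>
      have h1 : ψ x⁻¹ * ψ x = 1 := by rw [← map_mul, inv_mul_cancel, map_one]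
      have h2 := congrArg Matrix.det h1
      rw [Matrix.det_mul, hx, mul_one, Matrix.det_one] at h2
      exact h2
  let mk : X → Matrix.SpecialLinearGroup (Fin 2) K := fun h => ⟨ψ h, hdet h⟩
  have hmk : ∀ h, ((mk h : Matrix.SpecialLinearGroup (Fin 2) K) :
      Matrix (Fin 2) (Fin 2) K) = ψ h := fun _ => rfl
  let ψ' : X →* Matrix.SpecialLinearGroup (Fin 2) K :=
    { toFun := mk
      map_one' := Subtype.ext (by
        rw [hmk, map_one, Matrix.SpecialLinearGroup.coe_one])
      map_mul' := fun g h => Subtype.ext (by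
        rw [Matrix.SpecialLinearGroup.coe_mul, hmk, hmk, hmk]; exact map_mul ψ g h) }
  have hψ'a : ψ' a = upperU s := Subtype.ext (by show ψ a = _; rw [ha]; rfl)
  have hψ'b : ψ' b = lowerU 1 := Subtype.ext (by show ψ b = _; rw [hb]; rfl)
  have hfinR : Finite ψ'.range := Finite.of_surjective ψ'.rangeRestrict ψ'.rangeRestrict_surjective
  have hne : upperU s * lowerU (1 : K) ≠ lowerU 1 * upperU s := by
    intro h
    have := congrArg (fun g : Matrix.SpecialLinearGroup (Fin 2) K =>
      (g : Matrix (Fin 2) (Fin 2) K) 0 0) h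
    simp only [mul_apply_00, coe_upperU, coe_lowerU] at this
    simp at this
    exact hs this
  obtain ⟨K₁, hK₁, ⟨e⟩⟩ := hasPrimeSL2_of_noncomm_odd p hp ψ'.range (upperU s) (lowerU 1)
    ⟨a, hψ'a⟩ ⟨b, hψ'b⟩ (by unfold tr2; rw [coe_upperU]; simp; norm_num)
    (by unfold tr2; rw [coe_lowerU]; simp; norm_num) hne
  refine ⟨K₁.comap ψ', e.toMonoidHom.comp (ψ'.subgroupComap K₁), ?_⟩
  intro t
  obtain ⟨w, hw⟩ := hK₁ (e.symm t).2
  refine ⟨⟨w, by rw [Subgroup.mem_comap, hw]; exact (e.symm t).2⟩, ?_⟩
  simp only [MonoidHom.coe_comp, MulEquiv.coe_toMonoidHom, Function.comp_apply]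
  have : ψ'.subgroupComap K₁ ⟨w, by rw [Subgroup.mem_comap, hw]; exact (e.symm t).2⟩ = e.symm t :=
    Subtype.ext hw
  rw [this, MulEquiv.apply_symm_apply]

end Cfsg.Agent.Lib.Helper11
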