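import Mathlib
import Cfsg.Agent.Lib.Helper11.NotStableSL2
import Cfsg.Agent.Lib.Helper11.OddStable

set_option autoImplicit false
set_option linter.style.haveILetI false

/-!
# Faithful quadratic action with trivial `O_p` involves `SL₂(p)` (helper11)
-/

namespace Cfsg.Agent.Lib.Helper11

open Cfsg

universe u v

/-- **Abstract core**: a finite group `X` acting faithfully on a finite abelian group `A` of odd
prime exponent `p`, with `O_p(X) = 1` and a nontrivial element acting quadratically, has a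
subgroup mapping onto `SL₂(𝔽_p)`. -/
theorem exists_surj_SL2_of_quadratic {X : Type u} [Group X] [Finite X] {p : ℕ} [Fact p.Prime]
    (hp : p ≠ 2) {A : Type v} [CommGroup A] [Finite A] (hA : ∀ a : A, a ^ p = 1)
    (φ : X →* MulAut A) (hφ : Function.Injective φ) (hO : pCore p X = ⊥) (x : X) (hx1 : x ≠ 1)
    (hq : ∀ v : A, φ x (φ x v) * v = φ x v * φ x v) :
    ∃ (D : Subgroup X) (f : D →* Matrix.SpecialLinearGroup (Fin 2) (ZMod p)),
      Function.Surjective f := by
  classical
  by_contra hno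
  have hVexp : ∀ m : Additive A, p • m = 0 := by
    intro m
    have h2 : Additive.ofMul ((m.toMul) ^ p) = p • m := rfl
    rw [← h2, hA]
    rfl
  letI : Module (ZMod p) (Additive A) := AddCommGroup.zmodModule hVexp
  -- conjugates of `x` act quadratically
  have hqc : ∀ g : X, ∀ v : A,
      φ (g * x * g⁻¹) (φ (g * x * g⁻¹) v) * v = φ (g * x * g⁻¹) v * φ (g * x * g⁻¹) v := by
    intro g v
    have h1 := hq (φ g⁻¹ v)
    have h2 := congrArg (φ g) h1
    rw [map_mul, map_mul] at h2
    have e1 : ∀ w : A, φ (g * x * g⁻¹) w = φ g (φ x (φ g⁻¹ w)) := by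
      intro w
      rw [map_mul, map_mul, MulAut.mul_apply, MulAut.mul_apply]
    have e2 : φ g (φ g⁻¹ v) = v := by
      rw [← MulAut.mul_apply, ← map_mul, mul_inv_cancel, map_one, MulAut.one_apply]
    have e3 : ∀ w : A, φ g⁻¹ (φ g w) = w := by
      intro w
      rw [← MulAut.mul_apply, ← map_mul, inv_mul_cancel, map_one, MulAut.one_apply]
    rw [e2] at h2
    rw [e1, e1, e3]
    exact h2
  -- each pair `x, x^g` generates a `p`-group
  have hpair : ∀ g : X, ∀ h ∈ Subgroup.closure ({x, g * x * g⁻¹} : Set X),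
      ∃ k : ℕ, h ^ (p ^ k) = 1 := by
    intro g
    obtain ⟨H₀, hH₀⟩ : ∃ H₀ : Subgroup X, H₀ = Subgroup.closure ({x, g * x * g⁻¹} : Set X) :=
      ⟨_, rfl⟩
    have haH : x ∈ H₀ := by rw [hH₀]; exact Subgroup.subset_closure (by simp)
    have hbH : g * x * g⁻¹ ∈ H₀ := by rw [hH₀]; exact Subgroup.subset_closure (by simp)
    have hgen : Subgroup.closure ({⟨x, haH⟩, ⟨g * x * g⁻¹, hbH⟩} : Set ↥H₀) = ⊤ := by
      have h1 := Subgroup.closure_closure_coe_preimage (k := ({x, g * x * g⁻¹} : Set X))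
      rw [← hH₀] at h1
      have h2 : ((↑) : ↥H₀ → X) ⁻¹' ({x, g * x * g⁻¹} : Set X) =
          {⟨x, haH⟩, ⟨g * x * g⁻¹, hbH⟩} := by
        ext ⟨y, hy⟩
        simp [Subtype.ext_iff]
      rw [h2] at h1
      exact h1
    have hNo : NoTransvectionPair.{u, v} p ↥H₀ ⟨x, haH⟩ ⟨g * x * g⁻¹, hbH⟩ := by
      intro K _ _ ψ s hs ha hb
      obtain ⟨D, f, hf⟩ := exists_surj_of_transvection_pair hp _ _ hgen K ψ s hs ha hb
      apply hno
      refine ⟨D.map H₀.subtype, f.comp
        (D.equivMapOfInjective H₀.subtype H₀.subtype_injective).symm.toMonoidHom, ?_⟩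
      intro t
      obtain ⟨d, hd⟩ := hf t
      refine ⟨D.equivMapOfInjective H₀.subtype H₀.subtype_injective d, ?_⟩
      simp only [MonoidHom.coe_comp, MulEquiv.coe_toMonoidHom, Function.comp_apply,
        MulEquiv.symm_apply_apply]
      exact hd
    have hqa' : QuadEnd (linHom p (φ.comp H₀.subtype) ⟨x, haH⟩) := by
      intro m
      exact congrArg Additive.ofMul (hq m.toMul)
    have hqb' : QuadEnd (linHom p (φ.comp H₀.subtype) ⟨g * x * g⁻¹, hbH⟩) := by
      intro m
      exact congrArg Additive.ofMul (hqc g m.toMul)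
    have key := quadPair_gen (p := p) (H := ↥H₀) (⟨x, haH⟩ : ↥H₀) (⟨g * x * g⁻¹, hbH⟩ : ↥H₀)
      hNo hgen (Nat.card (Additive A)) (Additive A)
      (linHom p (φ.comp H₀.subtype)) rfl hqa' hqb'
    intro h hh
    rw [← hH₀] at hh
    obtain ⟨k, hk⟩ := key ⟨h, hh⟩
    rw [linHom_eq_one_iff] at hk
    refine ⟨k, hφ ?_⟩
    rw [map_one]
    exact hk
  have hBS : ∀ g : X, IsPGroup p ↥(Subgroup.zpowers x ⊔
      (Subgroup.zpowers x).map (MulAut.conj g).toMonoidHom) := by
    intro g
    have hle : Subgroup.zpowers x ⊔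
        (Subgroup.zpowers x).map (MulAut.conj g).toMonoidHom ≤
        Subgroup.closure ({x, g * x * g⁻¹} : Set X) := by
      apply sup_le
      · rw [Subgroup.zpowers_le]
        exact Subgroup.subset_closure (by simp)
      · rw [MonoidHom.map_zpowers, Subgroup.zpowers_le]
        exact Subgroup.subset_closure (by simp [MulAut.conj_apply])
    refine IsPGroup.to_le ?_ hle
    rintro ⟨h, hh⟩
    obtain ⟨k, hk⟩ := hpair g h hh
    exact ⟨k, Subtype.ext (by rw [Subgroup.coe_pow, Subgroup.coe_one]; exact hk)⟩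
  have hX : IsPGroup p ↥(Subgroup.zpowers x) := IsPGroup.to_le (hBS 1) le_sup_left
  obtain ⟨N, hNn, hNp, hXN⟩ := Cfsg.Agent.S0199.result (Subgroup.zpowers x) hX hBS
  have hmem : x ∈ pCore p X :=
    Cfsg.Agent.Lib.Helper97.le_pCore_of_normal hNn hNp (hXN (Subgroup.mem_zpowers _))
  rw [hO, Subgroup.mem_bot] at hmem
  exact hx1 hmem

end Cfsg.Agent.Lib.Helper11
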