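import Mathlib
import Cfsg.Prelude.Def_PLocal
import Cfsg.Prelude.Def_LocalEven
import Cfsg.Agent.Lib.Helper97.PStable3
import Cfsg.Agent.Lib.Helper11.NotStableSL2b
import Cfsg.Agent.Lib.Helper11.OddStable2

/-!
# Groups not involving `SL₂(p)` are `p`-stable, `p` odd (helper11)

The reductions are those of `Lib/Helper11/OddStable2.lean` with the class of solvable groups of
odd order replaced by the class of finite groups with no section isomorphic to `SL₂(𝔽_p)`.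
-/

set_option autoImplicit false
set_option linter.style.haveILetI false

namespace Cfsg.Agent.Lib.Helper11

open Cfsg
open scoped commutatorElement

universe u v

/-- `G` involves `SL₂(𝔽_p)`: some subgroup of `G` maps onto it. -/
def InvolvesSL2 (p : ℕ) (G : Type*) [Group G] : Prop :=
  ∃ (D : Subgroup G) (f : D →* Matrix.SpecialLinearGroup (Fin 2) (ZMod p)), Function.Surjective f

theorem InvolvesSL2.of_subgroup {p : ℕ} {G : Type*} [Group G] {H : Subgroup G}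
    (h : InvolvesSL2 p ↥H) : InvolvesSL2 p G := by
  obtain ⟨D, f, hf⟩ := h
  refine ⟨D.map H.subtype, f.comp
    (D.equivMapOfInjective H.subtype H.subtype_injective).symm.toMonoidHom, ?_⟩
  intro t
  obtain ⟨d, hd⟩ := hf t
  refine ⟨D.equivMapOfInjective H.subtype H.subtype_injective d, ?_⟩
  simp only [MonoidHom.coe_comp, MulEquiv.coe_toMonoidHom, Function.comp_apply,
    MulEquiv.symm_apply_apply]
  exact hd

theorem InvolvesSL2.of_surjective {p : ℕ} {G Q : Type*} [Group G] [Group Q] (π : G →* Q)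
    (hπ : Function.Surjective π) (h : InvolvesSL2 p Q) : InvolvesSL2 p G := by
  obtain ⟨D, f, hf⟩ := h
  refine ⟨D.comap π, f.comp (π.subgroupComap D), ?_⟩
  intro t
  obtain ⟨d, hd⟩ := hf t
  obtain ⟨g, hg⟩ := hπ d
  refine ⟨⟨g, by rw [Subgroup.mem_comap, hg]; exact d.2⟩, ?_⟩
  have : π.subgroupComap D ⟨g, by rw [Subgroup.mem_comap, hg]; exact d.2⟩ = d := Subtype.ext hg
  rw [MonoidHom.comp_apply, this, hd]

theorem InvolvesSL2.exists_section {p : ℕ} {G : Type*} [Group G] (H : Subgroup G)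
    (h : InvolvesSL2 p ↥H) :
    ∃ (K L : Subgroup G) (_ : (L.subgroupOf K).Normal), K ≤ H ∧
      Nonempty ((K ⧸ L.subgroupOf K) ≃* Matrix.SpecialLinearGroup (Fin 2) (ZMod p)) := by
  obtain ⟨D, f, hfs⟩ := h
  refine exists_section_of_surj' H (D.map H.subtype) ?_
    (f.comp (D.equivMapOfInjective H.subtype H.subtype_injective).symm.toMonoidHom) ?_
  · rintro _ ⟨d, _, rfl⟩
    exact d.2
  · intro t
    obtain ⟨d, hd⟩ := hfs t
    refine ⟨D.equivMapOfInjective H.subtype H.subtype_injective d, ?_⟩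
    simp only [MonoidHom.coe_comp, MulEquiv.coe_toMonoidHom, Function.comp_apply,
      MulEquiv.symm_apply_apply]
    exact hd

theorem involvesSL2_of_section {p : ℕ} {G : Type*} [Group G] (K L : Subgroup G)
    [hL : (L.subgroupOf K).Normal]
    (e : (K ⧸ L.subgroupOf K) ≃* Matrix.SpecialLinearGroup (Fin 2) (ZMod p)) :
    InvolvesSL2 p G :=
  ⟨K, e.toMonoidHom.comp (QuotientGroup.mk' (L.subgroupOf K)), fun t => by
    obtain ⟨k, hk⟩ := QuotientGroup.mk'_surjective (L.subgroupOf K) (e.symm t)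
    exact ⟨k, by rw [MonoidHom.comp_apply, hk]; exact e.apply_symm_apply t⟩⟩

/-- Pair lemma for groups not involving `SL₂(p)`. -/
theorem exists_pow_eq_one_of_quad_pair_noSL2 {X : Type u} [Group X] [Finite X] {p : ℕ}
    [Fact p.Prime] (hp : p ≠ 2) (hno : ¬ InvolvesSL2 p X) {A : Type v} [CommGroup A] [Finite A]
    (hA : ∀ x : A, x ^ p = 1) (φ : X →* MulAut A) (a b : X)
    (hqa : ∀ v : A, φ a (φ a v) * v = φ a v * φ a v)
    (hqb : ∀ v : A, φ b (φ b v) * v = φ b v * φ b v) :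
    ∀ h ∈ Subgroup.closure ({a, b} : Set X), ∃ k : ℕ, φ (h ^ (p ^ k)) = 1 := by
  classical
  have hVexp : ∀ m : Additive A, p • m = 0 := by
    intro m
    have h2 : Additive.ofMul ((m.toMul) ^ p) = p • m := rfl
    rw [← h2, hA]
    rfl
  letI : Module (ZMod p) (Additive A) := AddCommGroup.zmodModule hVexp
  obtain ⟨H₀, hH₀⟩ : ∃ H₀ : Subgroup X, H₀ = Subgroup.closure ({a, b} : Set X) := ⟨_, rfl⟩
  have haH : a ∈ H₀ := by rw [hH₀]; exact Subgroup.subset_closure (by simp)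
  have hbH : b ∈ H₀ := by rw [hH₀]; exact Subgroup.subset_closure (by simp)
  have hgen : Subgroup.closure ({⟨a, haH⟩, ⟨b, hbH⟩} : Set ↥H₀) = ⊤ := by
    have h1 := Subgroup.closure_closure_coe_preimage (k := ({a, b} : Set X))
    rw [← hH₀] at h1
    have h2 : ((↑) : ↥H₀ → X) ⁻¹' ({a, b} : Set X) = {⟨a, haH⟩, ⟨b, hbH⟩} := by
      ext ⟨y, hy⟩
      simp [Subtype.ext_iff]
    rw [h2] at h1
    exact h1
  have hNo : NoTransvectionPair.{u, v} p ↥H₀ ⟨a, haH⟩ ⟨b, hbH⟩ := by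
    intro K _ _ ψ s hs ha hb
    obtain ⟨D, f, hf⟩ := exists_surj_of_transvection_pair hp _ _ hgen K ψ s hs ha hb
    exact hno (InvolvesSL2.of_subgroup ⟨D, f, hf⟩)
  have hqa' : QuadEnd (linHom p (φ.comp H₀.subtype) ⟨a, haH⟩) := by
    intro m
    exact congrArg Additive.ofMul (hqa m.toMul)
  have hqb' : QuadEnd (linHom p (φ.comp H₀.subtype) ⟨b, hbH⟩) := by
    intro m
    exact congrArg Additive.ofMul (hqb m.toMul)
  have key := quadPair_gen (p := p) (H := ↥H₀) (⟨a, haH⟩ : ↥H₀) (⟨b, hbH⟩ : ↥H₀)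
    hNo hgen (Nat.card (Additive A)) (Additive A)
    (linHom p (φ.comp H₀.subtype)) rfl hqa' hqb'
  intro h hh
  rw [← hH₀] at hh
  obtain ⟨k, hk⟩ := key ⟨h, hh⟩
  rw [linHom_eq_one_iff] at hk
  exact ⟨k, hk⟩

/-- **Groups not involving `SL₂(p)` are `p`-stable on elementary abelian normal subgroups.** -/
theorem mem_stabCore_of_quadratic_of_noSL2 {G : Type u} [Group G] [Finite G]
    {p : ℕ} [Fact p.Prime] (hp : p ≠ 2) (hno : ¬ InvolvesSL2 p G) (V : Subgroup G)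
    [hVn : V.Normal] (hV : IsElementaryAbelian p V) (a : G)
    (ha : ⁅⁅V, Subgroup.zpowers a⁆, Subgroup.zpowers a⁆ = ⊥) : a ∈ stabCore p V := by
  classical
  have hcV : ∀ x y : ↥V, x * y = y * x := fun x y => hV.1.is_comm.comm x y
  have hVexp : ∀ v : ↥V, v ^ p = 1 := fun v => Subtype.ext (by simpa using hV.2 _ v.2)
  obtain ⟨φ, hφ⟩ : ∃ φ : G →* MulAut ↥V, φ = MulAut.conjNormal := ⟨_, rfl⟩
  have hφa : ∀ (g : G) (v : ↥V), ((φ g v : ↥V) : G) = g * v * g⁻¹ := by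
    intro g v
    rw [hφ]
    exact MulAut.conjNormal_apply g v
  have hquad : ∀ c : G, ⁅⁅V, Subgroup.zpowers c⁆, Subgroup.zpowers c⁆ = ⊥ →
      ∀ v : ↥V, φ c (φ c v) * v = φ c v * φ c v := by
    intro c hc v
    have hq1 := (Cfsg.Agent.Lib.Helper97.quad_iff V c).mp hc v v.2 c
      (Subgroup.mem_zpowers c) c (Subgroup.mem_zpowers c)
    have e1 : ⁅⁅(v : G), c⁆, c⁆ =
        (v : G) * (c * v * c⁻¹)⁻¹ * ((c * (c * v * c⁻¹) * c⁻¹) * (c * v * c⁻¹)⁻¹) := by
      rw [commutatorElement_def, commutatorElement_def]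
      group
    rw [e1] at hq1
    have hq2 : v * (φ c v)⁻¹ * (φ c (φ c v) * (φ c v)⁻¹) = 1 := by
      apply Subtype.ext
      simp only [Subgroup.coe_mul, Subgroup.coe_inv, hφa, Subgroup.coe_one]
      exact hq1
    exact Cfsg.Agent.Lib.Helper97.comm_rearr hcV _ _ _ hq2
  set C := Subgroup.centralizer (V : Set G) with hC
  have hpair : ∀ g : G, ∀ h ∈ Subgroup.closure ({a, g * a * g⁻¹} : Set G),
      ∃ k : ℕ, h ^ (p ^ k) ∈ C := by
    intro g h hh
    letI : CommGroup ↥V := { (inferInstance : Group ↥V) with mul_comm := hcV }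
    obtain ⟨k, hk⟩ := exists_pow_eq_one_of_quad_pair_noSL2 hp hno (p := p) (A := ↥V) hVexp φ a
      (g * a * g⁻¹) (hquad a ha) (hquad _ (Cfsg.Agent.Lib.Helper97.quad_conj ha g)) h hh
    refine ⟨k, ?_⟩
    rw [hφ] at hk
    exact (mem_ker_conjNormal V _).mp hk
  set π := QuotientGroup.mk' C with hπ
  have hBS : ∀ g' : G ⧸ C, IsPGroup p ↥(Subgroup.zpowers (π a) ⊔
      (Subgroup.zpowers (π a)).map (MulAut.conj g').toMonoidHom) := by
    intro g'
    obtain ⟨g, rfl⟩ := QuotientGroup.mk'_surjective C g'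
    have hle : Subgroup.zpowers (π a) ⊔
        (Subgroup.zpowers (π a)).map (MulAut.conj (QuotientGroup.mk' C g)).toMonoidHom ≤
        (Subgroup.closure ({a, g * a * g⁻¹} : Set G)).map π := by
      apply sup_le
      · rw [Subgroup.zpowers_le]
        exact Subgroup.mem_map_of_mem _ (Subgroup.subset_closure (by simp))
      · rw [MonoidHom.map_zpowers, Subgroup.zpowers_le]
        refine ⟨g * a * g⁻¹, Subgroup.subset_closure (by simp), ?_⟩
        simp [hπ, MulAut.conj_apply]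
    refine IsPGroup.to_le ?_ hle
    rintro ⟨_, h, hh, rfl⟩
    obtain ⟨k, hk⟩ := hpair g h hh
    refine ⟨k, Subtype.ext ?_⟩
    rw [Subgroup.coe_pow, Subgroup.coe_one]
    show (π h) ^ (p ^ k) = 1
    rw [← map_pow]
    exact (QuotientGroup.eq_one_iff _).mpr hk
  have hX : IsPGroup p ↥(Subgroup.zpowers (π a)) := IsPGroup.to_le (hBS 1) le_sup_left
  obtain ⟨N, hNn, hNp, hXN⟩ := Cfsg.Agent.S0199.result (Subgroup.zpowers (π a)) hX hBS
  rw [mem_stabCore_iff]
  exact Cfsg.Agent.Lib.Helper97.le_pCore_of_normal hNn hNp (hXN (Subgroup.mem_zpowers _))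

theorem exists_normal_of_quadratic_noSL2 {G : Type u} [Group G] [Finite G]
    {p : ℕ} [Fact p.Prime] (hp : p ≠ 2) (hno : ¬ InvolvesSL2 p G) (V : Subgroup G) [V.Normal]
    (hV : IsElementaryAbelian p V) (a : G)
    (ha : ⁅⁅V, Subgroup.zpowers a⁆, Subgroup.zpowers a⁆ = ⊥) :
    ∃ D : Subgroup G, D.Normal ∧ a ∈ D ∧
      ∀ d ∈ D, ∃ k : ℕ, d ^ (p ^ k) ∈ Subgroup.centralizer (V : Set G) :=
  ⟨stabCore p V, inferInstance, mem_stabCore_of_quadratic_of_noSL2 hp hno V hV a ha,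
    fun _ hd => exists_pow_mem_centralizer_of_mem_stabCore p V hd⟩

/-- Section version: `Q / Φ` elementary abelian, `a` quadratic on `Q / Φ`. -/
theorem exists_normal_of_quadratic_mod_noSL2 {Γ : Type u} [Group Γ] [Finite Γ] {p : ℕ}
    [Fact p.Prime] (hp : p ≠ 2) (hno : ¬ InvolvesSL2 p Γ) (Q Φ : Subgroup Γ) [hQn : Q.Normal]
    [hΦn : Φ.Normal]
    (hcomm : ⁅Q, Q⁆ ≤ Φ) (hpow : ∀ x ∈ Q, x ^ p ∈ Φ) (a : Γ)
    (ha : ⁅⁅Q, Subgroup.zpowers a⁆, Subgroup.zpowers a⁆ ≤ Φ) :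
    ∃ D : Subgroup Γ, D.Normal ∧ a ∈ D ∧
      ∀ d ∈ D, ∃ k : ℕ, ∀ r ∈ Q, d ^ (p ^ k) * r * (d ^ (p ^ k))⁻¹ * r⁻¹ ∈ Φ := by
  have hsurj := QuotientGroup.mk'_surjective Φ
  set V' : Subgroup (Γ ⧸ Φ) := Q.map (QuotientGroup.mk' Φ) with hV'
  have hVn : V'.Normal := hQn.map _ hsurj
  have hVel : IsElementaryAbelian p V' := by
    refine ⟨⟨⟨?_⟩⟩, ?_⟩
    · rintro ⟨_, x, hx, rfl⟩ ⟨_, y, hy, rfl⟩
      apply Subtype.ext
      show (QuotientGroup.mk' Φ) x * (QuotientGroup.mk' Φ) y =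
        (QuotientGroup.mk' Φ) y * (QuotientGroup.mk' Φ) x
      have h1 : ⁅x, y⁆ ∈ Φ := hcomm (Subgroup.commutator_mem_commutator hx hy)
      have h2 : (QuotientGroup.mk' Φ) ⁅x, y⁆ = 1 := (QuotientGroup.eq_one_iff _).mpr h1
      rw [map_commutatorElement, commutatorElement_eq_one_iff_commute] at h2
      exact h2.eq
    · rintro _ ⟨x, hx, rfl⟩
      rw [← map_pow]
      exact (QuotientGroup.eq_one_iff _).mpr (hpow x hx)
  have hquad : ⁅⁅V', Subgroup.zpowers ((QuotientGroup.mk' Φ) a)⁆,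
      Subgroup.zpowers ((QuotientGroup.mk' Φ) a)⁆ = ⊥ := by
    rw [hV', ← MonoidHom.map_zpowers, ← Subgroup.map_commutator, ← Subgroup.map_commutator,
      eq_bot_iff]
    calc _ ≤ Φ.map (QuotientGroup.mk' Φ) := Subgroup.map_mono ha
      _ = ⊥ := QuotientGroup.map_mk'_self Φ
  obtain ⟨D', hD'n, haD', hD'⟩ := exists_normal_of_quadratic_noSL2 hp
    (fun h => hno (InvolvesSL2.of_surjective (QuotientGroup.mk' Φ) hsurj h)) V' hVel _ hquad
  refine ⟨D'.comap (QuotientGroup.mk' Φ), hD'n.comap _, haD', ?_⟩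
  intro d hd
  obtain ⟨k, hk⟩ := hD' _ hd
  refine ⟨k, fun r hr => ?_⟩
  rw [Subgroup.mem_centralizer_iff] at hk
  have h1 := hk _ (Subgroup.mem_map_of_mem (QuotientGroup.mk' Φ) hr)
  rw [← QuotientGroup.eq_one_iff]
  have h2 : ((d ^ (p ^ k) * r * (d ^ (p ^ k))⁻¹ * r⁻¹ : Γ) : Γ ⧸ Φ) =
      (QuotientGroup.mk' Φ d) ^ (p ^ k) * (QuotientGroup.mk' Φ r) *
        ((QuotientGroup.mk' Φ d) ^ (p ^ k))⁻¹ * (QuotientGroup.mk' Φ r)⁻¹ := by
    simp
  rw [h2, ← h1]
  group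

/-- Version for an arbitrary normal `p`-subgroup. -/
theorem exists_normal_of_quadratic_pgroup_noSL2 {Γ : Type u} [Group Γ] [Finite Γ] {p : ℕ}
    [Fact p.Prime] (hp2 : p ≠ 2) (hno : ¬ InvolvesSL2 p Γ) (R : Subgroup Γ) [hRn : R.Normal]
    (hR : IsPGroup p R) (a : Γ)
    (ha : ⁅⁅R, Subgroup.zpowers a⁆, Subgroup.zpowers a⁆ = ⊥) :
    ∃ D : Subgroup Γ, D.Normal ∧ a ∈ D ∧
      ∀ d ∈ D, ∃ k : ℕ, d ^ (p ^ k) ∈ Subgroup.centralizer (R : Set Γ) := by
  have hp : p.Prime := Fact.out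
  have hΦn : (Cfsg.Agent.Lib.Helper70.frattiniIn R).Normal := inferInstance
  have hcomm : ⁅R, R⁆ ≤ Cfsg.Agent.Lib.Helper70.frattiniIn R :=
    Cfsg.Agent.Lib.Helper97.commutator_le_map_frattini hR
  have hpow : ∀ x ∈ R, x ^ p ∈ Cfsg.Agent.Lib.Helper70.frattiniIn R :=
    fun x hx => Cfsg.Agent.Lib.Helper97.pow_prime_mem_map_frattini hR hx
  have ha' : ⁅⁅R, Subgroup.zpowers a⁆, Subgroup.zpowers a⁆ ≤
      Cfsg.Agent.Lib.Helper70.frattiniIn R := by
    rw [ha]; exact bot_le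
  obtain ⟨D, hDn, haD, hD⟩ := exists_normal_of_quadratic_mod_noSL2 hp2 hno R
    (Cfsg.Agent.Lib.Helper70.frattiniIn R) hcomm hpow a ha'
  refine ⟨D, hDn, haD, ?_⟩
  intro d hd
  obtain ⟨k, hk⟩ := hD d hd
  set y := d ^ (p ^ k) with hy
  have hyT : y ∈ Cfsg.Agent.Lib.Helper70.trivOnFrattiniQuot R :=
    (Cfsg.Agent.Lib.Helper70.mem_trivOnFrattiniQuot R y).mpr hk
  have ho : orderOf y ≠ 0 := (orderOf_pos y).ne'
  obtain ⟨m, n, hn, hmn⟩ := Nat.exists_eq_pow_mul_and_not_dvd ho p hp.ne_one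
  have hzT : y ^ (p ^ m) ∈ Cfsg.Agent.Lib.Helper70.trivOnFrattiniQuot R := pow_mem hyT _
  have hzo : orderOf (y ^ (p ^ m)) ∣ n := by
    apply orderOf_dvd_of_pow_eq_one
    rw [← pow_mul, ← hmn]
    exact pow_orderOf_eq_one y
  have hcop : (orderOf (y ^ (p ^ m))).Coprime p :=
    Nat.Coprime.coprime_dvd_left hzo ((Nat.Prime.coprime_iff_not_dvd hp).mpr hn).symm
  have hzC := Cfsg.Agent.Lib.Helper70.mem_centralizer_of_coprime R hR _ hzT hcop
  refine ⟨k + m, ?_⟩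
  have : d ^ (p ^ (k + m)) = y ^ (p ^ m) := by
    rw [hy, ← pow_mul, pow_add]
  rw [this]
  exact hzC

/-- `p` odd: finite groups not involving `SL₂(p)` are `p`-stable in the normalizer form. -/
theorem isNormalizerPStable_of_noSL2 {H : Type u} [Group H] [Finite H] {p : ℕ}
    [Fact p.Prime] (hp2 : p ≠ 2) (hno : ¬ InvolvesSL2 p H) : IsNormalizerPStable p H := by
  intro P hP g hg hquad
  have hPN : P ≤ Subgroup.normalizer (P : Set H) := Subgroup.le_normalizer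
  have hRn : (P.subgroupOf (Subgroup.normalizer (P : Set H))).Normal :=
    Subgroup.normal_in_normalizer
  have hRp : IsPGroup p ↥(P.subgroupOf (Subgroup.normalizer (P : Set H))) := hP.comap_subtype
  have hq' : ⁅⁅P.subgroupOf (Subgroup.normalizer (P : Set H)),
      Subgroup.zpowers (⟨g, hg⟩ : ↥(Subgroup.normalizer (P : Set H)))⁆,
      Subgroup.zpowers (⟨g, hg⟩ : ↥(Subgroup.normalizer (P : Set H)))⁆ = ⊥ := by
    rw [← Cfsg.Agent.Lib.Helper97.quad_map_iff (Subgroup.normalizer (P : Set H)).subtype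
      (Subgroup.normalizer (P : Set H)).subtype_injective, Subgroup.map_subgroupOf_eq_of_le hPN]
    exact hquad
  obtain ⟨D, hDn, haD, hD⟩ := exists_normal_of_quadratic_pgroup_noSL2 hp2
    (fun h => hno (InvolvesSL2.of_subgroup h))
    (P.subgroupOf (Subgroup.normalizer (P : Set H))) hRp ⟨g, hg⟩ hq'
  have hsurj := QuotientGroup.mk'_surjective
    ((Subgroup.centralizer (P : Set H)).subgroupOf (Subgroup.normalizer (P : Set H)))
  have h1 : (D.map (QuotientGroup.mk'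
      ((Subgroup.centralizer (P : Set H)).subgroupOf (Subgroup.normalizer (P : Set H))))).Normal :=
    hDn.map _ hsurj
  have h2 : IsPGroup p (D.map (QuotientGroup.mk'
      ((Subgroup.centralizer (P : Set H)).subgroupOf (Subgroup.normalizer (P : Set H))))) := by
    rintro ⟨_, d, hd, rfl⟩
    obtain ⟨k, hk⟩ := hD d hd
    refine ⟨k, Subtype.ext ?_⟩
    rw [Subgroup.coe_pow, Subgroup.coe_one, ← map_pow]
    refine (QuotientGroup.eq_one_iff _).mpr ?_
    rw [Subgroup.mem_subgroupOf, Subgroup.mem_centralizer_iff]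
    intro x hx
    rw [Subgroup.mem_centralizer_iff] at hk
    have := hk ⟨x, hPN hx⟩ (by
      show (⟨x, hPN hx⟩ : ↥(Subgroup.normalizer (P : Set H))) ∈
        P.subgroupOf (Subgroup.normalizer (P : Set H))
      rw [Subgroup.mem_subgroupOf]
      exact hx)
    have h3 := congrArg Subtype.val this
    simpa using h3
  exact Cfsg.Agent.Lib.Helper97.le_pCore_of_normal h1 h2 (Subgroup.mem_map_of_mem _ haD)

/-- A finite group not involving `SL₂(p)` acts `p`-stably on each of its normal `p`-subgroups. -/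
theorem isPStableOn_of_noSL2 {G : Type u} [Group G] [Finite G]
    {p : ℕ} [Fact p.Prime] (hp2 : p ≠ 2) (hno : ¬ InvolvesSL2 p G) (P : Subgroup G) [P.Normal]
    (hP : IsPGroup p P) : Cfsg.IsPStableOn p P := by
  intro a ha
  obtain ⟨D, hDn, haD, hD⟩ := exists_normal_of_quadratic_pgroup_noSL2 hp2 hno P hP a ha
  exact (le_stabCore (p := p) P D hD) haD

end Cfsg.Agent.Lib.Helper11
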