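import Mathlib
import Cfsg.Agent.Lib.Helper11.NotStableSL2

set_option autoImplicit false

/-!
# A transvection pair representation contains `SL₂(p)` (helper11)

Variant of `exists_surj_of_transvection_pair` exposing the lifted representation.
-/

namespace Cfsg.Agent.Lib.Helper11

open Cfsg.Agent.Lib.Helper41

universe u v

theorem exists_SL2_of_transvection_pair {X : Type u} [Group X] [Finite X] {p : ℕ}
    [Fact p.Prime] (hp : p ≠ 2) (a b : X) (hgen : Subgroup.closure ({a, b} : Set X) = ⊤)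
    (K : Type v) [Field K] [CharP K p] (ψ : X →* Matrix (Fin 2) (Fin 2) K) (s : K) (hs : s ≠ 0)
    (ha : ψ a = !![1, s; 0, 1]) (hb : ψ b = !![1, 0; 1, 1]) :
    ∃ (ψ' : X →* Matrix.SpecialLinearGroup (Fin 2) K),
      (∀ h, ((ψ' h : Matrix.SpecialLinearGroup (Fin 2) K) : Matrix (Fin 2) (Fin 2) K) = ψ h) ∧
      ∃ K₁ : Subgroup (Matrix.SpecialLinearGroup (Fin 2) K), K₁ ≤ ψ'.range ∧
        Nonempty (↥K₁ ≃* Matrix.SpecialLinearGroup (Fin 2) (ZMod p)) := by
  have hdet : ∀ h : X, (ψ h).det = 1 := by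
    intro h
    have hh : h ∈ Subgroup.closure ({a, b} : Set X) := by rw [hgen]; exact Subgroup.mem_top h
    induction hh using Subgroup.closure_induction with
    | mem x hx =>
      rcases hx with rfl | rfl
      · rw [ha, Matrix.det_fin_two_of]; ring
      · rw [hb, Matrix.det_fin_two_of]; ring
    | one => rw [map_one, Matrix.det_one]
    | mul x y _ _ hx hy => rw [map_mul, Matrix.det_mul, hx, hy, mul_one]
    | inv x _ hx =>
      have h1 : ψ x⁻¹ * ψ x = 1 := by rw [← map_mul, inv_mul_cancel, map_one]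
      have h2 := congrArg Matrix.det h1
      rw [Matrix.det_mul, hx, mul_one, Matrix.det_one] at h2
      exact h2
  let mk : X → Matrix.SpecialLinearGroup (Fin 2) K := fun h => ⟨ψ h, hdet h⟩
  have hmk : ∀ h, ((mk h : Matrix.SpecialLinearGroup (Fin 2) K) :
      Matrix (Fin 2) (Fin 2) K) = ψ h := fun _ => rfl
  let ψ' : X →* Matrix.SpecialLinearGroup (Fin 2) K :=
    { toFun := mk
      map_one' := Subtype.ext (by
        rw [hmk, map_one, Matrix.SpecialLinearGroup.coe_one])
      map_mul' := fun g h => Subtype.ext (by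
        rw [Matrix.SpecialLinearGroup.coe_mul, hmk, hmk, hmk]; exact map_mul ψ g h) }
  have hψ'a : ψ' a = upperU s := Subtype.ext (by show ψ a = _; rw [ha]; rfl)
  have hψ'b : ψ' b = lowerU 1 := Subtype.ext (by show ψ b = _; rw [hb]; rfl)
  have hfinR : Finite ψ'.range := Finite.of_surjective ψ'.rangeRestrict ψ'.rangeRestrict_surjective
  have hne : upperU s * lowerU (1 : K) ≠ lowerU 1 * upperU s := by
    intro h
    have := congrArg (fun g : Matrix.SpecialLinearGroup (Fin 2) K =>
      (g : Matrix (Fin 2) (Fin 2) K) 0 0) h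
    simp only [mul_apply_00, coe_upperU, coe_lowerU] at this
    simp at this
    exact hs this
  obtain ⟨K₁, hK₁, he⟩ := hasPrimeSL2_of_noncomm_odd p hp ψ'.range (upperU s) (lowerU 1)
    ⟨a, hψ'a⟩ ⟨b, hψ'b⟩ (by unfold tr2; rw [coe_upperU]; simp; norm_num)
    (by unfold tr2; rw [coe_lowerU]; simp; norm_num) hne
  exact ⟨ψ', fun _ => rfl, K₁, hK₁, he⟩

end Cfsg.Agent.Lib.Helper11
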