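import Mathlib
import Cfsg.Agent.Lib.Helper29.OddProdDefs
import Cfsg.Agent.Lib.Helper29.OddProdIns
import Cfsg.Agent.Lib.Helper29.OddProdSpec

/-!
# S3265, module [RED-D] (helper29 #3971): reduction along a common 2-cycle
-/

set_option autoImplicit false
set_option linter.unusedSectionVars false

namespace Cfsg.Agent.Lib.Helper11.OddProd
open Equiv Cfsg.Agent.Lib.Helper29.OddProd

variable {α : Type*} [DecidableEq α] [Fintype α]

theorem red_d (hD2 : SpecD2 α) (x y : Perm α) (h : Inst x y) (a : α) (hxa : x a ≠ a) (hxy : x a = y a)
    (ih : IH x) : Sol ∅ x y := by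
  have hya : y a ≠ a := hxy ▸ hxa
  have hab : a ≠ x a := Ne.symm hxa
  -- the reduced pair
  have hx'2 : (x * swap a (x a)) * (x * swap a (x a)) = 1 := rm_mul_self h.hx a
  have hy'2 : (y * swap a (x a)) * (y * swap a (x a)) = 1 := by
    rw [hxy]; exact rm_mul_self h.hy a
  have hx'a : (x * swap a (x a)) a = a := rm_apply_left h.hx a
  have hx'b : (x * swap a (x a)) (x a) = x a := rm_apply_right a
  have hy'a : (y * swap a (x a)) a = a := by rw [hxy]; exact rm_apply_left h.hy a
  have hy'b : (y * swap a (x a)) (x a) = x a := by rw [hxy]; exact rm_apply_right a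
  have hcx : (x * swap a (x a)).support.card + 2 = x.support.card := card_support_rm h.hx hxa
  have hcy : (y * swap a (x a)).support.card + 2 = y.support.card := by
    rw [hxy]; exact card_support_rm h.hy hya
  have hinst : Inst (x * swap a (x a)) (y * swap a (x a)) :=
    ⟨hx'2, hy'2, by have := h.bal; omega⟩
  have hxeq : x * swap a (x a) * swap a (x a) = x := rm_mul_swap x a
  have hyeq : y * swap a (x a) * swap a (x a) = y := by
    rw [mul_assoc, Equiv.swap_mul_self, mul_one]
  by_cases hexc : Exc (x * swap a (x a)) (y * swap a (x a))
  · have := hD2 _ _ hx'2 hy'2 hexc a (x a) hab hx'a hx'b hy'a hy'b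
    rwa [hxeq, hyeq] at this
  · obtain ⟨z', hz'2, hz's, hz'c, ho1, ho2⟩ := ih _ _ hinst (by omega) hexc
    have hsx : (x * swap a (x a)).support ⊆ x.support := support_rm_subset h.hx a
    have hsy : (y * swap a (x a)).support ⊆ y.support := by
      rw [hxy]; exact support_rm_subset h.hy a
    have hfix : ∀ p, (x * swap a (x a)) p = p → (y * swap a (x a)) p = p → z' p = p := by
      intro p h1 h2
      by_contra hne
      have := hz's (Perm.mem_support.mpr hne)
      simp only [Finset.union_empty, Finset.mem_union, Perm.mem_support] at this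
      rcases this with h3 | h3
      · exact h3 h1
      · exact h3 h2
    have hz'a : z' a = a := hfix a hx'a hy'a
    have hz'b : z' (x a) = x a := hfix (x a) hx'b hy'b
    refine ⟨z' * swap a (x a), mul_swap_mul_self hz'2 hz'a hz'b, ?_, ?_, ?_, ?_⟩
    · rw [support_mul_swap hab hz'a hz'b]
      intro p hp
      rw [Finset.mem_union] at hp
      rcases hp with hp | hp
      · have := hz's hp
        simp only [Finset.union_empty, Finset.mem_union] at this ⊢
        rcases this with h3 | h3
        · exact Or.inl (hsx h3)
        · exact Or.inr (hsy h3)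
      · simp only [Finset.union_empty, Finset.mem_union, Perm.mem_support]
        left
        simp only [Finset.mem_insert, Finset.mem_singleton] at hp
        rcases hp with rfl | rfl
        · exact hxa
        · rw [inv_apply_apply h.hx]; exact hab
    · rw [card_support_mul_swap hab hz'a hz'b, hz'c]; exact hcx
    · have hc : z' * swap a (x a) = swap a (x a) * z' := commute_swap_of_fixed hz'a hz'b
      have : x * (z' * swap a (x a)) = x * swap a (x a) * z' := by
        rw [hc, mul_assoc]
      rw [this]; exact ho1
    · have hc : (y * swap a (x a)) * swap a (x a) = swap a (x a) * (y * swap a (x a)) :=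
        commute_swap_of_fixed hy'a hy'b
      have : z' * swap a (x a) * y = z' * (y * swap a (x a)) := by
        conv_lhs => rw [← hyeq]
        rw [hc, mul_assoc, ← mul_assoc (swap a (x a)), Equiv.swap_mul_self, one_mul]
      rw [this]; exact ho2

end Cfsg.Agent.Lib.Helper11.OddProd
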