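import Mathlib
import Cfsg.Agent.Lib.Helper29.OddProdDefs
import Cfsg.Agent.Lib.Helper29.OddProdIns
import Cfsg.Agent.Lib.Helper29.OddProdSpec

/-!
# S3265, module [TOP] (helper29 #3971): from `Sol` to a conjugate midpoint
-/

set_option autoImplicit false
set_option linter.unusedSectionVars false

namespace Cfsg.Agent.Lib.Helper11.OddProd
open Equiv Cfsg.Agent.Lib.Helper29.OddProd

theorem exists_mid (n : ℕ) (hn : 5 ≤ n) (hD1 : SpecD1 (Fin n))
    (hmain : ∀ x y : Perm (Fin n), Inst x y → ¬ Exc x y → Sol ∅ x y)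
    (t x y : Perm (Fin n)) (ht : orderOf t = 2) (hx : IsConj t x) (hy : IsConj t y) :
    ∃ z, IsConj t z ∧ Odd (orderOf (x * z)) ∧ Odd (orderOf (z * y)) := by
  have hctx : t.cycleType = x.cycleType := Perm.isConj_iff_cycleType_eq.mp hx
  have hcty : t.cycleType = y.cycleType := Perm.isConj_iff_cycleType_eq.mp hy
  have hox : orderOf x = 2 := by rw [← Perm.lcm_cycleType, ← hctx, Perm.lcm_cycleType, ht]
  have hoy : orderOf y = 2 := by rw [← Perm.lcm_cycleType, ← hcty, Perm.lcm_cycleType, ht]
  have hx2 : x * x = 1 := by rw [← pow_two, ← hox]; exact pow_orderOf_eq_one x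
  have hy2 : y * y = 1 := by rw [← pow_two, ← hoy]; exact pow_orderOf_eq_one y
  have hbal : x.support.card = y.support.card := by
    rw [← Perm.sum_cycleType, ← Perm.sum_cycleType, ← hctx, ← hcty]
  have hxne : x ≠ 1 := by
    intro h
    rw [h, orderOf_one] at hox
    omega
  have hxpos : 0 < x.support.card := by
    rw [Finset.card_pos, Finset.nonempty_iff_ne_empty]
    intro h
    exact hxne (Perm.support_eq_empty_iff.mp h)
  -- a solution with some set of extra points
  obtain ⟨z, hz2, hzc, ho1, ho2⟩ : ∃ z : Perm (Fin n), z * z = 1 ∧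
      z.support.card = x.support.card ∧ Odd (orderOf (x * z)) ∧ Odd (orderOf (z * y)) := by
    by_cases hexc : Exc x y
    · have hcard : x.support.card < Fintype.card (Fin n) := by
        rw [hexc.1, Fintype.card_fin]; omega
      obtain ⟨p, hp⟩ : ∃ p, p ∉ x.support := by
        by_contra hall
        push Not at hall
        have : x.support = Finset.univ := Finset.eq_univ_iff_forall.mpr hall
        rw [this, Finset.card_univ] at hcard
        exact lt_irrefl _ hcard
      have hxp : x p = p := by
        rwa [Perm.mem_support, not_not] at hp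
      have hyp : y p = p := by
        rw [← hexc.2.1, Perm.mem_support, not_not] at hp
        exact hp
      obtain ⟨z, hz2, -, hzc, ho1, ho2⟩ := hD1 x y hx2 hy2 hexc p hxp hyp
      exact ⟨z, hz2, hzc, ho1, ho2⟩
    · obtain ⟨z, hz2, -, hzc, ho1, ho2⟩ := hmain x y ⟨hx2, hy2, hbal⟩ hexc
      exact ⟨z, hz2, hzc, ho1, ho2⟩
  refine ⟨z, ?_, ho1, ho2⟩
  -- `z` is conjugate to `x`, hence to `t`
  have hzne : z ≠ 1 := by
    intro h
    rw [h, Perm.support_one, Finset.card_empty] at hzc
    omega
  have hoz : orderOf z = 2 := by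
    apply orderOf_eq_prime
    · rw [pow_two]; exact hz2
    · exact hzne
  have hp2 : Nat.Prime 2 := Nat.prime_two
  obtain ⟨k, hk⟩ := Perm.cycleType_prime_order (σ := z) (by rw [hoz]; exact hp2)
  obtain ⟨k', hk'⟩ := Perm.cycleType_prime_order (σ := x) (by rw [hox]; exact hp2)
  rw [hoz] at hk
  rw [hox] at hk'
  have h1 : z.cycleType.sum = x.cycleType.sum := by
    rw [Perm.sum_cycleType, Perm.sum_cycleType, hzc]
  rw [hk, hk', Multiset.sum_replicate, Multiset.sum_replicate] at h1
  have hkk : k = k' := by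
    simp only [smul_eq_mul] at h1
    omega
  have hzx : z.cycleType = x.cycleType := by rw [hk, hk', hkk]
  exact Perm.isConj_iff_cycleType_eq.mpr (hctx.trans hzx.symm)

end Cfsg.Agent.Lib.Helper11.OddProd
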