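import Mathlib
import Cfsg.Prelude.Def_PLocal
import Cfsg.Agent.Lib.Helper11.OddStable2

/-!
# `p`-stability of solvable groups of odd order, action form (helper11)
-/

set_option autoImplicit false

namespace Cfsg.Agent.Lib.Helper11

open Cfsg
open scoped commutatorElement

universe u

/-- A finite solvable group of odd order acts `p`-stably on each of its normal `p`-subgroups. -/
theorem isPStableOn_of_odd_solvable {G : Type u} [Group G] [Finite G] [Group.IsSolvable G]
    (hodd : Odd (Nat.card G)) {p : ℕ} [Fact p.Prime] (P : Subgroup G) [P.Normal]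
    (hP : IsPGroup p P) : Cfsg.IsPStableOn p P := by
  intro a ha
  obtain ⟨D, hDn, haD, hD⟩ := exists_normal_of_quadratic_pgroup_odd hodd P hP a ha
  exact (le_stabCore (p := p) P D hD) haD

end Cfsg.Agent.Lib.Helper11
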