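/-
helper11, project ASCHOE (coordinator helper55).  Module ASCHOE-[II-RESID] (hedge of helper25's row), in the
"from hypotheses" form: `subfield_or_residual_of` takes the statement of ASCHOE-[II-SUBFIELD]
(`outSubfield_of_realisable`) as a hypothesis.  Copy of my ASCH-[RESID] (`Lib/Helper11/AschResid.lean`).
-/
import Mathlib
import Cfsg.Prelude.Def_GeometricClasses
import Cfsg.Agent.Lib.Helper99.AschDefs
import Cfsg.Agent.Lib.Helper55.Oe.Defs
import Cfsg.Agent.Lib.Helper13.FormKitBilUni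
import Cfsg.Agent.Lib.Helper11.AschResid

set_option autoImplicit false

namespace Cfsg.Agent.Lib.Helper11.OeIIResid

open Cfsg Cfsg.Geo Cfsg.Agent.Lib.Helper99.Asch Cfsg.Agent.Lib.Helper55.Oe
open Cfsg.Agent.Lib.Helper11.AschResid
open scoped MatrixGroups Matrix Kronecker

variable {n : ℕ} {F : Type*} [Field F] [Fintype F]

/-- ASCHOE-[II-RESID], with the statement of ASCHOE-[II-SUBFIELD] as a hypothesis -/
theorem subfield_or_residual_of {Q : (Fin n → F) → F}
    (hSUB : ∀ (S : Subgroup (GL (Fin n) F)) {H : Subgroup (GL (Fin n) F)}, H ≤ isometryGroup F Q →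
      S ≤ H → ActsAbsolutelyIrreducibly (matrixSet S) → Nrm H S →
      ∀ F₀ : Subfield F, F₀ ≠ ⊤ → RealisableOver F₀ (matrixSet S) → OutSubfield Q H)
    (hQ : IsNondegenerateQuadraticForm Q) (hn : 2 ≤ n)
    {H : Subgroup (GL (Fin n) F)} (hH : H ≤ isometryGroup F Q)
    (P : Subgroup (GL (Fin n) F)) (hP : PerfMin H P) (habs : ActsAbsolutelyIrreducibly (matrixSet P))
    (hsimple : ∀ M : Subgroup (GL (Fin n) F), M ≤ P → Nrm P M → M ≤ scalars (Fin n) F ∨ M = P) :
    OutSubfield Q H ∨ InOrthogonalResidualClass H := by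
  have hne : Nonempty (Fin n) := ⟨⟨0, by omega⟩⟩
  by_cases h1 : ∃ F₀ : Subfield F, F₀ ≠ ⊤ ∧ RealisableOver F₀ (matrixSet P)
  · obtain ⟨F₀, hF₀, hreal⟩ := h1
    exact Or.inl (hSUB P hH hP.le habs hP.nrm F₀ hF₀ hreal)
  have hfixQ : FixesQuadForm (matrixSet P) Q := by
    rintro s ⟨x, hx, rfl⟩ v
    exact hH (hP.le hx) v v
  by_cases h4 : ∃ (σ : F ≃+* F) (f : (Fin n → F) → (Fin n → F) → F), IsUnitaryForm σ f ∧ FixesForm (matrixSet P) f
  · obtain ⟨σ, f, hf, hfix⟩ := h4
    exfalso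
    exact h1 (Cfsg.Agent.Lib.Helper13.FormKit.realisable_of_fixes_quadratic_unitary P habs hQ hfixQ hf hfix)
  right
  refine ⟨P, ?_, h4⟩
  exact
    { le := hP.le
      normal := hP.nrm
      perfect := hP.perfect
      simple := isSimpleGroup_quotient hP.not_le hsimple
      nonabelian := not_isMulCommutative_quotient hP.not_le hP.perfect
      centralizer_scalar := fun h _ hh =>
        mem_scalars_of_commute habs h (commute_of_perfect hP.perfect h hh)
      absIrred := habs
      no_subfield := fun F₀ hF₀ hreal => h1 ⟨F₀, hF₀, hreal⟩ }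

end Cfsg.Agent.Lib.Helper11.OeIIResid
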