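import Mathlib
import Cfsg.Agent.Lib.Helper16.PF13ArithNat

/-!
# PF13-[ARCRUDE] : the crude axis bound `u ≤ ((p-1)/2)^q` contradicts (**)
(module for helper16's PF sec.13 project)
-/

set_option autoImplicit false

namespace Cfsg.Agent.Lib.Helper11.PF13

open Cfsg.Agent.Lib.Helper16.PF13

lemma add_two_le_two_pow (n : ℕ) (hn : 2 ≤ n) : n + 2 ≤ 2 ^ n := by
  induction n, hn using Nat.le_induction with
  | base => norm_num
  | succ n hn ih =>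
    rw [pow_succ]
    omega

/-- `4 a^q ≤ p^(q-1)` when `2a + 1 ≤ p < q`, `q ≥ 5`. -/
lemma four_mul_pow_le {p q a : ℕ} (ha : 2 * a + 1 ≤ p) (hpq : p < q) (hq5 : 5 ≤ q) :
    4 * a ^ q ≤ p ^ (q - 1) := by
  have hT : 0 < 2 ^ (q - 1) := Nat.pos_of_ne_zero (by positivity)
  -- (2a)^(q-1) ≤ p^(q-1)
  have h1 : (2 * a) ^ (q - 1) ≤ p ^ (q - 1) := Nat.pow_le_pow_left (by omega) _
  rw [mul_pow] at h1
  -- 4a ≤ 2^(q-1)
  have h2 : 4 * a ≤ 2 ^ (q - 1) := by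
    have h3 := add_two_le_two_pow (q - 2) (by omega)
    have h4 : 2 ^ (q - 1) = 2 * 2 ^ (q - 2) := by
      rw [← pow_succ']
      congr 1
      omega
    rw [h4]
    omega
  have h5 : a ^ q = a * a ^ (q - 1) := by
    rw [← pow_succ']
    congr 1
    omega
  -- 4 a^q * T = 4a * (a^(q-1) T) ≤ T * X
  have h6 : 4 * a ^ q * 2 ^ (q - 1) ≤ p ^ (q - 1) * 2 ^ (q - 1) := by
    calc 4 * a ^ q * 2 ^ (q - 1) = (4 * a) * (2 ^ (q - 1) * a ^ (q - 1)) := by rw [h5]; ring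
      _ ≤ 2 ^ (q - 1) * p ^ (q - 1) := Nat.mul_le_mul h2 h1
      _ = p ^ (q - 1) * 2 ^ (q - 1) := by ring
  exact Nat.le_of_mul_le_mul_right h6 hT

theorem not_star_of_crude {p q u v : ℕ} (hp : 3 ≤ p) (hpq : p < q) (hq : q.Prime)
    (hu : u ≤ ((p - 1) / 2) ^ q) (hv : v * (q - 1) ≤ q ^ p - 1) : ¬ Cfsg.Agent.Lib.Helper16.PF13.star p q u v 1 1 := by
  intro h
  have hq5 : 5 ≤ q := by
    by_contra hlt
    have hq4 : q = 4 := by omega
    rw [hq4] at hq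
    exact absurd hq (by norm_num)
  set a := (p - 1) / 2 with ha
  have ha2 : 2 * a + 1 ≤ p := by omega
  have h4 : 4 * u ≤ p ^ (q - 1) :=
    le_trans (Nat.mul_le_mul_left 4 hu) (four_mul_pow_le ha2 hpq hq5)
  have h4' : 4 * (u : ℝ) ≤ (p : ℝ) ^ (q - 1) := by
    have : ((4 * u : ℕ) : ℝ) ≤ ((p ^ (q - 1) : ℕ) : ℝ) := by exact_mod_cast h4
    push_cast at this
    exact this
  have hX9 : (9 : ℝ) ≤ (p : ℝ) ^ (q - 1) := nine_le_pow hp (by omega)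
  have hY9 : (9 : ℝ) ≤ (q : ℝ) ^ (p - 1) := nine_le_pow (by omega) hp
  have hu2 : (u : ℝ) + 1 ≤ (1 / 4 + 1 / 9) * (p : ℝ) ^ (q - 1) := by nlinarith
  have hq3 : (3 : ℝ) ≤ (q : ℝ) := by exact_mod_cast (by omega : 3 ≤ q)
  have h1 := div_bound (u := (u : ℝ)) (c := 1) (X := (p : ℝ) ^ (q - 1)) (a := 1 / 4 + 1 / 9)
    (by linarith) (by norm_num) hu2
  have h2 := div_bound (u := (v : ℝ)) (c := 1) (X := (q : ℝ) ^ (p - 1)) (a := 29 / 18)
    (by linarith) (by norm_num)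
    (succ_le_of_geom hq3 hY9 (cast_geom (by omega) (by omega) hv))
  unfold Cfsg.Agent.Lib.Helper16.PF13.star at h
  simp only [Nat.cast_one, one_mul] at h
  norm_num at h1 h2
  linarith

end Cfsg.Agent.Lib.Helper11.PF13
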