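import Mathlib
import Cfsg.Agent.Lib.Helper41.PIM.Defs

/-!
# PIM-[LIFT] : lifting idempotents from `k[G]` to `O[G]`
(module for helper41's S4427 project)

`O` a local domain that is integrally closed in an algebraically closed field `K ⊇ O`,
`A` a module-finite `O`-algebra, `π : A →+* B` a ring homomorphism killing `𝔪` and with kernel inside `𝔪 A`.
If `π b` is idempotent then there is an idempotent `E` of `A` with `π E = π b`.
-/

set_option autoImplicit false

namespace Cfsg.Agent.Lib.Helper11.PIM

open Polynomial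

/-- a monic polynomial whose lower coefficients lie in `m` evaluates to `r ^ d` modulo `m` -/
lemma eval_sub_pow_mem {O : Type*} [CommRing O] (m : Ideal O) {p : O[X]} (hp : p.Monic)
    (hc : ∀ k, k < p.natDegree → p.coeff k ∈ m) (r : O) :
    p.eval r - r ^ p.natDegree ∈ m := by
  rw [Polynomial.eval_eq_sum_range, Finset.sum_range_succ, hp.coeff_natDegree, one_mul,
    add_sub_cancel_right]
  exact m.sum_mem (fun k hk => m.mul_mem_right _ (hc k (Finset.mem_range.mp hk)))

lemma isCoprime_multiset_prod_left {R : Type*} [CommSemiring R] (s : Multiset R) (x : R)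
    (h : ∀ a ∈ s, IsCoprime a x) : IsCoprime s.prod x := by
  induction s using Multiset.induction_on with
  | empty =>
    rw [Multiset.prod_zero]
    exact isCoprime_one_left
  | cons a s ih =>
    rw [Multiset.prod_cons]
    exact IsCoprime.mul_left (h a (Multiset.mem_cons_self a s))
      (ih fun b hb => h b (Multiset.mem_cons_of_mem hb))

theorem exists_idem_lift_aux {O : Type*} [CommRing O] [IsDomain O] [IsLocalRing O]
    {K : Type*} [Field K] [IsAlgClosed K] [Algebra O K]
    (hinj : Function.Injective (algebraMap O K))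
    (hcl : ∀ z : K, IsIntegral O z → z ∈ (algebraMap O K).range)
    {A : Type*} [Ring A] [Algebra O A] [Module.Finite O A]
    {B : Type*} [Ring B] (π : A →+* B)
    (hπ : ∀ a ∈ IsLocalRing.maximalIdeal O, π (algebraMap O A a) = 0)
    (hker : ∀ c : A, π c = 0 → c ∈ (IsLocalRing.maximalIdeal O) • (⊤ : Submodule O A))
    (b : A) (hb : π b * π b = π b) :
    ∃ E : A, E * E = E ∧ π E = π b := by
  classical
  set m := IsLocalRing.maximalIdeal O with hm
  have hmprime : m.IsPrime := (IsLocalRing.maximalIdeal.isMaximal O).isPrime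
  have h1m : (1 : O) ∉ m := (Ideal.ne_top_iff_one m).mp hmprime.ne_top
  -- q = X (X - 1)
  set q : O[X] := X * (X - C 1) with hq
  have hqmonic : q.Monic := monic_X.mul (monic_X_sub_C 1)
  have hqdeg : q.natDegree ≠ 0 := by
    rw [hq, Monic.natDegree_mul monic_X (monic_X_sub_C 1), natDegree_X, natDegree_X_sub_C]
    norm_num
  have hqeval : ∀ r : O, q.eval r = r * (r - 1) := by
    intro r
    rw [hq, eval_mul, eval_X, eval_sub, eval_X, eval_C]
  set c : A := aeval b q with hc
  have hcval : c = b * (b - 1) := by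
    rw [hc, hq, map_mul, aeval_X, map_sub, aeval_X, aeval_C, map_one]
  have hπc : π c = 0 := by
    rw [hcval, map_mul, map_sub, map_one, mul_sub, mul_one, hb, sub_self]
  -- Cayley-Hamilton
  have hrange : LinearMap.range (Algebra.lmul O A c) ≤ m • (⊤ : Submodule O A) := by
    rintro _ ⟨y, rfl⟩
    show c * y ∈ _
    have hcm := hker c hπc
    refine Submodule.smul_induction_on hcm ?_ ?_
    · intro a ha x _
      rw [smul_mul_assoc]
      exact Submodule.smul_mem_smul ha Submodule.mem_top
    · intro x₁ x₂ h₁ h₂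
      rw [add_mul]
      exact Submodule.add_mem _ h₁ h₂
  obtain ⟨p, hpmonic, -, hpcoeff, hpaeval⟩ :=
    LinearMap.exists_monic_and_natDegree_eq_and_coeff_mem_pow_and_aeval_eq_zero O
      (Algebra.lmul O A c) m hrange
  have hpc : aeval c p = 0 := by
    rw [Polynomial.aeval_algHom_apply] at hpaeval
    have h := congrArg (fun F : Module.End O A => F 1) hpaeval
    simpa using h
  have hpcoeff' : ∀ k, k < p.natDegree → p.coeff k ∈ m := by
    intro k hk
    exact Ideal.pow_le_self (by omega) (hpcoeff k)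
  -- f
  set f : O[X] := q * p.comp q with hf
  have hfmonic : f.Monic := hqmonic.mul (hpmonic.comp hqmonic hqdeg)
  have hfb : aeval b f = 0 := by
    rw [hf, map_mul, aeval_comp, ← hc, hpc, mul_zero]
  have hfeval : ∀ r : O, f.eval r = (r * (r - 1)) * p.eval (r * (r - 1)) := by
    intro r
    rw [hf, eval_mul, eval_comp, hqeval]
  -- f splits over O
  have hfsplit : f.Splits := by
    apply Splits.of_splits_map_of_injective hinj (IsAlgClosed.splits _)
    intro z hz
    apply hcl
    refine ⟨f, hfmonic, ?_⟩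
    have h := (mem_roots'.mp hz).2
    rwa [IsRoot.def, eval_map] at h
  have hfprod : f = (f.roots.map (X - C ·)).prod := hfsplit.eq_prod_roots_of_monic hfmonic
  have hroot : ∀ ρ ∈ f.roots, ρ ∈ m ∨ ρ - 1 ∈ m := by
    intro ρ hρ
    have h0 : f.eval ρ = 0 := (mem_roots'.mp hρ).2
    rw [hfeval] at h0
    set r := ρ * (ρ - 1) with hr
    have h1 := eval_sub_pow_mem m hpmonic hpcoeff' r
    have h2 : r ^ (p.natDegree + 1) ∈ m := by
      have : r ^ (p.natDegree + 1) = - (r * (p.eval r - r ^ p.natDegree)) := by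
        rw [mul_sub, h0, pow_succ']
        ring
      rw [this]
      exact m.neg_mem (m.mul_mem_left _ h1)
    have h3 : r ∈ m := hmprime.mem_of_pow_mem _ h2
    exact hmprime.mem_or_mem h3
  have h0root : (0 : O) ∈ f.roots := by
    rw [mem_roots hfmonic.ne_zero, IsRoot.def, hfeval]
    ring
  have h1root : (1 : O) ∈ f.roots := by
    rw [mem_roots hfmonic.ne_zero, IsRoot.def, hfeval]
    ring
  -- the two factors
  set R₀ : Multiset O := f.roots.filter (· ∈ m) with hR₀
  set R₁ : Multiset O := f.roots.filter (fun a => ¬ a ∈ m) with hR₁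
  have hsplit : R₀ + R₁ = f.roots := Multiset.filter_add_not _ _
  set g₀ : O[X] := (R₀.map (X - C ·)).prod with hg₀
  set g₁ : O[X] := (R₁.map (X - C ·)).prod with hg₁
  have hfg : f = g₀ * g₁ := by
    rw [hg₀, hg₁, ← Multiset.prod_add, ← Multiset.map_add, hsplit]
    exact hfprod
  have hR₀m : ∀ ρ ∈ R₀, ρ ∈ m := fun ρ hρ => (Multiset.mem_filter.mp hρ).2
  have hR₁m : ∀ σ ∈ R₁, σ ∉ m := fun σ hσ => (Multiset.mem_filter.mp hσ).2
  have hR₁m' : ∀ σ ∈ R₁, σ - 1 ∈ m := fun σ hσ =>
    (hroot σ (Multiset.mem_filter.mp hσ).1).resolve_left (hR₁m σ hσ)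
  have hs : 0 < R₀.card := Multiset.card_pos_iff_exists_mem.mpr
    ⟨0, Multiset.mem_filter.mpr ⟨h0root, m.zero_mem⟩⟩
  have ht : 0 < R₁.card := Multiset.card_pos_iff_exists_mem.mpr
    ⟨1, Multiset.mem_filter.mpr ⟨h1root, h1m⟩⟩
  have hcop : IsCoprime g₀ g₁ := by
    apply isCoprime_multiset_prod_left
    intro a ha
    obtain ⟨ρ, hρ, rfl⟩ := Multiset.mem_map.mp ha
    apply IsCoprime.symm
    apply isCoprime_multiset_prod_left
    intro a' ha'
    obtain ⟨σ, hσ, rfl⟩ := Multiset.mem_map.mp ha'
    have hρm : ρ ∈ m := hR₀m ρ hρ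
    have hσm : σ ∉ m := hR₁m σ hσ
    have hnot : σ - ρ ∉ m := fun h => hσm (by
      have := m.add_mem h hρm
      simpa using this)
    have hunit : IsUnit (σ - ρ) := by
      by_contra hnu
      exact hnot ((IsLocalRing.mem_maximalIdeal _).mpr hnu)
    obtain ⟨u, hu⟩ := hunit
    refine ⟨- C (↑u⁻¹ : O), C (↑u⁻¹ : O), ?_⟩
    have : (-C (↑u⁻¹ : O)) * (X - C σ) + C (↑u⁻¹ : O) * (X - C ρ) = C (↑u⁻¹ * (σ - ρ)) := by
      rw [C_mul, C_sub]
      ring
    rw [this, ← hu, Units.inv_mul, C_1]
  obtain ⟨u, v, huv⟩ := hcop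
  -- the idempotent
  refine ⟨aeval b (u * g₀), ?_, ?_⟩
  · have h1 : aeval b (u * g₀) + aeval b (v * g₁) = 1 := by
      rw [← map_add, huv, map_one]
    have h2 : aeval b (u * g₀) * aeval b (v * g₁) = 0 := by
      rw [← map_mul]
      have : u * g₀ * (v * g₁) = u * v * f := by rw [hfg]; ring
      rw [this, map_mul, hfb, mul_zero]
    have h3 : aeval b (v * g₁) = 1 - aeval b (u * g₀) := by
      rw [← h1]; abel
    rw [h3, mul_sub, mul_one, sub_eq_zero] at h2
    exact h2.symm
  · set β := π b with hβ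
    have hΨ0 : ∀ R : Multiset O, (∀ ρ ∈ R, ρ ∈ m) →
        π (aeval b (R.map (X - C ·)).prod) = β ^ R.card := by
      intro R
      induction R using Multiset.induction_on with
      | empty =>
        intro _
        simp
      | cons ρ R ih =>
        intro h
        rw [Multiset.map_cons, Multiset.prod_cons, map_mul, map_mul,
          ih (fun σ hσ => h σ (Multiset.mem_cons_of_mem hσ)), Multiset.card_cons, pow_succ',
          map_sub, aeval_X, aeval_C, map_sub, hπ ρ (h ρ (Multiset.mem_cons_self ρ R)), sub_zero]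
    have hΨ1 : ∀ R : Multiset O, (∀ σ ∈ R, σ - 1 ∈ m) →
        π (aeval b (R.map (X - C ·)).prod) = (β - 1) ^ R.card := by
      intro R
      induction R using Multiset.induction_on with
      | empty =>
        intro _
        simp
      | cons σ R ih =>
        intro h
        have hσ1 : π (algebraMap O A σ) = 1 := by
          have h' := hπ (σ - 1) (h σ (Multiset.mem_cons_self σ R))
          rw [map_sub, map_one, map_sub, map_one, sub_eq_zero] at h'
          exact h'
        rw [Multiset.map_cons, Multiset.prod_cons, map_mul, map_mul,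
          ih (fun τ hτ => h τ (Multiset.mem_cons_of_mem hτ)), Multiset.card_cons, pow_succ',
          map_sub, aeval_X, aeval_C, map_sub, hσ1]
    have hidem : IsIdempotentElem β := hb
    have hβs : β ^ R₀.card = β := by
      obtain ⟨k, hk⟩ := Nat.exists_eq_succ_of_ne_zero hs.ne'
      rw [hk]
      exact hidem.pow_succ_eq k
    have hβt : (β - 1) ^ R₁.card * β = 0 := by
      obtain ⟨k, hk⟩ := Nat.exists_eq_succ_of_ne_zero ht.ne'
      rw [hk, pow_succ, mul_assoc, sub_mul, one_mul, hb, sub_self, mul_zero]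
    have hE : π (aeval b (u * g₀)) = π (aeval b u) * β := by
      rw [map_mul, map_mul, hg₀, hΨ0 R₀ hR₀m, hβs]
    have hE' : π (aeval b (v * g₁)) = π (aeval b v) * (β - 1) ^ R₁.card := by
      rw [map_mul, map_mul, hg₁, hΨ1 R₁ hR₁m']
    have h1 : π (aeval b (u * g₀)) + π (aeval b (v * g₁)) = 1 := by
      rw [← map_add, ← map_add, huv, map_one, map_one]
    have h2 : π (aeval b (u * g₀)) * β = π (aeval b (u * g₀)) := by
      rw [hE, mul_assoc, hb]
    have h3 : π (aeval b (v * g₁)) * β = 0 := by
      rw [hE', mul_assoc, hβt, mul_zero]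
    calc π (aeval b (u * g₀)) = π (aeval b (u * g₀)) * β := h2.symm
      _ = π (aeval b (u * g₀)) * β + π (aeval b (v * g₁)) * β := by rw [h3, add_zero]
      _ = (π (aeval b (u * g₀)) + π (aeval b (v * g₁))) * β := by rw [add_mul]
      _ = β := by rw [h1, one_mul]

open Cfsg Cfsg.Agent.Lib.Helper16 Cfsg.Agent.Lib.Helper41.PIM

universe u

variable {G : Type u} [Group G] [Fintype G]

theorem exists_idem_lift (M : Ideal AlgInt) [M.IsPrime]
    (hcl : ∀ z : ℂ, IsIntegral (localSubring M) z → z ∈ localSubring M)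
    (b : MonoidAlgebra (OO M) G)
    (hb : redHom M G b * redHom M G b = redHom M G b) :
    ∃ E : MonoidAlgebra (OO M) G, E * E = E ∧ redHom M G E = redHom M G b := by
  refine exists_idem_lift_aux (O := OO M) (K := ℂ) Subtype.val_injective ?_ (redHom M G) ?_ ?_ b hb
  · intro z hz
    exact ⟨⟨z, hcl z hz⟩, rfl⟩
  · intro a ha
    rw [maximalIdeal_localSubring] at ha
    have h1 : (redHom M G).comp (algebraMap (OO M) (MonoidAlgebra (OO M) G)) =
        (algebraMap (KK M) (MonoidAlgebra (KK M) G)).comp (Ideal.Quotient.mk (localIdeal M)) :=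
      MonoidAlgebra.mapRingHom_comp_algebraMap _
    have h2 := RingHom.congr_fun h1 a
    rw [RingHom.comp_apply, RingHom.comp_apply, Ideal.Quotient.eq_zero_iff_mem.mpr ha,
      map_zero] at h2
    exact h2
  · intro c hc
    rw [maximalIdeal_localSubring]
    have hcoeff : ∀ g : G, c.coeff g ∈ localIdeal M := by
      intro g
      have h := congrArg (fun x : MonoidAlgebra (KK M) G => x.coeff g) hc
      simp only [redHom, MonoidAlgebra.coeff_mapRingHom] at h
      exact Ideal.Quotient.eq_zero_iff_mem.mp (by simpa using h)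
    rw [← MonoidAlgebra.sum_coeff_single c]
    unfold Finsupp.sum
    refine Submodule.sum_mem _ (fun g _ => ?_)
    have : MonoidAlgebra.single g (c.coeff g) =
        (c.coeff g) • (MonoidAlgebra.single g (1 : OO M) : MonoidAlgebra (OO M) G) := by
      rw [MonoidAlgebra.smul_single, smul_eq_mul, mul_one]
    rw [this]
    exact Submodule.smul_mem_smul (hcoeff g) Submodule.mem_top

end Cfsg.Agent.Lib.Helper11.PIM
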