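import Cfsg.Agent.Lib.Helper33.PQuotLift

/-!
# Control of strong fusion from the quotient by a non-centric `O_p(G)`: abstract step sets (helper11 library)

A version of helper33's `familyControls_of_pQuot` in which the allowed steps in `G` and in `G ⧸ P` are arbitrary sets
(closed under inverses in `G`), so that it applies to conjugacy functors that are not induced by an
isomorphism-invariant functor on abstract `p`-groups.
-/

set_option autoImplicit false

namespace Cfsg.Agent.Lib.Helper11

open Cfsg.Agent.Lib.Helper33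

universe u

variable {p : ℕ}

theorem good_of_pQuot_gen [hp : Fact p.Prime] {G : Type u} [Group G] [Finite G] (S : Sylow p G)
    (P : Subgroup G) [hPn : P.Normal] (hPS : P ≤ (S : Subgroup G))
    (hPmax : ∀ N : Subgroup G, N.Normal → IsPGroup p N → N ≤ P)
    (hPnc : ¬ ((S : Subgroup G) ⊓ Subgroup.centralizer (P : Set G) ≤ P))
    (R : Set G) (hRinv : ∀ x ∈ R, x⁻¹ ∈ R) (Rb : Set (G ⧸ P))
    (H1 : ∀ (Ab : Set (G ⧸ P)) (gb : G ⧸ P), Ab ⊆ (S : Subgroup G).map (QuotientGroup.mk' P) →
      lc gb Ab ⊆ (S : Subgroup G).map (QuotientGroup.mk' P) →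
      Good Rb ((S : Subgroup G).map (QuotientGroup.mk' P)) Ab gb)
    (hstep : ∀ z ∈ (QuotientGroup.mk' P) ⁻¹' Rb, ∀ C : Set G, C ⊆ (S : Subgroup G) →
      lc z C ⊆ (S : Subgroup G) → Good R (S : Subgroup G) C z)
    (H2' : ∀ X : Subgroup G, X ≤ (S : Subgroup G) → (S : Subgroup G) ≤ Subgroup.normalizer (X : Set G) →
      Subgroup.normalizer (X : Set G) ≠ ⊤ → ∀ z ∈ Subgroup.normalizer (X : Set G), ∀ C : Set G,
        C ⊆ (S : Subgroup G) → lc z C ⊆ (S : Subgroup G) → Good R (S : Subgroup G) C z) :
    ∀ (A : Set G) (g : G), A ⊆ (S : Subgroup G) → lc g A ⊆ (S : Subgroup G) →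
      Good R (S : Subgroup G) A g := by
  have hSp : IsPGroup p (S : Subgroup G) := S.isPGroup'
  have hcjP : ∀ g : G, cj g P = P := by
    intro g
    apply cj_eq_self_of_mem_normalizer
    rw [Subgroup.normalizer_eq_top (H := P)]
    exact Subgroup.mem_top g
  have key := alperin_induction S
    (fun Q g => Good R (S : Subgroup G) (Q : Set G) g) Set.univ
    (by
      intro Q hQ
      obtain ⟨g, hle, hfn⟩ := exists_fullyNormalized_cj S hQ
      exact ⟨cj g Q, trivial, ⟨g, rfl⟩, hle, hfn⟩)
    (by
      intro Q g h _ _ _ h1 h2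
      apply h1.comp
      rw [lc_coe_subgroup]; exact h2)
    (by
      intro Q Q' g hle _ _ h1
      exact h1.mono le_rfl le_rfl hle)
    (by
      intro Q g hQ _ h1
      have := h1.inv hRinv hQ
      rwa [lc_coe_subgroup] at this)
    (by
      intro U _ hUS hUfn IH g hg
      by_cases hPU : P ≤ U
      · -- the quotient by `P`
        have hgU : ∀ a ∈ U, g * a * g⁻¹ ∈ U := by
          intro a ha
          have := conj_mem_cj (g := g) ha
          rwa [cj_eq_self_of_mem_normalizer hg] at this
        have hUb : (QuotientGroup.mk' P) '' (U : Set G) ⊆ (S : Subgroup G).map (QuotientGroup.mk' P) := by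
          rintro _ ⟨a, ha, rfl⟩
          exact Subgroup.mem_map_of_mem _ (hUS ha)
        have hgUb : lc (QuotientGroup.mk' P g) ((QuotientGroup.mk' P) '' (U : Set G)) ⊆
            (S : Subgroup G).map (QuotientGroup.mk' P) := by
          rw [lc_image]
          rintro _ ⟨_, ⟨a, ha, rfl⟩, rfl⟩
          exact Subgroup.mem_map_of_mem _ (hUS (hgU a ha))
        obtain ⟨yb, hreachb, hagreeb⟩ := H1 _ _ hUb hgUb
        obtain ⟨y, hy, hreach⟩ := lift_reach_quot P (S : Subgroup G) hPS hreachb
        have hΦy : Good R (S : Subgroup G) (U : Set G) y :=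
          Good.of_reach (T' := (S : Subgroup G)) hUS hstep hreach
        have hagree' : ∀ a ∈ U, QuotientGroup.mk' P (y * a * y⁻¹) = QuotientGroup.mk' P (g * a * g⁻¹) := by
          intro a ha
          have := hagreeb (QuotientGroup.mk' P a) ⟨a, ha, rfl⟩
          rw [← hy] at this
          simpa only [map_mul, map_inv] using this
        have hyN : y ∈ Subgroup.normalizer (U : Set G) := by
          rw [mem_normalizer_iff_cj_eq]
          apply Subgroup.eq_of_le_of_card_ge
          · intro x hx
            rw [mem_cj] at hx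
            have h1 := hagree' _ hx
            have e : y * (y⁻¹ * x * y) * y⁻¹ = x := by group
            rw [e] at h1
            have h2 : (g * (y⁻¹ * x * y) * g⁻¹)⁻¹ * x ∈ P := by
              rw [← QuotientGroup.eq_one_iff, ← QuotientGroup.mk'_apply, map_mul, map_inv, h1,
                inv_mul_cancel]
            have h3 := hgU _ hx
            have e2 : x = (g * (y⁻¹ * x * y) * g⁻¹) * ((g * (y⁻¹ * x * y) * g⁻¹)⁻¹ * x) := by group
            rw [e2]
            exact mul_mem h3 (hPU h2)
          · rw [card_cj]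
        have hhN : y⁻¹ * g ∈ Subgroup.normalizer (U : Set G) := mul_mem (inv_mem hyN) hg
        have hh : ∀ a ∈ U, y⁻¹ * g * a * (y⁻¹ * g)⁻¹ * a⁻¹ ∈ P := by
          intro a ha
          rw [← QuotientGroup.eq_one_iff, ← QuotientGroup.mk'_apply]
          have e := hagree' a ha
          simp only [map_mul, map_inv] at e ⊢
          calc (QuotientGroup.mk' P y)⁻¹ * QuotientGroup.mk' P g * QuotientGroup.mk' P a *
                ((QuotientGroup.mk' P y)⁻¹ * QuotientGroup.mk' P g)⁻¹ * (QuotientGroup.mk' P a)⁻¹
              = (QuotientGroup.mk' P y)⁻¹ * (QuotientGroup.mk' P g * QuotientGroup.mk' P a *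
                (QuotientGroup.mk' P g)⁻¹) * QuotientGroup.mk' P y * (QuotientGroup.mk' P a)⁻¹ := by group
            _ = (QuotientGroup.mk' P y)⁻¹ * (QuotientGroup.mk' P y * QuotientGroup.mk' P a *
                (QuotientGroup.mk' P y)⁻¹) * QuotientGroup.mk' P y * (QuotientGroup.mk' P a)⁻¹ := by rw [e]
            _ = 1 := by group
        have hΦh := good_of_stab S P R hPS hPmax hPnc H2' U hUS
          hUfn hPU IH (y⁻¹ * g) hhN hh
        have hlc : lc (y⁻¹ * g) (U : Set G) = (U : Set G) := by
          rw [lc_coe_subgroup, cj_eq_self_of_mem_normalizer hhN]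
        have := hΦh.comp (hlc.symm ▸ hΦy)
        have e : y * (y⁻¹ * g) = g := by group
        rwa [e] at this
      · -- `U < U P`
        have hlt : U < U ⊔ P := lt_of_le_of_ne le_sup_left (fun e => hPU (le_sup_right.trans e.symm.le))
        have hle : U ⊔ P ≤ (S : Subgroup G) := sup_le hUS hPS
        have hcj : cj g (U ⊔ P) = U ⊔ P := by
          have e1 := cj_sup g U P
          rw [e1, cj_eq_self_of_mem_normalizer hg, hcjP]
        have h1 := IH _ hle (card_lt_card_of_lt hlt) g (hcj.le.trans hle)
        exact h1.mono le_rfl le_rfl (fun x hx => (le_sup_left : U ≤ _) hx))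
  intro A g hA hAg
  have hQ : Subgroup.closure A ≤ (S : Subgroup G) := (Subgroup.closure_le _).mpr hA
  have hQg : cj g (Subgroup.closure A) ≤ (S : Subgroup G) := lc_subset_subgroup_iff.mp hAg
  exact (key _ hQ g hQg).mono le_rfl le_rfl Subgroup.subset_closure

end Cfsg.Agent.Lib.Helper11
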