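/-
helper11: PF15-[CH2] for helper37 (S2715): in characteristic two `Inndiag(PΩ⁺_{2m}(F)) ≤ Inn`.
Wrapper around helper43's `PlusGFChar2.inndiagPlusQ_le_Inn_char_two`.
-/
import Mathlib
import Cfsg.Agent.Lib.Helper37.PlusField.Defs
import Cfsg.Agent.Lib.Helper43.PlusGFChar2

set_option autoImplicit false
set_option linter.unusedSectionVars false

namespace Cfsg.Agent.Lib.Helper11.PlusField

open scoped MatrixGroups Matrix
open Module Matrix Cfsg.Agent.Lib.Helper45.PSLField Cfsg.Agent.Lib.Helper36 Cfsg.Agent.S2168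
  Cfsg.Agent.Lib.Helper43 Cfsg.Agent.Lib.Helper13 Cfsg.Agent.Lib.Helper37.PlusField

variable {m : ℕ} {F : Type*} [Field F] [Fintype F] {F₀ : Type*} [Field F₀] [Fintype F₀]

/-- PF15-[CH2] -/
theorem inndiagPlusQ_le_Inn_of_two (hm : 4 ≤ m) (h2 : (2 : F) = 0) :
    inndiagPlusQ m F ≤ Cfsg.Inn (Cfsg.POmega F (⇑(plusQF m F))) := by
  have : CharP F 2 := CharTwo.of_one_ne_zero_of_two_eq_zero one_ne_zero h2
  exact inndiagPlusQ_le_Inn_char_two (by omega)

end Cfsg.Agent.Lib.Helper11.PlusField
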