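/-
helper11: PF15-[CENT] for helper37 (S2715): the centraliser of the standard field automorphism `φ_σ` in
`Inndiag(PΩ⁺_{2m}(F))` is the image of the even similarities of the hyperbolic form over the fixed field, and is
isomorphic to `Inndiag(PΩ⁺_{2m}(F₀))`.  Characteristic-free port of helper43's `OSubfield`.
The `_of` versions take the base-change invariance of the class character ([EVENBC]) as a hypothesis.
-/
import Mathlib
import Cfsg.Agent.Lib.Helper37.PlusField.Defs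
import Cfsg.Agent.Lib.Helper43.OSplit
import Cfsg.Agent.Lib.Helper13.MinusCent5

set_option autoImplicit false
set_option linter.unusedSectionVars false

namespace Cfsg.Agent.Lib.Helper11.PlusField

open scoped MatrixGroups Matrix
open Module Matrix Cfsg.Agent.Lib.Helper45.PSLField Cfsg.Agent.Lib.Helper36 Cfsg.Agent.S2168
  Cfsg.Agent.Lib.Helper43 Cfsg.Agent.Lib.Helper13 Cfsg.Agent.Lib.Helper37.PlusField

variable {m : ℕ} {F : Type*} [Field F] [Fintype F] {F₀ : Type*} [Field F₀] [Fintype F₀]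

/-- a vector of the hyperbolic space with `Q v = 1` -/
def unitVec (F₀ : Type*) [Field F₀] (i0 : Fin m) : Fin m ⊕ Fin m → F₀ :=
  fun x => Sum.elim (fun i => if i = i0 then (1 : F₀) else 0) (fun i => if i = i0 then (1 : F₀) else 0) x

theorem plusQF_unitVec (i0 : Fin m) : plusQF m F₀ (unitVec F₀ i0) = 1 := by
  show Cfsg.quadFormPlus m F₀ (unitVec F₀ i0) = 1
  unfold Cfsg.quadFormPlus unitVec
  rw [Finset.sum_eq_single i0]
  · simp
  · intro b _ hb
    simp [hb]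
  · intro h
    exact absurd (Finset.mem_univ i0) h

theorem simMap_subSimP (j : F₀ →+* F) (σ : RingAut F) (hj : ∀ a, σ (j a) = j a)
    (A : ↥(Cfsg.Geo.quadSimilarityGroup (⇑(plusQF m F₀)))) :
    simMap (fieldCompat_plusQF (m := m) (F := F)) σ (subSimP j A) = subSimP j A := by
  apply Subtype.ext
  apply Units.ext
  rw [simMap_coe, subSimP_coe]
  ext k l
  rw [Matrix.map_apply, Matrix.map_apply]
  exact hj _

theorem subAutP_comm (j : F₀ →+* F) (σ : RingAut F) (hj : ∀ a, σ (j a) = j a)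
    (A : ↥(Cfsg.Geo.quadSimilarityGroup (⇑(plusQF m F₀)))) :
    phiP m σ * subAutP j A = subAutP j A * phiP m σ := by
  rw [subAutP_apply]
  show oField (fieldCompat_plusQF (m := m) (F := F)) σ * simAut (⇑(plusQF m F)) (subSimP j A) = _
  rw [oField_mul_simAut, simMap_subSimP j σ hj]

/-- the kernel of `subAutP`: the scalar matrices -/
theorem subAutP_eq_one_iff (hm : 4 ≤ m) (j : F₀ →+* F)
    (A : ↥(Cfsg.Geo.quadSimilarityGroup (⇑(plusQF m F₀)))) :
    subAutP j A = 1 ↔ ∃ c : F₀, ((A : GL (Fin m ⊕ Fin m) F₀) :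
      Matrix (Fin m ⊕ Fin m) (Fin m ⊕ Fin m) F₀) = c • (1 : Matrix (Fin m ⊕ Fin m) (Fin m ⊕ Fin m) F₀) := by
  rw [subAutP_apply, simAut_eq_one_iff_scalar (plusQF m F) (oKernelProp_plusQF hm), subSimP_coe]
  set A' : Matrix (Fin m ⊕ Fin m) (Fin m ⊕ Fin m) F₀ :=
    ((A : GL (Fin m ⊕ Fin m) F₀) : Matrix (Fin m ⊕ Fin m) (Fin m ⊕ Fin m) F₀) with hA'
  constructor
  · rintro ⟨c, hc⟩
    have hdiag : ∀ k, j (A' k k) = c := by
      intro k
      have := congrFun (congrFun hc k) k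
      simpa using this
    have hoff : ∀ k l, k ≠ l → A' k l = 0 := by
      intro k l hkl
      have := congrFun (congrFun hc k) l
      rw [Matrix.map_apply, Matrix.smul_apply, Matrix.one_apply_ne hkl, smul_zero] at this
      exact (map_eq_zero j).mp this
    have k₀ : Fin m ⊕ Fin m := Sum.inl ⟨0, by omega⟩
    refine ⟨A' k₀ k₀, ?_⟩
    ext k l
    by_cases hkl : k = l
    · subst hkl
      rw [Matrix.smul_apply, Matrix.one_apply_eq, smul_eq_mul, mul_one]
      apply j.injective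
      rw [hdiag, hdiag]
    · rw [Matrix.smul_apply, Matrix.one_apply_ne hkl, smul_zero]
      exact hoff k l hkl
  · rintro ⟨c, hc⟩
    refine ⟨j c, ?_⟩
    rw [hc, smul_map_hom]
    congr 1
    ext k l
    by_cases hkl : k = l
    · subst hkl; simp
    · simp [Matrix.one_apply_ne hkl]

/-- scalar multiples of even similarities are even -/
theorem plusEven_of_smul (g g' : ↥(Cfsg.Geo.quadSimilarityGroup (⇑(plusQF m F)))) (b : F) (hb : b ≠ 0)
    (h : ((g' : GL (Fin m ⊕ Fin m) F) : Matrix (Fin m ⊕ Fin m) (Fin m ⊕ Fin m) F) =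
      b • ((g : GL (Fin m ⊕ Fin m) F) : Matrix (Fin m ⊕ Fin m) (Fin m ⊕ Fin m) F)) :
    plusEven (g' : GL (Fin m ⊕ Fin m) F) ↔ plusEven (g : GL (Fin m ⊕ Fin m) F) := by
  obtain ⟨sb, hsb⟩ := exists_scalar_quadSim (plusQF m F) b hb
  have : g' = sb * g := by
    apply Subtype.ext
    apply Units.ext
    rw [Subgroup.coe_mul, Units.val_mul, hsb, h, Matrix.smul_mul, Matrix.one_mul]
  rw [this, Subgroup.coe_mul, plusEven_mul _ _ sb.2 g.2]
  have hs : plusEven (sb : GL (Fin m ⊕ Fin m) F) := plusEven_of_scalar _ b hb hsb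
  exact ⟨fun h1 => h1.mp hs, fun h1 => ⟨fun _ => h1, fun _ => hs⟩⟩

/-- [CENT], first theorem, with [EVENBC] as a hypothesis -/
theorem mem_inndiag_centralizer_iff_of (hm : 4 ≤ m) (j : F₀ →+* F)
    (hEv : ∀ A : GL (Fin m ⊕ Fin m) F₀, A ∈ Cfsg.Geo.quadSimilarityGroup (⇑(plusQF m F₀)) →
      (plusEven (Matrix.GeneralLinearGroup.map j A) ↔ plusEven A))
    (σ : RingAut F) {r : ℕ}
    (hr : 0 < r) (hσ : orderOf σ = r) (hj : ∀ a : F, σ a = a ↔ ∃ b, j b = a)
    (β : MulAut (Cfsg.POmega F (⇑(plusQF m F)))) :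
    β ∈ inndiagPlusQ m F ⊓ Subgroup.centralizer {phiP m σ} ↔
      ∃ A : ↥(Cfsg.Geo.quadSimilarityGroup (⇑(plusQF m F₀))),
        plusEven (A : GL (Fin m ⊕ Fin m) F₀) ∧ subAutP j A = β := by
  have hj' : ∀ a, σ (j a) = j a := fun a => (hj (j a)).mpr ⟨a, rfl⟩
  have hQ : FieldCompat (⇑(plusQF m F)) := fieldCompat_plusQF
  have hker : OKernelProp (fieldCompat_plusQF (m := m) (F := F)) := oKernelProp_plusQF hm
  rw [Subgroup.mem_inf]
  constructor
  · rintro ⟨hβ1, hβ2⟩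
    obtain ⟨g, hgev, rfl⟩ := (mem_inndiagPlusQ_iff β).mp hβ1
    have hc : phiP m σ * simAut (⇑(plusQF m F)) g = simAut (⇑(plusQF m F)) g * phiP m σ :=
      (Subgroup.mem_centralizer_iff.mp hβ2) _ rfl
    have hc' : oField (fieldCompat_plusQF (m := m) (F := F)) σ * simAut (⇑(plusQF m F)) g =
        simAut (⇑(plusQF m F)) g * oField (fieldCompat_plusQF (m := m) (F := F)) σ := hc
    rw [oField_mul_simAut] at hc'
    have hc2 := mul_right_cancel hc'
    have hc3 : simAut (⇑(plusQF m F)) (g⁻¹ * simMap (fieldCompat_plusQF (m := m) (F := F)) σ g) = 1 := by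
      rw [map_mul, map_inv, hc2, inv_mul_cancel]
    obtain ⟨c, hc4⟩ := (simAut_eq_one_iff_scalar (plusQF m F) hker _).mp hc3
    set G : Matrix (Fin m ⊕ Fin m) (Fin m ⊕ Fin m) F :=
      ((g : GL (Fin m ⊕ Fin m) F) : Matrix (Fin m ⊕ Fin m) (Fin m ⊕ Fin m) F) with hG
    have hsemi : G.map σ = c • G := by
      have h5 : ((g : GL (Fin m ⊕ Fin m) F) : Matrix (Fin m ⊕ Fin m) (Fin m ⊕ Fin m) F) *
          (((g⁻¹ * simMap (fieldCompat_plusQF (m := m) (F := F)) σ g :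
            ↥(Cfsg.Geo.quadSimilarityGroup (⇑(plusQF m F)))) : GL (Fin m ⊕ Fin m) F) :
            Matrix (Fin m ⊕ Fin m) (Fin m ⊕ Fin m) F) = G.map σ := by
        rw [← Units.val_mul, ← Subgroup.coe_mul, mul_inv_cancel_left]
        rfl
      rw [← h5, hc4, Matrix.mul_smul, Matrix.mul_one]
    have hGdet : G.det ≠ 0 :=
      ((Matrix.isUnit_iff_isUnit_det _).mp (g : GL (Fin m ⊕ Fin m) F).isUnit).ne_zero
    have hG0 : G ≠ 0 := by
      intro h0
      have : Nonempty (Fin m ⊕ Fin m) := ⟨Sum.inl ⟨0, by omega⟩⟩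
      rw [h0, Matrix.det_zero] at hGdet
      exact hGdet rfl
    obtain ⟨b, hb0, hb⟩ := exists_fixed_multiple σ hr hσ G hG0 _ hsemi
    have hent : ∀ k l, ∃ a : F₀, j a = b * G k l := by
      intro k l
      apply (hj _).mp
      have := congrFun (congrFun hb k) l
      simpa using this
    choose a ha using hent
    have hmap : (Matrix.of a).map j = b • G := by
      ext k l
      rw [Matrix.map_apply, Matrix.of_apply, ha, Matrix.smul_apply, smul_eq_mul]
    -- the multiplier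
    obtain ⟨μ, hμ⟩ := g.2
    have hμ' : ∀ w, plusQF m F (G *ᵥ w) = (μ : F) * plusQF m F w := fun w => hμ w
    have hbG : ∀ w, plusQF m F ((b • G) *ᵥ w) = (b * b * (μ : F)) * plusQF m F w := by
      intro w
      rw [Matrix.smul_mulVec, QuadraticMap.map_smul, hμ' w, smul_eq_mul]
      ring
    have hrat : ∀ v : Fin m ⊕ Fin m → F₀,
        j (plusQF m F₀ ((Matrix.of a) *ᵥ v)) = (b * b * (μ : F)) * j (plusQF m F₀ v) := by
      intro v
      rw [← plusQF_rvec, ← rvec_mulVec, hmap, hbG, plusQF_rvec]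
    set i0 : Fin m := ⟨0, by omega⟩ with hi0
    obtain ⟨ν, hνdef⟩ : ∃ ν : F₀, ν = plusQF m F₀ ((Matrix.of a) *ᵥ unitVec F₀ i0) := ⟨_, rfl⟩
    have hν : j ν = b * b * (μ : F) := by
      rw [hνdef, hrat, plusQF_unitVec, map_one, mul_one]
    have hν0 : ν ≠ 0 := by
      intro h0
      rw [h0, map_zero] at hν
      exact (mul_ne_zero (mul_ne_zero hb0 hb0) μ.ne_zero) hν.symm
    have hsim : ∀ v : Fin m ⊕ Fin m → F₀,
        plusQF m F₀ ((Matrix.of a) *ᵥ v) = ν * plusQF m F₀ v := by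
      intro v
      apply j.injective
      rw [hrat, map_mul, hν]
    have hdet₀ : (Matrix.of a).det ≠ 0 := by
      intro h0
      have h1 := RingHom.map_det j (Matrix.of a)
      rw [h0, map_zero] at h1
      have h2 : (j.mapMatrix (Matrix.of a)) = b • G := hmap
      rw [h2, Matrix.det_smul] at h1
      exact (mul_ne_zero (pow_ne_zero _ hb0) hGdet) h1.symm
    let Ag : ↥(Cfsg.Geo.quadSimilarityGroup (⇑(plusQF m F₀))) :=
      ⟨Matrix.GeneralLinearGroup.mkOfDetNeZero (Matrix.of a) hdet₀,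
        ⟨Units.mk0 ν hν0, fun v => hsim v⟩⟩
    have hAgcoe : ((Ag : GL (Fin m ⊕ Fin m) F₀) : Matrix (Fin m ⊕ Fin m) (Fin m ⊕ Fin m) F₀) =
        Matrix.of a := rfl
    have hsmul : (((subSimP j Ag : ↥(Cfsg.Geo.quadSimilarityGroup (⇑(plusQF m F)))) :
        GL (Fin m ⊕ Fin m) F) : Matrix (Fin m ⊕ Fin m) (Fin m ⊕ Fin m) F) = b • G := by
      rw [subSimP_coe, hAgcoe, hmap]
    refine ⟨Ag, ?_, ?_⟩
    · rw [← hEv (Ag : GL (Fin m ⊕ Fin m) F₀) Ag.2]
      exact (plusEven_of_smul g (subSimP j Ag) b hb0 hsmul).mpr hgev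
    · rw [subAutP_apply]
      exact simAut_eq_of_smul (plusQF m F) g _ b hb0 hsmul
  · rintro ⟨A, hAev, rfl⟩
    refine ⟨(mem_inndiagPlusQ_iff _).mpr ⟨subSimP j A, (hEv _ A.2).mpr hAev, rfl⟩, ?_⟩
    rw [Subgroup.mem_centralizer_iff]
    intro h hh
    rw [Set.mem_singleton_iff] at hh
    subst hh
    exact subAutP_comm j σ hj' A

/-- an automorphism `simAut A` lies in `Inndiag` iff `A` is even -/
theorem simAut_mem_inndiagPlusQ_iff (hm : 4 ≤ m)
    (A : ↥(Cfsg.Geo.quadSimilarityGroup (⇑(plusQF m F)))) :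
    simAut (⇑(plusQF m F)) A ∈ inndiagPlusQ m F ↔ plusEven (A : GL (Fin m ⊕ Fin m) F) := by
  constructor
  · intro h
    obtain ⟨g, hgev, hg⟩ := (mem_inndiagPlusQ_iff _).mp h
    have h1 : simAut (⇑(plusQF m F)) (g⁻¹ * A) = 1 := by
      rw [map_mul, map_inv, hg, inv_mul_cancel]
    obtain ⟨c, hc⟩ := (simAut_eq_one_iff_scalar (plusQF m F) (oKernelProp_plusQF hm) _).mp h1
    have hc0 : c ≠ 0 := by
      intro h0
      have hdet : (((g⁻¹ * A : ↥(Cfsg.Geo.quadSimilarityGroup (⇑(plusQF m F)))) : GL (Fin m ⊕ Fin m) F) :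
          Matrix (Fin m ⊕ Fin m) (Fin m ⊕ Fin m) F).det ≠ 0 :=
        ((Matrix.isUnit_iff_isUnit_det _).mp (Units.isUnit _)).ne_zero
      have : Nonempty (Fin m ⊕ Fin m) := ⟨Sum.inl ⟨0, by omega⟩⟩
      rw [hc, h0, zero_smul, Matrix.det_zero] at hdet
      exact hdet rfl
    have h2 : plusEven ((g⁻¹ * A : ↥(Cfsg.Geo.quadSimilarityGroup (⇑(plusQF m F)))) :
        GL (Fin m ⊕ Fin m) F) := plusEven_of_scalar _ c hc0 hc
    have h3 : A = g * (g⁻¹ * A) := by rw [mul_inv_cancel_left]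
    rw [h3, Subgroup.coe_mul, plusEven_mul _ _ g.2 (g⁻¹ * A).2]
    exact ⟨fun _ => h2, fun _ => hgev⟩
  · intro h
    exact (mem_inndiagPlusQ_iff _).mpr ⟨A, h, rfl⟩

/-- [CENT], second theorem, with [EVENBC] as a hypothesis -/
theorem nonempty_centralizer_equiv_plus_of (hm : 4 ≤ m) (j : F₀ →+* F)
    (hEv : ∀ A : GL (Fin m ⊕ Fin m) F₀, A ∈ Cfsg.Geo.quadSimilarityGroup (⇑(plusQF m F₀)) →
      (plusEven (Matrix.GeneralLinearGroup.map j A) ↔ plusEven A))
    (σ : RingAut F) {r : ℕ}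
    (hr : 0 < r) (hσ : orderOf σ = r) (hj : ∀ a : F, σ a = a ↔ ∃ b, j b = a) :
    Nonempty (↥(inndiagPlusQ m F ⊓ Subgroup.centralizer {phiP m σ}) ≃* ↥(inndiagPlusQ m F₀)) := by
  apply nonempty_mulEquiv_of_ker_eq (simAut (⇑(plusQF m F₀))) (subAutP (m := m) j)
  · ext A
    rw [MonoidHom.mem_ker, MonoidHom.mem_ker, subAutP_eq_one_iff hm,
      simAut_eq_one_iff_scalar (plusQF m F₀) (oKernelProp_plusQF hm)]
  · intro β hβ
    obtain ⟨g, -, hg⟩ := (mem_inndiagPlusQ_iff β).mp hβ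
    exact ⟨g, hg.symm⟩
  · intro β hβ
    obtain ⟨A, -, hA⟩ := (mem_inndiag_centralizer_iff_of hm j hEv σ hr hσ hj β).mp hβ
    exact ⟨A, hA⟩
  · intro A
    rw [simAut_mem_inndiagPlusQ_iff hm A]
    constructor
    · intro h
      obtain ⟨A', hA'ev, hA'⟩ := (mem_inndiag_centralizer_iff_of hm j hEv σ hr hσ hj _).mp h
      have h1 : subAutP (m := m) j (A'⁻¹ * A) = 1 := by
        rw [map_mul, map_inv, hA', inv_mul_cancel]
      obtain ⟨c, hc⟩ := (subAutP_eq_one_iff hm j _).mp h1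
      have hc0 : c ≠ 0 := by
        intro h0
        have hdet : (((A'⁻¹ * A : ↥(Cfsg.Geo.quadSimilarityGroup (⇑(plusQF m F₀)))) :
            GL (Fin m ⊕ Fin m) F₀) : Matrix (Fin m ⊕ Fin m) (Fin m ⊕ Fin m) F₀).det ≠ 0 :=
          ((Matrix.isUnit_iff_isUnit_det _).mp (Units.isUnit _)).ne_zero
        have : Nonempty (Fin m ⊕ Fin m) := ⟨Sum.inl ⟨0, by omega⟩⟩
        rw [hc, h0, zero_smul, Matrix.det_zero] at hdet
        exact hdet rfl
      have h2 : plusEven ((A'⁻¹ * A : ↥(Cfsg.Geo.quadSimilarityGroup (⇑(plusQF m F₀)))) :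
          GL (Fin m ⊕ Fin m) F₀) := plusEven_of_scalar _ c hc0 hc
      have h3 : A = A' * (A'⁻¹ * A) := by rw [mul_inv_cancel_left]
      rw [h3, Subgroup.coe_mul, plusEven_mul _ _ A'.2 (A'⁻¹ * A).2]
      exact ⟨fun _ => h2, fun _ => hA'ev⟩
    · intro h
      exact (mem_inndiag_centralizer_iff_of hm j hEv σ hr hσ hj _).mpr ⟨A, h, rfl⟩

end Cfsg.Agent.Lib.Helper11.PlusField
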