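/-
helper11: PF15-[CENT] for helper37 (S2715), final form: the two statements of board #4519 verbatim,
obtained from the `_of` versions of `PlusFieldCent` and helper54's [EVENBC] `plusEven_map_iff`.
-/
import Mathlib
import Cfsg.Agent.Lib.Helper11.PlusFieldCent
import Cfsg.Agent.Lib.Helper54.PlusFieldEvenBC

set_option autoImplicit false
set_option linter.unusedSectionVars false

namespace Cfsg.Agent.Lib.Helper11.PlusField

open scoped MatrixGroups Matrix
open Module Matrix Cfsg.Agent.Lib.Helper45.PSLField Cfsg.Agent.Lib.Helper36 Cfsg.Agent.S2168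
  Cfsg.Agent.Lib.Helper43 Cfsg.Agent.Lib.Helper13 Cfsg.Agent.Lib.Helper37.PlusField

variable {m : ℕ} {F : Type*} [Field F] [Fintype F] {F₀ : Type*} [Field F₀] [Fintype F₀]

/-- PF15-[CENT], first theorem -/
theorem mem_inndiag_centralizer_iff (hm : 4 ≤ m) (j : F₀ →+* F) (σ : RingAut F) {r : ℕ}
    (hr : 0 < r) (hσ : orderOf σ = r) (hj : ∀ a : F, σ a = a ↔ ∃ b, j b = a)
    (β : MulAut (Cfsg.POmega F (⇑(plusQF m F)))) :
    β ∈ inndiagPlusQ m F ⊓ Subgroup.centralizer {phiP m σ} ↔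
      ∃ A : ↥(Cfsg.Geo.quadSimilarityGroup (⇑(plusQF m F₀))),
        plusEven (A : GL (Fin m ⊕ Fin m) F₀) ∧ subAutP j A = β :=
  mem_inndiag_centralizer_iff_of hm j
    (fun A hA => Cfsg.Agent.Lib.Helper54.PlusField.plusEven_map_iff j A hA) σ hr hσ hj β

/-- PF15-[CENT], second theorem -/
theorem nonempty_centralizer_equiv_plus (hm : 4 ≤ m) (j : F₀ →+* F) (σ : RingAut F) {r : ℕ}
    (hr : 0 < r) (hσ : orderOf σ = r) (hj : ∀ a : F, σ a = a ↔ ∃ b, j b = a) :
    Nonempty (↥(inndiagPlusQ m F ⊓ Subgroup.centralizer {phiP m σ}) ≃* ↥(inndiagPlusQ m F₀)) :=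
  nonempty_centralizer_equiv_plus_of hm j
    (fun A hA => Cfsg.Agent.Lib.Helper54.PlusField.plusEven_map_iff j A hA) σ hr hσ hj

end Cfsg.Agent.Lib.Helper11.PlusField
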