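import Cfsg.Agent.Lib.Helper11.StrongClosedFusion

/-!
# Control of strong fusion modulo a strongly closed subgroup in `Qd(p)`-free groups (helper11 library)

For `R` strongly closed in a Sylow `p`-subgroup `P` of a `Qd(p)`-free group `G` (`p` odd), `R ≠ P`: the full preimage
`Z` of `Z(J(P/R))` in `P` satisfies `R < Z ≤ P`, and every conjugation map on a subgroup `X` with `R ≤ X ≤ P` agrees
modulo `R` with conjugation by an element of `N_G(R) ∩ N_G(Z)`.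
-/

set_option autoImplicit false

namespace Cfsg.Agent.Lib.Helper11

open Cfsg Cfsg.Agent.Lib.Helper33 Cfsg.Agent.Lib.Helper51

universe u

theorem exists_control_mod_stronglyClosed {G : Type u} [Group G] [Finite G] {p : ℕ} [Fact p.Prime]
    (hp : p ≠ 2) (hno : ¬ InvolvesGrp ↥(Cfsg.qd p) G) (P : Sylow p G) (R : Subgroup G)
    (hR : IsStronglyClosed R (P : Subgroup G)) (hne : R ≠ (P : Subgroup G)) :
    ∃ Z : Subgroup G, R ≤ Z ∧ Z ≤ (P : Subgroup G) ∧ Z ≠ R ∧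
      (P : Subgroup G) ≤ Subgroup.normalizer (Z : Set G) ∧
      ∀ (X : Subgroup G) (g : G), R ≤ X → X ≤ (P : Subgroup G) → (∀ x ∈ X, g * x * g⁻¹ ∈ (P : Subgroup G)) →
        ∃ n : G, n ∈ Subgroup.normalizer (R : Set G) ∧ n ∈ Subgroup.normalizer (Z : Set G) ∧
          (∀ y ∈ X ⊔ Z, n * y * n⁻¹ ∈ (P : Subgroup G)) ∧
          ∀ x ∈ X, (g * x * g⁻¹)⁻¹ * (n * x * n⁻¹) ∈ R := by
  classical
  set N := Subgroup.normalizer (R : Set G) with hN
  have hPN : (P : Subgroup G) ≤ N := le_normalizer_of_isStronglyClosed hR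
  have hRN : R ≤ N := Subgroup.le_normalizer
  have hKn : (R.subgroupOf N).Normal := Subgroup.normal_in_normalizer
  set K := R.subgroupOf N with hK
  set π := QuotientGroup.mk' K with hπdef
  have hπ : Function.Surjective π := QuotientGroup.mk'_surjective K
  have hπ1 : ∀ x : ↥N, π x = 1 ↔ (x : G) ∈ R := by
    intro x
    rw [hπdef, QuotientGroup.mk'_apply, QuotientGroup.eq_one_iff, hK, Subgroup.mem_subgroupOf]
  have hπeq : ∀ x y : ↥N, π x = π y ↔ ((x : G))⁻¹ * (y : G) ∈ R := by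
    intro x y
    rw [hπdef, QuotientGroup.mk'_apply, QuotientGroup.mk'_apply, QuotientGroup.eq, hK,
      Subgroup.mem_subgroupOf]
    rfl
  let PN : Sylow p ↥N := P.subtype hPN
  have hPNc : (PN : Subgroup ↥N) = (P : Subgroup G).subgroupOf N := Sylow.coe_subtype _ hPN
  let Pb : Sylow p (↥N ⧸ K) := PN.mapSurjective hπ
  have hPbc : (Pb : Subgroup (↥N ⧸ K)) = ((P : Subgroup G).subgroupOf N).map π := by
    rw [Sylow.coe_mapSurjective, hPNc]
  have hmemPb : ∀ x : ↥N, π x ∈ (Pb : Subgroup (↥N ⧸ K)) ↔ (x : G) ∈ (P : Subgroup G) := by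
    intro x
    rw [hPbc]
    constructor
    · rintro ⟨y, hy, hyx⟩
      have hy : (y : G) ∈ (P : Subgroup G) := Subgroup.mem_subgroupOf.mp hy
      have h1 := (hπeq y x).mp hyx
      have : (x : G) = (y : G) * (((y : G))⁻¹ * (x : G)) := by group
      rw [this]
      exact mul_mem hy (hR.1 h1)
    · intro hx
      exact ⟨x, Subgroup.mem_subgroupOf.mpr hx, rfl⟩
  have hnoQ : ¬ InvolvesGrp ↥(Cfsg.qd p) (↥N ⧸ K) := fun hinv =>
    hno (InvolvesGrp.of_subgroup (InvolvesGrp.of_surjective π hπ hinv))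
  have hctl := scctl_of_noQd hp true (Nat.card (↥N ⧸ K)) (↥N ⧸ K) rfl hnoQ Pb (Pb : Subgroup (↥N ⧸ K))
    ⟨le_rfl, fun x _ g hg => hg⟩
  set Zb := famInf (gd p true) (Pb : Subgroup (↥N ⧸ K)) with hZb
  have hZbP : Zb ≤ (Pb : Subgroup (↥N ⧸ K)) := famInf_gd_le p true _
  have hPbne : (Pb : Subgroup (↥N ⧸ K)) ≠ ⊥ := by
    intro hbot
    apply hne
    apply le_antisymm hR.1
    intro s hs
    have h1 : π ⟨s, hPN hs⟩ ∈ (Pb : Subgroup (↥N ⧸ K)) := (hmemPb _).mpr hs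
    rw [hbot, Subgroup.mem_bot, hπ1] at h1
    exact h1
  have hZbne : Zb ≠ ⊥ := famInf_gd_ne_bot true Pb.isPGroup' hPbne
  have hPbNZ : (Pb : Subgroup (↥N ⧸ K)) ≤ Subgroup.normalizer ((Zb : Subgroup (↥N ⧸ K)) : Set (↥N ⧸ K)) :=
    Subgroup.le_normalizer.trans (normalizer_le_normalizer_famInf (good := gd p true)
      (fun φ A hA => gd_map p true _ hA) _)
  set Z := (Zb.comap π).map N.subtype with hZ
  have hmemZ : ∀ x : G, x ∈ Z ↔ ∃ hx : x ∈ N, π ⟨x, hx⟩ ∈ Zb := by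
    intro x
    rw [hZ]
    constructor
    · rintro ⟨y, hy, rfl⟩
      exact ⟨y.2, hy⟩
    · rintro ⟨hx, h⟩
      exact ⟨⟨x, hx⟩, h, rfl⟩
  have hRZ : R ≤ Z := by
    intro r hr
    rw [hmemZ]
    refine ⟨hRN hr, ?_⟩
    have : π ⟨r, hRN hr⟩ = 1 := (hπ1 _).mpr hr
    rw [this]
    exact one_mem _
  have hZP : Z ≤ (P : Subgroup G) := by
    intro z hz
    obtain ⟨hzN, h⟩ := (hmemZ z).mp hz
    exact (hmemPb ⟨z, hzN⟩).mp (hZbP h)
  have hZR : Z ≠ R := by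
    intro heq
    apply hZbne
    rw [eq_bot_iff]
    intro zb hzb
    obtain ⟨z, rfl⟩ := hπ zb
    have : (z : G) ∈ Z := (hmemZ _).mpr ⟨z.2, hzb⟩
    rw [heq] at this
    rw [Subgroup.mem_bot, hπ1]
    exact this
  have hNZ : ∀ n : ↥N, π n ∈ Subgroup.normalizer ((Zb : Subgroup (↥N ⧸ K)) : Set (↥N ⧸ K)) →
      (n : G) ∈ Subgroup.normalizer (Z : Set G) := by
    intro n hn
    have h1 : n ∈ Subgroup.normalizer ((Zb.comap π : Subgroup ↥N) : Set ↥N) :=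
      Subgroup.le_normalizer_comap π (Subgroup.mem_comap.mpr hn)
    exact Subgroup.le_normalizer_map N.subtype ⟨n, h1, rfl⟩
  refine ⟨Z, hRZ, hZP, hZR, ?_, ?_⟩
  · intro s hs
    exact hNZ ⟨s, hPN hs⟩ (hPbNZ ((hmemPb _).mpr hs))
  · intro X g hRX hXP hgX
    have hgN : g ∈ N := by
      apply Subgroup.mem_normalizer_fintype
      intro r hr
      exact hR.2 r hr g (hgX r (hRX hr))
    have hXN : X ≤ N := hXP.trans hPN
    set A : Set (↥N ⧸ K) := π '' {x : ↥N | (x : G) ∈ X} with hA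
    have hAP : A ⊆ (Pb : Subgroup (↥N ⧸ K)) := by
      rintro _ ⟨x, hx, rfl⟩
      exact (hmemPb x).mpr (hXP hx)
    have hAg : (fun a => π ⟨g, hgN⟩ * a * (π ⟨g, hgN⟩)⁻¹) '' A ⊆ (Pb : Subgroup (↥N ⧸ K)) := by
      rintro _ ⟨_, ⟨x, hx, rfl⟩, rfl⟩
      have : π ⟨g, hgN⟩ * π x * (π ⟨g, hgN⟩)⁻¹ = π (⟨g, hgN⟩ * x * ⟨g, hgN⟩⁻¹) := by
        rw [map_mul, map_mul, map_inv]
      show π ⟨g, hgN⟩ * π x * (π ⟨g, hgN⟩)⁻¹ ∈ (Pb : Subgroup (↥N ⧸ K))
      rw [this, hmemPb]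
      exact hgX _ hx
    obtain ⟨xb, hxbN, hxb⟩ := hctl A (π ⟨g, hgN⟩) hAP hAg
    obtain ⟨n, rfl⟩ := hπ xb
    have hnZ : (n : G) ∈ Subgroup.normalizer (Z : Set G) := hNZ n hxbN
    have hagree : ∀ x ∈ X, (g * x * g⁻¹)⁻¹ * ((n : G) * x * (n : G)⁻¹) ∈ R := by
      intro x hx
      have h1 := hxb (π ⟨x, hXN hx⟩) ⟨⟨x, hXN hx⟩, hx, rfl⟩
      have h2 : π (n * ⟨x, hXN hx⟩ * n⁻¹) = π (⟨g, hgN⟩ * ⟨x, hXN hx⟩ * ⟨g, hgN⟩⁻¹) := by
        rw [map_mul, map_mul, map_inv, map_mul, map_mul, map_inv]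
        exact h1
      have h3 := (hπeq _ _).mp h2.symm
      simpa using h3
    have hnX : ∀ x ∈ X, (n : G) * x * (n : G)⁻¹ ∈ (P : Subgroup G) := by
      intro x hx
      have : (n : G) * x * (n : G)⁻¹ =
          (g * x * g⁻¹) * ((g * x * g⁻¹)⁻¹ * ((n : G) * x * (n : G)⁻¹)) := by group
      rw [this]
      exact mul_mem (hgX x hx) (hR.1 (hagree x hx))
    refine ⟨(n : G), n.2, hnZ, ?_, hagree⟩
    have h1 : cj (n : G) (X ⊔ Z) ≤ (P : Subgroup G) := by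
      rw [cj_sup, cj_eq_self_of_mem_normalizer hnZ]
      refine sup_le ?_ hZP
      intro y hy
      rw [mem_cj] at hy
      have := hnX _ hy
      have e : (n : G) * ((n : G)⁻¹ * y * (n : G)) * (n : G)⁻¹ = y := by group
      rwa [e] at this
    intro y hy
    exact h1 (conj_mem_cj hy)

end Cfsg.Agent.Lib.Helper11
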