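import Mathlib
import Cfsg.Prelude.Def_PLocal
import Cfsg.Prelude.Def_LocalEven
import Cfsg.Agent.Lib.Helper46.QdStruct
import Cfsg.Agent.Lib.Helper11.NoSL2Stable

/-!
# Producing a `Qd(p)` section from a natural `SL₂(p)`-module section (helper11)

`InvolvesGrp T G`: some subgroup of `G` maps onto `T`.

`involvesQd_of_natural`: if `D ≤ Γ` maps onto `SL₂(p)` (`p` odd) and normalizes an abelian subgroup
`W` carrying a `D`-equivariant surjection onto the natural module `𝔽_p²`, then `Qd(p)` is involved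
in `Γ`.  (Frattini argument with a Sylow `2`-subgroup of the preimage of `{±1}` to split off the
module, then the semidirect product maps onto `Qd(p)`.)
-/

set_option autoImplicit false

namespace Cfsg.Agent.Lib.Helper11

open Cfsg

/-- `T` is involved in `G`: some subgroup of `G` maps onto `T`. -/
def InvolvesGrp (T : Type*) [Group T] (G : Type*) [Group G] : Prop :=
  ∃ (D : Subgroup G) (f : D →* T), Function.Surjective f

theorem InvolvesGrp.of_subgroup {T : Type*} [Group T] {G : Type*} [Group G] {H : Subgroup G}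
    (h : InvolvesGrp T ↥H) : InvolvesGrp T G := by
  obtain ⟨D, f, hf⟩ := h
  refine ⟨D.map H.subtype, f.comp
    (D.equivMapOfInjective H.subtype H.subtype_injective).symm.toMonoidHom, ?_⟩
  intro t
  obtain ⟨d, hd⟩ := hf t
  refine ⟨D.equivMapOfInjective H.subtype H.subtype_injective d, ?_⟩
  simp only [MonoidHom.coe_comp, MulEquiv.coe_toMonoidHom, Function.comp_apply,
    MulEquiv.symm_apply_apply]
  exact hd

theorem InvolvesGrp.of_surjective {T : Type*} [Group T] {G Q : Type*} [Group G] [Group Q]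
    (π : G →* Q) (hπ : Function.Surjective π) (h : InvolvesGrp T Q) : InvolvesGrp T G := by
  obtain ⟨D, f, hf⟩ := h
  refine ⟨D.comap π, f.comp (π.subgroupComap D), ?_⟩
  intro t
  obtain ⟨d, hd⟩ := hf t
  obtain ⟨g, hg⟩ := hπ d
  refine ⟨⟨g, by rw [Subgroup.mem_comap, hg]; exact d.2⟩, ?_⟩
  have : π.subgroupComap D ⟨g, by rw [Subgroup.mem_comap, hg]; exact d.2⟩ = d := Subtype.ext hg
  rw [MonoidHom.comp_apply, this, hd]

theorem involvesGrp_iff_involves {T : Type*} [Group T] {G : Type*} [Group G] :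
    InvolvesGrp T G ↔ Cfsg.Involves T G := by
  constructor
  · rintro ⟨D, f, hf⟩
    obtain ⟨K, L, hL, -, ⟨e⟩⟩ := exists_section_of_surj' ⊤ D le_top f hf
    exact ⟨K, L, hL, ⟨e⟩⟩
  · rintro ⟨K, R, hR, ⟨e⟩⟩
    exact ⟨K, e.toMonoidHom.comp (QuotientGroup.mk' (R.subgroupOf K)), fun t => by
      obtain ⟨k, hk⟩ := QuotientGroup.mk'_surjective (R.subgroupOf K) (e.symm t)
      exact ⟨k, by rw [MonoidHom.comp_apply, hk]; exact e.apply_symm_apply t⟩⟩

theorem involvesSL2_iff_involvesGrp {p : ℕ} {G : Type*} [Group G] :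
    InvolvesSL2 p G ↔ InvolvesGrp (Matrix.SpecialLinearGroup (Fin 2) (ZMod p)) G := Iff.rfl

end Cfsg.Agent.Lib.Helper11
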