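import Mathlib
import Cfsg.Agent.Lib.Helper11.QdSection
import Cfsg.Agent.Lib.Helper11.DicksonSylow

/-!
# `Qd(p)` from a natural module section: the Frattini argument (helper11)
-/

set_option autoImplicit false

namespace Cfsg.Agent.Lib.Helper11

open Cfsg Cfsg.Agent.Lib.Helper46 Cfsg.Agent.Lib.Helper41

/-- translations as a homomorphism into `Qd(p)` -/
noncomputable def qdTransl (p : ℕ) : Multiplicative (Fin 2 → ZMod p) →* ↥(Cfsg.qd p) where
  toFun v := affMk (isAff_qd p) 1 v.toAdd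
  map_one' := affMk_one_zero (isAff_qd p)
  map_mul' v w := by
    rw [affMk_mul, mul_one, Matrix.SpecialLinearGroup.coe_one, Matrix.one_mulVec, toAdd_mul,
      add_comm]

/-- the linear part as a homomorphism into `Qd(p)` -/
noncomputable def qdLin (p : ℕ) : Matrix.SpecialLinearGroup (Fin 2) (ZMod p) →* ↥(Cfsg.qd p) where
  toFun A := affMk (isAff_qd p) A 0
  map_one' := affMk_one_zero (isAff_qd p)
  map_mul' A B := by
    rw [affMk_mul, Matrix.mulVec_zero, add_zero]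

theorem qdTransl_mul_qdLin (p : ℕ) (v : Multiplicative (Fin 2 → ZMod p))
    (A : Matrix.SpecialLinearGroup (Fin 2) (ZMod p)) :
    qdTransl p v * qdLin p A = affMk (isAff_qd p) A v.toAdd := by
  show affMk (isAff_qd p) 1 v.toAdd * affMk (isAff_qd p) A 0 = _
  rw [affMk_mul, one_mul, Matrix.mulVec_zero, zero_add]

theorem qdLin_conj_qdTransl (p : ℕ) (v : Multiplicative (Fin 2 → ZMod p))
    (A : Matrix.SpecialLinearGroup (Fin 2) (ZMod p)) :
    qdLin p A * qdTransl p v * (qdLin p A)⁻¹ =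
      qdTransl p (Multiplicative.ofAdd ((A : Matrix (Fin 2) (Fin 2) (ZMod p)).mulVec v.toAdd)) :=
  affMk_conj (isAff_qd p) A 0 v.toAdd

theorem exists_qdTransl_mul_qdLin (p : ℕ) (M : ↥(Cfsg.qd p)) :
    ∃ v A, qdTransl p v * qdLin p A = M :=
  ⟨Multiplicative.ofAdd (affCol M), affLin (isAff_qd p) M, by
    rw [qdTransl_mul_qdLin]; exact affMk_eta (isAff_qd p) M⟩

/-- a `2`-element mapping to `-1` -/
theorem exists_two_element_of_neg_one {D : Type*} [Group D] [Finite D] {p : ℕ}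
    (f : D →* Matrix.SpecialLinearGroup (Fin 2) (ZMod p)) (hf : Function.Surjective f) :
    ∃ (z : D) (k : ℕ), f z = -1 ∧ z ^ (2 ^ k) = 1 := by
  obtain ⟨z₀, hz₀⟩ := hf (-1)
  have ho : orderOf z₀ ≠ 0 := (orderOf_pos z₀).ne'
  obtain ⟨k, m, hm, hkm⟩ := Nat.exists_eq_two_pow_mul_odd ho
  refine ⟨z₀ ^ m, k, ?_, ?_⟩
  · rw [map_pow, hz₀]
    exact hm.neg_one_pow
  · rw [← pow_mul, mul_comm, ← hkm]
    exact pow_orderOf_eq_one z₀

/-- Frattini argument: a supplement `D'` to the preimage of `{±1}` normalizing a `2`-subgroup `T`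
that contains a preimage `z` of `-1`. -/
theorem exists_frattini_supplement {D : Type*} [Group D] [Finite D] {p : ℕ} [Fact p.Prime]
    (f : D →* Matrix.SpecialLinearGroup (Fin 2) (ZMod p)) (hf : Function.Surjective f) :
    ∃ (D' T : Subgroup D) (z : D), z ∈ T ∧ T ≤ D' ∧ IsPGroup 2 T ∧
      (∀ d ∈ D', ∀ t ∈ T, d * t * d⁻¹ ∈ T) ∧ f z = -1 ∧ ∀ s, ∃ d ∈ D', f d = s := by
  classical
  obtain ⟨z, k, hfz, hzk⟩ := exists_two_element_of_neg_one f hf
  obtain ⟨Z, hZ⟩ : ∃ Z : Subgroup D, Z = (Subgroup.center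
    (Matrix.SpecialLinearGroup (Fin 2) (ZMod p))).comap f := ⟨_, rfl⟩
  have hZn : Z.Normal := by rw [hZ]; infer_instance
  have hzZ : z ∈ Z := by
    rw [hZ, Subgroup.mem_comap, hfz]
    exact neg_one_mem_center
  have hP : IsPGroup 2 (Subgroup.zpowers (⟨z, hzZ⟩ : ↥Z)) := by
    rintro ⟨g, hg⟩
    obtain ⟨n, rfl⟩ := Subgroup.mem_zpowers_iff.mp hg
    refine ⟨k, Subtype.ext ?_⟩
    show ((⟨z, hzZ⟩ : ↥Z) ^ n) ^ (2 ^ k) = 1
    rw [← zpow_natCast, ← zpow_mul, mul_comm, zpow_mul, zpow_natCast]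
    have : (⟨z, hzZ⟩ : ↥Z) ^ (2 ^ k) = 1 := Subtype.ext (by
      rw [Subgroup.coe_pow, Subgroup.coe_one]; exact hzk)
    rw [this, one_zpow]
  have : Fact (Nat.Prime 2) := ⟨Nat.prime_two⟩
  obtain ⟨T₀, hT₀⟩ := hP.exists_le_sylow
  have hfrat := Sylow.normalizer_sup_eq_top T₀
  refine ⟨Subgroup.normalizer (((T₀ : Subgroup ↥Z).map Z.subtype : Subgroup D) : Set D),
    (T₀ : Subgroup ↥Z).map Z.subtype, z, ?_, Subgroup.le_normalizer, ?_, ?_, hfz, ?_⟩
  · exact ⟨⟨z, hzZ⟩, hT₀ (Subgroup.mem_zpowers _), rfl⟩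
  · exact T₀.isPGroup'.map _
  · intro d hd t ht
    exact (Subgroup.mem_normalizer_iff.mp hd t).mp ht
  · intro s
    obtain ⟨d, hd⟩ := hf s
    have hd' : d ∈ Subgroup.normalizer (((T₀ : Subgroup ↥Z).map Z.subtype : Subgroup D) : Set D) ⊔ Z := by
      rw [hfrat]; exact Subgroup.mem_top d
    obtain ⟨n, hn, y, hy, rfl⟩ := Subgroup.mem_sup_of_normal_right.mp hd'
    rw [hZ, Subgroup.mem_comap] at hy
    have hy' : f y = 1 ∨ f y = -1 := by
      rcases (mem_center_iff_pm _).mp hy with h1 | h1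
      · exact Or.inl (Subtype.ext (by rw [h1]; simp))
      · exact Or.inr (Subtype.ext (by rw [h1]; simp))
    rcases hy' with h1 | h1
    · exact ⟨n, hn, by rw [← hd, map_mul, h1, mul_one]⟩
    · refine ⟨n * z, Subgroup.mul_mem _ hn (Subgroup.le_normalizer ?_), ?_⟩
      · exact ⟨⟨z, hzZ⟩, hT₀ (Subgroup.mem_zpowers _), rfl⟩
      · rw [← hd, map_mul, map_mul, h1, hfz]

end Cfsg.Agent.Lib.Helper11
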