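import Mathlib
import Cfsg.Agent.Lib.Helper11.QdSection3

/-!
# Local `SL₂(p)`-natural data and `Qd(p)` (helper11)

* `involvesQd_of_natural_strong`: the recognition lemma of `QdSection3` without the commutativity hypothesis and with an
  explicit kernel property of the surjection onto `Qd(p)`.
* `LocNat p H T ε`: elements of `H ∩ N_G(T)` induce all of `SL₂(p)` on the quotient `ε : T → F_p²`.
-/

set_option autoImplicit false

namespace Cfsg.Agent.Lib.Helper11

open Cfsg Cfsg.Agent.Lib.Helper46 Cfsg.Agent.Lib.Helper41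

theorem involvesQd_of_natural_strong {Γ : Type*} [Group Γ] [Finite Γ] {p : ℕ} [Fact p.Prime]
    (hp : p ≠ 2)
    (D : Subgroup Γ) (f : D →* Matrix.SpecialLinearGroup (Fin 2) (ZMod p))
    (hf : Function.Surjective f)
    (W : Subgroup Γ)
    (hDW : ∀ d ∈ D, ∀ w ∈ W, d * w * d⁻¹ ∈ W)
    (ε : W →* Multiplicative (Fin 2 → ZMod p)) (hεs : Function.Surjective ε)
    (hεe : ∀ (d : D) (w : W), ε ⟨d * w * (d : Γ)⁻¹, hDW d d.2 w w.2⟩ =
        Multiplicative.ofAdd ((f d : Matrix (Fin 2) (Fin 2) (ZMod p)).mulVec (ε w).toAdd)) :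
    ∃ (E : Subgroup Γ) (F : E →* ↥(Cfsg.qd p)), Function.Surjective F ∧ E ≤ W ⊔ D ∧
      ∀ x : E, (∀ w ∈ W, (x : Γ) * w = w * x) → (orderOf (x : Γ)).Coprime p → F x = 1 := by
  classical
  -- `f k = 1` as soon as `k` acts trivially on `W / ker ε`
  have hftriv : ∀ k : D, (∀ w : ↥W, ε ⟨k * w * (k : Γ)⁻¹, hDW k k.2 w w.2⟩ = ε w) → f k = 1 := by
    intro k hk
    apply Subtype.ext
    rw [Matrix.SpecialLinearGroup.coe_one]
    apply Matrix.ext_iff_mulVec.mpr
    intro c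
    obtain ⟨w, hw⟩ := hεs (Multiplicative.ofAdd c)
    have h1 := hεe k w
    rw [hk w, hw] at h1
    rw [Matrix.one_mulVec]
    exact (Multiplicative.ofAdd.injective h1).symm
  -- elements of `D ∩ W` act trivially
  have hfW : ∀ d : D, (d : Γ) ∈ W → f d = 1 := by
    intro d hd
    apply hftriv
    intro w
    have h2 : (⟨d * w * (d : Γ)⁻¹, hDW d d.2 w w.2⟩ : ↥W) = ⟨d, hd⟩ * w * ⟨d, hd⟩⁻¹ := rfl
    rw [h2, map_mul, map_mul, map_inv, mul_comm (ε ⟨d, hd⟩) (ε w), mul_assoc, mul_inv_cancel,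
      mul_one]
  obtain ⟨D', T, z, hzT, hTD', hT2, hnorm, hfz, hsurj⟩ := exists_frattini_supplement f hf
  -- `W ∩ D' ≤ ker ε`
  have hker : ∀ d ∈ D', ∀ hd : (d : Γ) ∈ W, ε ⟨d, hd⟩ = 1 := by
    intro d hdD' hd
    obtain ⟨w, hw⟩ : ∃ w : ↥W, w = ⟨d, hd⟩ := ⟨_, rfl⟩
    rw [← hw]
    have hc : d * z * d⁻¹ * z⁻¹ ∈ T := T.mul_mem (hnorm d hdD' z hzT) (T.inv_mem hzT)
    obtain ⟨k, hk⟩ := hT2 ⟨_, hc⟩
    have hk' : (d * z * d⁻¹ * z⁻¹) ^ (2 ^ k) = 1 := by
      have := congrArg Subtype.val hk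
      simpa using this
    -- the commutator as an element of `W`
    let w' : ↥W := ⟨z * (w⁻¹ : ↥W) * (z : Γ)⁻¹, hDW z z.2 _ (w⁻¹).2⟩
    have hww' : ((w * w' : ↥W) : Γ) = ((d * z * d⁻¹ * z⁻¹ : ↥D) : Γ) := by
      show (w : Γ) * ((z : Γ) * ((w⁻¹ : ↥W) : Γ) * (z : Γ)⁻¹) = _
      rw [hw]
      simp only [Subgroup.coe_mul, Subgroup.coe_inv]
      group
    have hpow : (w * w') ^ (2 ^ k) = 1 := by
      apply Subtype.ext
      rw [Subgroup.coe_pow, hww', ← Subgroup.coe_pow, hk', Subgroup.coe_one, Subgroup.coe_one]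
    have hεw' : ε w' = ε w := by
      have := hεe z w⁻¹
      rw [hfz] at this
      show ε ⟨z * (w⁻¹ : ↥W) * (z : Γ)⁻¹, _⟩ = ε w
      rw [this, map_inv, toAdd_inv, Matrix.SpecialLinearGroup.coe_neg,
        Matrix.SpecialLinearGroup.coe_one, Matrix.neg_mulVec, Matrix.one_mulVec, neg_neg,
        ofAdd_toAdd]
    have h3 : (2 ^ k) • ((2 : ℕ) • (ε w).toAdd) = 0 := by
      have h4 := congrArg ε hpow
      rw [map_pow, map_mul, hεw', map_one] at h4
      have h5 := congrArg Multiplicative.toAdd h4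
      rw [toAdd_pow, toAdd_mul, toAdd_one] at h5
      rw [two_nsmul]
      exact h5
    have h6 : (2 ^ (k + 1)) • (ε w).toAdd = 0 := by
      rw [pow_succ, mul_smul]
      exact h3
    have h7 := eq_zero_of_two_pow_smul hp _ _ h6
    exact Multiplicative.toAdd.injective h7
  -- the supplement inside `Γ`
  obtain ⟨K, hK⟩ : ∃ K : Subgroup Γ, K = D'.map D.subtype := ⟨_, rfl⟩
  have hKD : K ≤ D := by
    rw [hK]
    rintro _ ⟨d, _, rfl⟩
    exact d.2
  have hKmem : ∀ k : ↥K, (⟨k, hKD k.2⟩ : ↥D) ∈ D' := by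
    rintro ⟨k, hk⟩
    rw [hK] at hk
    obtain ⟨d, hd, rfl⟩ := hk
    exact hd
  have hKW : K ≤ Subgroup.normalizer (W : Set Γ) := by
    intro k hk
    rw [Subgroup.mem_normalizer_iff]
    intro w
    constructor
    · intro hw
      exact hDW k (hKD hk) w hw
    · intro hw
      have := hDW k⁻¹ (D.inv_mem (hKD hk)) _ hw
      simpa [mul_assoc] using this
  obtain ⟨fg, hfg⟩ : ∃ fg : ↥K →* ↥(Cfsg.qd p),
      fg = (qdLin p).comp (f.comp (Subgroup.inclusion hKD)) := ⟨_, rfl⟩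
  obtain ⟨fn, hfn⟩ : ∃ fn : ↥W →* ↥(Cfsg.qd p), fn = (qdTransl p).comp ε := ⟨_, rfl⟩
  have hcompat : ∀ g : ↥K, fn.comp (((W.normalizerMonoidHom).comp
      (Subgroup.inclusion hKW)) g).toMonoidHom = (MulAut.conj (fg g)).toMonoidHom.comp fn := by
    intro g
    apply MonoidHom.ext
    intro w
    rw [MonoidHom.comp_apply, MonoidHom.comp_apply]
    show fn ⟨(g : Γ) * w * (g : Γ)⁻¹, _⟩ = fg g * fn w * (fg g)⁻¹
    rw [hfn, hfg]
    simp only [MonoidHom.comp_apply]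
    rw [qdLin_conj_qdTransl]
    congr 1
    exact hεe (Subgroup.inclusion hKD g) w
  obtain ⟨L, hL⟩ : ∃ L : ↥W ⋊[(W.normalizerMonoidHom).comp (Subgroup.inclusion hKW)] ↥K →*
      ↥(Cfsg.qd p), L = SemidirectProduct.lift fn fg hcompat := ⟨_, rfl⟩
  have hLapp : ∀ x, L x = fn x.left * fg x.right := by
    intro x
    rw [hL]
    rfl
  obtain ⟨ι, hι⟩ : ∃ ι : ↥W ⋊[(W.normalizerMonoidHom).comp (Subgroup.inclusion hKW)] ↥K →* Γ,
      ι = SemidirectProduct.monoidHomSubgroup hKW := ⟨_, rfl⟩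
  have hιapp : ∀ x, ι x = (x.left : Γ) * (x.right : Γ) := by
    intro x
    rw [hι]
    rfl
  have hkerle : ι.rangeRestrict.ker ≤ L.ker := by
    intro x hx
    rw [MonoidHom.mem_ker] at hx ⊢
    have hx' : ι x = 1 := by
      have := congrArg Subtype.val hx
      exact this
    rw [hιapp] at hx'
    -- the right component lies in `W`
    have hr : ((x.right : ↥K) : Γ) = ((x.left⁻¹ : ↥W) : Γ) := by
      rw [Subgroup.coe_inv]
      exact (eq_inv_of_mul_eq_one_right hx')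
    have hrW : ((x.right : ↥K) : Γ) ∈ W := by rw [hr]; exact (x.left⁻¹).2
    have h1 : f ⟨x.right, hKD x.right.2⟩ = 1 := hfW _ hrW
    have h2 : ε ⟨((⟨x.right, hKD x.right.2⟩ : ↥D) : Γ), hrW⟩ = 1 :=
      hker _ (hKmem x.right) hrW
    have h3 : (⟨((⟨x.right, hKD x.right.2⟩ : ↥D) : Γ), hrW⟩ : ↥W) = x.left⁻¹ :=
      Subtype.ext hr
    rw [h3, map_inv, inv_eq_one] at h2
    rw [hLapp, hfn, hfg]
    simp only [MonoidHom.comp_apply]
    rw [h2, map_one, one_mul]
    have h4 : Subgroup.inclusion hKD x.right = ⟨x.right, hKD x.right.2⟩ := rfl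
    rw [h4, h1, map_one]
  have hLsurj : Function.Surjective L := by
    intro M
    obtain ⟨v, A, hvA⟩ := exists_qdTransl_mul_qdLin p M
    obtain ⟨w, hw⟩ := hεs v
    obtain ⟨d, hdD', hd⟩ := hsurj A
    have hdK : (d : Γ) ∈ K := by rw [hK]; exact ⟨d, hdD', rfl⟩
    refine ⟨⟨w, ⟨d, hdK⟩⟩, ?_⟩
    rw [hLapp, hfn, hfg]
    simp only [MonoidHom.comp_apply]
    have h4 : Subgroup.inclusion hKD ⟨(d : Γ), hdK⟩ = d := rfl
    rw [h4, hw, hd, hvA]
  refine ⟨ι.range, MonoidHom.liftOfSurjective ι.rangeRestrict ι.rangeRestrict_surjective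
    ⟨L, hkerle⟩, ?_, ?_, ?_⟩
  · intro M
    obtain ⟨x, hx⟩ := hLsurj M
    refine ⟨ι.rangeRestrict x, ?_⟩
    rw [MonoidHom.liftOfRightInverse_comp_apply]
    exact hx
  · rintro _ ⟨x, rfl⟩
    rw [hιapp]
    exact Subgroup.mul_mem _ ((le_sup_left : W ≤ W ⊔ D) x.left.2)
      ((le_sup_right : D ≤ W ⊔ D) (hKD x.right.2))
  · intro x hxc hxo
    obtain ⟨y, hy⟩ := ι.rangeRestrict_surjective x
    have hyx : (x : Γ) = (y.left : Γ) * (y.right : Γ) := by
      rw [← hy, ← hιapp]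
      rfl
    have hFx : (MonoidHom.liftOfSurjective ι.rangeRestrict ι.rangeRestrict_surjective
        ⟨L, hkerle⟩) x = L y := by
      rw [← hy]
      exact MonoidHom.liftOfRightInverse_comp_apply _ _ _ _ _
    -- the right component acts trivially
    have hk1 : f ⟨y.right, hKD y.right.2⟩ = 1 := by
      apply hftriv
      intro w
      have e1 : ((y.right : ↥K) : Γ) = ((y.left : ↥W) : Γ)⁻¹ * (x : Γ) := by
        rw [hyx, inv_mul_cancel_left]
      have h2 : (⟨((⟨y.right, hKD y.right.2⟩ : ↥D) : Γ) * w *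
          ((⟨y.right, hKD y.right.2⟩ : ↥D) : Γ)⁻¹, hDW _ (hKD y.right.2) w w.2⟩ : ↥W) =
          y.left⁻¹ * w * y.left := by
        apply Subtype.ext
        show ((y.right : ↥K) : Γ) * w * ((y.right : ↥K) : Γ)⁻¹ = _
        rw [e1]
        simp only [Subgroup.coe_mul, Subgroup.coe_inv, mul_inv_rev, inv_inv]
        have := hxc w w.2
        calc ((y.left : ↥W) : Γ)⁻¹ * (x : Γ) * (w : Γ) * ((x : Γ)⁻¹ * ((y.left : ↥W) : Γ))
            = ((y.left : ↥W) : Γ)⁻¹ * ((x : Γ) * (w : Γ)) * (x : Γ)⁻¹ * ((y.left : ↥W) : Γ) := by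
              group
          _ = ((y.left : ↥W) : Γ)⁻¹ * ((w : Γ) * (x : Γ)) * (x : Γ)⁻¹ * ((y.left : ↥W) : Γ) := by
              rw [this]
          _ = ((y.left : ↥W) : Γ)⁻¹ * (w : Γ) * ((y.left : ↥W) : Γ) := by group
      rw [h2, map_mul, map_mul, map_inv, mul_comm (ε y.left)⁻¹ (ε w), mul_assoc, inv_mul_cancel,
        mul_one]
    have hLy : L y = qdTransl p (ε y.left) := by
      rw [hLapp, hfn, hfg]
      simp only [MonoidHom.comp_apply]
      have h4 : Subgroup.inclusion hKD y.right = ⟨y.right, hKD y.right.2⟩ := rfl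
      rw [h4, hk1, map_one, mul_one]
    rw [hFx, hLy]
    -- a translation of order prime to `p` is trivial
    have hpw : (qdTransl p (ε y.left)) ^ p = 1 := by
      rw [← map_pow]
      have : (ε y.left) ^ p = 1 := by
        apply Multiplicative.toAdd.injective
        rw [toAdd_pow, toAdd_one]
        funext i
        rw [Pi.smul_apply, nsmul_eq_mul, CharP.cast_eq_zero, zero_mul]
        rfl
      rw [this, map_one]
    have hpo : (qdTransl p (ε y.left)) ^ orderOf (x : Γ) = 1 := by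
      rw [← hLy, ← hFx, ← map_pow]
      have : x ^ orderOf (x : Γ) = 1 := by
        apply Subtype.ext
        rw [Subgroup.coe_pow, pow_orderOf_eq_one, Subgroup.coe_one]
      rw [this, map_one]
    have h1 : orderOf (qdTransl p (ε y.left)) ∣ p := orderOf_dvd_of_pow_eq_one hpw
    have h2 : orderOf (qdTransl p (ε y.left)) ∣ orderOf (x : Γ) := orderOf_dvd_of_pow_eq_one hpo
    have h3 : orderOf (qdTransl p (ε y.left)) = 1 := Nat.eq_one_of_dvd_coprimes hxo h2 h1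
    exact orderOf_eq_one_iff.mp h3


end Cfsg.Agent.Lib.Helper11
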