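import Mathlib
import Cfsg.Agent.Lib.Helper11.QdLocal

/-!
# Local `SL₂(p)`-natural data (helper11)

`LocNat p H T ε`: `ε : T → F_p²` is surjective and every element of `SL₂(p)` is induced on `T / ker ε` by an element of
`H ∩ N_G(T)`.
-/

set_option autoImplicit false

namespace Cfsg.Agent.Lib.Helper11

open Cfsg

variable {G : Type*} [Group G] {p : ℕ}

/-- `d` acts on `T / ker ε` as the matrix `A` -/
def ActsAs {T : Subgroup G} (ε : T →* Multiplicative (Fin 2 → ZMod p)) (d : G)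
    (A : Matrix.SpecialLinearGroup (Fin 2) (ZMod p)) : Prop :=
  ∀ (t : T) (h : d * (t : G) * d⁻¹ ∈ T), ε ⟨d * t * d⁻¹, h⟩ =
    Multiplicative.ofAdd ((A : Matrix (Fin 2) (Fin 2) (ZMod p)).mulVec (ε t).toAdd)

/-- local natural `SL₂(p)` datum with witnesses in `H` -/
def LocNat (p : ℕ) (H T : Subgroup G) (ε : T →* Multiplicative (Fin 2 → ZMod p)) : Prop :=
  Function.Surjective ε ∧ ∀ A : Matrix.SpecialLinearGroup (Fin 2) (ZMod p),
    ∃ d ∈ H, d ∈ Subgroup.normalizer (T : Set G) ∧ ActsAs ε d A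

theorem mem_of_mem_normalizer {T : Subgroup G} {d : G} (hd : d ∈ Subgroup.normalizer (T : Set G))
    {t : G} (ht : t ∈ T) : d * t * d⁻¹ ∈ T :=
  (Subgroup.mem_normalizer_iff.mp hd t).mp ht

theorem ActsAs.unique {T : Subgroup G} {ε : T →* Multiplicative (Fin 2 → ZMod p)}
    (hε : Function.Surjective ε) {d : G} (hd : d ∈ Subgroup.normalizer (T : Set G))
    {A B : Matrix.SpecialLinearGroup (Fin 2) (ZMod p)} (hA : ActsAs ε d A) (hB : ActsAs ε d B) :
    A = B := by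
  apply Subtype.ext
  apply Matrix.ext_iff_mulVec.mpr
  intro c
  obtain ⟨t, ht⟩ := hε (Multiplicative.ofAdd c)
  have h1 := hA t (mem_of_mem_normalizer hd t.2)
  have h2 := hB t (mem_of_mem_normalizer hd t.2)
  rw [ht] at h1 h2
  exact Multiplicative.ofAdd.injective (h1.symm.trans h2)

theorem ActsAs.one {T : Subgroup G} (ε : T →* Multiplicative (Fin 2 → ZMod p)) :
    ActsAs ε (1 : G) 1 := by
  intro t h
  rw [Matrix.SpecialLinearGroup.coe_one, Matrix.one_mulVec, ofAdd_toAdd]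
  congr 1
  apply Subtype.ext
  simp

theorem ActsAs.mul {T : Subgroup G} {ε : T →* Multiplicative (Fin 2 → ZMod p)} {d e : G}
    (he : e ∈ Subgroup.normalizer (T : Set G))
    {A B : Matrix.SpecialLinearGroup (Fin 2) (ZMod p)} (hA : ActsAs ε d A) (hB : ActsAs ε e B) :
    ActsAs ε (d * e) (A * B) := by
  intro t h
  have h1 : e * (t : G) * e⁻¹ ∈ T := mem_of_mem_normalizer he t.2
  have h2 : d * ((⟨e * t * e⁻¹, h1⟩ : ↥T) : G) * d⁻¹ ∈ T := by
    have : d * (e * (t : G) * e⁻¹) * d⁻¹ = d * e * t * (d * e)⁻¹ := by group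
    rw [this]; exact h
  have h3 := hA ⟨e * t * e⁻¹, h1⟩ h2
  rw [hB t h1, toAdd_ofAdd] at h3
  rw [Matrix.SpecialLinearGroup.coe_mul, ← Matrix.mulVec_mulVec]
  rw [← h3]
  congr 1
  apply Subtype.ext
  show d * e * (t : G) * (d * e)⁻¹ = d * (e * (t : G) * e⁻¹) * d⁻¹
  group

theorem ActsAs.inv {T : Subgroup G} {ε : T →* Multiplicative (Fin 2 → ZMod p)} {d : G}
    (_hd : d ∈ Subgroup.normalizer (T : Set G))
    {A : Matrix.SpecialLinearGroup (Fin 2) (ZMod p)} (hA : ActsAs ε d A) :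
    ActsAs ε d⁻¹ A⁻¹ := by
  intro t h
  have h2 : d * ((⟨d⁻¹ * t * d⁻¹⁻¹, h⟩ : ↥T) : G) * d⁻¹ ∈ T := by
    have : d * (d⁻¹ * (t : G) * d⁻¹⁻¹) * d⁻¹ = t := by group
    rw [this]; exact t.2
  have h3 := hA ⟨d⁻¹ * t * d⁻¹⁻¹, h⟩ h2
  have h4 : (⟨d * ((⟨d⁻¹ * t * d⁻¹⁻¹, h⟩ : ↥T) : G) * d⁻¹, h2⟩ : ↥T) = t := by
    apply Subtype.ext
    show d * (d⁻¹ * (t : G) * d⁻¹⁻¹) * d⁻¹ = t
    group
  rw [h4] at h3
  rw [h3, toAdd_ofAdd, Matrix.mulVec_mulVec, ← Matrix.SpecialLinearGroup.coe_mul, inv_mul_cancel,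
    Matrix.SpecialLinearGroup.coe_one, Matrix.one_mulVec, ofAdd_toAdd]

theorem LocNat.mono {H H' T : Subgroup G} {ε : T →* Multiplicative (Fin 2 → ZMod p)}
    (h : LocNat p H T ε) (hH : H ≤ H') : LocNat p H' T ε :=
  ⟨h.1, fun A => by
    obtain ⟨d, hd, hdn, hda⟩ := h.2 A
    exact ⟨d, hH hd, hdn, hda⟩⟩

/-- **From the element-wise datum to a subgroup with a surjection onto `SL₂(p)`.** -/
theorem LocNat.exists_hom {H T : Subgroup G} {ε : T →* Multiplicative (Fin 2 → ZMod p)}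
    (h : LocNat p H T ε) :
    ∃ (D : Subgroup G) (f : D →* Matrix.SpecialLinearGroup (Fin 2) (ZMod p)),
      D ≤ H ∧ ∃ hDT : (∀ d ∈ D, ∀ t ∈ T, d * t * d⁻¹ ∈ T), Function.Surjective f ∧
        ∀ (d : D) (t : T), ε ⟨d * t * (d : G)⁻¹, hDT d d.2 t t.2⟩ =
          Multiplicative.ofAdd ((f d : Matrix (Fin 2) (Fin 2) (ZMod p)).mulVec (ε t).toAdd) := by
  classical
  obtain ⟨hε, hA⟩ := h
  let D : Subgroup G :=
    { carrier := {d | d ∈ H ∧ d ∈ Subgroup.normalizer (T : Set G) ∧ ∃ A, ActsAs ε d A}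
      one_mem' := ⟨H.one_mem, Subgroup.one_mem _, 1, ActsAs.one ε⟩
      mul_mem' := by
        rintro a b ⟨ha1, ha2, A, hA'⟩ ⟨hb1, hb2, B, hB'⟩
        exact ⟨H.mul_mem ha1 hb1, Subgroup.mul_mem _ ha2 hb2, A * B, hA'.mul hb2 hB'⟩
      inv_mem' := by
        rintro a ⟨ha1, ha2, A, hA'⟩
        exact ⟨H.inv_mem ha1, Subgroup.inv_mem _ ha2, A⁻¹, hA'.inv ha2⟩ }
  have hDmem : ∀ d : D, ∃ A, ActsAs ε (d : G) A := fun d => d.2.2.2
  have hDn : ∀ d : D, (d : G) ∈ Subgroup.normalizer (T : Set G) := fun d => d.2.2.1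
  let f0 : D → Matrix.SpecialLinearGroup (Fin 2) (ZMod p) := fun d => Classical.choose (hDmem d)
  have hf0 : ∀ d : D, ActsAs ε (d : G) (f0 d) := fun d => Classical.choose_spec (hDmem d)
  let f : D →* Matrix.SpecialLinearGroup (Fin 2) (ZMod p) :=
    { toFun := f0
      map_one' := ActsAs.unique hε (Subgroup.one_mem _) (hf0 1) (ActsAs.one ε)
      map_mul' := fun a b =>
        ActsAs.unique hε (Subgroup.mul_mem _ (hDn a) (hDn b)) (hf0 (a * b))
          ((hf0 a).mul (hDn b) (hf0 b)) }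
  have hDT : ∀ d ∈ D, ∀ t ∈ T, d * t * d⁻¹ ∈ T := fun d hd t ht =>
    mem_of_mem_normalizer hd.2.1 ht
  refine ⟨D, f, fun d hd => hd.1, hDT, ?_, ?_⟩
  · intro A
    obtain ⟨d, hdH, hdn, hda⟩ := hA A
    refine ⟨⟨d, hdH, hdn, A, hda⟩, ?_⟩
    exact ActsAs.unique hε hdn (hf0 ⟨d, hdH, hdn, A, hda⟩) hda
  · intro d t
    exact hf0 d t _

/-- transport of the datum along an injective homomorphism -/
theorem LocNat.map {G' : Type*} [Group G'] (j : G →* G') (hj : Function.Injective j)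
    {H T : Subgroup G} {ε : T →* Multiplicative (Fin 2 → ZMod p)} (h : LocNat p H T ε) :
    LocNat p (H.map j) (T.map j)
      (ε.comp (T.equivMapOfInjective j hj).symm.toMonoidHom) := by
  obtain ⟨hε, hA⟩ := h
  refine ⟨?_, ?_⟩
  · intro v
    obtain ⟨t, ht⟩ := hε v
    refine ⟨T.equivMapOfInjective j hj t, ?_⟩
    show ε ((T.equivMapOfInjective j hj).symm (T.equivMapOfInjective j hj t)) = v
    rw [MulEquiv.symm_apply_apply, ht]
  · intro A
    obtain ⟨d, hdH, hdn, hda⟩ := hA A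
    refine ⟨j d, Subgroup.mem_map_of_mem j hdH, ?_, ?_⟩
    · exact Subgroup.le_normalizer_map j (Subgroup.mem_map_of_mem j hdn)
    · intro t' h'
      obtain ⟨t, ht⟩ : ∃ t : T, T.equivMapOfInjective j hj t = t' :=
        ⟨(T.equivMapOfInjective j hj).symm t', MulEquiv.apply_symm_apply _ _⟩
      have htv : (t' : G') = j t := by rw [← ht]; rfl
      have h1 : d * (t : G) * d⁻¹ ∈ T := mem_of_mem_normalizer hdn t.2
      have h2 : (T.equivMapOfInjective j hj).symm ⟨j d * (t' : G') * (j d)⁻¹, h'⟩ =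
          ⟨d * t * d⁻¹, h1⟩ := by
        rw [MulEquiv.symm_apply_eq]
        apply Subtype.ext
        show j d * (t' : G') * (j d)⁻¹ = j (d * t * d⁻¹)
        rw [htv, map_mul, map_mul, map_inv]
      have h3 : (T.equivMapOfInjective j hj).symm t' = t := by
        rw [MulEquiv.symm_apply_eq, ht]
      show ε ((T.equivMapOfInjective j hj).symm ⟨j d * (t' : G') * (j d)⁻¹, h'⟩) =
        Multiplicative.ofAdd ((A : Matrix (Fin 2) (Fin 2) (ZMod p)).mulVec
          (ε ((T.equivMapOfInjective j hj).symm t')).toAdd)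
      rw [h2, h3]
      exact hda t h1

end Cfsg.Agent.Lib.Helper11
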