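import Mathlib
import Cfsg.Agent.Lib.Helper11.QdLocal2

/-!
# From a `Qd(p)`-quotient to a local `SL₂(p)`-natural datum (helper11)
-/

set_option autoImplicit false

namespace Cfsg.Agent.Lib.Helper11

open Cfsg Cfsg.Agent.Lib.Helper46 Cfsg.Agent.Lib.Helper41

theorem isPGroup_mult_fin_two (p : ℕ) [Fact p.Prime] :
    IsPGroup p (Multiplicative (Fin 2 → ZMod p)) := by
  intro v
  refine ⟨1, ?_⟩
  rw [pow_one]
  apply Multiplicative.toAdd.injective
  rw [toAdd_pow, toAdd_one]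
  funext i
  rw [Pi.smul_apply, nsmul_eq_mul, CharP.cast_eq_zero, zero_mul]
  rfl

theorem affCol_qdTransl (p : ℕ) (v : Multiplicative (Fin 2 → ZMod p)) :
    affCol (qdTransl p v) = v.toAdd :=
  affCol_affMk (isAff_qd p) 1 v.toAdd

theorem affLin_qdTransl (p : ℕ) (v : Multiplicative (Fin 2 → ZMod p)) :
    affLin (isAff_qd p) (qdTransl p v) = 1 :=
  affLin_affMk (isAff_qd p) 1 v.toAdd

theorem eq_qdTransl_of_affLin_eq_one (p : ℕ) (M : ↥(Cfsg.qd p)) (h : affLin (isAff_qd p) M = 1) :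
    M = qdTransl p (Multiplicative.ofAdd (affCol M)) := by
  have := affMk_eta (isAff_qd p) M
  rw [h] at this
  exact this.symm

/-- **A finite group with a quotient `Qd(p)` carries a local natural `SL₂(p)`-datum** (Frattini argument). -/
theorem exists_locNat_of_surjective {Γ : Type*} [Group Γ] [Finite Γ] {p : ℕ} [Fact p.Prime]
    (f : Γ →* ↥(Cfsg.qd p)) (hf : Function.Surjective f) :
    ∃ (T : Subgroup Γ) (ε : T →* Multiplicative (Fin 2 → ZMod p)), IsPGroup p T ∧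
      LocNat p ⊤ T ε := by
  classical
  obtain ⟨g, hg⟩ : ∃ g : Γ →* Matrix.SpecialLinearGroup (Fin 2) (ZMod p),
      g = (affLin (isAff_qd p)).comp f := ⟨_, rfl⟩
  obtain ⟨Xs, hXs⟩ : ∃ Xs : Subgroup Γ, Xs = g.ker := ⟨_, rfl⟩
  have hXn : Xs.Normal := by rw [hXs]; infer_instance
  have hXmem : ∀ x : Γ, x ∈ Xs ↔ affLin (isAff_qd p) (f x) = 1 := by
    intro x
    rw [hXs, MonoidHom.mem_ker, hg]
    rfl
  have hfX : ∀ x : Xs, f x = qdTransl p (Multiplicative.ofAdd (affCol (f x))) := fun x =>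
    eq_qdTransl_of_affLin_eq_one p _ ((hXmem x).mp x.2)
  let colHom : ↥Xs →* Multiplicative (Fin 2 → ZMod p) :=
    { toFun := fun x => Multiplicative.ofAdd (affCol (f x))
      map_one' := by
        show Multiplicative.ofAdd (affCol (f ((1 : ↥Xs) : Γ))) = 1
        rw [Subgroup.coe_one, map_one, affCol_one]
        rfl
      map_mul' := by
        intro x y
        show Multiplicative.ofAdd (affCol (f ((x * y : ↥Xs) : Γ))) =
          Multiplicative.ofAdd (affCol (f x)) * Multiplicative.ofAdd (affCol (f y))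
        rw [Subgroup.coe_mul, map_mul, affCol_mul (isAff_qd p), (hXmem x).mp x.2,
          Matrix.SpecialLinearGroup.coe_one, Matrix.one_mulVec, ofAdd_add, mul_comm] }
  have hcol : ∀ x : Xs, colHom x = Multiplicative.ofAdd (affCol (f x)) := fun _ => rfl
  have hfX' : ∀ x : Xs, f x = qdTransl p (colHom x) := hfX
  have hcolsurj : Function.Surjective colHom := by
    intro v
    obtain ⟨γ, hγ⟩ := hf (qdTransl p v)
    have hγX : γ ∈ Xs := by rw [hXmem, hγ, affLin_qdTransl]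
    refine ⟨⟨γ, hγX⟩, ?_⟩
    rw [hcol]
    show Multiplicative.ofAdd (affCol (f γ)) = v
    rw [hγ, affCol_qdTransl, ofAdd_toAdd]
  obtain Ts : Sylow p ↥Xs := Classical.arbitrary _
  obtain ⟨T, hT⟩ : ∃ T : Subgroup Γ, T = (Ts : Subgroup ↥Xs).map Xs.subtype := ⟨_, rfl⟩
  have hTX : T ≤ Xs := by rw [hT]; exact Subgroup.map_subtype_le _
  have hTp : IsPGroup p T := by rw [hT]; exact Ts.isPGroup'.map _
  obtain ⟨ε, hε⟩ : ∃ ε : T →* Multiplicative (Fin 2 → ZMod p),
      ε = colHom.comp (Subgroup.inclusion hTX) := ⟨_, rfl⟩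
  have hεf : ∀ t : T, f t = qdTransl p (ε t) := by
    intro t
    rw [hε]
    exact hfX' (Subgroup.inclusion hTX t)
  refine ⟨T, ε, hTp, ?_, ?_⟩
  · -- surjectivity
    intro v
    have hM := isPGroup_mult_fin_two p
    have htop : (⊤ : Subgroup (Multiplicative (Fin 2 → ZMod p))) =
        ((Ts.mapSurjective hcolsurj : Sylow p (Multiplicative (Fin 2 → ZMod p))) :
          Subgroup (Multiplicative (Fin 2 → ZMod p))) :=
      (Ts.mapSurjective hcolsurj).is_maximal' (hM.to_subgroup ⊤) le_top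
    have hv : v ∈ ((Ts.mapSurjective hcolsurj : Sylow p (Multiplicative (Fin 2 → ZMod p))) :
        Subgroup (Multiplicative (Fin 2 → ZMod p))) := by
      rw [← htop]; trivial
    rw [Sylow.coe_mapSurjective] at hv
    obtain ⟨t, ht, htv⟩ := hv
    have htT : (t : Γ) ∈ T := by rw [hT]; exact ⟨t, ht, rfl⟩
    refine ⟨⟨t, htT⟩, ?_⟩
    rw [hε]
    show colHom (Subgroup.inclusion hTX ⟨(t : Γ), htT⟩) = v
    have : Subgroup.inclusion hTX ⟨(t : Γ), htT⟩ = t := Subtype.ext rfl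
    rw [this, htv]
  · intro A
    obtain ⟨γ, hγ⟩ := hf (qdLin p A)
    have hfr : Subgroup.normalizer (((Ts : Subgroup ↥Xs).map Xs.subtype : Subgroup Γ) : Set Γ) ⊔ Xs
        = ⊤ := Sylow.normalizer_sup_eq_top Ts
    rw [← hT] at hfr
    have hγm : γ ∈ ((Subgroup.normalizer (T : Set Γ) ⊔ Xs : Subgroup Γ) : Set Γ) := by
      rw [hfr]; trivial
    rw [Subgroup.mul_normal] at hγm
    obtain ⟨n, hn, x, hx, hnx⟩ := Set.mem_mul.mp hγm
    refine ⟨n, Subgroup.mem_top _, hn, ?_⟩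
    intro t h
    have hfn : f n = qdLin p A * (qdTransl p (colHom ⟨x, hx⟩))⁻¹ := by
      have h1 : f n * f x = qdLin p A := by rw [← map_mul, hnx, hγ]
      have h2 : f x = qdTransl p (colHom ⟨x, hx⟩) := hfX' ⟨x, hx⟩
      rw [← h1, h2, mul_inv_cancel_right]
    have h3 : f (n * (t : Γ) * n⁻¹) = qdTransl p (Multiplicative.ofAdd
        ((A : Matrix (Fin 2) (Fin 2) (ZMod p)).mulVec (ε t).toAdd)) := by
      rw [map_mul, map_mul, map_inv, hfn, hεf t, ← qdLin_conj_qdTransl]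
      have hc : (qdTransl p (colHom ⟨x, hx⟩))⁻¹ * qdTransl p (ε t) *
          ((qdTransl p (colHom ⟨x, hx⟩))⁻¹)⁻¹ = qdTransl p (ε t) := by
        rw [inv_inv, ← map_inv, ← map_mul, ← map_mul]
        congr 1
        rw [mul_comm ((colHom ⟨x, hx⟩)⁻¹) (ε t), mul_assoc, inv_mul_cancel, mul_one]
      calc qdLin p A * (qdTransl p (colHom ⟨x, hx⟩))⁻¹ * qdTransl p (ε t) *
            (qdLin p A * (qdTransl p (colHom ⟨x, hx⟩))⁻¹)⁻¹
          = qdLin p A * ((qdTransl p (colHom ⟨x, hx⟩))⁻¹ * qdTransl p (ε t) *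
            ((qdTransl p (colHom ⟨x, hx⟩))⁻¹)⁻¹) * (qdLin p A)⁻¹ := by group
        _ = qdLin p A * qdTransl p (ε t) * (qdLin p A)⁻¹ := by rw [hc]
    have h4 := hεf ⟨n * t * n⁻¹, h⟩
    have h5 : f ((⟨n * t * n⁻¹, h⟩ : ↥T) : Γ) = f (n * (t : Γ) * n⁻¹) := rfl
    rw [h5, h3] at h4
    have h6 := congrArg (fun M => affCol M) h4
    simp only [affCol_qdTransl] at h6
    exact (Multiplicative.toAdd.injective h6).symm

end Cfsg.Agent.Lib.Helper11
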