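import Mathlib
import Cfsg.Agent.Lib.Helper11.QdLocal3
import Cfsg.Agent.Lib.Helper87.FusionSat
import Cfsg.Agent.Lib.Helper84.FusionSmallControl2
import Cfsg.Agent.Lib.Helper76.PCore

/-!
# Local `SL₂(p)`-data: enlarging to a `p`-centric subgroup, and passing to `N(Q)/O_{p'}(N(Q))` (helper11)
-/

set_option autoImplicit false

namespace Cfsg.Agent.Lib.Helper11

open Cfsg

/-- every `p`-subgroup centralizing `Q` lies in `Q` -/
def PCentric (p : ℕ) {G : Type*} [Group G] (Q : Subgroup G) : Prop :=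
  ∀ Y : Subgroup G, IsPGroup p Y → Y ≤ Subgroup.centralizer (Q : Set G) → Y ≤ Q

theorem PCentric.map_conj {p : ℕ} {G : Type*} [Group G] {Q : Subgroup G} (h : PCentric p Q)
    (g : G) : PCentric p (Q.map (MulAut.conj g).toMonoidHom) := by
  intro Y hY hYc
  have h1 : Y.map (MulAut.conj g⁻¹).toMonoidHom ≤ Q := by
    apply h _ (hY.map _)
    rintro _ ⟨y, hy, rfl⟩
    rw [Subgroup.mem_centralizer_iff]
    intro q hq
    have hq' : g * q * g⁻¹ ∈ Q.map (MulAut.conj g).toMonoidHom := ⟨q, hq, rfl⟩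
    have := Subgroup.mem_centralizer_iff.mp (hYc hy) _ hq'
    show q * (g⁻¹ * y * g⁻¹⁻¹) = g⁻¹ * y * g⁻¹⁻¹ * q
    calc q * (g⁻¹ * y * g⁻¹⁻¹) = g⁻¹ * (g * q * g⁻¹ * y) * g := by group
      _ = g⁻¹ * (y * (g * q * g⁻¹)) * g := by rw [this]
      _ = g⁻¹ * y * g⁻¹⁻¹ * q := by group
  intro y hy
  have h2 : g⁻¹ * y * g⁻¹⁻¹ ∈ Q := h1 ⟨y, hy, rfl⟩
  refine ⟨g⁻¹ * y * g⁻¹⁻¹, h2, ?_⟩
  show g * (g⁻¹ * y * g⁻¹⁻¹) * g⁻¹ = y
  group

/-- **Enlarging `T` to a `p`-centric `p`-subgroup whose normalizer still induces `SL₂(p)`.** -/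
theorem exists_pcentric_locNat {G : Type*} [Group G] [Finite G] {p : ℕ} [Fact p.Prime]
    {T : Subgroup G} {ε : T →* Multiplicative (Fin 2 → ZMod p)} (hT : IsPGroup p T)
    (h : LocNat p ⊤ T ε) :
    ∃ Q : Subgroup G, IsPGroup p Q ∧ T ≤ Q ∧ PCentric p Q ∧
      LocNat p (Subgroup.normalizer (Q : Set G)) T ε := by
  classical
  obtain ⟨C, hC⟩ : ∃ C : Subgroup G, C = Subgroup.centralizer (T : Set G) := ⟨_, rfl⟩
  obtain Sc : Sylow p ↥C := Classical.arbitrary _
  obtain ⟨S, hS⟩ : ∃ S : Subgroup G, S = (Sc : Subgroup ↥C).map C.subtype := ⟨_, rfl⟩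
  have hSC : S ≤ C := by rw [hS]; exact Subgroup.map_subtype_le _
  have hSp : IsPGroup p S := by rw [hS]; exact Sc.isPGroup'.map _
  have hSmem : ∀ x (hx : x ∈ C), x ∈ S ↔ (⟨x, hx⟩ : ↥C) ∈ (Sc : Subgroup ↥C) := by
    intro x hx
    rw [hS]
    constructor
    · rintro ⟨y, hy, hyx⟩
      have : y = ⟨x, hx⟩ := Subtype.ext hyx
      rw [← this]; exact hy
    · intro h'; exact ⟨⟨x, hx⟩, h', rfl⟩
  have hCcomm : ∀ s ∈ C, ∀ t ∈ T, t * s = s * t := by
    intro s hs t ht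
    rw [hC, Subgroup.mem_centralizer_iff] at hs
    exact hs t ht
  have hcomm : ∀ s ∈ S, ∀ t ∈ T, t * s = s * t := fun s hs => hCcomm s (hSC hs)
  have hCN : C ≤ Subgroup.normalizer (T : Set G) := by
    rw [hC]; exact Subgroup.centralizer_le_normalizer _
  -- `T` normalizes `S`
  have hTS : T ≤ Subgroup.normalizer (S : Set G) := by
    have : T ≤ Subgroup.centralizer (S : Set G) := by
      intro t ht
      rw [Subgroup.mem_centralizer_iff]
      intro s hs
      exact (hcomm s hs t ht).symm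
    exact this.trans (Subgroup.centralizer_le_normalizer _)
  have hQp : IsPGroup p (T ⊔ S : Subgroup G) := hT.to_sup_of_normal_right' hSp hTS
  refine ⟨T ⊔ S, hQp, le_sup_left, ?_, h.1, fun A => ?_⟩
  · -- `p`-centric
    intro Y hY hYc
    have hYC : Y ≤ C := by
      rw [hC]
      exact hYc.trans (Subgroup.centralizer_le (SetLike.coe_subset_coe.mpr le_sup_left))
    have hYS : Y ≤ Subgroup.normalizer (S : Set G) :=
      (hYc.trans (Subgroup.centralizer_le (SetLike.coe_subset_coe.mpr le_sup_right))).trans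
        (Subgroup.centralizer_le_normalizer _)
    have hYSp : IsPGroup p (Y ⊔ S : Subgroup G) := hY.to_sup_of_normal_right' hSp hYS
    have hle : (Sc : Subgroup ↥C) ≤ (Y ⊔ S).subgroupOf C := by
      intro x hx
      rw [Subgroup.mem_subgroupOf]
      exact (le_sup_right : S ≤ Y ⊔ S) ((hSmem x x.2).mpr hx)
    have heq : (Y ⊔ S).subgroupOf C = (Sc : Subgroup ↥C) :=
      Sc.is_maximal' hYSp.comap_subtype hle
    intro y hy
    have hyC : y ∈ C := hYC hy
    have : (⟨y, hyC⟩ : ↥C) ∈ (Y ⊔ S).subgroupOf C := by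
      rw [Subgroup.mem_subgroupOf]
      exact (le_sup_left : Y ≤ Y ⊔ S) hy
    rw [heq] at this
    exact (le_sup_right : S ≤ T ⊔ S) ((hSmem y hyC).mpr this)
  · obtain ⟨d, -, hdn, hda⟩ := h.2 A
    -- `d` normalizes `C`
    have hdC : ∀ x ∈ C, d * x * d⁻¹ ∈ C := by
      intro x hx
      have hx' := hCcomm x hx
      rw [hC, Subgroup.mem_centralizer_iff]
      intro t ht
      have ht' : d⁻¹ * t * d ∈ T := by
        have := mem_of_mem_normalizer (Subgroup.inv_mem _ hdn) ht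
        simpa using this
      have := hx' _ ht'
      calc t * (d * x * d⁻¹) = d * (d⁻¹ * t * d * x) * d⁻¹ := by group
        _ = d * (x * (d⁻¹ * t * d)) * d⁻¹ := by rw [this]
        _ = d * x * d⁻¹ * t := by group
    have hHp : IsPGroup p ((S.map (MulAut.conj d).toMonoidHom).subgroupOf C) :=
      (hSp.map _).comap_subtype
    obtain ⟨c, hc⟩ := Cfsg.Agent.Lib.Helper87.exists_conj_mem_sylow Sc hHp
    have hcT : (c : G) ∈ Subgroup.normalizer (T : Set G) := hCN c.2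
    have hd'n : (c : G) * d ∈ Subgroup.normalizer (T : Set G) := Subgroup.mul_mem _ hcT hdn
    have hd'S : ∀ s ∈ S, (c : G) * d * s * ((c : G) * d)⁻¹ ∈ S := by
      intro s hs
      have h1 : d * s * d⁻¹ ∈ C := hdC s (hSC hs)
      have h2 : (⟨d * s * d⁻¹, h1⟩ : ↥C) ∈ (S.map (MulAut.conj d).toMonoidHom).subgroupOf C := by
        rw [Subgroup.mem_subgroupOf]
        exact ⟨s, hs, rfl⟩
      have h3 := hc _ h2
      have h4 : (c : G) * (d * s * d⁻¹) * (c : G)⁻¹ ∈ C :=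
        C.mul_mem (C.mul_mem c.2 h1) (C.inv_mem c.2)
      have h5 : (c * ⟨d * s * d⁻¹, h1⟩ * c⁻¹ : ↥C) = ⟨(c : G) * (d * s * d⁻¹) * (c : G)⁻¹, h4⟩ :=
        Subtype.ext rfl
      rw [h5] at h3
      have h6 := (hSmem _ h4).mpr h3
      have h7 : (c : G) * d * s * ((c : G) * d)⁻¹ = (c : G) * (d * s * d⁻¹) * (c : G)⁻¹ := by group
      rw [h7]; exact h6
    have hd'T : ∀ t ∈ T, (c : G) * d * t * ((c : G) * d)⁻¹ ∈ T := fun t ht =>
      mem_of_mem_normalizer hd'n ht
    have hd'Q : ∀ x ∈ (T ⊔ S : Subgroup G), (c : G) * d * x * ((c : G) * d)⁻¹ ∈ (T ⊔ S : Subgroup G) := by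
      have : (T ⊔ S : Subgroup G) ≤ (T ⊔ S : Subgroup G).comap (MulAut.conj ((c : G) * d)).toMonoidHom := by
        apply sup_le
        · intro t ht
          rw [Subgroup.mem_comap]
          exact (le_sup_left : T ≤ T ⊔ S) (hd'T t ht)
        · intro s hs
          rw [Subgroup.mem_comap]
          exact (le_sup_right : S ≤ T ⊔ S) (hd'S s hs)
      intro x hx
      exact this hx
    refine ⟨(c : G) * d,
      Cfsg.Agent.Lib.Helper84.mem_normalizer_of_conj_mem_of_finite _ _ hd'Q, hd'n, ?_⟩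
    intro t h'
    have h1 : d * (t : G) * d⁻¹ ∈ T := mem_of_mem_normalizer hdn t.2
    have h2 : (c : G) * d * (t : G) * ((c : G) * d)⁻¹ = d * (t : G) * d⁻¹ := by
      have h3 := hCcomm c c.2 _ h1
      calc (c : G) * d * (t : G) * ((c : G) * d)⁻¹ = (c : G) * (d * (t : G) * d⁻¹) * (c : G)⁻¹ := by group
        _ = d * (t : G) * d⁻¹ * (c : G) * (c : G)⁻¹ := by rw [← h3]
        _ = d * (t : G) * d⁻¹ := by group
    have h4 : (⟨(c : G) * d * (t : G) * ((c : G) * d)⁻¹, h'⟩ : ↥T) = ⟨d * (t : G) * d⁻¹, h1⟩ :=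
      Subtype.ext h2
    rw [h4]
    exact hda t h1

/-- a section of a subquotient from a surjection killing the kernel -/
theorem involvesGrp_quotient_of_ker_le {G : Type*} [Group G] {T' : Type*} [Group T']
    (M : Subgroup G) (K : Subgroup ↥M) [K.Normal] (E : Subgroup G) (hEM : E ≤ M)
    (F : E →* T') (hF : Function.Surjective F)
    (hK : ∀ e : E, (⟨(e : G), hEM e.2⟩ : ↥M) ∈ K → F e = 1) :
    InvolvesGrp T' (↥M ⧸ K) := by
  obtain ⟨π, hπ⟩ : ∃ π : E →* ↥M ⧸ K, π = (QuotientGroup.mk' K).comp (Subgroup.inclusion hEM) :=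
    ⟨_, rfl⟩
  have hker : π.ker ≤ F.ker := by
    intro e he
    rw [MonoidHom.mem_ker] at he ⊢
    apply hK
    rw [hπ] at he
    have : ((Subgroup.inclusion hEM e : ↥M) : ↥M ⧸ K) = 1 := he
    rwa [QuotientGroup.eq_one_iff] at this
  have hker' : π.rangeRestrict.ker ≤ F.ker := by
    rw [MonoidHom.ker_rangeRestrict]; exact hker
  refine ⟨π.range, (π.rangeRestrict.liftOfSurjective π.rangeRestrict_surjective) ⟨F, hker'⟩, ?_⟩
  intro t
  obtain ⟨e, he⟩ := hF t
  refine ⟨π.rangeRestrict e, ?_⟩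
  rw [MonoidHom.liftOfRightInverse_comp_apply]
  exact he

/-- **From a local datum in `N_G(Q)` to a `Qd(p)`-section of `N_G(Q)/O_{p'}(N_G(Q))`.** -/
theorem involvesQd_quotient_of_locNat {G : Type*} [Group G] [Finite G] {p : ℕ} [Fact p.Prime]
    (hp : p ≠ 2) (Q T : Subgroup G) (hQ : IsPGroup p Q) (hTQ : T ≤ Q)
    (ε : T →* Multiplicative (Fin 2 → ZMod p))
    (h : LocNat p (Subgroup.normalizer (Q : Set G)) T ε) :
    InvolvesGrp ↥(Cfsg.qd p)
      (↥(Subgroup.normalizer (Q : Set G)) ⧸ pPrimeCore p ↥(Subgroup.normalizer (Q : Set G))) := by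
  classical
  obtain ⟨D, f, hDM, hDT, hfs, hfe⟩ := h.exists_hom
  obtain ⟨E, F, hFs, hEle, hFtriv⟩ := involvesQd_of_natural_strong hp D f hfs T hDT ε h.1 hfe
  have hEM : E ≤ Subgroup.normalizer (Q : Set G) :=
    hEle.trans (sup_le (hTQ.trans Subgroup.le_normalizer) hDM)
  apply involvesGrp_quotient_of_ker_le (Subgroup.normalizer (Q : Set G))
    (pPrimeCore p ↥(Subgroup.normalizer (Q : Set G))) E hEM F hFs
  intro e he
  have hcop : (Nat.card ↥(pPrimeCore p ↥(Subgroup.normalizer (Q : Set G)))).Coprime p :=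
    Cfsg.Agent.Lib.Helper76.pPrimeCore_coprime p
  apply hFtriv e
  · -- `e` centralizes `T`
    have hQn : (Q.subgroupOf (Subgroup.normalizer (Q : Set G))).Normal :=
      Subgroup.normal_in_normalizer
    have hQmp : IsPGroup p ↥(Q.subgroupOf (Subgroup.normalizer (Q : Set G))) := hQ.comap_subtype
    obtain ⟨n, hn⟩ := IsPGroup.iff_card.mp hQmp
    have hdis : Disjoint (Q.subgroupOf (Subgroup.normalizer (Q : Set G)))
        (pPrimeCore p ↥(Subgroup.normalizer (Q : Set G))) := by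
      apply Subgroup.disjoint_of_coprime_natCard
      rw [hn]
      exact Nat.Coprime.pow_left n hcop.symm
    intro w hw
    have hwN : w ∈ Subgroup.normalizer (Q : Set G) := Subgroup.le_normalizer (hTQ hw)
    have hc := Subgroup.commute_of_normal_of_disjoint _ _ hQn inferInstance hdis
      (⟨w, hwN⟩ : ↥(Subgroup.normalizer (Q : Set G))) ⟨(e : G), hEM e.2⟩
      (Subgroup.mem_subgroupOf.mpr (hTQ hw)) he
    exact (congrArg Subtype.val hc.eq).symm
  · -- order coprime to `p`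
    have h1 : orderOf (e : G) =
        orderOf (⟨(e : G), hEM e.2⟩ : ↥(Subgroup.normalizer (Q : Set G))) :=
      (Subgroup.orderOf_mk _ _).symm
    have h2 : orderOf (⟨(e : G), hEM e.2⟩ : ↥(Subgroup.normalizer (Q : Set G))) =
        orderOf (⟨⟨(e : G), hEM e.2⟩, he⟩ : ↥(pPrimeCore p ↥(Subgroup.normalizer (Q : Set G)))) :=
      (Subgroup.orderOf_mk _ _).symm
    rw [h1, h2]
    exact Nat.Coprime.coprime_dvd_left (orderOf_dvd_natCard _) hcop

end Cfsg.Agent.Lib.Helper11
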