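import Mathlib
import Cfsg.Agent.Lib.Helper11.QdLocal4
import Cfsg.Agent.Lib.Helper11.GroupFusionModel
import Cfsg.Agent.Lib.Helper33.SylIn
import Cfsg.Agent.Lib.Helper85.FusionGroup

/-!
# A `Qd(p)`-section of `G` gives a `Qd(p)`-section in a local model of `F_P(G)` (helper11)
-/

set_option autoImplicit false

namespace Cfsg.Agent.Lib.Helper11

open Cfsg Cfsg.FusionSystem

universe u

/-- a system with a model is constrained -/
theorem isConstrained_of_isModel {Ω : Type*} [Group Ω] {S : Subgroup Ω} {p : ℕ} [Fact p.Prime]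
    (F : FusionSystem S) {L : Type*} [Group L] (ι : S →* L) (h : F.IsModel p L ι) :
    F.IsConstrained p := by
  obtain ⟨hfin, hR, ⟨T, hT⟩, hC⟩ := h
  exact ⟨Cfsg.Agent.Lib.Helper85.isSaturated_of_isRealizedBy hR T hT,
    Cfsg.Agent.Lib.Helper88.Model.coreSub p ι,
    Cfsg.Agent.Lib.Helper88.Model.coreSub_isNormal F hR T hT,
    Cfsg.Agent.Lib.Helper88.Model.coreSub_isCentric F hR T hT hC⟩

/-- **If `Qd(p)` (`p` odd) is involved in `G`, it is involved in `N_G(Q)/O_{p'}(N_G(Q))` for some fully normalized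
centric `Q ≤ P`.** -/
theorem exists_centric_fullyNormalized_involvesQd {G : Type u} [Group G] [Finite G] {p : ℕ}
    [Fact p.Prime] (hp : p ≠ 2) (P : Sylow p G) (h : Cfsg.Involves ↥(Cfsg.qd p) G) :
    ∃ Q : Subgroup G, (groupFusionSystem (P : Subgroup G)).IsFullyNormalized Q ∧
      (groupFusionSystem (P : Subgroup G)).IsCentric Q ∧
      InvolvesGrp ↥(Cfsg.qd p)
        (↥(Subgroup.normalizer (Q : Set G)) ⧸ pPrimeCore p ↥(Subgroup.normalizer (Q : Set G))) := by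
  classical
  obtain ⟨K₀, f, hf⟩ := involvesGrp_iff_involves.mpr h
  obtain ⟨T₀, ε₀, hT₀, hL₀⟩ := exists_locNat_of_surjective f hf
  have hL₁ := (hL₀.map K₀.subtype K₀.subtype_injective).mono (le_top : _ ≤ (⊤ : Subgroup G))
  obtain ⟨Q₀, hQ₀p, hTQ₀, hQ₀c, hL₂⟩ := exists_pcentric_locNat (hT₀.map K₀.subtype) hL₁
  obtain ⟨g₁, hg₁⟩ := Cfsg.Agent.Lib.Helper85.exists_conj_le_sylow P hQ₀p
  obtain ⟨g₂, hle, hfn⟩ := Cfsg.Agent.Lib.Helper33.exists_fullyNormalized_cj P hg₁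
  obtain ⟨g, hg⟩ : ∃ g : G, g = g₂ * g₁ := ⟨_, rfl⟩
  have hQeq : Cfsg.Agent.Lib.Helper33.cj g₂ (Q₀.map (MulAut.conj g₁).toMonoidHom) =
      Q₀.map (MulAut.conj g).toMonoidHom := by
    rw [hg]
    exact (Cfsg.Agent.Lib.Helper33.cj_mul g₂ g₁ Q₀).symm
  rw [hQeq] at hle hfn
  have hL₃ := hL₂.map (MulAut.conj g).toMonoidHom (MulAut.conj g).injective
  rw [← Cfsg.Agent.Lib.Helper85.normalizer_map_conj] at hL₃
  refine ⟨Q₀.map (MulAut.conj g).toMonoidHom, ?_, ?_, ?_⟩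
  · exact (Cfsg.Agent.Lib.Helper85.groupFusionSystem_isFullyNormalized_iff P hle).mpr
      ⟨hfn.sylIn.toSylow, hfn.sylIn.coe_toSylow⟩
  · refine ⟨hle, fun Q' hQ' => ?_⟩
    obtain ⟨-, hQ'P, k, hk⟩ := Cfsg.Agent.Lib.Helper85.groupFusionSystem_isConj_iff.mp hQ'
    have hc : PCentric p Q' := by
      rw [← hk]
      exact (hQ₀c.map_conj g).map_conj k
    exact hc (centralizerIn (P : Subgroup G) Q')
      (P.isPGroup'.to_le (inf_le_left : (P : Subgroup G) ⊓ Subgroup.centralizer (Q' : Set G) ≤ P))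
      (inf_le_right : (P : Subgroup G) ⊓ Subgroup.centralizer (Q' : Set G) ≤ _)
  · exact involvesQd_quotient_of_locNat hp _ _ (hQ₀p.map _) (Subgroup.map_mono hTQ₀) _ hL₃

end Cfsg.Agent.Lib.Helper11
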