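import Mathlib
import Cfsg.Agent.Lib.Helper11.QuadPairGen
import Cfsg.Agent.Lib.Helper11.NatModule

/-!
# The pair lemma with natural module output (helper11)

Refinement of `quadPair_gen`: in the irreducible case the module is the natural module of a
subgroup mapping onto `SL₂(p)`; in general, either the group acts as a `p`-group or the module has
a natural `SL₂(p)`-section (`HasNaturalSection`).
-/

set_option autoImplicit false
set_option linter.style.haveILetI false
set_option linter.deprecated false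

namespace Cfsg.Agent.Lib.Helper11

open Module

universe u v

section QuadPairNat

variable {p : ℕ} [hp : Fact p.Prime] {M : Type v} [AddCommGroup M] [Module (ZMod p) M]
  {H : Type u} [Group H] (ρ : H →* Module.End (ZMod p) M)

/-- Irreducible case, `xy + yx ≠ 0`: the module is `2`-dimensional over a field `K'` of
characteristic `p`, with `a`, `b` acting as a pair of opposite transvections in suitable
coordinates. -/
theorem exists_twoDim_coords [Finite M] [Finite H] (a b : H)
    (hgen : Subgroup.closure ({a, b} : Set H) = ⊤)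
    (hx : (ρ a - 1) * (ρ a - 1) = 0) (hy : (ρ b - 1) * (ρ b - 1) = 0)
    (hs : (ρ a - 1) * (ρ b - 1) + (ρ b - 1) * (ρ a - 1) ≠ 0)
    (hirr : ∀ N : Submodule (ZMod p) M, InvSub ρ N → N = ⊥ ∨ N = ⊤) :
    ∃ (K' : Type v) (_ : Field K') (_ : CharP K' p) (ψ : H →* Matrix (Fin 2) (Fin 2) K') (s : K')
      (coord : M ≃+ (Fin 2 → K')), s ≠ 0 ∧ ψ a = !![1, s; 0, 1] ∧ ψ b = !![1, 0; 1, 1] ∧
      ∀ (h : H) (m : M), coord (ρ h m) = (ψ h).mulVec (coord m) := by
  classical
  obtain ⟨x, hxdef⟩ : ∃ x, x = ρ a - 1 := ⟨_, rfl⟩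
  obtain ⟨y, hydef⟩ : ∃ y, y = ρ b - 1 := ⟨_, rfl⟩
  rw [← hxdef] at hx hs
  rw [← hydef] at hy hs
  obtain ⟨s, hsdef⟩ : ∃ s, s = x * y + y * x := ⟨_, rfl⟩
  rw [← hsdef] at hs
  have hρa : ρ a = x + 1 := by rw [hxdef, sub_add_cancel]
  have hρb : ρ b = y + 1 := by rw [hydef, sub_add_cancel]
  have hsx : s * x = x * s := by
    rw [hsdef, add_mul, mul_add, mul_assoc y x x, hx, mul_zero, add_zero, ← mul_assoc x x y, hx,
      zero_mul, zero_add, mul_assoc]
  have hsy : s * y = y * s := by
    rw [hsdef, add_mul, mul_add, mul_assoc x y y, hy, mul_zero, zero_add, ← mul_assoc y y x, hy,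
      zero_mul, add_zero, mul_assoc]
  have hsa : s * ρ a = ρ a * s := by rw [hρa, mul_add, add_mul, hsx, mul_one, one_mul]
  have hsb : s * ρ b = ρ b * s := by rw [hρb, mul_add, add_mul, hsy, mul_one, one_mul]
  have hsc : ∀ h : H, s * ρ h = ρ h * s := commute_of_closure ρ a b hgen s hsa hsb
  set K' := Subring.closure ({s} : Set (Module.End (ZMod p) M)) with hK'
  have hK'c : ∀ k ∈ K', ∀ h : H, k * ρ h = ρ h * k := by
    intro k hk h
    have hle : K' ≤ Subring.centralizer {ρ h} := by
      rw [hK', Subring.closure_le]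
      intro z hz
      rw [Set.mem_singleton_iff] at hz
      subst hz
      rw [SetLike.mem_coe, Subring.mem_centralizer_iff]
      intro g hg
      rw [Set.mem_singleton_iff] at hg
      subst hg
      exact (hsc h).symm
    exact (Subring.mem_centralizer_iff.mp (hle hk) (ρ h) rfl).symm
  have hinj : ∀ k ∈ K', k ≠ 0 → Function.Injective k := by
    intro k hk hk0
    have hinv := invSub_ker_of_commute ρ k (hK'c k hk)
    rcases hirr _ hinv with h | h
    · exact LinearMap.ker_eq_bot.mp h
    · exact absurd (LinearMap.ker_eq_top.mp h) hk0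
  -- `x ≠ 0`, hence a vector `v ≠ 0` with `x v = 0`
  have hx0 : x ≠ 0 := by
    intro h0
    apply hs
    rw [hsdef, h0, zero_mul, mul_zero, add_zero]
  obtain ⟨m₀, hm₀⟩ : ∃ m : M, x m ≠ 0 := by
    by_contra hcon
    push Not at hcon
    apply hx0
    ext m
    rw [hcon m, LinearMap.zero_apply]
  have hxx : ∀ m, x (x m) = 0 := fun m => by
    have := DFunLike.congr_fun hx m
    simpa using this
  have hyy : ∀ m, y (y m) = 0 := fun m => by
    have := DFunLike.congr_fun hy m
    simpa using this
  set v := x m₀ with hvdef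
  have hxv : x v = 0 := hxx m₀
  set w := y v with hwdef
  have hyw : y w = 0 := hyy v
  have hxw : x w = s v := by
    rw [hsdef, LinearMap.add_apply, Module.End.mul_apply, Module.End.mul_apply, hxv, map_zero,
      add_zero]
  have hav : ρ a v = v := by rw [hρa, LinearMap.add_apply, hxv, zero_add, Module.End.one_apply]
  have haw : ρ a w = w + s v := by
    rw [hρa, LinearMap.add_apply, hxw, Module.End.one_apply, add_comm]
  have hbv : ρ b v = v + w := by rw [hρb, LinearMap.add_apply, Module.End.one_apply, add_comm]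
  have hbw : ρ b w = w := by rw [hρb, LinearMap.add_apply, hyw, zero_add, Module.End.one_apply]
  -- the field structure
  letI : CommRing K' := Subring.closureCommRingOfComm (by
    intro z hz z' hz'
    rw [Set.mem_singleton_iff] at hz hz'
    rw [hz, hz'])
  haveI : Finite (Module.End (ZMod p) M) :=
    Finite.of_injective (fun f => (f : M → M)) DFunLike.coe_injective
  haveI : Finite K' := inferInstance
  haveI : Nontrivial M := ⟨⟨v, 0, hm₀⟩⟩
  haveI : Nontrivial K' := inferInstance
  haveI : NoZeroDivisors K' := by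
    constructor
    intro k₁ k₂ h
    by_cases h1 : k₁ = 0
    · exact Or.inl h1
    · right
      have hinj' := hinj k₁.1 k₁.2 (fun h0 => h1 (Subtype.ext h0))
      apply Subtype.ext
      ext m
      apply hinj'
      have := congrArg (fun k : K' => (k : Module.End (ZMod p) M) m) h
      simpa using this
  haveI : IsDomain K' := NoZeroDivisors.to_isDomain K'
  letI : Field K' := (Finite.isField_of_domain K').toField
  have hsmul : ∀ (k : K') (m : M), k • m = (k : Module.End (ZMod p) M) m := fun k m => rfl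
  set σ : K' := ⟨s, Subring.subset_closure rfl⟩ with hσdef
  have hσ : σ ≠ 0 := by
    intro h0
    apply hs
    have := congrArg Subtype.val h0
    exact this
  have hσv : σ • v = s v := rfl
  have hlin : ∀ (h : H) (k : K') (m : M), ρ h (k • m) = k • ρ h m := by
    intro h k m
    rw [hsmul, hsmul]
    have := DFunLike.congr_fun (hK'c k.1 k.2 h) m
    simp only [Module.End.mul_apply] at this
    exact this.symm
  let ρK : H →* Module.End K' M :=
    { toFun := fun h =>
        { toFun := ρ h
          map_add' := map_add _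
          map_smul' := fun k m => hlin h k m }
      map_one' := by
        ext m
        show ρ 1 m = m
        rw [map_one, Module.End.one_apply]
      map_mul' := by
        intro g h
        ext m
        show ρ (g * h) m = ρ g (ρ h m)
        rw [map_mul, Module.End.mul_apply] }
  have hρK : ∀ (h : H) (m : M), ρK h m = ρ h m := fun h m => rfl
  have hsm : ∀ k : K', k • v = 0 → k = 0 := by
    intro k hk
    by_contra hk0
    have hinj' := hinj k.1 k.2 (fun h0 => hk0 (Subtype.ext h0))
    apply hm₀
    apply hinj'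
    rw [map_zero]
    exact hk
  have hxk : ∀ (k : K') (m : M), x (k • m) = k • x m := by
    intro k m
    rw [hxdef, LinearMap.sub_apply, LinearMap.sub_apply, hlin, Module.End.one_apply,
      Module.End.one_apply, smul_sub]
  have hli : LinearIndependent K' ![v, w] := by
    rw [LinearIndependent.pair_iff]
    intro α β h
    have h1 : (β * σ) • v = 0 := by
      have h2 := congrArg x h
      rw [map_add, hxk, hxk, hxv, smul_zero, zero_add, hxw, map_zero] at h2
      rw [mul_smul, hσv]
      exact h2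
    have hβ : β = 0 := by
      rcases mul_eq_zero.mp (hsm _ h1) with h | h
      · exact h
      · exact absurd h hσ
    rw [hβ, zero_smul, add_zero] at h
    exact ⟨hsm _ h, hβ⟩
  have hsp : ⊤ ≤ Submodule.span K' (Set.range ![v, w]) := by
    let N' : AddSubgroup M :=
      { carrier := {m | ∃ α β : K', m = α • v + β • w}
        add_mem' := by
          rintro _ _ ⟨α, β, rfl⟩ ⟨α', β', rfl⟩
          exact ⟨α + α', β + β', by module⟩
        zero_mem' := ⟨0, 0, by rw [zero_smul, zero_smul, add_zero]⟩
        neg_mem' := by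
          rintro _ ⟨α, β, rfl⟩
          exact ⟨-α, -β, by module⟩ }
    have hN'a : ∀ m ∈ AddSubgroup.toZModSubmodule p N', ρ a m ∈ AddSubgroup.toZModSubmodule p N' := by
      rintro _ ⟨α, β, rfl⟩
      refine ⟨α + β * σ, β, ?_⟩
      rw [map_add, hlin, hlin, hav, haw, ← hσv]
      module
    have hN'b : ∀ m ∈ AddSubgroup.toZModSubmodule p N', ρ b m ∈ AddSubgroup.toZModSubmodule p N' := by
      rintro _ ⟨α, β, rfl⟩
      refine ⟨α, α + β, ?_⟩
      rw [map_add, hlin, hlin, hbv, hbw]
      module
    have hNinv := invSub_of_gens ρ a b hgen _ hN'a hN'b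
    have hvN : v ∈ AddSubgroup.toZModSubmodule p N' := ⟨1, 0, by rw [one_smul, zero_smul, add_zero]⟩
    have hNtop : AddSubgroup.toZModSubmodule p N' = ⊤ := by
      rcases hirr _ hNinv with h | h
      · rw [h, Submodule.mem_bot] at hvN
        exact absurd hvN hm₀
      · exact h
    intro m _
    have hm : m ∈ AddSubgroup.toZModSubmodule p N' := by rw [hNtop]; exact Submodule.mem_top
    obtain ⟨α, β, rfl⟩ := hm
    exact Submodule.add_mem _ (Submodule.smul_mem _ _ (Submodule.subset_span ⟨0, rfl⟩))
      (Submodule.smul_mem _ _ (Submodule.subset_span ⟨1, rfl⟩))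
  set bs := Module.Basis.mk hli hsp with hbs
  have hb0 : bs 0 = v := by rw [hbs, Module.Basis.mk_apply]; rfl
  have hb1 : bs 1 = w := by rw [hbs, Module.Basis.mk_apply]; rfl
  haveI : CharP K' p := by
    rw [CharP.charP_iff_prime_eq_zero hp.out]
    apply Subtype.ext
    apply LinearMap.ext
    intro m
    show ((p : K') : Module.End (ZMod p) M) m = 0
    have h1 : ((p : K') : Module.End (ZMod p) M) = (p : Module.End (ZMod p) M) := by
      simp
    rw [h1, Module.End.natCast_apply, ZModModule.char_nsmul_eq_zero p]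
  refine ⟨K', inferInstance, inferInstance,
    (LinearMap.toMatrixAlgEquiv bs).toAlgHom.toRingHom.toMonoidHom.comp ρK, σ,
    bs.equivFun.toAddEquiv, hσ, ?_, ?_, ?_⟩
  · apply Matrix.ext
    intro i j
    rw [MonoidHom.comp_apply]
    show (LinearMap.toMatrixAlgEquiv bs) (ρK a) i j = _
    rw [LinearMap.toMatrixAlgEquiv_apply]
    have e0 : ρK a (bs 0) = bs 0 := by rw [hb0, hρK, hav]
    have e1 : ρK a (bs 1) = bs 1 + σ • bs 0 := by rw [hb1, hb0, hρK, haw, hσv]
    fin_cases i <;> fin_cases j <;> simp [e0, e1]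
  · apply Matrix.ext
    intro i j
    rw [MonoidHom.comp_apply]
    show (LinearMap.toMatrixAlgEquiv bs) (ρK b) i j = _
    rw [LinearMap.toMatrixAlgEquiv_apply]
    have e0 : ρK b (bs 0) = bs 0 + bs 1 := by rw [hb0, hb1, hρK, hbv]
    have e1 : ρK b (bs 1) = bs 1 := by rw [hb1, hρK, hbw]
    fin_cases i <;> fin_cases j <;> simp [e0, e1]
  · intro h m
    rw [MonoidHom.comp_apply]
    show bs.equivFun (ρK h m) = (LinearMap.toMatrix bs bs (ρK h)).mulVec (bs.equivFun m)
    rw [Module.Basis.equivFun_apply, Module.Basis.equivFun_apply, LinearMap.toMatrix_mulVec_repr]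

/-- `ρ` has a natural `SL₂(p)`-section: a subgroup `D` mapping onto `SL₂(p)` (via `f`), a
`D`-invariant submodule `N₁` and a linear map `ι : 𝔽_p² → M`, injective modulo `N₁` and
`D`-equivariant modulo `N₁` for the natural action through `f`. -/
def HasNaturalSection : Prop :=
  ∃ (D : Subgroup H) (f : D →* Matrix.SpecialLinearGroup (Fin 2) (ZMod p))
    (N₁ : Submodule (ZMod p) M) (ι : (Fin 2 → ZMod p) →ₗ[ZMod p] M),
    Function.Surjective f ∧ (∀ d : D, ∀ n ∈ N₁, ρ d n ∈ N₁) ∧ (∀ x, ι x ∈ N₁ → x = 0) ∧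
    ∀ (d : D) (x : Fin 2 → ZMod p),
      ρ d (ι x) - ι ((f d : Matrix (Fin 2) (Fin 2) (ZMod p)).mulVec x) ∈ N₁

theorem hasNaturalSection_of_res (N : Submodule (ZMod p) M) (hN : InvSub ρ N)
    (h : HasNaturalSection (resHom ρ N hN)) : HasNaturalSection ρ := by
  obtain ⟨D, f, N₁, ι, hf, hinv, hinj, heq⟩ := h
  refine ⟨D, f, N₁.map N.subtype, N.subtype.comp ι, hf, ?_, ?_, ?_⟩
  · rintro d _ ⟨n, hn, rfl⟩
    exact ⟨resHom ρ N hN d n, hinv d n hn, rfl⟩
  · intro x hx
    obtain ⟨n, hn, hnx⟩ := hx
    apply hinj x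
    have : n = ι x := Subtype.ext hnx
    rw [← this]
    exact hn
  · intro d x
    exact ⟨resHom ρ N hN d (ι x) - ι ((f d : Matrix (Fin 2) (Fin 2) (ZMod p)).mulVec x),
      heq d x, rfl⟩

theorem hasNaturalSection_of_quot (N : Submodule (ZMod p) M) (hN : InvSub ρ N)
    (h : HasNaturalSection (quotHom ρ N hN)) : HasNaturalSection ρ := by
  obtain ⟨D, f, N₁, ι, hf, hinv, hinj, heq⟩ := h
  obtain ⟨m₀, hm₀⟩ := Submodule.Quotient.mk_surjective N (ι (Pi.single 0 1))
  obtain ⟨m₁, hm₁⟩ := Submodule.Quotient.mk_surjective N (ι (Pi.single 1 1))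
  obtain ⟨ι', hι'⟩ : ∃ ι' : (Fin 2 → ZMod p) →ₗ[ZMod p] M, ι' =
      (LinearMap.proj (R := ZMod p) (φ := fun _ : Fin 2 => ZMod p) 0).smulRight m₀ +
      (LinearMap.proj (R := ZMod p) (φ := fun _ : Fin 2 => ZMod p) 1).smulRight m₁ := ⟨_, rfl⟩
  have hι'app : ∀ x, ι' x = x 0 • m₀ + x 1 • m₁ := by
    intro x
    rw [hι']
    rfl
  have hmk : ∀ x, (Submodule.Quotient.mk (ι' x) : M ⧸ N) = ι x := by
    intro x
    rw [hι'app, Submodule.Quotient.mk_add, Submodule.Quotient.mk_smul, Submodule.Quotient.mk_smul,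
      hm₀, hm₁, ← map_smul, ← map_smul, ← map_add]
    congr 1
    funext i
    fin_cases i <;> simp
  refine ⟨D, f, N₁.comap N.mkQ, ι', hf, ?_, ?_, ?_⟩
  · intro d n hn
    rw [Submodule.mem_comap] at hn ⊢
    exact hinv d _ hn
  · intro x hx
    rw [Submodule.mem_comap, Submodule.mkQ_apply, hmk] at hx
    exact hinj x hx
  · intro d x
    rw [Submodule.mem_comap, Submodule.mkQ_apply, Submodule.Quotient.mk_sub, hmk,
      ← quotHom_apply ρ N hN, hmk]
    exact heq d x

end QuadPairNat

end Cfsg.Agent.Lib.Helper11
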