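import Mathlib
import Cfsg.Agent.Lib.Helper11.QuadPairNat
import Cfsg.Agent.Lib.Helper11.NotStableSL2c

/-!
# The pair lemma with natural module output, II (helper11)
-/

set_option autoImplicit false
set_option linter.style.haveILetI false

namespace Cfsg.Agent.Lib.Helper11

open Module Cfsg.Agent.Lib.Helper41

universe u v

section QuadPairNat2

variable {p : ℕ} [hp : Fact p.Prime] {M : Type v} [AddCommGroup M] [Module (ZMod p) M]
  {H : Type u} [Group H] (ρ : H →* Module.End (ZMod p) M)

/-- From two-dimensional coordinates with a transvection pair to a natural section. -/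
theorem hasNaturalSection_of_coords [Finite H] (hp2 : p ≠ 2) (a b : H)
    (hgen : Subgroup.closure ({a, b} : Set H) = ⊤)
    (K' : Type v) [Field K'] [CharP K' p] (ψ : H →* Matrix (Fin 2) (Fin 2) K') (s : K')
    (coord : M ≃+ (Fin 2 → K')) (hs : s ≠ 0) (ha : ψ a = !![1, s; 0, 1])
    (hb : ψ b = !![1, 0; 1, 1])
    (hcoord : ∀ (h : H) (m : M), coord (ρ h m) = (ψ h).mulVec (coord m)) :
    HasNaturalSection ρ := by
  classical
  obtain ⟨ψ', hψ', K₁, hK₁, ⟨e⟩⟩ := exists_SL2_of_transvection_pair hp2 a b hgen K' ψ s hs ha hb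
  obtain ⟨C, hCdet, hC⟩ := exists_natural_form p K₁ e
  obtain ⟨κ, hκ⟩ : ∃ κ : ZMod p →+* K', κ = ZMod.castHom (dvd_refl p) K' := ⟨_, rfl⟩
  have hκinj : Function.Injective κ := RingHom.injective κ
  -- the subgroup and the surjection
  obtain ⟨f, hfdef⟩ : ∃ f : ↥(K₁.comap ψ') →* Matrix.SpecialLinearGroup (Fin 2) (ZMod p),
      f = e.toMonoidHom.comp (ψ'.subgroupComap K₁) := ⟨_, rfl⟩
  have hfs : Function.Surjective f := by
    intro t
    obtain ⟨w, hw⟩ := hK₁ (e.symm t).2
    refine ⟨⟨w, by rw [Subgroup.mem_comap, hw]; exact (e.symm t).2⟩, ?_⟩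
    rw [hfdef]
    simp only [MonoidHom.coe_comp, MulEquiv.coe_toMonoidHom, Function.comp_apply]
    have : ψ'.subgroupComap K₁ ⟨w, by rw [Subgroup.mem_comap, hw]; exact (e.symm t).2⟩ =
        e.symm t := Subtype.ext hw
    rw [this, MulEquiv.apply_symm_apply]
  have hfC : ∀ d : ↥(K₁.comap ψ'), ψ d * C = C * (f d : Matrix (Fin 2) (Fin 2) (ZMod p)).map κ := by
    intro d
    have h1 := hC (ψ'.subgroupComap K₁ d)
    have h2 : (((ψ'.subgroupComap K₁ d : ↥K₁) : Matrix.SpecialLinearGroup (Fin 2) K') :
        Matrix (Fin 2) (Fin 2) K') = ψ d := hψ' d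
    rw [h2] at h1
    rw [h1, hfdef, hκ]
    rfl
  -- the embedding of `𝔽_p²`
  obtain ⟨ι₀, hι₀⟩ : ∃ ι₀ : (Fin 2 → ZMod p) →+ M, ∀ x, coord (ι₀ x) = C.mulVec (κ ∘ x) := by
    refine ⟨{ toFun := fun x => coord.symm (C.mulVec (κ ∘ x))
              map_zero' := ?_
              map_add' := ?_ }, ?_⟩
    · have : κ ∘ (0 : Fin 2 → ZMod p) = 0 := by
        funext i; simp
      rw [this, Matrix.mulVec_zero, map_zero]
    · intro x y
      have : κ ∘ (x + y) = κ ∘ x + κ ∘ y := by
        funext i; simp
      rw [this, Matrix.mulVec_add, map_add]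
    · intro x
      exact coord.apply_symm_apply _
  refine ⟨K₁.comap ψ', f, ⊥, AddMonoidHom.toZModLinearMap p ι₀, hfs, ?_, ?_, ?_⟩
  · intro d n hn
    rw [Submodule.mem_bot] at hn ⊢
    rw [hn, map_zero]
  · intro x hx
    rw [Submodule.mem_bot] at hx
    have h1 : coord (ι₀ x) = 0 := by
      have : ι₀ x = 0 := hx
      rw [this, map_zero]
    rw [hι₀] at h1
    have h2 := Matrix.eq_zero_of_mulVec_eq_zero hCdet h1
    funext i
    have h3 := congrFun h2 i
    simp only [Function.comp_apply, Pi.zero_apply] at h3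
    rw [← map_zero κ] at h3
    exact hκinj h3
  · intro d x
    rw [Submodule.mem_bot, sub_eq_zero]
    show ρ d (ι₀ x) = ι₀ ((f d : Matrix (Fin 2) (Fin 2) (ZMod p)).mulVec x)
    apply coord.injective
    rw [hcoord, hι₀, hι₀, Matrix.mulVec_mulVec, hfC, ← Matrix.mulVec_mulVec]
    congr 1
    funext i
    rw [Function.comp_apply, RingHom.map_mulVec]

end QuadPairNat2

section QuadPairNatMain

variable {p : ℕ} [hp : Fact p.Prime] {H : Type u} [Group H]

/-- **Pair lemma, natural module form.** A finite group generated by two elements acting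
quadratically on a finite `𝔽_p`-module (`p` odd) either acts as a `p`-group or the module has a
natural `SL₂(p)`-section. -/
theorem quadPair_nat [Finite H] (hp2 : p ≠ 2) (a b : H)
    (hgen : Subgroup.closure ({a, b} : Set H) = ⊤) :
    ∀ (n : ℕ) (M : Type v) [AddCommGroup M] [Module (ZMod p) M] [Finite M]
      (ρ : H →* Module.End (ZMod p) M), Nat.card M = n → QuadEnd (ρ a) → QuadEnd (ρ b) →
      ¬ HasNaturalSection ρ → ∀ h : H, ∃ k : ℕ, ρ (h ^ (p ^ k)) = 1 := by
  intro n
  induction n using Nat.strong_induction_on with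
  | _ n ih =>
    intro M _ _ _ ρ hn ha hb hnat h
    by_cases hirr : ∀ N : Submodule (ZMod p) M, InvSub ρ N → N = ⊥ ∨ N = ⊤
    · refine ⟨0, ?_⟩
      rw [pow_zero, pow_one]
      by_cases hs : (ρ a - 1) * (ρ b - 1) + (ρ b - 1) * (ρ a - 1) = 0
      · exact trivial_of_irreducible_of_anticomm ρ a b hgen ((quadEnd_iff _).mp ha)
          ((quadEnd_iff _).mp hb) hs hirr h
      · exfalso
        apply hnat
        obtain ⟨K', _, _, ψ, s, coord, hs0, hψa, hψb, hcoord⟩ :=
          exists_twoDim_coords ρ a b hgen ((quadEnd_iff _).mp ha) ((quadEnd_iff _).mp hb) hs hirr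
        exact hasNaturalSection_of_coords ρ hp2 a b hgen K' ψ s coord hs0 hψa hψb hcoord
    · push Not at hirr
      obtain ⟨N, hN, hNbot, hNtop⟩ := hirr
      have hcard := Submodule.card_eq_card_quotient_mul_card N
      haveI : Finite (M ⧸ N) := Finite.of_surjective _ (Submodule.Quotient.mk_surjective N)
      have hN1 : 1 < Nat.card N := by
        haveI : Nontrivial N := (Submodule.nontrivial_iff_ne_bot).mpr hNbot
        exact Finite.one_lt_card
      have hQ1 : 1 < Nat.card (M ⧸ N) := by
        haveI : Nontrivial (M ⧸ N) := Submodule.Quotient.nontrivial_iff.mpr hNtop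
        exact Finite.one_lt_card
      have hcN : Nat.card N < n := by
        rw [← hn, hcard]
        nlinarith
      have hcQ : Nat.card (M ⧸ N) < n := by
        rw [← hn, hcard]
        nlinarith
      have haN : QuadEnd (resHom ρ N hN a) := by
        intro m
        apply Subtype.ext
        exact ha m
      have hbN : QuadEnd (resHom ρ N hN b) := by
        intro m
        apply Subtype.ext
        exact hb m
      have haQ : QuadEnd (quotHom ρ N hN a) := by
        intro m
        induction m using Submodule.Quotient.induction_on with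
        | H m =>
          rw [quotHom_apply, quotHom_apply, ← Submodule.Quotient.mk_add, ← Submodule.Quotient.mk_add,
            ha m]
      have hbQ : QuadEnd (quotHom ρ N hN b) := by
        intro m
        induction m using Submodule.Quotient.induction_on with
        | H m =>
          rw [quotHom_apply, quotHom_apply, ← Submodule.Quotient.mk_add, ← Submodule.Quotient.mk_add,
            hb m]
      obtain ⟨k₁, hk₁⟩ := ih _ hcN ↥N (resHom ρ N hN) rfl haN hbN
        (fun hh => hnat (hasNaturalSection_of_res ρ N hN hh)) h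
      obtain ⟨k₂, hk₂⟩ := ih _ hcQ (M ⧸ N) (quotHom ρ N hN) rfl haQ hbQ
        (fun hh => hnat (hasNaturalSection_of_quot ρ N hN hh)) h
      refine ⟨k₁ + k₂ + 1, ?_⟩
      obtain ⟨g, hg⟩ : ∃ g : H, g = h ^ (p ^ (k₁ + k₂)) := ⟨_, rfl⟩
      have hgN : resHom ρ N hN g = 1 := by
        rw [hg, pow_add, pow_mul, map_pow, hk₁, one_pow]
      have hgQ : quotHom ρ N hN g = 1 := by
        rw [hg, pow_add, mul_comm, pow_mul, map_pow, hk₂, one_pow]
      have hg1 : ∀ m ∈ N, ρ g m = m := by
        intro m hm
        have := congrArg Subtype.val (DFunLike.congr_fun hgN ⟨m, hm⟩)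
        exact this
      have hg2 : ∀ m : M, ρ g m - m ∈ N := by
        intro m
        have := DFunLike.congr_fun hgQ (Submodule.Quotient.mk m)
        rw [quotHom_apply, Module.End.one_apply] at this
        exact (Submodule.Quotient.eq N).mp this
      have hfin : ρ (g ^ p) = 1 := by
        rw [map_pow]
        exact pow_p_eq_one_of_trivial (ρ g) N hg1 hg2
      rw [pow_succ, pow_mul, ← hg]
      exact hfin

end QuadPairNatMain

end Cfsg.Agent.Lib.Helper11
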