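import Mathlib
import Cfsg.Agent.Lib.Helper11.QuadPairNat2
import Cfsg.Agent.Lib.Helper11.QdSection3

/-!
# `Qd(p)`-free groups are `p`-stable, `p` odd (helper11)
-/

set_option autoImplicit false
set_option linter.style.haveILetI false

namespace Cfsg.Agent.Lib.Helper11

open Cfsg
open scoped commutatorElement

universe u v

section eps

variable {p : ℕ} [hp : Fact p.Prime] {M : Type v} [AddCommGroup M] [Module (ZMod p) M]
  {H : Type u} [Group H] (ρ : H →* Module.End (ZMod p) M)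

/-- the projection form of a natural section -/
theorem exists_eps_of_natural (D : Subgroup H)
    (f : D →* Matrix.SpecialLinearGroup (Fin 2) (ZMod p))
    (N₁ : Submodule (ZMod p) M) (ι : (Fin 2 → ZMod p) →ₗ[ZMod p] M)
    (hinv : ∀ d : D, ∀ n ∈ N₁, ρ d n ∈ N₁) (hinj : ∀ x, ι x ∈ N₁ → x = 0)
    (heq : ∀ (d : D) (x : Fin 2 → ZMod p),
      ρ d (ι x) - ι ((f d : Matrix (Fin 2) (Fin 2) (ZMod p)).mulVec x) ∈ N₁) :
    ∃ ε : M →ₗ[ZMod p] (Fin 2 → ZMod p), (∀ x, ε (ι x) = x) ∧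
      ∀ d : D, ∀ n ∈ N₁ ⊔ LinearMap.range ι, ρ d n ∈ N₁ ⊔ LinearMap.range ι ∧
        ε (ρ d n) = (f d : Matrix (Fin 2) (Fin 2) (ZMod p)).mulVec (ε n) := by
  have hker : LinearMap.ker (N₁.mkQ.comp ι) = ⊥ := by
    rw [LinearMap.ker_eq_bot']
    intro x hx
    rw [LinearMap.comp_apply, Submodule.mkQ_apply, Submodule.Quotient.mk_eq_zero] at hx
    exact hinj x hx
  obtain ⟨g, hg⟩ := LinearMap.exists_leftInverse_of_injective (N₁.mkQ.comp ι) hker
  have hgι : ∀ x, g (Submodule.Quotient.mk (ι x)) = x := by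
    intro x
    have := DFunLike.congr_fun hg x
    exact this
  have hgN : ∀ n ∈ N₁, g (Submodule.Quotient.mk n) = 0 := by
    intro n hn
    rw [(Submodule.Quotient.mk_eq_zero N₁).mpr hn, map_zero]
  refine ⟨g.comp N₁.mkQ, fun x => hgι x, ?_⟩
  intro d n hn
  obtain ⟨n₁, hn₁, y, ⟨x, rfl⟩, rfl⟩ := Submodule.mem_sup.mp hn
  have e1 : ρ d (n₁ + ι x) = (ρ d n₁ + (ρ d (ι x) -
      ι ((f d : Matrix (Fin 2) (Fin 2) (ZMod p)).mulVec x))) +
      ι ((f d : Matrix (Fin 2) (Fin 2) (ZMod p)).mulVec x) := by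
    rw [map_add]; abel
  have hmem : ρ d n₁ + (ρ d (ι x) - ι ((f d : Matrix (Fin 2) (Fin 2) (ZMod p)).mulVec x)) ∈ N₁ :=
    N₁.add_mem (hinv d n₁ hn₁) (heq d x)
  constructor
  · rw [e1]
    exact Submodule.add_mem_sup hmem (LinearMap.mem_range_self ι _)
  · rw [e1]
    show g (Submodule.Quotient.mk ((ρ d n₁ + (ρ d (ι x) -
      ι ((f d : Matrix (Fin 2) (Fin 2) (ZMod p)).mulVec x))) +
      ι ((f d : Matrix (Fin 2) (Fin 2) (ZMod p)).mulVec x))) =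
      (f d : Matrix (Fin 2) (Fin 2) (ZMod p)).mulVec (g (Submodule.Quotient.mk (n₁ + ι x)))
    rw [Submodule.Quotient.mk_add, map_add, hgN _ hmem, hgι, zero_add,
      Submodule.Quotient.mk_add, map_add, hgN _ hn₁, hgι, zero_add]

end eps

/-- **From a natural section to `Qd(p)`**: `A` an abelian group embedded in `Γ` (via `j`) on which
`Γ` acts by conjugation (`φ`); if the restriction to a subgroup `H₀` has a natural section, then
`Qd(p)` is involved in `Γ`. -/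
theorem involvesQd_of_hasNaturalSection {Γ : Type u} [Group Γ] [Finite Γ] {p : ℕ} [Fact p.Prime]
    (hp2 : p ≠ 2) {A : Type v} [CommGroup A] [Module (ZMod p) (Additive A)]
    (j : A →* Γ) (hj : Function.Injective j) (φ : Γ →* MulAut A)
    (hφ : ∀ g a, j (φ g a) = g * j a * g⁻¹) (H₀ : Subgroup Γ)
    (h : HasNaturalSection (linHom p (φ.comp H₀.subtype))) : InvolvesGrp ↥(Cfsg.qd p) Γ := by
  classical
  obtain ⟨D, f, N₁, ι, hf, hinv, hinj, heq⟩ := h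
  obtain ⟨ε, hει, hε⟩ := exists_eps_of_natural _ D f N₁ ι hinv hinj heq
  obtain ⟨N₂, hN₂⟩ : ∃ N₂ : Submodule (ZMod p) (Additive A), N₂ = N₁ ⊔ LinearMap.range ι :=
    ⟨_, rfl⟩
  rw [← hN₂] at hε
  let WA : Subgroup A :=
    { carrier := {a | Additive.ofMul a ∈ N₂}
      one_mem' := N₂.zero_mem
      mul_mem' := fun ha hb => N₂.add_mem ha hb
      inv_mem' := fun ha => N₂.neg_mem ha }
  have hWA : ∀ a : A, a ∈ WA ↔ Additive.ofMul a ∈ N₂ := fun _ => Iff.rfl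
  have hρ : ∀ (d : ↥H₀) (a : A), linHom p (φ.comp H₀.subtype) d (Additive.ofMul a) =
      Additive.ofMul (φ (d : Γ) a) := fun _ _ => rfl
  -- the data inside `Γ`
  let eD := D.equivMapOfInjective H₀.subtype H₀.subtype_injective
  let eW := WA.equivMapOfInjective j hj
  have heD : ∀ d₀ : ↥D, ((eD d₀ : ↥(D.map H₀.subtype)) : Γ) = ((d₀ : ↥H₀) : Γ) := fun _ => rfl
  have heW : ∀ a : ↥WA, ((eW a : ↥(WA.map j)) : Γ) = j a := fun _ => rfl
  have hDW : ∀ d ∈ D.map H₀.subtype, ∀ w ∈ WA.map j, d * w * d⁻¹ ∈ WA.map j := by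
    rintro _ ⟨d₀, hd₀, rfl⟩ _ ⟨a, ha, rfl⟩
    refine ⟨φ (d₀ : Γ) a, ?_, hφ _ _⟩
    rw [SetLike.mem_coe, hWA, ← hρ]
    exact (hε ⟨d₀, hd₀⟩ _ ha).1
  have hWc : ∀ x ∈ WA.map j, ∀ y ∈ WA.map j, x * y = y * x := by
    rintro _ ⟨a, -, rfl⟩ _ ⟨b, -, rfl⟩
    rw [← map_mul, ← map_mul, mul_comm]
  obtain ⟨εW, hεW⟩ : ∃ εW : ↥(WA.map j) →* Multiplicative (Fin 2 → ZMod p),
      ∀ a : ↥WA, εW (eW a) = Multiplicative.ofAdd (ε (Additive.ofMul (a : A))) := by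
    refine ⟨(AddMonoidHom.toMultiplicativeRight ε.toAddMonoidHom).comp
      (WA.subtype.comp eW.symm.toMonoidHom), ?_⟩
    intro a
    simp only [MonoidHom.comp_apply, MulEquiv.coe_toMonoidHom, MulEquiv.symm_apply_apply]
    rfl
  refine involvesQd_of_natural hp2 (D.map H₀.subtype) (f.comp eD.symm.toMonoidHom) ?_
    (WA.map j) hWc hDW εW ?_ ?_
  · intro t
    obtain ⟨d, hd⟩ := hf t
    refine ⟨eD d, ?_⟩
    simp only [MonoidHom.comp_apply, MulEquiv.coe_toMonoidHom, MulEquiv.symm_apply_apply]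
    exact hd
  · intro c
    have hmem : (ι c.toAdd).toMul ∈ WA := by
      rw [hWA, hN₂]
      exact Submodule.mem_sup_right (LinearMap.mem_range_self ι _)
    refine ⟨eW ⟨_, hmem⟩, ?_⟩
    rw [hεW]
    show Multiplicative.ofAdd (ε (ι c.toAdd)) = c
    rw [hει]
    rfl
  · intro d w
    obtain ⟨d₀, rfl⟩ : ∃ d₀ : ↥D, d = eD d₀ := ⟨eD.symm d, (eD.apply_symm_apply d).symm⟩
    obtain ⟨a, rfl⟩ : ∃ a : ↥WA, w = eW a := ⟨eW.symm w, (eW.apply_symm_apply w).symm⟩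
    have hmem : φ ((d₀ : ↥H₀) : Γ) (a : A) ∈ WA := by
      rw [hWA, ← hρ]
      exact (hε d₀ _ a.2).1
    have e1 : (⟨((eD d₀ : ↥(D.map H₀.subtype)) : Γ) * ((eW a : ↥(WA.map j)) : Γ) *
        ((eD d₀ : ↥(D.map H₀.subtype)) : Γ)⁻¹, hDW _ (eD d₀).2 _ (eW a).2⟩ : ↥(WA.map j)) =
        eW ⟨φ ((d₀ : ↥H₀) : Γ) (a : A), hmem⟩ := by
      apply Subtype.ext
      show ((eD d₀ : ↥(D.map H₀.subtype)) : Γ) * ((eW a : ↥(WA.map j)) : Γ) *
        ((eD d₀ : ↥(D.map H₀.subtype)) : Γ)⁻¹ = _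
      rw [heW, heD, heW]
      exact (hφ _ _).symm
    rw [e1, hεW, hεW]
    simp only [MonoidHom.comp_apply, MulEquiv.coe_toMonoidHom, MulEquiv.symm_apply_apply]
    rw [toAdd_ofAdd]
    congr 1
    rw [← hρ]
    exact (hε d₀ _ a.2).2

end Cfsg.Agent.Lib.Helper11
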