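import Mathlib
import Cfsg.Agent.Lib.Helper11.QdStable

/-!
# `Qd(p)`-free groups are `p`-stable, `p` odd: the elementary abelian case (helper11)
-/

set_option autoImplicit false
set_option linter.style.haveILetI false

namespace Cfsg.Agent.Lib.Helper11

open Cfsg
open scoped commutatorElement

universe u

/-- **Groups not involving `Qd(p)` are `p`-stable on elementary abelian normal subgroups.** -/
theorem mem_stabCore_of_quadratic_of_noQd {G : Type u} [Group G] [Finite G]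
    {p : ℕ} [Fact p.Prime] (hp : p ≠ 2) (hno : ¬ InvolvesGrp ↥(Cfsg.qd p) G) (V : Subgroup G)
    [hVn : V.Normal] (hV : IsElementaryAbelian p V) (a : G)
    (ha : ⁅⁅V, Subgroup.zpowers a⁆, Subgroup.zpowers a⁆ = ⊥) : a ∈ stabCore p V := by
  classical
  have hcV : ∀ x y : ↥V, x * y = y * x := fun x y => hV.1.is_comm.comm x y
  have hVexp : ∀ v : ↥V, v ^ p = 1 := fun v => Subtype.ext (by simpa using hV.2 _ v.2)
  obtain ⟨φ, hφ⟩ : ∃ φ : G →* MulAut ↥V, φ = MulAut.conjNormal := ⟨_, rfl⟩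
  have hφa : ∀ (g : G) (v : ↥V), ((φ g v : ↥V) : G) = g * v * g⁻¹ := by
    intro g v
    rw [hφ]
    exact MulAut.conjNormal_apply g v
  have hquad : ∀ c : G, ⁅⁅V, Subgroup.zpowers c⁆, Subgroup.zpowers c⁆ = ⊥ →
      ∀ v : ↥V, φ c (φ c v) * v = φ c v * φ c v := by
    intro c hc v
    have hq1 := (Cfsg.Agent.Lib.Helper97.quad_iff V c).mp hc v v.2 c
      (Subgroup.mem_zpowers c) c (Subgroup.mem_zpowers c)
    have e1 : ⁅⁅(v : G), c⁆, c⁆ =
        (v : G) * (c * v * c⁻¹)⁻¹ * ((c * (c * v * c⁻¹) * c⁻¹) * (c * v * c⁻¹)⁻¹) := by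
      rw [commutatorElement_def, commutatorElement_def]
      group
    rw [e1] at hq1
    have hq2 : v * (φ c v)⁻¹ * (φ c (φ c v) * (φ c v)⁻¹) = 1 := by
      apply Subtype.ext
      simp only [Subgroup.coe_mul, Subgroup.coe_inv, hφa, Subgroup.coe_one]
      exact hq1
    exact Cfsg.Agent.Lib.Helper97.comm_rearr hcV _ _ _ hq2
  set C := Subgroup.centralizer (V : Set G) with hC
  have hpair : ∀ g : G, ∀ h ∈ Subgroup.closure ({a, g * a * g⁻¹} : Set G),
      ∃ k : ℕ, h ^ (p ^ k) ∈ C := by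
    intro g h hh
    letI : CommGroup ↥V := { (inferInstance : Group ↥V) with mul_comm := hcV }
    have hVexp' : ∀ m : Additive ↥V, p • m = 0 := by
      intro m
      have h2 : Additive.ofMul ((m.toMul) ^ p) = p • m := rfl
      rw [← h2, hVexp]
      rfl
    letI : Module (ZMod p) (Additive ↥V) := AddCommGroup.zmodModule hVexp'
    obtain ⟨H₀, hH₀⟩ : ∃ H₀ : Subgroup G, H₀ = Subgroup.closure ({a, g * a * g⁻¹} : Set G) :=
      ⟨_, rfl⟩
    have haH : a ∈ H₀ := by rw [hH₀]; exact Subgroup.subset_closure (by simp)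
    have hbH : g * a * g⁻¹ ∈ H₀ := by rw [hH₀]; exact Subgroup.subset_closure (by simp)
    have hgen : Subgroup.closure ({⟨a, haH⟩, ⟨g * a * g⁻¹, hbH⟩} : Set ↥H₀) = ⊤ := by
      have h1 := Subgroup.closure_closure_coe_preimage (k := ({a, g * a * g⁻¹} : Set G))
      rw [← hH₀] at h1
      have h2 : ((↑) : ↥H₀ → G) ⁻¹' ({a, g * a * g⁻¹} : Set G) =
          {⟨a, haH⟩, ⟨g * a * g⁻¹, hbH⟩} := by
        ext ⟨y, hy⟩
        simp [Subtype.ext_iff]
      rw [h2] at h1
      exact h1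
    have hnat : ¬ HasNaturalSection (linHom p (φ.comp H₀.subtype)) := fun hh =>
      hno (involvesQd_of_hasNaturalSection hp V.subtype V.subtype_injective φ hφa H₀ hh)
    have hqa' : QuadEnd (linHom p (φ.comp H₀.subtype) ⟨a, haH⟩) := by
      intro m
      exact congrArg Additive.ofMul (hquad a ha m.toMul)
    have hqb' : QuadEnd (linHom p (φ.comp H₀.subtype) ⟨g * a * g⁻¹, hbH⟩) := by
      intro m
      exact congrArg Additive.ofMul
        (hquad _ (Cfsg.Agent.Lib.Helper97.quad_conj ha g) m.toMul)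
    have key := quadPair_nat (p := p) (H := ↥H₀) hp (⟨a, haH⟩ : ↥H₀)
      (⟨g * a * g⁻¹, hbH⟩ : ↥H₀) hgen (Nat.card (Additive ↥V)) (Additive ↥V)
      (linHom p (φ.comp H₀.subtype)) rfl hqa' hqb' hnat
    rw [← hH₀] at hh
    obtain ⟨k, hk⟩ := key ⟨h, hh⟩
    rw [linHom_eq_one_iff] at hk
    refine ⟨k, ?_⟩
    have hk' : φ (h ^ (p ^ k)) = 1 := hk
    rw [hφ] at hk'
    exact (mem_ker_conjNormal V _).mp hk'
  set π := QuotientGroup.mk' C with hπ
  have hBS : ∀ g' : G ⧸ C, IsPGroup p ↥(Subgroup.zpowers (π a) ⊔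
      (Subgroup.zpowers (π a)).map (MulAut.conj g').toMonoidHom) := by
    intro g'
    obtain ⟨g, rfl⟩ := QuotientGroup.mk'_surjective C g'
    have hle : Subgroup.zpowers (π a) ⊔
        (Subgroup.zpowers (π a)).map (MulAut.conj (QuotientGroup.mk' C g)).toMonoidHom ≤
        (Subgroup.closure ({a, g * a * g⁻¹} : Set G)).map π := by
      apply sup_le
      · rw [Subgroup.zpowers_le]
        exact Subgroup.mem_map_of_mem _ (Subgroup.subset_closure (by simp))
      · rw [MonoidHom.map_zpowers, Subgroup.zpowers_le]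
        refine ⟨g * a * g⁻¹, Subgroup.subset_closure (by simp), ?_⟩
        simp [hπ, MulAut.conj_apply]
    refine IsPGroup.to_le ?_ hle
    rintro ⟨_, h, hh, rfl⟩
    obtain ⟨k, hk⟩ := hpair g h hh
    refine ⟨k, Subtype.ext ?_⟩
    rw [Subgroup.coe_pow, Subgroup.coe_one]
    show (π h) ^ (p ^ k) = 1
    rw [← map_pow]
    exact (QuotientGroup.eq_one_iff _).mpr hk
  have hX : IsPGroup p ↥(Subgroup.zpowers (π a)) := IsPGroup.to_le (hBS 1) le_sup_left
  obtain ⟨N, hNn, hNp, hXN⟩ := Cfsg.Agent.S0199.result (Subgroup.zpowers (π a)) hX hBS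
  rw [mem_stabCore_iff]
  exact Cfsg.Agent.Lib.Helper97.le_pCore_of_normal hNn hNp (hXN (Subgroup.mem_zpowers _))

end Cfsg.Agent.Lib.Helper11
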