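import Mathlib
import Cfsg.Prelude.Def_PLocal
import Cfsg.Prelude.Def_LocalEven
import Cfsg.Agent.Lib.Helper97.PStable3
import Cfsg.Agent.Lib.Helper11.OddStable2

/-!
# From `p`-stability on elementary abelian normal subgroups to `p`-stability (helper11)

Generic form of the reductions of `Lib/Helper11/OddStable2.lean` / `NoSL2Stable.lean`: for a class
`C` of groups closed under subgroups and quotients such that every finite member is `p`-stable on
its elementary abelian normal `p`-subgroups, every finite member is `p`-stable on all its normal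
`p`-subgroups and in the normalizer form.
-/

set_option autoImplicit false

namespace Cfsg.Agent.Lib.Helper11

open Cfsg
open scoped commutatorElement

universe u

/-- a subgroup- and quotient-closed class of groups whose finite members are `p`-stable on
elementary abelian normal subgroups -/
structure StableClass (p : ℕ) (C : ∀ (X : Type u) [Group X], Prop) : Prop where
  sub : ∀ (X : Type u) [Group X] (H : Subgroup X), C X → C ↥H
  quot : ∀ (X : Type u) [Group X] (N : Subgroup X) [N.Normal], C X → C (X ⧸ N)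
  base : ∀ (X : Type u) [Group X] [Finite X], C X → ∀ (V : Subgroup X) [V.Normal],
    IsElementaryAbelian p V → ∀ a : X, ⁅⁅V, Subgroup.zpowers a⁆, Subgroup.zpowers a⁆ = ⊥ →
      a ∈ stabCore p V

variable {p : ℕ} [Fact p.Prime] {C : ∀ (X : Type u) [Group X], Prop}

theorem StableClass.exists_normal_of_quadratic (hC : StableClass p C) {G : Type u} [Group G]
    [Finite G] (hG : C G) (V : Subgroup G) [V.Normal]
    (hV : IsElementaryAbelian p V) (a : G)
    (ha : ⁅⁅V, Subgroup.zpowers a⁆, Subgroup.zpowers a⁆ = ⊥) :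
    ∃ D : Subgroup G, D.Normal ∧ a ∈ D ∧
      ∀ d ∈ D, ∃ k : ℕ, d ^ (p ^ k) ∈ Subgroup.centralizer (V : Set G) :=
  ⟨stabCore p V, inferInstance, hC.base G hG V hV a ha,
    fun _ hd => exists_pow_mem_centralizer_of_mem_stabCore p V hd⟩

/-- Section version: `Q / Φ` elementary abelian, `a` quadratic on `Q / Φ`. -/
theorem StableClass.exists_normal_of_quadratic_mod (hC : StableClass p C) {Γ : Type u} [Group Γ]
    [Finite Γ] (hΓ : C Γ) (Q Φ : Subgroup Γ) [hQn : Q.Normal]
    [hΦn : Φ.Normal]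
    (hcomm : ⁅Q, Q⁆ ≤ Φ) (hpow : ∀ x ∈ Q, x ^ p ∈ Φ) (a : Γ)
    (ha : ⁅⁅Q, Subgroup.zpowers a⁆, Subgroup.zpowers a⁆ ≤ Φ) :
    ∃ D : Subgroup Γ, D.Normal ∧ a ∈ D ∧
      ∀ d ∈ D, ∃ k : ℕ, ∀ r ∈ Q, d ^ (p ^ k) * r * (d ^ (p ^ k))⁻¹ * r⁻¹ ∈ Φ := by
  have hsurj := QuotientGroup.mk'_surjective Φ
  set V' : Subgroup (Γ ⧸ Φ) := Q.map (QuotientGroup.mk' Φ) with hV'
  have hVn : V'.Normal := hQn.map _ hsurj
  have hVel : IsElementaryAbelian p V' := by
    refine ⟨⟨⟨?_⟩⟩, ?_⟩
    · rintro ⟨_, x, hx, rfl⟩ ⟨_, y, hy, rfl⟩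
      apply Subtype.ext
      show (QuotientGroup.mk' Φ) x * (QuotientGroup.mk' Φ) y =
        (QuotientGroup.mk' Φ) y * (QuotientGroup.mk' Φ) x
      have h1 : ⁅x, y⁆ ∈ Φ := hcomm (Subgroup.commutator_mem_commutator hx hy)
      have h2 : (QuotientGroup.mk' Φ) ⁅x, y⁆ = 1 := (QuotientGroup.eq_one_iff _).mpr h1
      rw [map_commutatorElement, commutatorElement_eq_one_iff_commute] at h2
      exact h2.eq
    · rintro _ ⟨x, hx, rfl⟩
      rw [← map_pow]
      exact (QuotientGroup.eq_one_iff _).mpr (hpow x hx)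
  have hquad : ⁅⁅V', Subgroup.zpowers ((QuotientGroup.mk' Φ) a)⁆,
      Subgroup.zpowers ((QuotientGroup.mk' Φ) a)⁆ = ⊥ := by
    rw [hV', ← MonoidHom.map_zpowers, ← Subgroup.map_commutator, ← Subgroup.map_commutator,
      eq_bot_iff]
    calc _ ≤ Φ.map (QuotientGroup.mk' Φ) := Subgroup.map_mono ha
      _ = ⊥ := QuotientGroup.map_mk'_self Φ
  obtain ⟨D', hD'n, haD', hD'⟩ := hC.exists_normal_of_quadratic (hC.quot Γ Φ hΓ) V' hVel _ hquad
  refine ⟨D'.comap (QuotientGroup.mk' Φ), hD'n.comap _, haD', ?_⟩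
  intro d hd
  obtain ⟨k, hk⟩ := hD' _ hd
  refine ⟨k, fun r hr => ?_⟩
  rw [Subgroup.mem_centralizer_iff] at hk
  have h1 := hk _ (Subgroup.mem_map_of_mem (QuotientGroup.mk' Φ) hr)
  rw [← QuotientGroup.eq_one_iff]
  have h2 : ((d ^ (p ^ k) * r * (d ^ (p ^ k))⁻¹ * r⁻¹ : Γ) : Γ ⧸ Φ) =
      (QuotientGroup.mk' Φ d) ^ (p ^ k) * (QuotientGroup.mk' Φ r) *
        ((QuotientGroup.mk' Φ d) ^ (p ^ k))⁻¹ * (QuotientGroup.mk' Φ r)⁻¹ := by
    simp
  rw [h2, ← h1]
  group

/-- Version for an arbitrary normal `p`-subgroup. -/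
theorem StableClass.exists_normal_of_quadratic_pgroup (hC : StableClass p C) {Γ : Type u}
    [Group Γ] [Finite Γ] (hΓ : C Γ) (R : Subgroup Γ) [hRn : R.Normal]
    (hR : IsPGroup p R) (a : Γ)
    (ha : ⁅⁅R, Subgroup.zpowers a⁆, Subgroup.zpowers a⁆ = ⊥) :
    ∃ D : Subgroup Γ, D.Normal ∧ a ∈ D ∧
      ∀ d ∈ D, ∃ k : ℕ, d ^ (p ^ k) ∈ Subgroup.centralizer (R : Set Γ) := by
  have hp : p.Prime := Fact.out
  have hΦn : (Cfsg.Agent.Lib.Helper70.frattiniIn R).Normal := inferInstance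
  have hcomm : ⁅R, R⁆ ≤ Cfsg.Agent.Lib.Helper70.frattiniIn R :=
    Cfsg.Agent.Lib.Helper97.commutator_le_map_frattini hR
  have hpow : ∀ x ∈ R, x ^ p ∈ Cfsg.Agent.Lib.Helper70.frattiniIn R :=
    fun x hx => Cfsg.Agent.Lib.Helper97.pow_prime_mem_map_frattini hR hx
  have ha' : ⁅⁅R, Subgroup.zpowers a⁆, Subgroup.zpowers a⁆ ≤
      Cfsg.Agent.Lib.Helper70.frattiniIn R := by
    rw [ha]; exact bot_le
  obtain ⟨D, hDn, haD, hD⟩ := hC.exists_normal_of_quadratic_mod hΓ R
    (Cfsg.Agent.Lib.Helper70.frattiniIn R) hcomm hpow a ha'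
  refine ⟨D, hDn, haD, ?_⟩
  intro d hd
  obtain ⟨k, hk⟩ := hD d hd
  set y := d ^ (p ^ k) with hy
  have hyT : y ∈ Cfsg.Agent.Lib.Helper70.trivOnFrattiniQuot R :=
    (Cfsg.Agent.Lib.Helper70.mem_trivOnFrattiniQuot R y).mpr hk
  have ho : orderOf y ≠ 0 := (orderOf_pos y).ne'
  obtain ⟨m, n, hn, hmn⟩ := Nat.exists_eq_pow_mul_and_not_dvd ho p hp.ne_one
  have hzT : y ^ (p ^ m) ∈ Cfsg.Agent.Lib.Helper70.trivOnFrattiniQuot R := pow_mem hyT _
  have hzo : orderOf (y ^ (p ^ m)) ∣ n := by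
    apply orderOf_dvd_of_pow_eq_one
    rw [← pow_mul, ← hmn]
    exact pow_orderOf_eq_one y
  have hcop : (orderOf (y ^ (p ^ m))).Coprime p :=
    Nat.Coprime.coprime_dvd_left hzo ((Nat.Prime.coprime_iff_not_dvd hp).mpr hn).symm
  have hzC := Cfsg.Agent.Lib.Helper70.mem_centralizer_of_coprime R hR _ hzT hcop
  refine ⟨k + m, ?_⟩
  have : d ^ (p ^ (k + m)) = y ^ (p ^ m) := by
    rw [hy, ← pow_mul, pow_add]
  rw [this]
  exact hzC

/-- finite members of a stable class are `p`-stable in the normalizer form. -/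
theorem StableClass.isNormalizerPStable (hC : StableClass p C) {H : Type u} [Group H] [Finite H]
    (hH : C H) : IsNormalizerPStable p H := by
  intro P hP g hg hquad
  have hPN : P ≤ Subgroup.normalizer (P : Set H) := Subgroup.le_normalizer
  have hRn : (P.subgroupOf (Subgroup.normalizer (P : Set H))).Normal :=
    Subgroup.normal_in_normalizer
  have hRp : IsPGroup p ↥(P.subgroupOf (Subgroup.normalizer (P : Set H))) := hP.comap_subtype
  have hq' : ⁅⁅P.subgroupOf (Subgroup.normalizer (P : Set H)),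
      Subgroup.zpowers (⟨g, hg⟩ : ↥(Subgroup.normalizer (P : Set H)))⁆,
      Subgroup.zpowers (⟨g, hg⟩ : ↥(Subgroup.normalizer (P : Set H)))⁆ = ⊥ := by
    rw [← Cfsg.Agent.Lib.Helper97.quad_map_iff (Subgroup.normalizer (P : Set H)).subtype
      (Subgroup.normalizer (P : Set H)).subtype_injective, Subgroup.map_subgroupOf_eq_of_le hPN]
    exact hquad
  obtain ⟨D, hDn, haD, hD⟩ := hC.exists_normal_of_quadratic_pgroup
    (hC.sub H (Subgroup.normalizer (P : Set H)) hH)
    (P.subgroupOf (Subgroup.normalizer (P : Set H))) hRp ⟨g, hg⟩ hq'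
  have hsurj := QuotientGroup.mk'_surjective
    ((Subgroup.centralizer (P : Set H)).subgroupOf (Subgroup.normalizer (P : Set H)))
  have h1 : (D.map (QuotientGroup.mk'
      ((Subgroup.centralizer (P : Set H)).subgroupOf (Subgroup.normalizer (P : Set H))))).Normal :=
    hDn.map _ hsurj
  have h2 : IsPGroup p (D.map (QuotientGroup.mk'
      ((Subgroup.centralizer (P : Set H)).subgroupOf (Subgroup.normalizer (P : Set H))))) := by
    rintro ⟨_, d, hd, rfl⟩
    obtain ⟨k, hk⟩ := hD d hd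
    refine ⟨k, Subtype.ext ?_⟩
    rw [Subgroup.coe_pow, Subgroup.coe_one, ← map_pow]
    refine (QuotientGroup.eq_one_iff _).mpr ?_
    rw [Subgroup.mem_subgroupOf, Subgroup.mem_centralizer_iff]
    intro x hx
    rw [Subgroup.mem_centralizer_iff] at hk
    have := hk ⟨x, hPN hx⟩ (by
      show (⟨x, hPN hx⟩ : ↥(Subgroup.normalizer (P : Set H))) ∈
        P.subgroupOf (Subgroup.normalizer (P : Set H))
      rw [Subgroup.mem_subgroupOf]
      exact hx)
    have h3 := congrArg Subtype.val this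
    simpa using h3
  exact Cfsg.Agent.Lib.Helper97.le_pCore_of_normal h1 h2 (Subgroup.mem_map_of_mem _ haD)

/-- finite members of a stable class act `p`-stably on each of their normal `p`-subgroups. -/
theorem StableClass.isPStableOn (hC : StableClass p C) {G : Type u} [Group G] [Finite G]
    (hG : C G) (P : Subgroup G) [P.Normal]
    (hP : IsPGroup p P) : Cfsg.IsPStableOn p P := by
  intro a ha
  obtain ⟨D, hDn, haD, hD⟩ := hC.exists_normal_of_quadratic_pgroup hG P hP a ha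
  exact (le_stabCore (p := p) P D hD) haD

end Cfsg.Agent.Lib.Helper11
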