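import Mathlib
import Cfsg.Agent.Lib.Helper11.QdStable2
import Cfsg.Agent.Lib.Helper11.StableChain

/-!
# `Qd(p)`-free groups are `p`-stable, `p` odd (helper11)
-/

set_option autoImplicit false

namespace Cfsg.Agent.Lib.Helper11

open Cfsg

universe u

/-- the class of `Qd(p)`-free groups is a stable class (`p` odd) -/
theorem stableClass_noQd {p : ℕ} [Fact p.Prime] (hp : p ≠ 2) :
    StableClass.{u} p (fun X _ => ¬ InvolvesGrp ↥(Cfsg.qd p) X) where
  sub := fun _ _ _ h hh => h (InvolvesGrp.of_subgroup hh)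
  quot := fun _ _ N _ h hh =>
    h (InvolvesGrp.of_surjective (QuotientGroup.mk' N) (QuotientGroup.mk'_surjective N) hh)
  base := fun _ _ _ h V _ hV a ha => mem_stabCore_of_quadratic_of_noQd hp h V hV a ha

/-- `p` odd: finite `Qd(p)`-free groups are `p`-stable in the normalizer form. -/
theorem isNormalizerPStable_of_noQd {H : Type u} [Group H] [Finite H] {p : ℕ}
    [Fact p.Prime] (hp2 : p ≠ 2) (hno : ¬ InvolvesGrp ↥(Cfsg.qd p) H) :
    IsNormalizerPStable p H :=
  (stableClass_noQd hp2).isNormalizerPStable hno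

/-- `p` odd: a finite `Qd(p)`-free group acts `p`-stably on each of its normal `p`-subgroups. -/
theorem isPStableOn_of_noQd {G : Type u} [Group G] [Finite G]
    {p : ℕ} [Fact p.Prime] (hp2 : p ≠ 2) (hno : ¬ InvolvesGrp ↥(Cfsg.qd p) G) (P : Subgroup G)
    [P.Normal] (hP : IsPGroup p P) : Cfsg.IsPStableOn p P :=
  (stableClass_noQd hp2).isPStableOn hno P hP

/-- `Qd(p)`-freeness in the `Cfsg.Involves` form -/
theorem not_involvesGrp_of_not_involves {T : Type*} [Group T] {G : Type*} [Group G]
    (h : ¬ Cfsg.Involves T G) : ¬ InvolvesGrp T G :=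
  fun hh => h (involvesGrp_iff_involves.mp hh)

end Cfsg.Agent.Lib.Helper11
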