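/-
helper11 library (module REEM-[ST3] of helper20's project REEM = S2113): the first layer `W₃ ⊇ K₀` of the abstract
splitting theorem for the prime `3`.
-/
import Mathlib
import Cfsg.Agent.Lib.Helper20.ReeM.Defs

set_option autoImplicit false
set_option linter.unusedSectionVars false

namespace Cfsg.Agent.Lib.Helper11.ReeMSt3

open Cfsg.Agent.Lib.Helper20.ReeM

variable {F : Type*} [Field F] {n : ℕ} {P : Type*} [Group P] (S : Coord F n P)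
  {A : Type*} [CommGroup A] (ρ₀ : P → A)

theorem rho_one (hρ₀ : ∀ x ∈ S.K₀, ∀ y ∈ S.K₀, ρ₀ (x * y) = ρ₀ x * ρ₀ y) : ρ₀ 1 = 1 := by
  have h := hρ₀ 1 S.K₀.one_mem 1 S.K₀.one_mem
  rw [one_mul] at h
  exact left_eq_mul.mp h

/-- `[g g', x] = [g', x] [g, x]` when `[g', x]` is central -/
theorem rho_comm_mul_left (hρ₀ : ∀ x ∈ S.K₀, ∀ y ∈ S.K₀, ρ₀ (x * y) = ρ₀ x * ρ₀ y) {g g' x : P}
    (h : g * x * g⁻¹ * x⁻¹ ∈ S.K₀) (h' : g' * x * g'⁻¹ * x⁻¹ ∈ S.K₀) :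
    ρ₀ (g * g' * x * (g * g')⁻¹ * x⁻¹) = ρ₀ (g * x * g⁻¹ * x⁻¹) * ρ₀ (g' * x * g'⁻¹ * x⁻¹) := by
  have hc := Subgroup.mem_center_iff.mp (S.K₀_le_center h')
  have e : g * g' * x * (g * g')⁻¹ * x⁻¹ = (g' * x * g'⁻¹ * x⁻¹) * (g * x * g⁻¹ * x⁻¹) := by
    calc g * g' * x * (g * g')⁻¹ * x⁻¹
        = g * (g' * x * g'⁻¹ * x⁻¹) * (x * g⁻¹ * x⁻¹) := by group
      _ = (g' * x * g'⁻¹ * x⁻¹) * g * (x * g⁻¹ * x⁻¹) := by rw [hc g]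
      _ = (g' * x * g'⁻¹ * x⁻¹) * (g * x * g⁻¹ * x⁻¹) := by group
  rw [e, hρ₀ _ h' _ h, mul_comm]

/-- `[g, x x'] = [g, x] [g, x']` when `[g, x']` is central -/
theorem rho_comm_mul_right (hρ₀ : ∀ x ∈ S.K₀, ∀ y ∈ S.K₀, ρ₀ (x * y) = ρ₀ x * ρ₀ y) {g x x' : P}
    (h : g * x * g⁻¹ * x⁻¹ ∈ S.K₀) (h' : g * x' * g⁻¹ * x'⁻¹ ∈ S.K₀) :
    ρ₀ (g * (x * x') * g⁻¹ * (x * x')⁻¹) = ρ₀ (g * x * g⁻¹ * x⁻¹) * ρ₀ (g * x' * g⁻¹ * x'⁻¹) := by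
  have hc := Subgroup.mem_center_iff.mp (S.K₀_le_center h')
  have e : g * (x * x') * g⁻¹ * (x * x')⁻¹ = (g * x * g⁻¹ * x⁻¹) * (g * x' * g⁻¹ * x'⁻¹) := by
    calc g * (x * x') * g⁻¹ * (x * x')⁻¹
        = (g * x * g⁻¹ * x⁻¹) * (x * (g * x' * g⁻¹ * x'⁻¹)) * x⁻¹ := by group
      _ = (g * x * g⁻¹ * x⁻¹) * ((g * x' * g⁻¹ * x'⁻¹) * x) * x⁻¹ := by rw [hc x]
      _ = (g * x * g⁻¹ * x⁻¹) * (g * x' * g⁻¹ * x'⁻¹) := by group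
  rw [e, hρ₀ _ h _ h']

/-- a commutator with a central element is trivial -/
theorem rho_comm_of_K₀_right (hρ₀ : ∀ x ∈ S.K₀, ∀ y ∈ S.K₀, ρ₀ (x * y) = ρ₀ x * ρ₀ y) (g : P) {x : P}
    (hx : x ∈ S.K₀) : ρ₀ (g * x * g⁻¹ * x⁻¹) = 1 := by
  have hc := Subgroup.mem_center_iff.mp (S.K₀_le_center hx)
  have e : g * x * g⁻¹ * x⁻¹ = 1 := by
    rw [hc g]; group
  rw [e, rho_one S ρ₀ hρ₀]

theorem rho_comm_of_K₀_left (hρ₀ : ∀ x ∈ S.K₀, ∀ y ∈ S.K₀, ρ₀ (x * y) = ρ₀ x * ρ₀ y) {g : P}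
    (hg : g ∈ S.K₀) (x : P) : ρ₀ (g * x * g⁻¹ * x⁻¹) = 1 := by
  have hc := Subgroup.mem_center_iff.mp (S.K₀_le_center hg)
  have e : g * x * g⁻¹ * x⁻¹ = 1 := by
    rw [← hc x]; group
  rw [e, rho_one S ρ₀ hρ₀]

/-- `φ`-invariance of the commutator pairing -/
theorem rho_comm_φ {g x : P} (h : g * x * g⁻¹ * x⁻¹ ∈ S.K₀) :
    ρ₀ (S.φ g * S.φ x * (S.φ g)⁻¹ * (S.φ x)⁻¹) = ρ₀ (g * x * g⁻¹ * x⁻¹) := by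
  have e : S.φ g * S.φ x * (S.φ g)⁻¹ * (S.φ x)⁻¹ = S.φ (g * x * g⁻¹ * x⁻¹) := by
    rw [map_mul, map_mul, map_mul, map_inv, map_inv]
  rw [e, S.φ_fix_K₀ h]

theorem ν_add_W₃ : ∀ x ∈ S.W₃, ∀ y ∈ S.W₃, S.ν (x * y) = S.ν x + S.ν y :=
  fun _ hx _ hy => S.ν_mul_of_W₂ hx.1 hy.1

theorem ν_surj_W₃ : ∀ b : F, ∃ x ∈ S.W₃, S.ν x = b := by
  intro b
  obtain ⟨x, h1, h2, h3⟩ := S.surj 0 0 b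
  exact ⟨x, ⟨h1, h2⟩, h3⟩

theorem ν_zero_iff_W₃ : ∀ x ∈ S.W₃, S.ν x = 0 ↔ x ∈ S.K₀ :=
  fun _ hx => ⟨fun h => ⟨hx.1, hx.2, h⟩, fun h => h.2.2⟩

theorem μ_add_W₂ : ∀ x ∈ S.W₂, ∀ y ∈ S.W₂, S.μ (x * y) = S.μ x + S.μ y :=
  fun _ hx y _ => S.μ_mul_of_left hx y

theorem μ_surj_W₂ : ∀ b : F, ∃ x ∈ S.W₂, S.μ x = b := by
  intro b
  obtain ⟨x, h1, h2, _⟩ := S.surj 0 b 0
  exact ⟨x, h1, h2⟩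

theorem μ_zero_iff_W₂ : ∀ x ∈ S.W₂, S.μ x = 0 ↔ x ∈ S.W₃ :=
  fun _ hx => ⟨fun h => ⟨hx, h⟩, fun h => h.2⟩

theorem τ_surj_top : ∀ b : F, ∃ x ∈ (⊤ : Subgroup P), S.τ x = b := by
  intro b
  obtain ⟨x, h1, _, _⟩ := S.surj b 0 0
  exact ⟨x, Subgroup.mem_top x, h1⟩

/-- (i) `ρ₀` kills the commutators of `W₃` -/
theorem rho_comm_W₃ (hn : n ≠ 0) (hcp : CPStmt P A F)
    (p33 : PairStmt F A S.a (2 + n) (2 + n))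
    (hρ₀ : ∀ x ∈ S.K₀, ∀ y ∈ S.K₀, ρ₀ (x * y) = ρ₀ x * ρ₀ y) :
    ∀ x ∈ S.W₃, ∀ y ∈ S.W₃, ρ₀ (x * y * x⁻¹ * y⁻¹) = 1 := by
  have hK : ∀ g : P, ∀ x ∈ S.W₃, g * x * g⁻¹ * x⁻¹ ∈ S.K₀ := fun g x hx => S.comm_mem_K₀ hn g hx
  refine hcp S.W₃ S.W₃ S.K₀ S.K₀ (fun x y => ρ₀ (x * y * x⁻¹ * y⁻¹)) S.ν S.ν
    (ν_add_W₃ S) (ν_add_W₃ S) (ν_surj_W₃ S) (ν_surj_W₃ S) (ν_zero_iff_W₃ S) (ν_zero_iff_W₃ S)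
    ?_ ?_ ?_ ?_ S.φ (fun _ h => S.φ_mem_W₃ h) (fun _ h => S.φ_mem_W₃ h) (S.a ^ (2 + n)) (S.a ^ (2 + n))
    (fun x _ => S.ν_φ x) (fun x _ => S.ν_φ x) ?_ p33
  · intro x _ x' _ y hy
    exact rho_comm_mul_left S ρ₀ hρ₀ (hK x y hy) (hK x' y hy)
  · intro x _ y hy y' hy'
    exact rho_comm_mul_right S ρ₀ hρ₀ (hK x y hy) (hK x y' hy')
  · intro x hx y _
    exact rho_comm_of_K₀_left S ρ₀ hρ₀ hx y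
  · intro x _ y hy
    exact rho_comm_of_K₀_right S ρ₀ hρ₀ x hy
  · intro x _ y hy
    exact rho_comm_φ S ρ₀ (hK x y hy)

/-- (iii-a) `ρ₀` kills `[W₂, W₃]` -/
theorem rho_comm_W₂_W₃ (hn : n ≠ 0) (hcp : CPStmt P A F)
    (p33 : PairStmt F A S.a (2 + n) (2 + n)) (p23 : PairStmt F A S.a (1 + n) (2 + n))
    (hρ₀ : ∀ x ∈ S.K₀, ∀ y ∈ S.K₀, ρ₀ (x * y) = ρ₀ x * ρ₀ y) :
    ∀ g ∈ S.W₂, ∀ x ∈ S.W₃, ρ₀ (g * x * g⁻¹ * x⁻¹) = 1 := by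
  have hK : ∀ g : P, ∀ x ∈ S.W₃, g * x * g⁻¹ * x⁻¹ ∈ S.K₀ := fun g x hx => S.comm_mem_K₀ hn g hx
  refine hcp S.W₂ S.W₃ S.W₃ S.K₀ (fun x y => ρ₀ (x * y * x⁻¹ * y⁻¹)) S.μ S.ν
    (μ_add_W₂ S) (ν_add_W₃ S) (μ_surj_W₂ S) (ν_surj_W₃ S) (μ_zero_iff_W₂ S) (ν_zero_iff_W₃ S)
    ?_ ?_ ?_ ?_ S.φ (fun _ h => S.φ_mem_W₂ h) (fun _ h => S.φ_mem_W₃ h) (S.a ^ (1 + n)) (S.a ^ (2 + n))
    (fun x _ => S.μ_φ x) (fun x _ => S.ν_φ x) ?_ p23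
  · intro x _ x' _ y hy
    exact rho_comm_mul_left S ρ₀ hρ₀ (hK x y hy) (hK x' y hy)
  · intro x _ y hy y' hy'
    exact rho_comm_mul_right S ρ₀ hρ₀ (hK x y hy) (hK x y' hy')
  · intro x hx y hy
    exact rho_comm_W₃ S ρ₀ hn hcp p33 hρ₀ x hx y hy
  · intro x _ y hy
    exact rho_comm_of_K₀_right S ρ₀ hρ₀ x hy
  · intro x _ y hy
    exact rho_comm_φ S ρ₀ (hK x y hy)

/-- (iii-b) `ρ₀` kills `[P, W₃]` -/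
theorem rho_comm_top_W₃ (hn : n ≠ 0) (hcp : CPStmt P A F)
    (p33 : PairStmt F A S.a (2 + n) (2 + n)) (p23 : PairStmt F A S.a (1 + n) (2 + n))
    (p13 : PairStmt F A S.a 1 (2 + n))
    (hρ₀ : ∀ x ∈ S.K₀, ∀ y ∈ S.K₀, ρ₀ (x * y) = ρ₀ x * ρ₀ y) :
    ∀ g : P, ∀ x ∈ S.W₃, ρ₀ (g * x * g⁻¹ * x⁻¹) = 1 := by
  have hK : ∀ g : P, ∀ x ∈ S.W₃, g * x * g⁻¹ * x⁻¹ ∈ S.K₀ := fun g x hx => S.comm_mem_K₀ hn g hx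
  intro g
  refine hcp ⊤ S.W₃ S.W₂ S.K₀ (fun x y => ρ₀ (x * y * x⁻¹ * y⁻¹)) S.τ S.ν
    (fun x _ y _ => S.τ_mul x y) (ν_add_W₃ S) (τ_surj_top S) (ν_surj_W₃ S) (fun _ _ => Iff.rfl)
    (ν_zero_iff_W₃ S)
    ?_ ?_ ?_ ?_ S.φ (fun _ _ => Subgroup.mem_top _) (fun _ h => S.φ_mem_W₃ h) (S.a ^ 1) (S.a ^ (2 + n))
    (fun x _ => by rw [pow_one]; exact S.τ_φ x) (fun x _ => S.ν_φ x) ?_ p13 g (Subgroup.mem_top g)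
  · intro x _ x' _ y hy
    exact rho_comm_mul_left S ρ₀ hρ₀ (hK x y hy) (hK x' y hy)
  · intro x _ y hy y' hy'
    exact rho_comm_mul_right S ρ₀ hρ₀ (hK x y hy) (hK x y' hy')
  · intro x hx y hy
    exact rho_comm_W₂_W₃ S ρ₀ hn hcp p33 p23 hρ₀ x hx y hy
  · intro x _ y hy
    exact rho_comm_of_K₀_right S ρ₀ hρ₀ x hy
  · intro x _ y hy
    exact rho_comm_φ S ρ₀ (hK x y hy)

/-- module REEM-[ST3] -/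
theorem stage3 (hn : n ≠ 0) (hext : ExtStmt P A F) (hcp : CPStmt P A F) (h3 : S.a ^ (2 + n) ≠ 1)
    (p33 : PairStmt F A S.a (2 + n) (2 + n)) (p23 : PairStmt F A S.a (1 + n) (2 + n))
    (p13 : PairStmt F A S.a 1 (2 + n))
    (hρ₀ : ∀ x ∈ S.K₀, ∀ y ∈ S.K₀, ρ₀ (x * y) = ρ₀ x * ρ₀ y) :
    ∃ χ : P → A, Layer S ρ₀ S.W₃ χ := by
  have hK : ∀ g : P, ∀ x ∈ S.W₃, g * x * g⁻¹ * x⁻¹ ∈ S.K₀ := fun g x hx => S.comm_mem_K₀ hn g hx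
  obtain ⟨χ, hmul, hext', hφ⟩ := hext S.W₃ S.K₀ S.K₀_le_W₃ ρ₀ hρ₀ S.ν (ν_add_W₃ S) (ν_surj_W₃ S)
    (ν_zero_iff_W₃ S) S.φ (fun _ h => S.φ_mem_W₃ h) (S.a ^ (2 + n)) h3 (fun x _ => S.ν_φ x)
    (fun c hc => by rw [S.φ_fix_K₀ hc])
    (fun e _ c hc => by
      have := Subgroup.mem_center_iff.mp (S.K₀_le_center hc) e
      rw [this, mul_assoc, mul_inv_cancel, mul_one])
    (rho_comm_W₃ S ρ₀ hn hcp p33 hρ₀)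
  refine ⟨χ, ⟨hmul, hext', hφ, ?_⟩⟩
  intro g x hx
  have e : g * x * g⁻¹ = (g * x * g⁻¹ * x⁻¹) * x := by group
  have hk := hK g x hx
  rw [e, hmul _ (S.K₀_le_W₃ hk) _ hx, hext' _ hk, rho_comm_top_W₃ S ρ₀ hn hcp p33 p23 p13 hρ₀ g x hx,
    one_mul]

end Cfsg.Agent.Lib.Helper11.ReeMSt3
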