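/-
helper11 library (hedge of module REEW2-[W2-ARITH] of helper61's project REEW2): the arithmetic of Ward's class
count: the orders of the tori are `q ∓ r + 1` and both normalisers have index 6.
-/
import Mathlib

set_option autoImplicit false

namespace Cfsg.Agent.Lib.Helper11.ReeW2

/-- the arithmetic with `q = k + 2` and `r² = 3 q` -/
theorem tori_arith_aux (k r : ℕ) (hk : 25 ≤ k) (hr : r * r = 3 * (k + 2)) (Δ : Finset ℕ) (e n : ℕ → ℕ)
    (hd7 : ∀ d ∈ Δ, 7 ≤ d)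
    (hprod : ∏ d ∈ Δ, d = k ^ 2 + 3 * k + 3)
    (he : ∀ d ∈ Δ, e d = 1 ∨ e d = 2 ∨ e d = 3 ∨ e d = 6)
    (hn : ∀ d ∈ Δ, n d * (e d * d) = (k + 2) ^ 3 * (k + 1) * (k + 3) * (k ^ 2 + 3 * k + 3))
    (hsum : 3 * ∑ d ∈ Δ, n d * (d - 1) = (k + 2) ^ 3 * (k + 1) * (k + 3) * ((k + 2) * k)) :
    Δ = {k + 2 - r + 1, k + 2 + r + 1} ∧ e (k + 2 - r + 1) = 6 ∧ e (k + 2 + r + 1) = 6 := by
  have hNdef : k ^ 2 + 3 * k + 3 = k * k + 3 * k + 3 := by ring
  rw [hNdef] at hprod hn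
  generalize hN : k * k + 3 * k + 3 = N at hprod hn
  generalize hK : (k + 2) ^ 3 * (k + 1) * (k + 3) = K at hn hsum
  have hKpos : 0 < K := by rw [← hK]; positivity
  have hNpos : 0 < N := by omega
  have hkk : 25 * k ≤ k * k := Nat.mul_le_mul_right k hk
  -- every term is at least a seventh of the total
  have hterm : ∀ d ∈ Δ, K * N ≤ 7 * (n d * (d - 1)) := by
    intro d hd
    have h7 := hd7 d hd
    have he6 : e d ≤ 6 := by rcases he d hd with h | h | h | h <;> omega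
    calc K * N = n d * (e d * d) := (hn d hd).symm
      _ ≤ n d * (6 * d) := Nat.mul_le_mul_left _ (Nat.mul_le_mul_right _ he6)
      _ ≤ n d * (7 * (d - 1)) := Nat.mul_le_mul_left _ (by omega)
      _ = 7 * (n d * (d - 1)) := by ring
  have hcard : Δ.card ≤ 2 := by
    by_contra hc
    have hc3 : 3 ≤ Δ.card := by omega
    have h1 := Finset.card_nsmul_le_sum Δ (fun d => 7 * (n d * (d - 1))) (K * N) hterm
    rw [← Finset.mul_sum, smul_eq_mul] at h1
    have h2 : K * (9 * N) ≤ K * (7 * ((k + 2) * k)) := by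
      calc K * (9 * N) = 3 * (3 * (K * N)) := by ring
        _ ≤ 3 * (Δ.card * (K * N)) := Nat.mul_le_mul_left _ (Nat.mul_le_mul_right _ hc3)
        _ ≤ 3 * (7 * ∑ d ∈ Δ, n d * (d - 1)) := Nat.mul_le_mul_left _ h1
        _ = 7 * (3 * ∑ d ∈ Δ, n d * (d - 1)) := by ring
        _ = 7 * (K * ((k + 2) * k)) := by rw [hsum]
        _ = K * (7 * ((k + 2) * k)) := by ring
    have h3 := Nat.le_of_mul_le_mul_left h2 hKpos
    have h4 : (k + 2) * k = k * k + 2 * k := by ring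
    omega
  -- the possible sizes of `Δ`
  have hcases : Δ.card = 0 ∨ Δ.card = 1 ∨ Δ.card = 2 := by omega
  rcases hcases with h0 | h1 | h2
  · -- `Δ = ∅`
    rw [Finset.card_eq_zero] at h0
    rw [h0, Finset.prod_empty] at hprod
    omega
  · -- `Δ = {N}`
    exfalso
    obtain ⟨d, rfl⟩ := Finset.card_eq_one.mp h1
    rw [Finset.prod_singleton] at hprod
    rw [Finset.sum_singleton] at hsum
    have hn' := hn d (Finset.mem_singleton_self d)
    have he' := he d (Finset.mem_singleton_self d)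
    have hdpos : 0 < d := by omega
    have h1 : n d * e d = K := by
      apply Nat.eq_of_mul_eq_mul_right hdpos
      calc n d * e d * d = n d * (e d * d) := by ring
        _ = K * N := hn'
        _ = K * d := by rw [hprod]
    have hnpos : 0 < n d := by
      rcases Nat.eq_zero_or_pos (n d) with h | h
      · rw [h, zero_mul] at h1; omega
      · exact h
    have h5 : (k + 2) * k = k * k + 2 * k := by ring
    -- `3 (N - 1) = e (k + 2) k`
    have key : n d * (3 * (d - 1)) = n d * (e d * ((k + 2) * k)) := by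
      calc n d * (3 * (d - 1)) = 3 * (n d * (d - 1)) := by ring
        _ = K * ((k + 2) * k) := hsum
        _ = n d * e d * ((k + 2) * k) := by rw [h1]
        _ = n d * (e d * ((k + 2) * k)) := by ring
    have key' := Nat.eq_of_mul_eq_mul_left hnpos key
    rcases he' with h | h | h | h <;> rw [h] at key' <;> omega
  · -- `Δ = {d₁, d₂}`
    obtain ⟨d₁, d₂, hne, rfl⟩ := Finset.card_eq_two.mp h2
    rw [Finset.prod_pair hne] at hprod
    rw [Finset.sum_pair hne] at hsum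
    have hm1 : d₁ ∈ ({d₁, d₂} : Finset ℕ) := Finset.mem_insert_self _ _
    have hm2 : d₂ ∈ ({d₁, d₂} : Finset ℕ) := Finset.mem_insert_of_mem (Finset.mem_singleton_self _)
    have h71 := hd7 d₁ hm1
    have h72 := hd7 d₂ hm2
    have hn1 := hn d₁ hm1
    have hn2 := hn d₂ hm2
    have he1 := he d₁ hm1
    have he2 := he d₂ hm2
    -- `n₁ e₁ = K d₂`, `n₂ e₂ = K d₁`
    have g1 : n d₁ * e d₁ = K * d₂ := by
      apply Nat.eq_of_mul_eq_mul_right (show 0 < d₁ by omega)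
      calc n d₁ * e d₁ * d₁ = n d₁ * (e d₁ * d₁) := by ring
        _ = K * N := hn1
        _ = K * d₂ * d₁ := by rw [← hprod]; ring
    have g2 : n d₂ * e d₂ = K * d₁ := by
      apply Nat.eq_of_mul_eq_mul_right (show 0 < d₂ by omega)
      calc n d₂ * e d₂ * d₂ = n d₂ * (e d₂ * d₂) := by ring
        _ = K * N := hn2
        _ = K * d₁ * d₂ := by rw [← hprod]; ring
    -- `7 dᵢ ≤ N`
    have b1 : 7 * d₁ ≤ N := by
      rw [← hprod]
      calc 7 * d₁ = d₁ * 7 := by ring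
        _ ≤ d₁ * d₂ := Nat.mul_le_mul_left _ h72
    have b2 : 7 * d₂ ≤ N := by rw [← hprod]; exact Nat.mul_le_mul_right _ h71
    -- `a = 6 / e`
    obtain ⟨a₁, ha₁, ha₁'⟩ : ∃ a, a * e d₁ = 6 ∧ (a = 1 ∨ a = 2 ∨ a = 3 ∨ a = 6) := by
      rcases he1 with h | h | h | h
      · exact ⟨6, by rw [h], by omega⟩
      · exact ⟨3, by rw [h], by omega⟩
      · exact ⟨2, by rw [h], by omega⟩
      · exact ⟨1, by rw [h], by omega⟩
    obtain ⟨a₂, ha₂, ha₂'⟩ : ∃ a, a * e d₂ = 6 ∧ (a = 1 ∨ a = 2 ∨ a = 3 ∨ a = 6) := by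
      rcases he2 with h | h | h | h
      · exact ⟨6, by rw [h], by omega⟩
      · exact ⟨3, by rw [h], by omega⟩
      · exact ⟨2, by rw [h], by omega⟩
      · exact ⟨1, by rw [h], by omega⟩
    -- `6 nᵢ (dᵢ - 1) = aᵢ K (N - d_j)`
    have t1 : 6 * (n d₁ * (d₁ - 1)) = K * (a₁ * (N - d₂)) := by
      have : d₂ * (d₁ - 1) = N - d₂ := by
        rw [Nat.mul_sub, mul_one, mul_comm d₂ d₁, hprod]
      calc 6 * (n d₁ * (d₁ - 1)) = a₁ * e d₁ * (n d₁ * (d₁ - 1)) := by rw [ha₁]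
        _ = a₁ * (n d₁ * e d₁) * (d₁ - 1) := by ring
        _ = a₁ * (K * d₂) * (d₁ - 1) := by rw [g1]
        _ = K * (a₁ * (d₂ * (d₁ - 1))) := by ring
        _ = K * (a₁ * (N - d₂)) := by rw [this]
    have t2 : 6 * (n d₂ * (d₂ - 1)) = K * (a₂ * (N - d₁)) := by
      have : d₁ * (d₂ - 1) = N - d₁ := by
        rw [Nat.mul_sub, mul_one, hprod]
      calc 6 * (n d₂ * (d₂ - 1)) = a₂ * e d₂ * (n d₂ * (d₂ - 1)) := by rw [ha₂]
        _ = a₂ * (n d₂ * e d₂) * (d₂ - 1) := by ring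
        _ = a₂ * (K * d₁) * (d₂ - 1) := by rw [g2]
        _ = K * (a₂ * (d₁ * (d₂ - 1))) := by ring
        _ = K * (a₂ * (N - d₁)) := by rw [this]
    have key : K * (3 * (a₁ * (N - d₂) + a₂ * (N - d₁))) = K * (6 * ((k + 2) * k)) := by
      calc K * (3 * (a₁ * (N - d₂) + a₂ * (N - d₁)))
          = 3 * (K * (a₁ * (N - d₂)) + K * (a₂ * (N - d₁))) := by ring
        _ = 3 * (6 * (n d₁ * (d₁ - 1)) + 6 * (n d₂ * (d₂ - 1))) := by rw [t1, t2]
        _ = 6 * (3 * (n d₁ * (d₁ - 1) + n d₂ * (d₂ - 1))) := by ring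
        _ = 6 * (K * ((k + 2) * k)) := by rw [hsum]
        _ = K * (6 * ((k + 2) * k)) := by ring
    have key' := Nat.eq_of_mul_eq_mul_left hKpos key
    have h5 : (k + 2) * k = k * k + 2 * k := by ring
    rw [h5] at key'
    -- both `aᵢ = 1`
    have hX1 : 1 * (N - d₂) ≤ a₁ * (N - d₂) := Nat.mul_le_mul_right _ (by omega)
    have hY1 : 1 * (N - d₁) ≤ a₂ * (N - d₁) := Nat.mul_le_mul_right _ (by omega)
    have ha1 : a₁ = 1 := by
      by_contra hne1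
      have : 2 * (N - d₂) ≤ a₁ * (N - d₂) := Nat.mul_le_mul_right _ (by omega)
      omega
    have ha2 : a₂ = 1 := by
      by_contra hne2
      have : 2 * (N - d₁) ≤ a₂ * (N - d₁) := Nat.mul_le_mul_right _ (by omega)
      omega
    rw [ha1, one_mul] at ha₁
    rw [ha2, one_mul] at ha₂
    rw [ha1, ha2, one_mul, one_mul] at key'
    have hsumd : d₁ + d₂ = 2 * k + 6 := by omega
    -- solve the quadratic
    have hrle : r ≤ k + 2 := by
      by_contra hlt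
      have h1 : k + 3 ≤ r := by omega
      have h2 : (k + 3) * (k + 3) ≤ r * r := Nat.mul_le_mul h1 h1
      have h3 : (k + 3) * (k + 3) = k * k + 6 * k + 9 := by ring
      omega
    have hz : ((d₁ : ℤ) - ((k : ℤ) + 3) - r) * ((d₁ : ℤ) - ((k : ℤ) + 3) + r) = 0 := by
      have e1 : (d₁ : ℤ) + d₂ = 2 * k + 6 := by exact_mod_cast hsumd
      have e2 : (d₁ : ℤ) * d₂ = k * k + 3 * k + 3 := by
        have : d₁ * d₂ = k * k + 3 * k + 3 := by rw [hN]; exact hprod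
        exact_mod_cast this
      have e3 : (r : ℤ) * r = 3 * (k + 2) := by exact_mod_cast hr
      have e4 : (d₂ : ℤ) = 2 * k + 6 - d₁ := by linarith
      rw [e4] at e2
      linear_combination (-1 : ℤ) * e2 - e3
    rcases mul_eq_zero.mp hz with hz1 | hz2
    · -- `d₁ = k + 3 + r`
      have hd1 : d₁ = k + 2 + r + 1 := by omega
      have hd2 : d₂ = k + 2 - r + 1 := by omega
      refine ⟨?_, ?_, ?_⟩
      · rw [hd1, hd2, Finset.pair_comm]
      · rw [← hd2]; exact ha₂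
      · rw [← hd1]; exact ha₁
    · -- `d₁ = k + 3 - r`
      have hd1 : d₁ = k + 2 - r + 1 := by omega
      have hd2 : d₂ = k + 2 + r + 1 := by omega
      refine ⟨?_, ?_, ?_⟩
      · rw [hd1, hd2]
      · rw [← hd1]; exact ha₁
      · rw [← hd2]; exact ha₂

/-- module REEW2-[W2-ARITH] -/
theorem tori_arith (m : ℕ) (hm : 1 ≤ m) (Δ : Finset ℕ) (e n : ℕ → ℕ)
    (hd7 : ∀ d ∈ Δ, 7 ≤ d)
    (hprod : ∏ d ∈ Δ, d = (3 ^ (2 * m + 1)) ^ 2 - 3 ^ (2 * m + 1) + 1)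
    (he : ∀ d ∈ Δ, e d = 1 ∨ e d = 2 ∨ e d = 3 ∨ e d = 6)
    (hn : ∀ d ∈ Δ, n d * (e d * d)
      = (3 ^ (2 * m + 1)) ^ 3 * (3 ^ (2 * m + 1) - 1) * ((3 ^ (2 * m + 1)) ^ 3 + 1))
    (hsum : 3 * ∑ d ∈ Δ, n d * (d - 1)
      = (3 ^ (2 * m + 1)) ^ 4 * ((3 ^ (2 * m + 1)) ^ 2 - 1) * (3 ^ (2 * m + 1) - 2)) :
    Δ = {3 ^ (2 * m + 1) - 3 ^ (m + 1) + 1, 3 ^ (2 * m + 1) + 3 ^ (m + 1) + 1} ∧
      e (3 ^ (2 * m + 1) - 3 ^ (m + 1) + 1) = 6 ∧ e (3 ^ (2 * m + 1) + 3 ^ (m + 1) + 1) = 6 := by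
  have hq27 : 27 ≤ 3 ^ (2 * m + 1) := by
    calc 27 = 3 ^ 3 := by norm_num
      _ ≤ 3 ^ (2 * m + 1) := Nat.pow_le_pow_right (by norm_num) (by omega)
  have hrr : 3 ^ (m + 1) * 3 ^ (m + 1) = 3 * 3 ^ (2 * m + 1) := by
    rw [← pow_add, ← pow_succ']
    congr 1
    omega
  generalize 3 ^ (2 * m + 1) = q at hq27 hrr hprod hn hsum ⊢
  generalize 3 ^ (m + 1) = r at hrr ⊢
  obtain ⟨k, rfl⟩ : ∃ k, q = k + 2 := ⟨q - 2, by omega⟩
  have e1 : (k + 2) ^ 2 - (k + 2) + 1 = k ^ 2 + 3 * k + 3 := by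
    have : (k + 2) ^ 2 = k ^ 2 + 3 * k + 2 + (k + 2) := by ring
    rw [this, Nat.add_sub_cancel]
  have e2 : (k + 2) ^ 3 * (k + 2 - 1) * ((k + 2) ^ 3 + 1) =
      (k + 2) ^ 3 * (k + 1) * (k + 3) * (k ^ 2 + 3 * k + 3) := by
    have : k + 2 - 1 = k + 1 := by omega
    rw [this]; ring
  have e3 : (k + 2) ^ 4 * ((k + 2) ^ 2 - 1) * (k + 2 - 2) =
      (k + 2) ^ 3 * (k + 1) * (k + 3) * ((k + 2) * k) := by
    have h1 : k + 2 - 2 = k := by omega
    have h2 : (k + 2) ^ 2 - 1 = (k + 1) * (k + 3) := by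
      have : (k + 2) ^ 2 = (k + 1) * (k + 3) + 1 := by ring
      rw [this, Nat.add_sub_cancel]
    rw [h1, h2]; ring
  rw [e1] at hprod
  rw [e2] at hn
  rw [e3] at hsum
  exact tori_arith_aux k r (by omega) hrr Δ e n hd7 hprod he hn hsum

end Cfsg.Agent.Lib.Helper11.ReeW2
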