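/-
helper11 library (module REEW2-[W2-TORI-B] of helper61's project REEW2): Ward's class count gives the two cyclic
tori of order `q ∓ r + 1` of the small Ree groups.
-/
import Mathlib

set_option autoImplicit false
set_option linter.unusedSectionVars false
set_option linter.style.haveILetI false

namespace Cfsg.Agent.Lib.Helper11.ReeW2

/-! ### generalities on conjugation -/

theorem centralizer_conj {G : Type*} [Group G] (g x : G) :
    Subgroup.centralizer ({g * x * g⁻¹} : Set G) =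
      (Subgroup.centralizer ({x} : Set G)).map (MulAut.conj g).toMonoidHom := by
  ext y
  rw [Subgroup.mem_centralizer_singleton_iff, Subgroup.mem_map]
  constructor
  · intro h
    refine ⟨g⁻¹ * y * g, ?_, ?_⟩
    · rw [Subgroup.mem_centralizer_singleton_iff]
      have h1 : g⁻¹ * (y * (g * x * g⁻¹)) * g = g⁻¹ * ((g * x * g⁻¹) * y) * g := by rw [h]
      calc g⁻¹ * y * g * x = g⁻¹ * (y * (g * x * g⁻¹)) * g := by group
        _ = g⁻¹ * ((g * x * g⁻¹) * y) * g := h1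
        _ = x * (g⁻¹ * y * g) := by group
    · simp only [MulEquiv.coe_toMonoidHom, MulAut.conj_apply]
      group
  · rintro ⟨c, hc, rfl⟩
    rw [Subgroup.mem_centralizer_singleton_iff] at hc
    simp only [MulEquiv.coe_toMonoidHom, MulAut.conj_apply]
    calc g * c * g⁻¹ * (g * x * g⁻¹) = g * (c * x) * g⁻¹ := by group
      _ = g * (x * c) * g⁻¹ := by rw [hc]
      _ = g * x * g⁻¹ * (g * c * g⁻¹) := by group

theorem card_map_conj {G : Type*} [Group G] (g : G) (H : Subgroup G) :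
    Nat.card ↥(H.map (MulAut.conj g).toMonoidHom) = Nat.card ↥H :=
  Subgroup.card_map_of_injective (MulAut.conj g).injective

theorem card_centralizer_conj {G : Type*} [Group G] (g x : G) :
    Nat.card ↥(Subgroup.centralizer ({g * x * g⁻¹} : Set G)) =
      Nat.card ↥(Subgroup.centralizer ({x} : Set G)) := by
  rw [centralizer_conj, card_map_conj]

theorem card_normalizer_map_conj {G : Type*} [Group G] (g : G) (H : Subgroup G) :
    Nat.card ↥(Subgroup.normalizer ((H.map (MulAut.conj g).toMonoidHom : Subgroup G) : Set G)) =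
      Nat.card ↥(Subgroup.normalizer ((H : Subgroup G) : Set G)) := by
  rw [← Subgroup.map_equiv_normalizer_eq, card_map_conj]

theorem mem_normalizer_of_map_conj_eq {G : Type*} [Group G] (g : G) (H : Subgroup G)
    (h : H.map (MulAut.conj g).toMonoidHom = H) : g ∈ Subgroup.normalizer ((H : Subgroup G) : Set G) := by
  rw [Subgroup.mem_normalizer_iff]
  intro k
  constructor
  · intro hk
    rw [← h]
    exact Subgroup.mem_map.mpr ⟨k, hk, by simp [MulAut.conj_apply]⟩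
  · intro hk
    rw [← h] at hk
    obtain ⟨c, hc, hck⟩ := Subgroup.mem_map.mp hk
    simp only [MulEquiv.coe_toMonoidHom, MulAut.conj_apply] at hck
    have : c = k := by
      have := congrArg (fun z => g⁻¹ * z * g) hck
      simpa [mul_assoc] using this
    rwa [← this]

/-! ### the counting lemma (own copy of [W2-COUNT]) -/

theorem count_conj {G : Type*} [Group G] [Finite G] (H : Subgroup G) (P : G → Prop)
    (hP : ∀ g x : G, P x → P (g * x * g⁻¹))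
    (hcov : ∀ x : G, P x → ∃ g : G, g * x * g⁻¹ ∈ H)
    (hTI : ∀ x ∈ H, P x → ∀ g : G, g * x * g⁻¹ ∈ H → g ∈ Subgroup.normalizer (H : Set G)) :
    Nat.card {x : G // P x} * Nat.card ↥(Subgroup.normalizer (H : Set G))
      = Nat.card {x : G // P x ∧ x ∈ H} * Nat.card G := by
  classical
  choose! γ hγ using hcov
  rw [← Nat.card_prod, ← Nat.card_prod]
  apply Nat.card_congr
  refine
    { toFun := fun p => (⟨(p.2 : G) * γ p.1 * p.1 * ((p.2 : G) * γ p.1)⁻¹, hP _ _ p.1.2, ?_⟩,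
        (p.2 : G) * γ p.1)
      invFun := fun p => (⟨p.2⁻¹ * (p.1 : G) * p.2, ?_⟩,
        ⟨p.2 * (γ (p.2⁻¹ * (p.1 : G) * p.2))⁻¹, ?_⟩)
      left_inv := ?_
      right_inv := ?_ }
  · -- membership in H
    have h1 := hγ p.1 p.1.2
    have h2 := (Subgroup.mem_normalizer_iff.mp p.2.2 _).mp h1
    have e : (p.2 : G) * γ p.1 * p.1 * ((p.2 : G) * γ p.1)⁻¹ =
        (p.2 : G) * (γ p.1 * p.1 * (γ p.1)⁻¹) * (p.2 : G)⁻¹ := by group
    rw [e]; exact h2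
  · -- P of the conjugate
    have := hP p.2⁻¹ _ p.1.2.1
    rwa [inv_inv] at this
  · -- membership in the normalizer
    have hPx : P (p.2⁻¹ * (p.1 : G) * p.2) := by
      have := hP p.2⁻¹ _ p.1.2.1
      rwa [inv_inv] at this
    have h1 := hγ _ hPx
    refine hTI _ h1 (hP _ _ hPx) _ ?_
    have e : p.2 * (γ (p.2⁻¹ * (p.1 : G) * p.2))⁻¹ *
        (γ (p.2⁻¹ * (p.1 : G) * p.2) * (p.2⁻¹ * (p.1 : G) * p.2) * (γ (p.2⁻¹ * (p.1 : G) * p.2))⁻¹) *
        (p.2 * (γ (p.2⁻¹ * (p.1 : G) * p.2))⁻¹)⁻¹ = (p.1 : G) := by group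
    rw [e]; exact p.1.2.2
  · rintro ⟨⟨x, hx⟩, ⟨n, hn⟩⟩
    have e : (n * γ x)⁻¹ * (n * γ x * x * (n * γ x)⁻¹) * (n * γ x) = x := by group
    apply Prod.ext
    · apply Subtype.ext
      exact e
    · apply Subtype.ext
      show n * γ x * (γ ((n * γ x)⁻¹ * (n * γ x * x * (n * γ x)⁻¹) * (n * γ x)))⁻¹ = n
      rw [e]; group
  · rintro ⟨⟨z, hz⟩, g⟩
    apply Prod.ext
    · apply Subtype.ext
      show g * (γ (g⁻¹ * z * g))⁻¹ * γ (g⁻¹ * z * g) * (g⁻¹ * z * g) *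
        (g * (γ (g⁻¹ * z * g))⁻¹ * γ (g⁻¹ * z * g))⁻¹ = z
      group
    · show g * (γ (g⁻¹ * z * g))⁻¹ * γ (g⁻¹ * z * g) = g
      group

/-- the number of non-identity elements of a subgroup -/
theorem card_subgroup_ne_one {G : Type*} [Group G] [Finite G] (D : Subgroup G) :
    Nat.card {x : G // x ∈ D ∧ x ≠ 1} = Nat.card ↥D - 1 := by
  classical
  haveI : Fintype G := Fintype.ofFinite G
  have e : {x : G // x ∈ D ∧ x ≠ 1} ≃ {y : ↥D // y ≠ 1} :=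
    { toFun := fun x => ⟨⟨x.1, x.2.1⟩, fun h => x.2.2 (congrArg Subtype.val h)⟩
      invFun := fun y => ⟨y.1.1, y.1.2, fun h => y.2 (Subtype.ext h)⟩
      left_inv := fun x => rfl
      right_inv := fun y => rfl }
  rw [Nat.card_congr e, Nat.card_eq_fintype_card, Nat.card_eq_fintype_card, Fintype.card_subtype_compl,
    Fintype.card_subtype_eq]

/-! ### the abstract core -/

section core

variable {G : Type*} [Group G]

set_option quotPrecheck false in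
local notation "cdN(" x ")" => Nat.card ↥(Subgroup.centralizer ({x} : Set G))
set_option quotPrecheck false in
local notation "ndN(" x ")" =>
  Nat.card ↥(Subgroup.normalizer ((Subgroup.centralizer ({x} : Set G) : Subgroup G) : Set G))

/-- the hypotheses of the abstract core -/
structure Hyp (G : Type*) [Group G] (N : ℕ) : Prop where
  hN0 : 0 < N
  hN7 : ∀ d : ℕ, d ∣ N → d ≠ 1 → 7 ≤ d
  hNG : N ∣ Nat.card G
  hstruct : ∀ x : G, x ≠ 1 → x ^ N = 1 →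
    Nat.card ↥(Subgroup.centralizer ({x} : Set G)) ∣ N ∧
    (∀ z ∈ Subgroup.centralizer ({x} : Set G), z ≠ 1 →
      Subgroup.centralizer ({z} : Set G) = Subgroup.centralizer ({x} : Set G)) ∧
    (∀ p : ℕ, p.Prime → p ∣ Nat.card ↥(Subgroup.centralizer ({x} : Set G)) →
      (Nat.card ↥(Subgroup.centralizer ({x} : Set G))).factorization p = N.factorization p)
  hconj : ∀ x y : G, x ≠ 1 → y ≠ 1 → x ^ N = 1 → y ^ N = 1 →
    Nat.card ↥(Subgroup.centralizer ({x} : Set G)) = Nat.card ↥(Subgroup.centralizer ({y} : Set G)) →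
    ∃ g : G, Subgroup.centralizer ({y} : Set G)
      = (Subgroup.centralizer ({x} : Set G)).map (MulAut.conj g).toMonoidHom
  hnorm : ∀ x : G, x ≠ 1 → x ^ N = 1 →
    ∃ e : ℕ, (e = 1 ∨ e = 2 ∨ e = 3 ∨ e = 6) ∧
      Nat.card ↥(Subgroup.normalizer ((Subgroup.centralizer ({x} : Set G) : Subgroup G) : Set G))
        = e * Nat.card ↥(Subgroup.centralizer ({x} : Set G))

variable [Finite G] {N : ℕ}

theorem self_mem_centralizer (x : G) : x ∈ Subgroup.centralizer ({x} : Set G) :=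
  Subgroup.mem_centralizer_singleton_iff.mpr rfl

theorem Hyp.cd_ne_one (_H : Hyp G N) {x : G} (hx : x ≠ 1) : cdN(x) ≠ 1 := by
  intro h
  have hbot := (Subgroup.card_eq_one).mp h
  have := self_mem_centralizer x
  rw [hbot, Subgroup.mem_bot] at this
  exact hx this

theorem Hyp.seven_le (H : Hyp G N) {x : G} (hx : x ≠ 1) (hxN : x ^ N = 1) : 7 ≤ cdN(x) :=
  H.hN7 _ (H.hstruct x hx hxN).1 (H.cd_ne_one hx)

/-- non-identity elements of `C(x)` are again in `T`, with the same centraliser -/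
theorem Hyp.of_mem (H : Hyp G N) {x : G} (hx : x ≠ 1) (hxN : x ^ N = 1) {z : G}
    (hz : z ∈ Subgroup.centralizer ({x} : Set G)) (hz1 : z ≠ 1) :
    z ^ N = 1 ∧ Subgroup.centralizer ({z} : Set G) = Subgroup.centralizer ({x} : Set G) := by
  obtain ⟨h1, h2, _⟩ := H.hstruct x hx hxN
  refine ⟨?_, h2 z hz hz1⟩
  have hord : orderOf z ∣ cdN(x) := Subgroup.orderOf_dvd_natCard _ hz
  exact orderOf_dvd_iff_pow_eq_one.mp (hord.trans h1)

theorem Hyp.cd_eq_of_common_prime (H : Hyp G N) {x x' : G} (hx : x ≠ 1) (hxN : x ^ N = 1)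
    (hx' : x' ≠ 1) (hxN' : x' ^ N = 1) {p : ℕ} (hp : p.Prime) (h1 : p ∣ cdN(x)) (h2 : p ∣ cdN(x')) :
    cdN(x) = cdN(x') := by
  haveI : Fact p.Prime := ⟨hp⟩
  obtain ⟨y, hy⟩ := exists_prime_orderOf_dvd_card' (G := ↥(Subgroup.centralizer ({x} : Set G))) p h1
  obtain ⟨y', hy'⟩ := exists_prime_orderOf_dvd_card' (G := ↥(Subgroup.centralizer ({x'} : Set G))) p h2
  have hyo : orderOf (y : G) = p := by rw [Subgroup.orderOf_coe]; exact hy
  have hyo' : orderOf (y' : G) = p := by rw [Subgroup.orderOf_coe]; exact hy'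
  have hy1 : (y : G) ≠ 1 := by
    intro h; rw [h, orderOf_one] at hyo; exact hp.one_lt.ne hyo
  have hy1' : (y' : G) ≠ 1 := by
    intro h; rw [h, orderOf_one] at hyo'; exact hp.one_lt.ne hyo'
  obtain ⟨hyN, hCy⟩ := H.of_mem hx hxN y.2 hy1
  obtain ⟨hyN', hCy'⟩ := H.of_mem hx' hxN' y'.2 hy1'
  -- Sylow subgroups
  have hpg : IsPGroup p ↥(Subgroup.zpowers (y : G)) :=
    IsPGroup.of_card (n := 1) (by rw [Nat.card_zpowers, hyo, pow_one])
  have hpg' : IsPGroup p ↥(Subgroup.zpowers (y' : G)) :=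
    IsPGroup.of_card (n := 1) (by rw [Nat.card_zpowers, hyo', pow_one])
  obtain ⟨S, hS⟩ := hpg.exists_le_sylow
  obtain ⟨S', hS'⟩ := hpg'.exists_le_sylow
  obtain ⟨g, hg⟩ := MulAction.exists_smul_eq G S S'
  have hyS : (y : G) ∈ (S : Subgroup G) := hS (Subgroup.mem_zpowers _)
  have hyS' : (y' : G) ∈ (S' : Subgroup G) := hS' (Subgroup.mem_zpowers _)
  have hgy : g * (y : G) * g⁻¹ ∈ (S' : Subgroup G) := by
    rw [← hg, Sylow.coe_subgroup_smul]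
    exact Subgroup.smul_mem_pointwise_smul (y : G) (MulAut.conj g) (S : Subgroup G) hyS
  -- a central element of `S'`
  haveI : Nontrivial ↥(S' : Subgroup G) :=
    ⟨⟨⟨(y' : G), hyS'⟩, 1, fun h => hy1' (congrArg Subtype.val h)⟩⟩
  haveI := S'.isPGroup'.center_nontrivial
  obtain ⟨c, hc⟩ := exists_ne (1 : ↥(Subgroup.center ↥(S' : Subgroup G)))
  have hcomm : ∀ s : ↥(S' : Subgroup G), s * c.1 = c.1 * s :=
    fun s => Subgroup.mem_center_iff.mp c.2 s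
  set c' : G := ((c.1 : ↥(S' : Subgroup G)) : G) with hc'
  have hc'1 : c' ≠ 1 := by
    intro h
    apply hc
    apply Subtype.ext
    apply Subtype.ext
    exact h
  have hcy' : c' * (y' : G) = (y' : G) * c' := by
    have := congrArg Subtype.val (hcomm ⟨(y' : G), hyS'⟩)
    exact this.symm
  have hcgy : c' * (g * (y : G) * g⁻¹) = (g * (y : G) * g⁻¹) * c' := by
    have := congrArg Subtype.val (hcomm ⟨g * (y : G) * g⁻¹, hgy⟩)
    exact this.symm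
  -- `c'` lies in `C(y') = C(x')`
  have hc'mem : c' ∈ Subgroup.centralizer ({x'} : Set G) := by
    rw [← hCy']; exact Subgroup.mem_centralizer_singleton_iff.mpr hcy'
  obtain ⟨_, hCc'⟩ := H.of_mem hx' hxN' hc'mem hc'1
  -- `c₀ = g⁻¹ c' g` lies in `C(y) = C(x)`
  set c₀ : G := g⁻¹ * c' * g with hc₀
  have hc₀1 : c₀ ≠ 1 := by
    intro h
    apply hc'1
    have : c' = g * c₀ * g⁻¹ := by rw [hc₀]; group
    rw [this, h]; group
  have hc₀mem : c₀ ∈ Subgroup.centralizer ({x} : Set G) := by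
    rw [← hCy, Subgroup.mem_centralizer_singleton_iff]
    calc c₀ * (y : G) = g⁻¹ * (c' * (g * (y : G) * g⁻¹)) * g := by rw [hc₀]; group
      _ = g⁻¹ * ((g * (y : G) * g⁻¹) * c') * g := by rw [hcgy]
      _ = (y : G) * c₀ := by rw [hc₀]; group
  obtain ⟨_, hCc₀⟩ := H.of_mem hx hxN hc₀mem hc₀1
  have e1 : c' = g * c₀ * g⁻¹ := by rw [hc₀]; group
  calc cdN(x) = cdN(c₀) := by rw [hCc₀]
    _ = cdN(g * c₀ * g⁻¹) := (card_centralizer_conj g c₀).symm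
    _ = cdN(c') := by rw [← e1]
    _ = cdN(x') := by rw [hCc']

theorem Hyp.exists_of_prime_dvd (H : Hyp G N) {p : ℕ} (hp : p.Prime) (hpN : p ∣ N) :
    ∃ y : G, y ≠ 1 ∧ y ^ N = 1 ∧ p ∣ cdN(y) ∧ (cdN(y)).factorization p = N.factorization p := by
  haveI : Fact p.Prime := ⟨hp⟩
  obtain ⟨y, hy⟩ := exists_prime_orderOf_dvd_card' (G := G) p (hpN.trans H.hNG)
  have hy1 : y ≠ 1 := by
    intro h; rw [h, orderOf_one] at hy; exact hp.one_lt.ne hy
  have hyN : y ^ N = 1 := orderOf_dvd_iff_pow_eq_one.mp (hy ▸ hpN)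
  have hpd : p ∣ cdN(y) := by
    rw [← hy]; exact Subgroup.orderOf_dvd_natCard _ (self_mem_centralizer y)
  exact ⟨y, hy1, hyN, hpd, (H.hstruct y hy1 hyN).2.2 p hp hpd⟩

/-- the class count for one torus -/
theorem Hyp.count (H : Hyp G N) {x₀ : G} (hx₀ : x₀ ≠ 1) (hx₀N : x₀ ^ N = 1) :
    Nat.card {x : G // x ≠ 1 ∧ x ^ N = 1 ∧ cdN(x) = cdN(x₀)} * ndN(x₀) =
      (cdN(x₀) - 1) * Nat.card G := by
  have key := count_conj (Subgroup.centralizer ({x₀} : Set G))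
    (fun x => x ≠ 1 ∧ x ^ N = 1 ∧ cdN(x) = cdN(x₀)) ?_ ?_ ?_
  · rw [key]
    congr 1
    rw [← card_subgroup_ne_one]
    apply Nat.card_congr
    refine Equiv.subtypeEquivRight ?_
    intro x
    constructor
    · rintro ⟨⟨h1, _, _⟩, h2⟩
      exact ⟨h2, h1⟩
    · rintro ⟨h2, h1⟩
      obtain ⟨h3, h4⟩ := H.of_mem hx₀ hx₀N h2 h1
      exact ⟨⟨h1, h3, by rw [h4]⟩, h2⟩
  · rintro g x ⟨h1, h2, h3⟩
    refine ⟨?_, ?_, ?_⟩
    · intro h
      apply h1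
      have : x = g⁻¹ * (g * x * g⁻¹) * g := by group
      rw [this, h]; group
    · rw [conj_pow, h2]; group
    · rw [card_centralizer_conj, h3]
  · rintro x ⟨h1, h2, h3⟩
    obtain ⟨g, hg⟩ := H.hconj x x₀ h1 hx₀ h2 hx₀N h3
    refine ⟨g, ?_⟩
    rw [hg]
    exact Subgroup.mem_map.mpr ⟨x, self_mem_centralizer x, by simp [MulAut.conj_apply]⟩
  · rintro x hx ⟨h1, h2, h3⟩ g hgx
    obtain ⟨_, hCx⟩ := H.of_mem hx₀ hx₀N hx h1
    have hz1 : g * x * g⁻¹ ≠ 1 := by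
      intro h
      apply h1
      have : x = g⁻¹ * (g * x * g⁻¹) * g := by group
      rw [this, h]; group
    obtain ⟨_, hCz⟩ := H.of_mem hx₀ hx₀N hgx hz1
    apply mem_normalizer_of_map_conj_eq
    rw [← hCx, ← centralizer_conj, hCz, hCx]

/-- the abstract core: the data for [W2-ARITH] -/
theorem Hyp.core (H : Hyp G N) :
    ∃ (Δ : Finset ℕ) (e n : ℕ → ℕ),
      (∀ d ∈ Δ, 7 ≤ d) ∧ (∏ d ∈ Δ, d = N) ∧ (∀ d ∈ Δ, e d = 1 ∨ e d = 2 ∨ e d = 3 ∨ e d = 6) ∧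
      (∀ d ∈ Δ, n d * (e d * d) = Nat.card G) ∧
      (∑ d ∈ Δ, n d * (d - 1) = Nat.card {x : G // x ≠ 1 ∧ x ^ N = 1}) ∧
      (∀ x : G, x ≠ 1 → x ^ N = 1 → cdN(x) ∈ Δ ∧ ndN(x) = e (cdN(x)) * cdN(x)) ∧
      (∀ d ∈ Δ, ∃ x : G, x ≠ 1 ∧ x ^ N = 1 ∧ cdN(x) = d) := by
  classical
  haveI : Fintype G := Fintype.ofFinite G
  set T : Finset G := Finset.univ.filter (fun x => x ≠ 1 ∧ x ^ N = 1) with hT
  have hTmem : ∀ x, x ∈ T ↔ x ≠ 1 ∧ x ^ N = 1 := fun x => by simp [hT]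
  set Δ : Finset ℕ := T.image (fun x => cdN(x)) with hΔ
  have hΔmem : ∀ d, d ∈ Δ ↔ ∃ x, (x ≠ 1 ∧ x ^ N = 1) ∧ cdN(x) = d := by
    intro d
    rw [hΔ, Finset.mem_image]
    simp only [hTmem]
  -- representatives
  have hrep : ∀ d, ∃ x : G, d ∈ Δ → (x ≠ 1 ∧ x ^ N = 1) ∧ cdN(x) = d := by
    intro d
    by_cases hd : d ∈ Δ
    · obtain ⟨x, hx⟩ := (hΔmem d).mp hd
      exact ⟨x, fun _ => hx⟩
    · exact ⟨1, fun h => absurd h hd⟩
  choose rep hrep using hrep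
  have hE : ∀ d, ∃ e : ℕ, d ∈ Δ → (e = 1 ∨ e = 2 ∨ e = 3 ∨ e = 6) ∧ ndN(rep d) = e * d := by
    intro d
    by_cases hd : d ∈ Δ
    · obtain ⟨⟨h1, h2⟩, h3⟩ := hrep d hd
      obtain ⟨e, he, hn⟩ := H.hnorm (rep d) h1 h2
      rw [h3] at hn
      exact ⟨e, fun _ => ⟨he, hn⟩⟩
    · exact ⟨0, fun h => absurd h hd⟩
  choose e hE using hE
  have h7 : ∀ d ∈ Δ, 7 ≤ d := by
    intro d hd
    obtain ⟨x, ⟨hx1, hxN⟩, rfl⟩ := (hΔmem d).mp hd
    exact H.seven_le hx1 hxN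
  refine ⟨Δ, e, fun d => (Subgroup.normalizer
    ((Subgroup.centralizer ({rep d} : Set G) : Subgroup G) : Set G)).index, h7, ?_, ?_, ?_, ?_, ?_, ?_⟩
  · -- the product of the orders
    have hpos : ∀ d ∈ Δ, d ≠ 0 := fun d hd => by have := h7 d hd; omega
    apply Nat.eq_of_factorization_eq (Finset.prod_ne_zero_iff.mpr hpos) H.hN0.ne'
    intro p
    rw [Nat.factorization_prod hpos, Finsupp.finsetSum_apply]
    by_cases hp : p.Prime
    · by_cases hpN : p ∣ N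
      · obtain ⟨y, hy1, hyN, hpd, hfac⟩ := H.exists_of_prime_dvd hp hpN
        have hyΔ : cdN(y) ∈ Δ := (hΔmem _).mpr ⟨y, ⟨hy1, hyN⟩, rfl⟩
        rw [Finset.sum_eq_single_of_mem _ hyΔ, hfac]
        intro d hd hne
        obtain ⟨x, ⟨hx1, hxN⟩, rfl⟩ := (hΔmem d).mp hd
        apply Nat.factorization_eq_zero_of_not_dvd
        intro hpx
        exact hne (H.cd_eq_of_common_prime hx1 hxN hy1 hyN hp hpx hpd)
      · rw [Nat.factorization_eq_zero_of_not_dvd hpN]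
        apply Finset.sum_eq_zero
        intro d hd
        obtain ⟨x, ⟨hx1, hxN⟩, rfl⟩ := (hΔmem d).mp hd
        exact Nat.factorization_eq_zero_of_not_dvd
          (fun h => hpN (h.trans (H.hstruct x hx1 hxN).1))
    · rw [Nat.factorization_eq_zero_of_not_prime _ hp]
      apply Finset.sum_eq_zero
      intro d _
      exact Nat.factorization_eq_zero_of_not_prime _ hp
  · intro d hd
    exact (hE d hd).1
  · intro d hd
    rw [← (hE d hd).2]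
    exact Subgroup.index_mul_card _
  · -- the count
    have h1 : Nat.card {x : G // x ≠ 1 ∧ x ^ N = 1} = T.card := by
      rw [Nat.card_eq_fintype_card, Fintype.card_subtype]
    rw [h1, Finset.card_eq_sum_card_image (fun x => cdN(x)) T]
    apply Finset.sum_congr rfl
    intro d hd
    obtain ⟨⟨hr1, hrN⟩, hrd⟩ := hrep d hd
    have hc := H.count hr1 hrN
    rw [hrd] at hc
    have h2 : Nat.card {x : G // x ≠ 1 ∧ x ^ N = 1 ∧ cdN(x) = d} =
        (T.filter (fun x => cdN(x) = d)).card := by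
      rw [Nat.card_eq_fintype_card, Fintype.card_subtype]
      congr 1
      ext x
      simp [hT, and_assoc]
    rw [h2] at hc
    have h3 := Subgroup.index_mul_card (Subgroup.normalizer
      ((Subgroup.centralizer ({rep d} : Set G) : Subgroup G) : Set G))
    have hpos : 0 < ndN(rep d) := Nat.card_pos
    apply Nat.eq_of_mul_eq_mul_right hpos
    rw [hc, ← h3]
    ring
  · intro x hx1 hxN
    have hd : cdN(x) ∈ Δ := (hΔmem _).mpr ⟨x, ⟨hx1, hxN⟩, rfl⟩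
    refine ⟨hd, ?_⟩
    obtain ⟨⟨hr1, hrN⟩, hrd⟩ := hrep _ hd
    obtain ⟨g, hg⟩ := H.hconj (rep (cdN(x))) x hr1 hx1 hrN hxN hrd
    rw [hg, card_normalizer_map_conj, card_map_conj, (hE _ hd).2, hrd]
  · intro d hd
    obtain ⟨x, ⟨hx1, hxN⟩, hxd⟩ := (hΔmem d).mp hd
    exact ⟨x, hx1, hxN, hxd⟩

end core

/-! ### the arithmetic of `N = q² - q + 1`, `q = 3^(2m+1)` -/

theorem q_mod_30 (m : ℕ) : 3 ^ (2 * m + 1) % 30 = 3 ∨ 3 ^ (2 * m + 1) % 30 = 27 := by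
  induction m with
  | zero => left; norm_num
  | succ k ih =>
    have : 3 ^ (2 * (k + 1) + 1) = 9 * 3 ^ (2 * k + 1) := by ring
    rw [this]
    omega

theorem N_mod_30 (m : ℕ) :
    ((3 ^ (2 * m + 1)) ^ 2 - 3 ^ (2 * m + 1) + 1) % 30 = 7 ∨
      ((3 ^ (2 * m + 1)) ^ 2 - 3 ^ (2 * m + 1) + 1) % 30 = 13 := by
  have h1 := q_mod_30 m
  generalize 3 ^ (2 * m + 1) = q at h1 ⊢
  have hqq : q ^ 2 % 30 = 9 := by
    rw [pow_two, Nat.mul_mod]
    rcases h1 with h | h <;> rw [h]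
  have hle : q ≤ q ^ 2 := Nat.le_self_pow two_ne_zero q
  omega

theorem N_seven_le (m : ℕ) (d : ℕ) (hd : d ∣ (3 ^ (2 * m + 1)) ^ 2 - 3 ^ (2 * m + 1) + 1) (hd1 : d ≠ 1) :
    7 ≤ d := by
  have h30 := N_mod_30 m
  generalize (3 ^ (2 * m + 1)) ^ 2 - 3 ^ (2 * m + 1) + 1 = N at hd h30
  by_contra hlt
  have hlt' : d < 7 := by omega
  obtain ⟨k, hk⟩ := hd
  interval_cases d <;> omega

theorem N_dvd (m : ℕ) :
    (3 ^ (2 * m + 1)) ^ 2 - 3 ^ (2 * m + 1) + 1 ∣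
      (3 ^ (2 * m + 1)) ^ 3 * (3 ^ (2 * m + 1) - 1) * ((3 ^ (2 * m + 1)) ^ 3 + 1) := by
  have hq : 0 < 3 ^ (2 * m + 1) := by positivity
  generalize 3 ^ (2 * m + 1) = q at hq ⊢
  obtain ⟨k, rfl⟩ : ∃ k, q = k + 1 := ⟨q - 1, by omega⟩
  apply Dvd.dvd.mul_left
  have h1 : (k + 1) ^ 2 = k ^ 2 + k + (k + 1) := by ring
  rw [h1, Nat.add_sub_cancel]
  exact ⟨k + 2, by ring⟩

/-! ### the module -/

/-- module REEW2-[W2-TORI-B], with the statement of [W2-ARITH] (for the given `m`) as a hypothesis -/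
theorem exists_tori_of_arith {G : Type*} [Group G] [Finite G] (m : ℕ)
    (harith : ∀ (Δ : Finset ℕ) (e n : ℕ → ℕ),
      (∀ d ∈ Δ, 7 ≤ d) →
      (∏ d ∈ Δ, d = (3 ^ (2 * m + 1)) ^ 2 - 3 ^ (2 * m + 1) + 1) →
      (∀ d ∈ Δ, e d = 1 ∨ e d = 2 ∨ e d = 3 ∨ e d = 6) →
      (∀ d ∈ Δ, n d * (e d * d)
        = (3 ^ (2 * m + 1)) ^ 3 * (3 ^ (2 * m + 1) - 1) * ((3 ^ (2 * m + 1)) ^ 3 + 1)) →
      (3 * ∑ d ∈ Δ, n d * (d - 1)
        = (3 ^ (2 * m + 1)) ^ 4 * ((3 ^ (2 * m + 1)) ^ 2 - 1) * (3 ^ (2 * m + 1) - 2)) →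
      Δ = {3 ^ (2 * m + 1) - 3 ^ (m + 1) + 1, 3 ^ (2 * m + 1) + 3 ^ (m + 1) + 1} ∧
        e (3 ^ (2 * m + 1) - 3 ^ (m + 1) + 1) = 6 ∧ e (3 ^ (2 * m + 1) + 3 ^ (m + 1) + 1) = 6)
    (hcard : Nat.card G = (3 ^ (2 * m + 1)) ^ 3 * (3 ^ (2 * m + 1) - 1) * ((3 ^ (2 * m + 1)) ^ 3 + 1))
    (hstruct : ∀ x : G, x ≠ 1 → x ^ ((3 ^ (2 * m + 1)) ^ 2 - 3 ^ (2 * m + 1) + 1) = 1 →
      Nat.card ↥(Subgroup.centralizer ({x} : Set G)) ∣ (3 ^ (2 * m + 1)) ^ 2 - 3 ^ (2 * m + 1) + 1 ∧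
      (∀ z ∈ Subgroup.centralizer ({x} : Set G), z ≠ 1 →
        Subgroup.centralizer ({z} : Set G) = Subgroup.centralizer ({x} : Set G)) ∧
      (∀ p : ℕ, p.Prime → p ∣ Nat.card ↥(Subgroup.centralizer ({x} : Set G)) →
        (Nat.card ↥(Subgroup.centralizer ({x} : Set G))).factorization p
          = ((3 ^ (2 * m + 1)) ^ 2 - 3 ^ (2 * m + 1) + 1).factorization p))
    (hconj : ∀ x y : G, x ≠ 1 → y ≠ 1 → x ^ ((3 ^ (2 * m + 1)) ^ 2 - 3 ^ (2 * m + 1) + 1) = 1 →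
      y ^ ((3 ^ (2 * m + 1)) ^ 2 - 3 ^ (2 * m + 1) + 1) = 1 →
      Nat.card ↥(Subgroup.centralizer ({x} : Set G)) = Nat.card ↥(Subgroup.centralizer ({y} : Set G)) →
      ∃ g : G, Subgroup.centralizer ({y} : Set G)
        = (Subgroup.centralizer ({x} : Set G)).map (MulAut.conj g).toMonoidHom)
    (hnorm : ∀ x : G, x ≠ 1 → x ^ ((3 ^ (2 * m + 1)) ^ 2 - 3 ^ (2 * m + 1) + 1) = 1 →
      ∃ e : ℕ, (e = 1 ∨ e = 2 ∨ e = 3 ∨ e = 6) ∧
        Nat.card ↥(Subgroup.normalizer ((Subgroup.centralizer ({x} : Set G) : Subgroup G) : Set G))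
          = e * Nat.card ↥(Subgroup.centralizer ({x} : Set G)))
    (hcount : 3 * Nat.card {x : G // x ≠ 1 ∧ x ^ ((3 ^ (2 * m + 1)) ^ 2 - 3 ^ (2 * m + 1) + 1) = 1}
      = (3 ^ (2 * m + 1)) ^ 4 * ((3 ^ (2 * m + 1)) ^ 2 - 1) * (3 ^ (2 * m + 1) - 2)) :
    (∀ x : G, x ≠ 1 → x ^ ((3 ^ (2 * m + 1)) ^ 2 - 3 ^ (2 * m + 1) + 1) = 1 →
      (Nat.card ↥(Subgroup.centralizer ({x} : Set G)) = 3 ^ (2 * m + 1) - 3 ^ (m + 1) + 1 ∨
        Nat.card ↥(Subgroup.centralizer ({x} : Set G)) = 3 ^ (2 * m + 1) + 3 ^ (m + 1) + 1) ∧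
      Nat.card ↥(Subgroup.normalizer ((Subgroup.centralizer ({x} : Set G) : Subgroup G) : Set G))
        = 6 * Nat.card ↥(Subgroup.centralizer ({x} : Set G))) ∧
    (∃ x : G, x ≠ 1 ∧ x ^ ((3 ^ (2 * m + 1)) ^ 2 - 3 ^ (2 * m + 1) + 1) = 1 ∧
      Nat.card ↥(Subgroup.centralizer ({x} : Set G)) = 3 ^ (2 * m + 1) - 3 ^ (m + 1) + 1) ∧
    (∃ x : G, x ≠ 1 ∧ x ^ ((3 ^ (2 * m + 1)) ^ 2 - 3 ^ (2 * m + 1) + 1) = 1 ∧
      Nat.card ↥(Subgroup.centralizer ({x} : Set G)) = 3 ^ (2 * m + 1) + 3 ^ (m + 1) + 1) := by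
  have H : Hyp G ((3 ^ (2 * m + 1)) ^ 2 - 3 ^ (2 * m + 1) + 1) :=
    ⟨by omega, N_seven_le m, by rw [hcard]; exact N_dvd m, hstruct, hconj, hnorm⟩
  obtain ⟨Δ, e, n, h7, hprod, he, hn, hsum, hall, hex⟩ := H.core
  rw [hcard] at hn
  have hsum' : 3 * ∑ d ∈ Δ, n d * (d - 1)
      = (3 ^ (2 * m + 1)) ^ 4 * ((3 ^ (2 * m + 1)) ^ 2 - 1) * (3 ^ (2 * m + 1) - 2) := by
    rw [hsum]; exact hcount
  obtain ⟨hΔ, he1, he2⟩ := harith Δ e n h7 hprod he hn hsum'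
  refine ⟨?_, ?_, ?_⟩
  · intro x hx1 hxN
    obtain ⟨hd, hnd⟩ := hall x hx1 hxN
    rw [hΔ, Finset.mem_insert, Finset.mem_singleton] at hd
    refine ⟨hd, ?_⟩
    rcases hd with h | h
    · rw [hnd, h, he1]
    · rw [hnd, h, he2]
  · obtain ⟨x, h1, h2, h3⟩ := hex (3 ^ (2 * m + 1) - 3 ^ (m + 1) + 1) (by rw [hΔ]; simp)
    exact ⟨x, h1, h2, h3⟩
  · obtain ⟨x, h1, h2, h3⟩ := hex (3 ^ (2 * m + 1) + 3 ^ (m + 1) + 1) (by rw [hΔ]; simp)
    exact ⟨x, h1, h2, h3⟩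

end Cfsg.Agent.Lib.Helper11.ReeW2
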