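/-
helper11 library (module REEW2-[W2-D1B] of helper61's project REEW2): the counts attached to an abelian subgroup
`D = E₄ × Z_k` with `C(x) = D` for the non-involutions `x ∈ D` and `|N(D)| = 24 k`.
-/
import Mathlib
import Cfsg.Agent.Lib.Helper37.ReeW2Abel
import Cfsg.Agent.Lib.Helper11.ReeW2ToriB

set_option autoImplicit false
set_option linter.unusedSectionVars false
set_option linter.style.haveILetI false

namespace Cfsg.Agent.Lib.Helper11.ReeW2

theorem orderOf_conj' {G : Type*} [Group G] (g x : G) : orderOf (g * x * g⁻¹) = orderOf x :=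
  ((SemiconjBy.conj_mk g x).orderOf_eq g).symm

theorem conj_mul_self_ne_one {G : Type*} [Group G] (g : G) {x : G} (h : x * x ≠ 1) :
    (g * x * g⁻¹) * (g * x * g⁻¹) ≠ 1 := by
  intro h'
  apply h
  have e : (g * x * g⁻¹) * (g * x * g⁻¹) = g * (x * x) * g⁻¹ := by group
  rw [e] at h'
  have : x * x = g⁻¹ * (g * (x * x) * g⁻¹) * g := by group
  rw [this, h']; group

/-- transport of the count from `G` to the subgroup -/
theorem card_subtype_mem {G : Type*} [Group G] (D : Subgroup G) (P : G → Prop) :
    Nat.card {x : G // P x ∧ x ∈ D} = Nat.card {y : ↥D // P (y : G)} := by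
  apply Nat.card_congr
  exact
    { toFun := fun x => ⟨⟨x.1, x.2.2⟩, x.2.1⟩
      invFun := fun y => ⟨y.1.1, y.2, y.1.2⟩
      left_inv := fun _ => rfl
      right_inv := fun _ => rfl }

section main

variable {G : Type*} [Group G] [Finite G] (k : ℕ) (D : Subgroup G)
  (hN : Nat.card ↥(Subgroup.normalizer (D : Set G)) = 24 * k)
  (hcentD : ∀ x ∈ D, x * x ≠ 1 → Subgroup.centralizer ({x} : Set G) = D)
  (hconj : ∀ x : G, x * x ≠ 1 → x ^ (2 * k) = 1 → ∃ g : G, g * x * g⁻¹ ∈ D)

include hN hcentD hconj

/-- the counting lemma specialised to `D` -/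
theorem count_D (P : G → Prop) (hP : ∀ g x : G, P x → P (g * x * g⁻¹))
    (hP2 : ∀ x, P x → x * x ≠ 1 ∧ x ^ (2 * k) = 1) :
    Nat.card {x : G // P x} * (24 * k) = Nat.card {y : ↥D // P (y : G)} * Nat.card G := by
  rw [← hN, ← card_subtype_mem]
  apply count_conj D P hP
  · intro x hx
    exact hconj x (hP2 x hx).1 (hP2 x hx).2
  · intro x hxD hx g hgx
    have h1 := hcentD x hxD (hP2 x hx).1
    have h2 := hcentD _ hgx (conj_mul_self_ne_one g (hP2 x hx).1)
    apply mem_normalizer_of_map_conj_eq
    rw [← h1, ← centralizer_conj, h2, h1]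

end main

/-- module REEW2-[W2-D1B] -/
theorem four_torus_counts {G : Type*} [Group G] [Finite G] (k : ℕ) (hk : Odd k) (hk1 : 1 < k)
    (hcyc : ∀ p : ℕ, p.Prime → p ∣ k → ∀ R : Subgroup G, IsPGroup p ↥R → IsCyclic ↥R)
    (D : Subgroup G) (hD : ∀ x ∈ D, ∀ y ∈ D, x * y = y * x) (hcard : Nat.card ↥D = 4 * k)
    (h4 : ∀ x ∈ D, orderOf x ≠ 4)
    (hN : Nat.card ↥(Subgroup.normalizer (D : Set G)) = 24 * k)
    (hcentD : ∀ x ∈ D, x * x ≠ 1 → Subgroup.centralizer ({x} : Set G) = D)
    (hconj : ∀ x : G, x * x ≠ 1 → x ^ (2 * k) = 1 → ∃ g : G, g * x * g⁻¹ ∈ D) :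
    (∃ A : Subgroup G, IsCyclic ↥A ∧ Nat.card ↥A = k ∧
      Nat.card ↥(Subgroup.normalizer (A : Set G)) = 24 * k ∧
      ∀ A₀ : Subgroup G, A₀ ≤ A → A₀ ≠ ⊥ →
        Subgroup.normalizer (A₀ : Set G) = Subgroup.normalizer (A : Set G)) ∧
    (∀ i : ℕ, 1 < i → i ∣ k →
      Nat.card {x : G // orderOf x = i} * (24 * k) = Nat.totient i * Nat.card G ∧
      Nat.card {x : G // orderOf x = 2 * i} * (24 * k) = 3 * Nat.totient i * Nat.card G) ∧
    Nat.card {x : G // x * x ≠ 1 ∧ x ^ (2 * k) = 1} * (24 * k) = (4 * k - 4) * Nat.card G := by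
  classical
  have hkpos : 0 < k := by omega
  -- [W2-ABEL] on `↥D`
  have hcycD : ∀ p : ℕ, p.Prime → p ∣ k → ∀ R : Subgroup ↥D, IsPGroup p ↥R → IsCyclic ↥R := by
    intro p hp hpk R hR
    haveI : IsCyclic ↥(R.map D.subtype) := hcyc p hp hpk _ (hR.map D.subtype)
    let e := Subgroup.equivMapOfInjective R D.subtype (Subgroup.subtype_injective D)
    exact isCyclic_of_surjective e.symm.toMonoidHom e.symm.surjective
  obtain ⟨hcnt, hord, A', hA'cyc, hA'card, hA'mem⟩ :=
    Cfsg.Agent.Lib.Helper37.ReeW2.card_orderOf_of_four_mul (D := ↥D)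
      (fun x y => Subtype.ext (hD x x.2 y y.2)) k hk hcard
      (fun x => by rw [← Subgroup.orderOf_coe]; exact h4 x x.2) hcycD
  have hordG : ∀ x ∈ D, x ^ (2 * k) = 1 := by
    intro x hx
    have h := hord ⟨x, hx⟩
    rw [← Subgroup.orderOf_coe] at h
    exact orderOf_dvd_iff_pow_eq_one.mp h
  -- an odd-order element with trivial square is trivial
  have hodd : ∀ x : G, x ^ k = 1 → x * x = 1 → x = 1 := by
    intro x h1 h2
    obtain ⟨j, hj⟩ := hk
    have : x ^ k = (x * x) ^ j * x := by rw [hj, pow_succ, pow_mul, pow_two]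
    rw [this, h2, one_pow, one_mul] at h1
    exact h1
  refine ⟨?_, ?_, ?_⟩
  · -- the cyclic subgroup `A` and its normaliser
    set A : Subgroup G := A'.map D.subtype with hA
    have hAmem : ∀ x : G, x ∈ A ↔ x ∈ D ∧ x ^ k = 1 := by
      intro x
      rw [hA, Subgroup.mem_map]
      constructor
      · rintro ⟨y, hy, rfl⟩
        refine ⟨y.2, ?_⟩
        have := (hA'mem y).mp hy
        have h2 := congrArg Subtype.val this
        simpa using h2
      · rintro ⟨hxD, hxk⟩
        refine ⟨⟨x, hxD⟩, (hA'mem _).mpr (Subtype.ext ?_), rfl⟩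
        simpa using hxk
    have hAD : A ≤ D := fun x hx => ((hAmem x).mp hx).1
    let eA := Subgroup.equivMapOfInjective A' D.subtype (Subgroup.subtype_injective D)
    haveI := hA'cyc
    have hAcyc : IsCyclic ↥A := isCyclic_of_surjective eA.toMonoidHom eA.surjective
    have hAcard : Nat.card ↥A = k := by rw [← hA'card]; exact (Nat.card_congr eA.toEquiv).symm
    -- the key: `N(A₀) = N(D)` for `1 ≠ A₀ ≤ A`
    have key : ∀ A₀ : Subgroup G, A₀ ≤ A → A₀ ≠ ⊥ →
        Subgroup.normalizer (A₀ : Set G) = Subgroup.normalizer (D : Set G) := by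
      intro A₀ hA₀ hne
      -- `A₀ = {x ∈ D | x ^ |A₀| = 1}`
      set j := Nat.card ↥A₀ with hj
      have hjk : j ∣ k := by rw [← hAcard]; exact Subgroup.card_dvd_of_le hA₀
      have hjpos : 0 < j := Nat.card_pos
      have hchar : ∀ x : G, x ∈ A₀ ↔ x ∈ D ∧ x ^ j = 1 := by
        intro x
        constructor
        · intro hx
          refine ⟨hAD (hA₀ hx), ?_⟩
          have := Subgroup.orderOf_dvd_natCard A₀ hx
          exact orderOf_dvd_iff_pow_eq_one.mp this
        · rintro ⟨hxD, hxj⟩
          have hxA : x ∈ A := (hAmem x).mpr ⟨hxD, by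
            obtain ⟨c, hc⟩ := hjk
            rw [hc, pow_mul, hxj, one_pow]⟩
          -- count the solutions of `y ^ j = 1` in the cyclic group `A`
          by_contra hxA₀
          haveI := hAcyc
          haveI : Fintype ↥A := Fintype.ofFinite _
          have hle := IsCyclic.card_pow_eq_one_le (α := ↥A) hjpos
          -- the image of `A₀` plus `x`
          let S : Finset ↥A := Finset.univ.filter (fun a : ↥A => a ^ j = 1)
          let S₀ : Finset ↥A := Finset.univ.filter (fun a : ↥A => (a : G) ∈ A₀)
          have hS₀ : S₀.card = j := by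
            show (Finset.univ.filter (fun a : ↥A => (a : G) ∈ A₀)).card = j
            rw [hj, ← Fintype.card_subtype, ← Nat.card_eq_fintype_card]
            apply Nat.card_congr
            exact
              { toFun := fun a => ⟨a.1.1, a.2⟩
                invFun := fun b => ⟨⟨b.1, hA₀ b.2⟩, b.2⟩
                left_inv := fun _ => rfl
                right_inv := fun _ => rfl }
          have hsub : insert (⟨x, hxA⟩ : ↥A) S₀ ⊆ S := by
            intro a ha
            rw [Finset.mem_insert] at ha
            rw [Finset.mem_filter]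
            refine ⟨Finset.mem_univ _, ?_⟩
            rcases ha with rfl | ha
            · apply Subtype.ext; simpa using hxj
            · have := (Finset.mem_filter.mp ha).2
              have h2 := Subgroup.orderOf_dvd_natCard A₀ this
              apply Subtype.ext
              have := orderOf_dvd_iff_pow_eq_one.mp h2
              simpa using this
          have hnot : (⟨x, hxA⟩ : ↥A) ∉ S₀ := by
            intro h
            exact hxA₀ (Finset.mem_filter.mp h).2
          have := Finset.card_le_card hsub
          rw [Finset.card_insert_of_notMem hnot, hS₀] at this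
          have hS : S.card ≤ j := hle
          omega
      -- a non-identity element
      obtain ⟨x₀, hx₀, hx₀1⟩ : ∃ x ∈ A₀, x ≠ 1 := by
        by_contra hcon
        push Not at hcon
        exact hne ((Subgroup.eq_bot_iff_forall _).mpr hcon)
      have hx₀A := (hAmem x₀).mp (hA₀ hx₀)
      have hx₀sq : x₀ * x₀ ≠ 1 := fun h => hx₀1 (hodd x₀ hx₀A.2 h)
      apply le_antisymm
      · -- `N(A₀) ≤ N(D)`
        intro g hg
        have hgx : g * x₀ * g⁻¹ ∈ A₀ := (Subgroup.mem_normalizer_iff.mp hg x₀).mp hx₀
        have h1 := hcentD x₀ hx₀A.1 hx₀sq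
        have h2 := hcentD _ (hAD (hA₀ hgx)) (conj_mul_self_ne_one g hx₀sq)
        apply mem_normalizer_of_map_conj_eq
        rw [← h1, ← centralizer_conj, h2, h1]
      · -- `N(D) ≤ N(A₀)`
        have hstep : ∀ g ∈ Subgroup.normalizer (D : Set G), ∀ h ∈ A₀, g * h * g⁻¹ ∈ A₀ := by
          intro g hg h hh
          obtain ⟨hhD, hhj⟩ := (hchar h).mp hh
          refine (hchar _).mpr ⟨(Subgroup.mem_normalizer_iff.mp hg h).mp hhD, ?_⟩
          rw [conj_pow, hhj]; group
        intro g hg
        rw [Subgroup.mem_normalizer_iff]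
        intro h
        constructor
        · exact hstep g hg h
        · intro hh
          have := hstep g⁻¹ (Subgroup.inv_mem _ hg) _ hh
          have e : g⁻¹ * (g * h * g⁻¹) * g⁻¹⁻¹ = h := by group
          rwa [e] at this
    have hAne : A ≠ ⊥ := by
      intro h
      rw [h] at hAcard
      rw [Subgroup.card_bot] at hAcard
      omega
    have hNA := key A le_rfl hAne
    refine ⟨A, hAcyc, hAcard, by rw [hNA, hN], ?_⟩
    intro A₀ hA₀ hne
    rw [key A₀ hA₀ hne, hNA]
  · -- the orders `i` and `2 i`
    intro i hi hik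
    obtain ⟨c1, c2⟩ := hcnt i hik
    have hiodd : Odd i := by
      obtain ⟨c, hc⟩ := hik
      rw [hc] at hk
      exact (Nat.odd_mul.mp hk).1
    constructor
    · have := count_D k D hN hcentD hconj (fun x => orderOf x = i)
        (fun g x hx => by rw [orderOf_conj']; exact hx)
        (fun x hx => by
          constructor
          · intro h2
            have h3 : orderOf x ∣ 2 := orderOf_dvd_iff_pow_eq_one.mpr (by rw [pow_two]; exact h2)
            rw [hx] at h3
            have : i ≤ 2 := Nat.le_of_dvd (by norm_num) h3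
            have : i = 2 := by omega
            rw [this] at hiodd
            exact absurd hiodd (by decide)
          · apply orderOf_dvd_iff_pow_eq_one.mp
            rw [hx]
            exact hik.trans (Dvd.intro_left 2 rfl))
      rw [this]
      congr 1
      rw [← c1]
      apply Nat.card_congr
      exact Equiv.subtypeEquivRight (fun y => by rw [Subgroup.orderOf_coe])
    · have := count_D k D hN hcentD hconj (fun x => orderOf x = 2 * i)
        (fun g x hx => by rw [orderOf_conj']; exact hx)
        (fun x hx => by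
          constructor
          · intro h2
            have h3 : orderOf x ∣ 2 := orderOf_dvd_iff_pow_eq_one.mpr (by rw [pow_two]; exact h2)
            rw [hx] at h3
            have : 2 * i ≤ 2 := Nat.le_of_dvd (by norm_num) h3
            omega
          · apply orderOf_dvd_iff_pow_eq_one.mp
            rw [hx]
            exact Nat.mul_dvd_mul_left 2 hik)
      rw [this]
      congr 1
      rw [← c2]
      apply Nat.card_congr
      exact Equiv.subtypeEquivRight (fun y => by rw [Subgroup.orderOf_coe])
  · -- the total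
    have := count_D k D hN hcentD hconj (fun x => x * x ≠ 1 ∧ x ^ (2 * k) = 1)
      (fun g x hx => ⟨conj_mul_self_ne_one g hx.1, by rw [conj_pow, hx.2]; group⟩)
      (fun x hx => hx)
    rw [this]
    congr 1
    -- `#{y ∈ D | y * y ≠ 1} = 4 k - 4`
    obtain ⟨c1, c2⟩ := hcnt 1 (one_dvd k)
    rw [Nat.totient_one] at c1 c2
    haveI : Fintype ↥D := Fintype.ofFinite _
    have hsplit : Nat.card {y : ↥D // ((y : G) * (y : G) ≠ 1 ∧ (y : G) ^ (2 * k) = 1)} +
        (Nat.card {y : ↥D // orderOf y = 1} + Nat.card {y : ↥D // orderOf y = 2 * 1}) = Nat.card ↥D := by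
      simp only [Nat.card_eq_fintype_card, Fintype.card_subtype]
      rw [← Finset.card_union_of_disjoint, ← Finset.card_union_of_disjoint, ← Finset.card_univ]
      · congr 1
        ext y
        simp only [Finset.mem_union, Finset.mem_filter, Finset.mem_univ, true_and, iff_true]
        by_cases h : (y : G) * (y : G) = 1
        · right
          have h3 : orderOf y ∣ 2 := by
            rw [← Subgroup.orderOf_coe]
            exact orderOf_dvd_iff_pow_eq_one.mpr (by rw [pow_two]; exact h)
          have : orderOf y = 1 ∨ orderOf y = 2 := (Nat.dvd_prime Nat.prime_two).mp h3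
          rcases this with h | h
          · left; exact h
          · right; rw [h]
        · left
          exact ⟨h, hordG y y.2⟩
      · rw [Finset.disjoint_left]
        intro y hy1 hy2
        rw [Finset.mem_filter] at hy1
        rw [Finset.mem_union, Finset.mem_filter, Finset.mem_filter] at hy2
        apply hy1.2.1
        have h3 : orderOf (y : G) ∣ 2 := by
          rw [Subgroup.orderOf_coe]
          rcases hy2 with h | h
          · rw [h.2]; exact one_dvd 2
          · rw [h.2]
        have := orderOf_dvd_iff_pow_eq_one.mp h3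
        rwa [pow_two] at this
      · rw [Finset.disjoint_left]
        intro y hy1 hy2
        rw [Finset.mem_filter] at hy1 hy2
        have h1 := hy1.2
        have h2 := hy2.2
        omega
    rw [c1, c2, hcard] at hsplit
    omega

end Cfsg.Agent.Lib.Helper11.ReeW2
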