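/-
helper11 library (module REEW2-[W2-PSL2EXP3] of helper61's project REEW2): the 3-elements of `PSL₂(K)`, `K` of
characteristic 3, have order 3.
-/
import Mathlib

set_option autoImplicit false

namespace Cfsg.Agent.Lib.Helper11.ReeW2

open Matrix

variable {K : Type*} [Field K]

/-- Cayley–Hamilton for a `2 × 2` matrix of determinant one -/
theorem sq_eq_of_det_one (M : Matrix (Fin 2) (Fin 2) K) (hdet : M.det = 1) :
    M * M = M.trace • M - 1 := by
  have h := Matrix.aeval_self_charpoly M
  rw [Matrix.charpoly_fin_two, hdet] at h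
  simp only [map_sub, map_add, map_mul, map_pow, Polynomial.aeval_X, Polynomial.aeval_C, map_one,
    Algebra.algebraMap_eq_smul_one, smul_mul_assoc, one_mul] at h
  rw [pow_two] at h
  have h' : M * M = M.trace • M - 1 := by
    rw [eq_sub_iff_add_eq, ← sub_eq_zero]
    rw [← h]
    abel
  exact h'

/-- the cube in terms of the trace -/
theorem cube_eq_of_det_one (M : Matrix (Fin 2) (Fin 2) K) (hdet : M.det = 1) :
    M * M * M = (M.trace ^ 2 - 1) • M - M.trace • (1 : Matrix (Fin 2) (Fin 2) K) := by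
  have h2 := sq_eq_of_det_one M hdet
  calc M * M * M = (M.trace • M - 1) * M := by rw [h2]
    _ = M.trace • (M * M) - M := by rw [sub_mul, smul_mul_assoc, one_mul]
    _ = M.trace • (M.trace • M - 1) - M := by rw [h2]
    _ = (M.trace ^ 2 - 1) • M - M.trace • (1 : Matrix (Fin 2) (Fin 2) K) := by
        rw [smul_sub, smul_smul, sub_smul, one_smul, pow_two]
        abel

theorem trace_cube [CharP K 3] (M : Matrix (Fin 2) (Fin 2) K) (hdet : M.det = 1) :
    (M * M * M).trace = M.trace ^ 3 := by
  rw [cube_eq_of_det_one M hdet, Matrix.trace_sub, Matrix.trace_smul, Matrix.trace_smul, Matrix.trace_one,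
    Fintype.card_fin, smul_eq_mul, smul_eq_mul]
  have h3 : (3 : K) = 0 := by
    have := CharP.cast_eq_zero K 3
    exact_mod_cast this
  have : ((2 : ℕ) : K) = 2 := by norm_num
  rw [this]
  linear_combination (-M.trace) * h3

theorem pow_nine_inj [CharP K 3] {a b : K} (h : a ^ 9 = b ^ 9) : a = b := by
  have h9 : (9 : ℕ) = 3 ^ 2 := by norm_num
  rw [h9] at h
  have := sub_pow_char_pow (R := K) (p := 3) (n := 2) a b
  rw [h, sub_self] at this
  exact sub_eq_zero.mp (pow_eq_zero_iff (by norm_num) |>.mp this)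

/-- module REEW2-[W2-PSL2EXP3] -/
theorem psl2_pow_three_of_pow_nine {K : Type*} [Field K] [Fintype K] [CharP K 3]
    (x : Matrix.ProjectiveSpecialLinearGroup (Fin 2) K) (hx : x ^ 9 = 1) : x ^ 3 = 1 := by
  obtain ⟨A, rfl⟩ := QuotientGroup.mk_surjective x
  have h3 : (3 : K) = 0 := by
    have := CharP.cast_eq_zero K 3
    exact_mod_cast this
  -- `A ^ 9` is a scalar matrix `r • 1` with `r ^ 2 = 1`
  have h9 : A ^ 9 ∈ Subgroup.center (SpecialLinearGroup (Fin 2) K) := by
    rw [← QuotientGroup.eq_one_iff]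
    exact hx
  obtain ⟨r, hr, hrA⟩ := Matrix.SpecialLinearGroup.mem_center_iff.mp h9
  rw [Fintype.card_fin] at hr
  set M : Matrix (Fin 2) (Fin 2) K := (A : Matrix (Fin 2) (Fin 2) K) with hM
  have hdet : M.det = 1 := A.2
  have hdet3 : (M * M * M).det = 1 := by rw [Matrix.det_mul, Matrix.det_mul, hdet]; ring
  -- the trace of `A ^ 9`
  have hM9 : M ^ 9 = (M * M * M) * (M * M * M) * (M * M * M) := by
    simp only [pow_succ, pow_zero, one_mul, Matrix.mul_assoc]
  have htr9 : (M ^ 9).trace = M.trace ^ 9 := by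
    rw [hM9, trace_cube _ hdet3, trace_cube _ hdet]
    ring
  have hM9' : M ^ 9 = Matrix.scalar (Fin 2) r := by
    rw [Matrix.SpecialLinearGroup.coe_pow] at hrA
    exact hrA.symm
  have htr : M.trace ^ 9 = 2 * r := by
    rw [← htr9, hM9', Matrix.scalar_apply, Matrix.trace_diagonal]
    simp [two_mul]
  -- `(2 r) ^ 9 = 2 r`
  have hr9 : (2 * r) ^ 9 = 2 * r := by
    have h8 : r ^ 8 = 1 := by
      calc r ^ 8 = (r ^ 2) ^ 4 := by ring
        _ = 1 := by rw [hr, one_pow]
    have : (2 * r) ^ 9 = 512 * (r ^ 8 * r) := by ring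
    rw [this, h8, one_mul]
    linear_combination (170 * r) * h3
  have hτ : M.trace = 2 * r := pow_nine_inj (htr.trans hr9.symm)
  -- `A ^ 3 = r • 1`
  have hcube : M * M * M = Matrix.scalar (Fin 2) r := by
    rw [cube_eq_of_det_one M hdet, hτ]
    have e1 : ((2 * r) ^ 2 - 1 : K) = 0 := by
      have : (2 * r) ^ 2 = 4 * r ^ 2 := by ring
      rw [this, hr]
      linear_combination h3
    rw [e1, zero_smul, zero_sub]
    ext i j
    simp only [Matrix.neg_apply, Matrix.smul_apply, Matrix.scalar_apply, Matrix.diagonal_apply,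
      Matrix.one_apply, smul_eq_mul]
    by_cases hij : i = j
    · simp only [hij, if_true]
      linear_combination (-r) * h3
    · simp [hij]
  have hA3 : A ^ 3 ∈ Subgroup.center (SpecialLinearGroup (Fin 2) K) := by
    rw [Matrix.SpecialLinearGroup.mem_center_iff]
    refine ⟨r, by rw [Fintype.card_fin]; exact hr, ?_⟩
    rw [Matrix.SpecialLinearGroup.coe_pow, ← hcube]
    simp only [pow_succ, pow_zero, one_mul]
    rfl
  have : ((A ^ 3 : SpecialLinearGroup (Fin 2) K) : Matrix.ProjectiveSpecialLinearGroup (Fin 2) K) = 1 :=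
    (QuotientGroup.eq_one_iff _).mpr hA3
  exact this

end Cfsg.Agent.Lib.Helper11.ReeW2
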