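/-
helper11 library (module REEW2-[W2-TORI-B] of helper61's project REEW2, exact statement): Ward's class count gives
the two cyclic tori of order `q ∓ r + 1` of the small Ree groups, with normalisers of index 6.
-/
import Mathlib
import Cfsg.Agent.Lib.Helper11.ReeW2Arith
import Cfsg.Agent.Lib.Helper11.ReeW2ToriB

set_option autoImplicit false

namespace Cfsg.Agent.Lib.Helper11.ReeW2

/-- module REEW2-[W2-TORI-B] -/
theorem exists_tori {G : Type*} [Group G] [Finite G] (m : ℕ) (hm : 1 ≤ m)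
    (hcard : Nat.card G = (3 ^ (2 * m + 1)) ^ 3 * (3 ^ (2 * m + 1) - 1) * ((3 ^ (2 * m + 1)) ^ 3 + 1))
    (hstruct : ∀ x : G, x ≠ 1 → x ^ ((3 ^ (2 * m + 1)) ^ 2 - 3 ^ (2 * m + 1) + 1) = 1 →
      Nat.card ↥(Subgroup.centralizer ({x} : Set G)) ∣ (3 ^ (2 * m + 1)) ^ 2 - 3 ^ (2 * m + 1) + 1 ∧
      (∀ z ∈ Subgroup.centralizer ({x} : Set G), z ≠ 1 →
        Subgroup.centralizer ({z} : Set G) = Subgroup.centralizer ({x} : Set G)) ∧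
      (∀ p : ℕ, p.Prime → p ∣ Nat.card ↥(Subgroup.centralizer ({x} : Set G)) →
        (Nat.card ↥(Subgroup.centralizer ({x} : Set G))).factorization p
          = ((3 ^ (2 * m + 1)) ^ 2 - 3 ^ (2 * m + 1) + 1).factorization p))
    (hconj : ∀ x y : G, x ≠ 1 → y ≠ 1 → x ^ ((3 ^ (2 * m + 1)) ^ 2 - 3 ^ (2 * m + 1) + 1) = 1 →
      y ^ ((3 ^ (2 * m + 1)) ^ 2 - 3 ^ (2 * m + 1) + 1) = 1 →
      Nat.card ↥(Subgroup.centralizer ({x} : Set G)) = Nat.card ↥(Subgroup.centralizer ({y} : Set G)) →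
      ∃ g : G, Subgroup.centralizer ({y} : Set G)
        = (Subgroup.centralizer ({x} : Set G)).map (MulAut.conj g).toMonoidHom)
    (hnorm : ∀ x : G, x ≠ 1 → x ^ ((3 ^ (2 * m + 1)) ^ 2 - 3 ^ (2 * m + 1) + 1) = 1 →
      ∃ e : ℕ, (e = 1 ∨ e = 2 ∨ e = 3 ∨ e = 6) ∧
        Nat.card ↥(Subgroup.normalizer ((Subgroup.centralizer ({x} : Set G) : Subgroup G) : Set G))
          = e * Nat.card ↥(Subgroup.centralizer ({x} : Set G)))
    (hcount : 3 * Nat.card {x : G // x ≠ 1 ∧ x ^ ((3 ^ (2 * m + 1)) ^ 2 - 3 ^ (2 * m + 1) + 1) = 1}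
      = (3 ^ (2 * m + 1)) ^ 4 * ((3 ^ (2 * m + 1)) ^ 2 - 1) * (3 ^ (2 * m + 1) - 2)) :
    (∀ x : G, x ≠ 1 → x ^ ((3 ^ (2 * m + 1)) ^ 2 - 3 ^ (2 * m + 1) + 1) = 1 →
      (Nat.card ↥(Subgroup.centralizer ({x} : Set G)) = 3 ^ (2 * m + 1) - 3 ^ (m + 1) + 1 ∨
        Nat.card ↥(Subgroup.centralizer ({x} : Set G)) = 3 ^ (2 * m + 1) + 3 ^ (m + 1) + 1) ∧
      Nat.card ↥(Subgroup.normalizer ((Subgroup.centralizer ({x} : Set G) : Subgroup G) : Set G))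
        = 6 * Nat.card ↥(Subgroup.centralizer ({x} : Set G))) ∧
    (∃ x : G, x ≠ 1 ∧ x ^ ((3 ^ (2 * m + 1)) ^ 2 - 3 ^ (2 * m + 1) + 1) = 1 ∧
      Nat.card ↥(Subgroup.centralizer ({x} : Set G)) = 3 ^ (2 * m + 1) - 3 ^ (m + 1) + 1) ∧
    (∃ x : G, x ≠ 1 ∧ x ^ ((3 ^ (2 * m + 1)) ^ 2 - 3 ^ (2 * m + 1) + 1) = 1 ∧
      Nat.card ↥(Subgroup.centralizer ({x} : Set G)) = 3 ^ (2 * m + 1) + 3 ^ (m + 1) + 1) :=
  exists_tori_of_arith m (fun Δ e n => tori_arith m hm Δ e n) hcard hstruct hconj hnorm hcount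

end Cfsg.Agent.Lib.Helper11.ReeW2
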