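import Mathlib
import Cfsg.Prelude.Def_PLocal
import Cfsg.Agent.S0655
import Cfsg.Agent.Lib.Helper11.Replacement

/-!
# Glauberman's replacement theorem: the rank of `A*` is at least that of `A` (odd `p`)
-/

set_option autoImplicit false
open Cfsg
open scoped commutatorElement

namespace Cfsg.Agent.Lib.Helper11

/-- A counting lemma: a map `E → E'` that reflects congruence modulo `I` gives `|E| ≤ |E'|`
as soon as `E ∩ I ≤ E'`. -/
theorem card_le_of_coset_injection {S : Type*} [Group S] [Finite S] (E E' I : Subgroup S)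
    (f : S → S) (hf : ∀ e ∈ E, f e ∈ E')
    (hinj : ∀ e ∈ E, ∀ e' ∈ E, (f e)⁻¹ * f e' ∈ I → e⁻¹ * e' ∈ I)
    (hle : E ⊓ I ≤ E') : Nat.card E ≤ Nat.card E' := by
  classical
  have h1 := Subgroup.card_eq_card_quotient_mul_card_subgroup (I.subgroupOf E)
  have h2 := Subgroup.card_eq_card_quotient_mul_card_subgroup (I.subgroupOf E')
  rw [h1, h2]
  apply Nat.mul_le_mul
  · let φ : ↥E ⧸ I.subgroupOf E → ↥E' ⧸ I.subgroupOf E' := fun q =>
      QuotientGroup.mk ⟨f q.out.1, hf _ q.out.2⟩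
    apply Nat.card_le_card_of_injective φ
    intro q q' hqq
    have h3 : (⟨f q.out.1, hf _ q.out.2⟩ : ↥E')⁻¹ * ⟨f q'.out.1, hf _ q'.out.2⟩ ∈ I.subgroupOf E' :=
      QuotientGroup.eq.mp hqq
    rw [Subgroup.mem_subgroupOf] at h3
    have h4 := hinj _ q.out.2 _ q'.out.2 (by simpa using h3)
    have h5 : (q.out)⁻¹ * q'.out ∈ I.subgroupOf E := by
      rw [Subgroup.mem_subgroupOf]; simpa using h4
    have h6 : (QuotientGroup.mk q.out : ↥E ⧸ I.subgroupOf E) = QuotientGroup.mk q'.out :=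
      QuotientGroup.eq.mpr h5
    rwa [QuotientGroup.out_eq', QuotientGroup.out_eq'] at h6
  · let ψ : I.subgroupOf E → I.subgroupOf E' := fun x =>
      ⟨⟨x.1.1, hle ⟨x.1.2, Subgroup.mem_subgroupOf.mp x.2⟩⟩, by
        rw [Subgroup.mem_subgroupOf]; exact Subgroup.mem_subgroupOf.mp x.2⟩
    apply Nat.card_le_card_of_injective ψ
    intro x y hxy
    have : x.1.1 = y.1.1 := by
      have := congrArg (fun z : I.subgroupOf E' => z.1.1) hxy
      exact this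
    exact Subtype.ext (Subtype.ext this)

theorem mem_omegaOne_iff_of_comm {S : Type*} [Group S] (p : ℕ) (X : Subgroup S)
    (hX : ∀ x ∈ X, ∀ y ∈ X, x * y = y * x) (x : S) :
    x ∈ omegaOne p X ↔ x ∈ X ∧ x ^ p = 1 := by
  constructor
  · intro hx
    refine ⟨?_, ?_⟩
    · have : omegaOne p X ≤ X := by
        unfold omegaOne
        rw [Subgroup.closure_le]
        intro y hy; exact hy.1
      exact this hx
    · exact Cfsg.Agent.S0655.closure_pow_eq_one p _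
        (fun y hy z hz => hX y hy.1 z hz.1) (fun y hy => hy.2) x hx
  · intro hx
    exact Subgroup.subset_closure hx

variable {S : Type*} [Group S]

section rank

variable [Finite S] {p : ℕ} [hp : Fact p.Prime] (hS : IsPGroup p S)
  (A B : Subgroup S) (b : S) [hBn : B.Normal]
  (hB2 : p = 2 → IsMulCommutative B)
  (hA : IsMulCommutative A)
  (hBA : ⁅B, B⁆ ≤ A)
  (hb : b ∈ B)
  (hbN : b ∈ Subgroup.normalizer ((Subgroup.normalizer (A : Set S) : Subgroup S) : Set S))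

include hA hbN in
/-- for odd `p`, `a ↦ a b⁻¹ a⁻¹ b` maps elements of order dividing `p` to such elements. -/
theorem gen_pow_eq_one (hp2 : p ≠ 2) (a : S) (ha : a ∈ A) (hap : a ^ p = 1) :
    (a * b⁻¹ * a⁻¹ * b) ^ p = 1 := by
  have hAc := comm_of_isMulCommutative A hA
  obtain ⟨t, ht⟩ := hp.out.odd_of_ne_two hp2
  have hchoose : p.choose 2 = p * t := by
    rw [Nat.choose_two_right, ht]
    have : (2 * t + 1) * (2 * t + 1 - 1) = 2 * ((2 * t + 1) * t) := by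
      rw [Nat.add_sub_cancel]; ring
    rw [this, Nat.mul_div_cancel_left _ (by norm_num : 0 < 2)]
  have hy : b⁻¹ * a⁻¹ * b ∈ conjA A b := conj_mem_conjA A b a⁻¹ (A.inv_mem ha)
  have hz : (b⁻¹ * a⁻¹ * b)⁻¹ * a⁻¹ * (b⁻¹ * a⁻¹ * b) * a ∈ interA A b := by
    have := (comm_mem_interA A b hbN a⁻¹ (b⁻¹ * a⁻¹ * b)⁻¹ (A.inv_mem ha)
      (Subgroup.inv_mem _ hy)).2
    simpa [commutatorElement_def] using this
  have hcenA := sup_le_centralizer_interA A b hAc (Subgroup.mem_sup_left ha)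
  have hceny := sup_le_centralizer_interA A b hAc (Subgroup.mem_sup_right hy)
  have hzx := Subgroup.mem_centralizer_iff.mp hcenA _ hz
  have hzy := Subgroup.mem_centralizer_iff.mp hceny _ hz
  have hform := mul_pow_class_two a (b⁻¹ * a⁻¹ * b)
    ((b⁻¹ * a⁻¹ * b)⁻¹ * a⁻¹ * (b⁻¹ * a⁻¹ * b) * a) (by group) hzx hzy p
  -- z ^ p = 1
  have hzp : ((b⁻¹ * a⁻¹ * b)⁻¹ * a⁻¹ * (b⁻¹ * a⁻¹ * b) * a) ^ p = 1 := by
    -- y⁻¹ a⁻¹ y = z a⁻¹
    have hconj : (b⁻¹ * a⁻¹ * b)⁻¹ * a⁻¹ * (b⁻¹ * a⁻¹ * b) =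
        ((b⁻¹ * a⁻¹ * b)⁻¹ * a⁻¹ * (b⁻¹ * a⁻¹ * b) * a) * a⁻¹ := by group
    have h1 : ((b⁻¹ * a⁻¹ * b)⁻¹ * a⁻¹ * (b⁻¹ * a⁻¹ * b)) ^ p = 1 := by
      have h := map_pow (MulAut.conj (b⁻¹ * a⁻¹ * b)⁻¹) a⁻¹ p
      simp only [MulAut.conj_apply, inv_inv] at h
      rw [← h, inv_pow, hap, inv_one]; group
    rw [hconj] at h1
    have hcomm : Commute ((b⁻¹ * a⁻¹ * b)⁻¹ * a⁻¹ * (b⁻¹ * a⁻¹ * b) * a) a⁻¹ := by
      have : Commute ((b⁻¹ * a⁻¹ * b)⁻¹ * a⁻¹ * (b⁻¹ * a⁻¹ * b) * a) a := hzx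
      exact this.inv_right
    rw [hcomm.mul_pow, inv_pow, hap, inv_one, mul_one] at h1
    exact h1
  have e1 : a * b⁻¹ * a⁻¹ * b = a * (b⁻¹ * a⁻¹ * b) := by group
  rw [e1, hform, hap, hchoose, pow_mul, hzp, one_pow, mul_one, one_mul]
  have : (b⁻¹ * a⁻¹ * b) ^ p = b⁻¹ * (a⁻¹) ^ p * b := by
    have h := map_pow (MulAut.conj b⁻¹) a⁻¹ p
    simp only [MulAut.conj_apply, inv_inv] at h
    exact h.symm
  rw [this, inv_pow, hap]; group

include hS hB2 hA hBA hb hbN in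
/-- for odd `p`, `|Ω₁(A)| ≤ |Ω₁(A*)|`. -/
theorem card_omegaOne_le_starA (hp2 : p ≠ 2) :
    Nat.card (omegaOne p A) ≤ Nat.card (omegaOne p (starA A b)) := by
  have hAc := comm_of_isMulCommutative A hA
  have hstarc := starA_comm hS A B b hB2 hA hBA hb hbN
  have hI_le_star : interA A b ≤ starA A b := le_sup_left
  have hgen_star : ∀ a ∈ A, a * b⁻¹ * a⁻¹ * b ∈ starA A b := fun a ha =>
    (le_sup_right : commA A b ≤ starA A b) (Subgroup.subset_closure ⟨a, ha, rfl⟩)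
  apply card_le_of_coset_injection (omegaOne p A) (omegaOne p (starA A b)) (interA A b)
    (fun a => a * b⁻¹ * a⁻¹ * b)
  · intro e he
    rw [mem_omegaOne_iff_of_comm p A hAc] at he
    rw [mem_omegaOne_iff_of_comm p _ hstarc]
    exact ⟨hgen_star e he.1, gen_pow_eq_one A b hA hbN hp2 e he.1 he.2⟩
  · intro e he e' he' h
    rw [mem_omegaOne_iff_of_comm p A hAc] at he he'
    have heA : e ∈ A := he.1
    have he'A : e' ∈ A := he'.1
    have he''A : e⁻¹ * e' ∈ A := A.mul_mem (A.inv_mem heA) he'A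
    have hμ := gen_mul A b hAc hbN e (e⁻¹ * e') heA he''A
    have e2 : e * (e⁻¹ * e') = e' := by group
    rw [e2] at hμ
    -- gen e'' = (gen e)⁻¹ gen e' * i₀
    have h3 : (e⁻¹ * e') * b⁻¹ * (e⁻¹ * e')⁻¹ * b ∈ interA A b := by
      have e3 : (e⁻¹ * e') * b⁻¹ * (e⁻¹ * e')⁻¹ * b =
          ((e * b⁻¹ * e⁻¹ * b)⁻¹ * (e' * b⁻¹ * e'⁻¹ * b)) *
          ((e' * b⁻¹ * e'⁻¹ * b)⁻¹ * ((e * b⁻¹ * e⁻¹ * b) *
            ((e⁻¹ * e') * b⁻¹ * (e⁻¹ * e')⁻¹ * b))) := by group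
      rw [e3]
      exact Subgroup.mul_mem _ h hμ
    exact (gen_mem_interA_iff A B b hBA hb _ he''A).mp h3
  · intro x hx
    have hx1 := (mem_omegaOne_iff_of_comm p A hAc x).mp hx.1
    rw [mem_omegaOne_iff_of_comm p _ hstarc]
    exact ⟨hI_le_star hx.2, hx1.2⟩

end rank

end Cfsg.Agent.Lib.Helper11
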