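/-
helper11, project S1936 (helper22's sheet, module Q8 = §E0, hedge of helper81's row): a finite group all of whose
2-subgroups are abelian has no section isomorphic to `SL(2, ZMod p)`, `p` odd (the hypothesis `hfree` of S0118).
-/
import Mathlib

set_option autoImplicit false
set_option linter.unusedVariables false

namespace Cfsg.Agent.Lib.Helper11.S1936Q8

open Matrix

/-- the two generators of a quaternion subgroup of `SL(2, p)` -/
theorem exists_quaternion_pair (p : ℕ) [Fact p.Prime] (hp : p ≠ 2) :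
    ∃ i j : Matrix.SpecialLinearGroup (Fin 2) (ZMod p),
      i ^ 4 = 1 ∧ j ^ 4 = 1 ∧ j * i * j⁻¹ = i⁻¹ ∧ i * j ≠ j * i := by
  obtain ⟨a, b, hab⟩ := ZMod.sq_add_sq p (-1 : ZMod p)
  have h2 : (2 : ZMod p) ≠ 0 := by
    intro h
    have h' : ((2 : ℕ) : ZMod p) = 0 := by exact_mod_cast h
    rw [ZMod.natCast_eq_zero_iff] at h'
    have := (Nat.prime_dvd_prime_iff_eq (Fact.out : p.Prime) Nat.prime_two).mp h'
    exact hp this
  let iM : Matrix (Fin 2) (Fin 2) (ZMod p) := !![a, b; b, -a]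
  let jM : Matrix (Fin 2) (Fin 2) (ZMod p) := !![0, -1; 1, 0]
  have hi : iM.det = 1 := by
    simp only [iM, Matrix.det_fin_two_of]
    linear_combination (-1 : ZMod p) * hab
  have hj : jM.det = 1 := by
    simp [jM, Matrix.det_fin_two_of]
  let i : Matrix.SpecialLinearGroup (Fin 2) (ZMod p) := ⟨iM, hi⟩
  let j : Matrix.SpecialLinearGroup (Fin 2) (ZMod p) := ⟨jM, hj⟩
  have hii : iM * iM = -1 := by
    ext r c
    fin_cases r <;> fin_cases c <;> simp [iM, Matrix.mul_apply, Fin.sum_univ_two]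
    · linear_combination hab
    · ring
    · ring
    · linear_combination hab
  have hjj : jM * jM = -1 := by
    ext r c
    fin_cases r <;> fin_cases c <;> simp [jM, Matrix.mul_apply, Fin.sum_univ_two]
  have hji : jM * iM = -(iM * jM) := by
    ext r c
    fin_cases r <;> fin_cases c <;> simp [iM, jM, Matrix.mul_apply, Fin.sum_univ_two]
  refine ⟨i, j, ?_, ?_, ?_, ?_⟩
  · apply Subtype.ext
    show ((i ^ 4 : Matrix.SpecialLinearGroup (Fin 2) (ZMod p)) : Matrix (Fin 2) (Fin 2) (ZMod p)) = 1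
    rw [Matrix.SpecialLinearGroup.coe_pow]
    show iM ^ 4 = 1
    have : iM ^ 4 = (iM * iM) * (iM * iM) := by noncomm_ring
    rw [this, hii]
    simp
  · apply Subtype.ext
    show ((j ^ 4 : Matrix.SpecialLinearGroup (Fin 2) (ZMod p)) : Matrix (Fin 2) (Fin 2) (ZMod p)) = 1
    rw [Matrix.SpecialLinearGroup.coe_pow]
    show jM ^ 4 = 1
    have : jM ^ 4 = (jM * jM) * (jM * jM) := by noncomm_ring
    rw [this, hjj]
    simp
  · -- `j i j⁻¹ = i⁻¹`, i.e. `j i = i⁻¹ j`, i.e. `i j i = j`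
    rw [mul_inv_eq_iff_eq_mul, eq_inv_mul_iff_mul_eq]
    apply Subtype.ext
    show iM * (jM * iM) = jM
    rw [hji, Matrix.mul_neg, ← Matrix.mul_assoc, hii]
    simp
  · intro h
    have h1 : iM * jM = jM * iM := congrArg Subtype.val h
    rw [hji] at h1
    -- `2 (i j) = 0`
    have h3 : (2 : ZMod p) • (iM * jM) = 0 := by
      rw [two_smul]
      nth_rewrite 2 [h1]
      rw [add_neg_cancel]
    have h4 : iM * jM = 0 := by
      have := congrArg (fun M => (2 : ZMod p)⁻¹ • M) h3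
      simpa [smul_smul, inv_mul_cancel₀ h2] using this
    have h5 : (iM * jM).det = 1 := by rw [Matrix.det_mul, hi, hj, mul_one]
    rw [h4, Matrix.det_zero] at h5
    exact zero_ne_one h5

/-- `SL(2, p)`, `p` odd, has a non-commutative `2`-subgroup -/
theorem exists_noncomm_two_subgroup (p : ℕ) [Fact p.Prime] (hp : p ≠ 2) :
    ∃ (Q : Subgroup (Matrix.SpecialLinearGroup (Fin 2) (ZMod p))) (i j : Matrix.SpecialLinearGroup (Fin 2) (ZMod p)),
      IsPGroup 2 Q ∧ i ∈ Q ∧ j ∈ Q ∧ i * j ≠ j * i := by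
  obtain ⟨i, j, hi4, hj4, hconj, hne⟩ := exists_quaternion_pair p hp
  have hpz : ∀ x : Matrix.SpecialLinearGroup (Fin 2) (ZMod p), x ^ 4 = 1 → IsPGroup 2 (Subgroup.zpowers x) := by
    intro x hx g
    refine ⟨2, ?_⟩
    obtain ⟨g, hg⟩ := g
    obtain ⟨n, rfl⟩ := Subgroup.mem_zpowers_iff.mp hg
    apply Subtype.ext
    show (x ^ n) ^ (2 ^ 2) = 1
    have h44 : (x ^ n) ^ (2 ^ 2 : ℕ) = (x ^ (4 : ℕ)) ^ n := by
      rw [← zpow_natCast, ← zpow_natCast, ← _root_.zpow_mul, ← _root_.zpow_mul, mul_comm]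
      norm_num
    rw [h44, hx, _root_.one_zpow]
  have hnorm : Subgroup.zpowers j ≤ Subgroup.normalizer (Subgroup.zpowers i : Set _) := by
    rw [Subgroup.zpowers_le]
    rw [Subgroup.mem_normalizer_iff]
    have hconj' : j⁻¹ * i * j = i⁻¹ := by
      have : i = j⁻¹ * i⁻¹ * j := by
        rw [← hconj]; group
      calc j⁻¹ * i * j = (j⁻¹ * i⁻¹ * j)⁻¹ := by group
        _ = i⁻¹ := by rw [← this]
    intro n
    constructor
    · intro hn
      obtain ⟨k, rfl⟩ := Subgroup.mem_zpowers_iff.mp hn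
      have : j * i ^ k * j⁻¹ = (j * i * j⁻¹) ^ k := by
        rw [← MulAut.conj_apply, map_zpow, MulAut.conj_apply]
      rw [this, hconj]
      exact Subgroup.zpow_mem _ (Subgroup.inv_mem _ (Subgroup.mem_zpowers i)) k
    · intro hn
      obtain ⟨k, hk⟩ := Subgroup.mem_zpowers_iff.mp hn
      have h1 : n = j⁻¹ * (i ^ k) * j := by rw [hk]; group
      have h2 : j⁻¹ * i ^ k * j = (j⁻¹ * i * j) ^ k := by
        have := map_zpow (MulAut.conj j⁻¹) i k
        simpa [MulAut.conj_apply] using this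
      rw [h1, h2, hconj']
      exact Subgroup.zpow_mem _ (Subgroup.inv_mem _ (Subgroup.mem_zpowers i)) k
  refine ⟨Subgroup.zpowers j ⊔ Subgroup.zpowers i, i, j,
    IsPGroup.to_sup_of_normal_right' (hpz j hj4) (hpz i hi4) hnorm, ?_, ?_, hne⟩
  · exact (le_sup_right : Subgroup.zpowers i ≤ _) (Subgroup.mem_zpowers i)
  · exact (le_sup_left : Subgroup.zpowers j ≤ _) (Subgroup.mem_zpowers j)

/-- a finite group with a surjection onto a group with a non-commutative `2`-subgroup has a non-commutative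
`2`-subgroup -/
theorem exists_noncomm_of_surjective {H L : Type*} [Group H] [Finite H] [Group L] (φ : H →* L)
    (hφ : Function.Surjective φ) (Q : Subgroup L) (hQ : IsPGroup 2 Q) (i j : L) (hi : i ∈ Q) (hj : j ∈ Q)
    (hne : i * j ≠ j * i) :
    ∃ (S : Subgroup H) (x y : H), IsPGroup 2 S ∧ x ∈ S ∧ y ∈ S ∧ x * y ≠ y * x := by
  have : Fact (Nat.Prime 2) := ⟨Nat.prime_two⟩
  let ψ : ↥(Q.comap φ) →* ↥Q := φ.subgroupComap Q
  have hψ : Function.Surjective ψ := φ.subgroupComap_surjective_of_surjective Q hφ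
  let P : Sylow 2 ↥(Q.comap φ) := default
  have htop : IsPGroup 2 (⊤ : Subgroup ↥Q) := by
    intro g
    obtain ⟨k, hk⟩ := hQ g.1
    exact ⟨k, Subtype.ext hk⟩
  have hmap : (⊤ : Subgroup ↥Q) = (P.mapSurjective hψ : Subgroup ↥Q) :=
    (P.mapSurjective hψ).is_maximal' htop le_top
  have hi' : (⟨i, hi⟩ : ↥Q) ∈ (P : Subgroup ↥(Q.comap φ)).map ψ := by
    rw [← Sylow.coe_mapSurjective hψ P, ← hmap]; trivial
  have hj' : (⟨j, hj⟩ : ↥Q) ∈ (P : Subgroup ↥(Q.comap φ)).map ψ := by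
    rw [← Sylow.coe_mapSurjective hψ P, ← hmap]; trivial
  obtain ⟨x, hxP, hx⟩ := hi'
  obtain ⟨y, hyP, hy⟩ := hj'
  refine ⟨(P : Subgroup ↥(Q.comap φ)).map (Q.comap φ).subtype, (x : H), (y : H),
    P.isPGroup'.map _, ⟨x, hxP, rfl⟩, ⟨y, hyP, rfl⟩, ?_⟩
  intro hxy
  apply hne
  have hx' : φ (x : H) = i := congrArg Subtype.val hx
  have hy' : φ (y : H) = j := congrArg Subtype.val hy
  rw [← hx', ← hy', ← map_mul, ← map_mul, hxy]

/-- **S1936-[Q8]** (§E0 of helper22's sheet): if every `2`-subgroup of the finite group `G` is commutative, then no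
section of `G` is isomorphic to `SL(2, ZMod p)`, `p` odd — the hypothesis `hfree` of S0118, verbatim. -/
theorem no_SL2_section {G : Type*} [Group G] [Finite G] {p : ℕ} [Fact p.Prime] (hp : p ≠ 2)
    (hab : ∀ S : Subgroup G, IsPGroup 2 S → ∀ x ∈ S, ∀ y ∈ S, x * y = y * x) :
    ¬ ∃ (H K : Subgroup G) (hK : (K.subgroupOf H).Normal),
      Nonempty ((H ⧸ K.subgroupOf H) ≃* Matrix.SpecialLinearGroup (Fin 2) (ZMod p)) := by
  rintro ⟨H, K, hK, ⟨e⟩⟩
  obtain ⟨Q, i, j, hQ, hi, hj, hne⟩ := exists_noncomm_two_subgroup p hp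
  let φ : ↥H →* Matrix.SpecialLinearGroup (Fin 2) (ZMod p) :=
    e.toMonoidHom.comp (QuotientGroup.mk' (K.subgroupOf H))
  have hφ : Function.Surjective φ :=
    e.surjective.comp (QuotientGroup.mk'_surjective (K.subgroupOf H))
  obtain ⟨S, x, y, hS, hx, hy, hxy⟩ := exists_noncomm_of_surjective φ hφ Q hQ i j hi hj hne
  apply hxy
  apply Subtype.ext
  exact hab (S.map H.subtype) (hS.map _) (x : G) ⟨x, hx, rfl⟩ (y : G) ⟨y, hy, rfl⟩

end Cfsg.Agent.Lib.Helper11.S1936Q8
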