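import Mathlib

set_option autoImplicit false

/-!
# S5515-[U2] : groups whose images in `A` are conjugate modulo `N` are isomorphic
(module for helper36's S5515 project)
-/

namespace Cfsg.Agent.Lib.Helper11.S5515U2

/-- the range of `ρ` is the full preimage of the range of `φ ∘ ρ` when `ker φ ≤ range ρ`. -/
theorem range_eq_comap_range {A S G : Type*} [Group A] [Group S] [Group G]
    (φ : A →* S) (ρ : G →* A) (hker : φ.ker ≤ ρ.range) :
    ρ.range = (φ.comp ρ).range.comap φ := by
  rw [MonoidHom.range_comp, Subgroup.comap_map_eq]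
  exact (sup_eq_left.mpr hker).symm

theorem ker_comp_eq {A S G : Type*} [Group A] [Group S] [Group G]
    (φ : A →* S) (ρ : G →* A) (hρ : Function.Injective ρ) (L : Subgroup G)
    (hL : L.map ρ = φ.ker) : (φ.comp ρ).ker = L := by
  ext x
  rw [MonoidHom.mem_ker, MonoidHom.comp_apply, ← MonoidHom.mem_ker, ← hL]
  constructor
  · rintro ⟨y, hy, hyx⟩
    rw [← hρ hyx]
    exact hy
  · intro hx
    exact ⟨x, hx, rfl⟩

theorem equiv_of_conj_images {A S : Type*} [Group A] [Group S] (N : Subgroup A) [N.Normal]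
    (ε : A ⧸ N ≃* S)
    (hS : ∀ T T' : Subgroup S, Nonempty (↥T ≃* Equiv.Perm (Fin 3)) →
      Nonempty (↥T' ≃* Equiv.Perm (Fin 3)) → ∃ g : S, T' = T.map (MulAut.conj g).toMonoidHom)
    {G G' : Type*} [Group G] [Group G'] (L : Subgroup G) [L.Normal] (L' : Subgroup G') [L'.Normal]
    (ρ : G →* A) (hρ : Function.Injective ρ) (hL : L.map ρ = N)
    (ρ' : G' →* A) (hρ' : Function.Injective ρ') (hL' : L'.map ρ' = N)
    (hq : Nonempty (G ⧸ L ≃* Equiv.Perm (Fin 3))) (hq' : Nonempty (G' ⧸ L' ≃* Equiv.Perm (Fin 3))) :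
    Nonempty (G ≃* G') := by
  classical
  obtain ⟨q⟩ := hq
  obtain ⟨q'⟩ := hq'
  set φ : A →* S := ε.toMonoidHom.comp (QuotientGroup.mk' N) with hφ
  have hφker : φ.ker = N := by
    ext x
    rw [MonoidHom.mem_ker, hφ, MonoidHom.comp_apply]
    constructor
    · intro h
      have h1 : (QuotientGroup.mk' N) x = 1 := by
        apply ε.injective
        rw [map_one]
        exact h
      exact (QuotientGroup.eq_one_iff x).mp h1
    · intro h
      have h1 : (QuotientGroup.mk' N) x = 1 := (QuotientGroup.eq_one_iff x).mpr h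
      rw [h1]
      exact map_one _
  have hφsurj : Function.Surjective φ := by
    intro s
    obtain ⟨y, hy⟩ := ε.surjective s
    obtain ⟨a, ha⟩ := QuotientGroup.mk'_surjective N y
    exact ⟨a, by rw [hφ, MonoidHom.comp_apply, ha]; exact hy⟩
  -- kernels
  have hk : (φ.comp ρ).ker = L := ker_comp_eq φ ρ hρ L (hL.trans hφker.symm)
  have hk' : (φ.comp ρ').ker = L' := ker_comp_eq φ ρ' hρ' L' (hL'.trans hφker.symm)
  -- the images are isomorphic to S₃
  have hT : Nonempty (↥(φ.comp ρ).range ≃* Equiv.Perm (Fin 3)) :=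
    ⟨((QuotientGroup.quotientKerEquivRange (φ.comp ρ)).symm.trans
      (QuotientGroup.quotientMulEquivOfEq hk)).trans q⟩
  have hT' : Nonempty (↥(φ.comp ρ').range ≃* Equiv.Perm (Fin 3)) :=
    ⟨((QuotientGroup.quotientKerEquivRange (φ.comp ρ')).symm.trans
      (QuotientGroup.quotientMulEquivOfEq hk')).trans q'⟩
  obtain ⟨g, hg⟩ := hS _ _ hT hT'
  obtain ⟨a, ha⟩ := hφsurj g
  -- ranges are full preimages
  have hr : ρ.range = (φ.comp ρ).range.comap φ := by
    apply range_eq_comap_range
    rw [hφker, ← hL]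
    exact Subgroup.map_le_range ρ L
  have hr' : ρ'.range = (φ.comp ρ').range.comap φ := by
    apply range_eq_comap_range
    rw [hφker, ← hL']
    exact Subgroup.map_le_range ρ' L'
  have hconj : ρ'.range = ρ.range.map (MulAut.conj a).toMonoidHom := by
    ext y
    rw [hr', Subgroup.mem_comap, hg, Subgroup.mem_map, Subgroup.mem_map]
    constructor
    · rintro ⟨t, ht, hty⟩
      refine ⟨a⁻¹ * y * a, ?_, ?_⟩
      · rw [hr, Subgroup.mem_comap]
        have : φ (a⁻¹ * y * a) = t := by
          rw [map_mul, map_mul, map_inv, ha, ← hty]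
          simp [MulAut.conj_apply, mul_assoc]
        rw [this]
        exact ht
      · simp [MulAut.conj_apply, mul_assoc]
    · rintro ⟨x, hx, hxy⟩
      rw [hr, Subgroup.mem_comap] at hx
      refine ⟨φ x, hx, ?_⟩
      rw [← hxy]
      simp [MulAut.conj_apply, ha]
  exact ⟨(((MonoidHom.ofInjective hρ).trans
    (Subgroup.equivMapOfInjective ρ.range (MulAut.conj a).toMonoidHom
      (MulAut.conj a).injective)).trans (MulEquiv.subgroupCongr hconj.symm)).trans
    (MonoidHom.ofInjective hρ').symm⟩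

end Cfsg.Agent.Lib.Helper11.S5515U2
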