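import Mathlib
import Cfsg.Agent.Lib.Helper32.SLMD.Defs2
import Cfsg.Agent.S0157

/-!
# SLMD-[N-EXIST] (helper11): `SL_n(F)` has an irreducible complex representation of degree
`(q^n - q)/(q - 1)` (the permutation character on the points of projective space minus `1`).
-/

set_option autoImplicit false
set_option linter.unusedSectionVars false
set_option linter.unusedVariables false

namespace Cfsg.Agent.Lib.Helper32.SLMD

open Matrix Cfsg.Agent.Lib.Helper41 Cfsg.Agent.Lib.Helper39 Module
open scoped LinearAlgebra.Projectivization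

universe u v

variable {F : Type*} [Field F] [Fintype F] [DecidableEq F] {k : ℕ}

/-- [N-EXIST] -/
theorem exists_min_rep (n : ℕ) (hn : 2 ≤ n) :
    ∃ ρ : Representation ℂ (Matrix.SpecialLinearGroup (Fin n) F)
      (Fin ((Fintype.card F ^ n - Fintype.card F) / (Fintype.card F - 1)) → ℂ),
      ρ.IsIrreducible := by
  classical
  have hq : 1 < Fintype.card F := Fintype.one_lt_card
  set q := Fintype.card F with hqdef
  -- cardinality of the projective space
  have hcardV : Nat.card (Fin n → F) = q ^ n := by
    rw [Nat.card_fun, Nat.card_eq_fintype_card, Nat.card_eq_fintype_card, Fintype.card_fin]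
  have hcardX : Nat.card (ℙ F (Fin n → F)) = (q ^ n - 1) / (q - 1) := by
    rw [Projectivization.card'', hcardV, Nat.card_eq_fintype_card]
  have hsplit : q ^ n - 1 = (q ^ n - q) + (q - 1) := by
    have : q ≤ q ^ n := by
      calc q = q ^ 1 := (pow_one q).symm
        _ ≤ q ^ n := Nat.pow_le_pow_right (by omega) (by omega)
    omega
  have hcardX' : Nat.card (ℙ F (Fin n → F)) = (q ^ n - q) / (q - 1) + 1 := by
    rw [hcardX, hsplit, Nat.add_div_right _ (by omega : 0 < q - 1)]
  have hX2 : 2 ≤ Nat.card (ℙ F (Fin n → F)) := by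
    rw [hcardX']
    have : 1 ≤ (q ^ n - q) / (q - 1) := by
      rw [Nat.one_le_div_iff (by omega : 0 < q - 1)]
      have h2 : q * q ≤ q ^ n := by
        calc q * q = q ^ 2 := (sq q).symm
          _ ≤ q ^ n := Nat.pow_le_pow_right (by omega) hn
      have h3 : q * 2 ≤ q * q := Nat.mul_le_mul_left q hq
      omega
    omega
  have : MulAction.IsPretransitive (Matrix.SpecialLinearGroup (Fin n) F) (ℙ F (Fin n → F)) :=
    MulAction.isPretransitive_of_is_two_pretransitive
  have hirr := (Cfsg.Agent.S0157.result (G := Matrix.SpecialLinearGroup (Fin n) F)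
    (ℙ F (Fin n → F)) hX2).mpr inferInstance
  obtain ⟨m, ρ, hρ, hchar⟩ := hirr
  -- the degree
  have h1 := congrFun hchar 1
  rw [Representation.char_one] at h1
  have hfix : Nat.card (MulAction.fixedBy (ℙ F (Fin n → F))
      (1 : Matrix.SpecialLinearGroup (Fin n) F)) = Nat.card (ℙ F (Fin n → F)) := by
    have : MulAction.fixedBy (ℙ F (Fin n → F)) (1 : Matrix.SpecialLinearGroup (Fin n) F) =
        Set.univ := by
      apply Set.eq_univ_of_forall
      intro x
      rw [MulAction.mem_fixedBy, one_smul]
    rw [this, Nat.card_coe_set_eq, Set.ncard_univ]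
  rw [hfix, Module.finrank_fin_fun, hcardX'] at h1
  have hm : m = (q ^ n - q) / (q - 1) := by
    have : (m : ℂ) = (((q ^ n - q) / (q - 1) : ℕ) : ℂ) := by
      rw [h1]; push_cast; ring
    exact_mod_cast this
  subst hm
  exact ⟨ρ, hρ⟩

end Cfsg.Agent.Lib.Helper32.SLMD
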