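import Mathlib
import Cfsg.Agent.Lib.Helper32.SLMD.Defs2

/-!
# SLMD-[G-CONST] (helper11, hedge): multiplicities when the character is constant on `ν(N) ∖ 1`.
The Skel statements `const_mult`, `const_fix`, verbatim, but in the namespace `Cfsg.Agent.Lib.Helper11.SlmdGConst`
(no clash with the owner's file).
-/

set_option autoImplicit false
set_option linter.unusedSectionVars false
set_option linter.unusedVariables false

namespace Cfsg.Agent.Lib.Helper11.SlmdGConst.Aux

open Matrix Cfsg.Agent.Lib.Helper41 Cfsg.Agent.Lib.Helper39 Module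

variable {G : Type*} [Group G] {N : Type*} [Group N] [Fintype N]
  {V : Type*} [AddCommGroup V] [Module ℂ V] [FiniteDimensional ℂ V]

/-- the sum of the inverse values of a non-trivial linear character vanishes -/
theorem sum_inv_eq_zero (lam : N →* ℂˣ) (hlam : lam ≠ 1) :
    ∑ n : N, (((lam n)⁻¹ : ℂˣ) : ℂ) = 0 := by
  have h1 : (Units.coeHom ℂ).comp lam ≠ 1 := by
    intro h
    apply hlam
    ext n
    have := DFunLike.congr_fun h n
    simpa using this
  have h2 := sum_hom_units_eq_zero ((Units.coeHom ℂ).comp lam) h1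
  rw [← Equiv.sum_comp (Equiv.inv N)] at h2
  rw [← h2]
  refine Finset.sum_congr rfl fun n _ => ?_
  simp

/-- the twisted character sum when the character is constant off the identity -/
theorem twist_sum_eq (ρ : Representation ℂ G V) (ν : N →* G) (τ : ℂ)
    (hτ : ∀ n : N, n ≠ 1 → ρ.character (ν n) = τ) (lam : N →* ℂˣ) :
    ∑ n : N, (((lam n)⁻¹ : ℂˣ) : ℂ) * ρ.character (ν n) =
      τ * ∑ n : N, (((lam n)⁻¹ : ℂˣ) : ℂ) + ((finrank ℂ V : ℂ) - τ) := by
  classical
  have h : ∀ n : N, (((lam n)⁻¹ : ℂˣ) : ℂ) * ρ.character (ν n) =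
      τ * (((lam n)⁻¹ : ℂˣ) : ℂ) + (if n = 1 then ((finrank ℂ V : ℂ) - τ) else 0) := by
    intro n
    by_cases hn : n = 1
    · subst hn
      rw [if_pos rfl, map_one, map_one, Representation.char_one, inv_one, Units.val_one]
      ring
    · rw [if_neg hn, hτ n hn]
      ring
  rw [Finset.sum_congr rfl fun n _ => h n, Finset.sum_add_distrib, ← Finset.mul_sum,
    Finset.sum_ite_eq' Finset.univ (1 : N)]
  simp

end Cfsg.Agent.Lib.Helper11.SlmdGConst.Aux

namespace Cfsg.Agent.Lib.Helper11.SlmdGConst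

open Matrix Cfsg.Agent.Lib.Helper41 Cfsg.Agent.Lib.Helper39 Module
open scoped LinearAlgebra.Projectivization

universe u v

section generic

variable {G : Type*} [Group G] {N : Type*} [Group N] [Fintype N] {H : Type*} [Group H]
  {V : Type*} [AddCommGroup V] [Module ℂ V] [FiniteDimensional ℂ V]

/-- [G-CONST] -/
theorem const_mult (ρ : Representation ℂ G V) (ν : N →* G) (τ : ℂ)
    (hτ : ∀ n : N, n ≠ 1 → ρ.character (ν n) = τ) (lam : N →* ℂˣ) (hlam : lam ≠ 1) :
    (Fintype.card N : ℂ) * (finrank ℂ ↥(eigenSub ρ ν lam) : ℂ) = (finrank ℂ V : ℂ) - τ := by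
  rw [← sum_twist_character ρ ν lam, Aux.twist_sum_eq ρ ν τ hτ lam,
    Aux.sum_inv_eq_zero lam hlam, mul_zero, zero_add]

/-- [G-CONST] -/
theorem const_fix (ρ : Representation ℂ G V) (ν : N →* G) (τ : ℂ)
    (hτ : ∀ n : N, n ≠ 1 → ρ.character (ν n) = τ) :
    (Fintype.card N : ℂ) * (finrank ℂ ↥(eigenSub ρ ν 1) : ℂ) =
      (finrank ℂ V : ℂ) + ((Fintype.card N : ℂ) - 1) * τ := by
  rw [← sum_twist_character ρ ν 1, Aux.twist_sum_eq ρ ν τ hτ 1]
  simp only [MonoidHom.one_apply, inv_one, Units.val_one, Finset.sum_const, Finset.card_univ,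
    nsmul_eq_mul, mul_one]
  ring

end generic

end Cfsg.Agent.Lib.Helper11.SlmdGConst
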