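import Mathlib
import Cfsg.Agent.Lib.Helper32.SLMD.Defs2

/-!
# SLMD-[N-UPPER-K2] (helper11, hedge): `h + 1 ≤ c` for `k ≥ 2`, from-hypotheses form.
The statements of [G-INDEP] (`eigenSub_count`), [N-CA2] (`ca2`), [N-WDIM] (`wdim`) and [G-PSI] enter as hypotheses.
-/

set_option autoImplicit false
set_option linter.unusedSectionVars false
set_option linter.unusedVariables false

namespace Cfsg.Agent.Lib.Helper11.SlmdUpperK2

open Matrix Cfsg.Agent.Lib.Helper41 Cfsg.Agent.Lib.Helper39 Module Cfsg.Agent.Lib.Helper32.SLMD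
open scoped LinearAlgebra.Projectivization

variable {F : Type*} [Field F] [Fintype F] [DecidableEq F] {k : ℕ}
variable {V : Type*} [AddCommGroup V] [Module ℂ V] [FiniteDimensional ℂ V]

/-- vectors fixed by `Q` are fixed by `A₁` -/
theorem eigenSub_qHom_le_a1Hom (ρ : Representation ℂ (GG F k) V) :
    eigenSub ρ (qHom : _ →* GG F k) 1 ≤ eigenSub ρ (a1Hom : _ →* GG F k) 1 := by
  intro v hv
  rw [mem_eigenSub] at hv ⊢
  intro a
  have h := hv (Multiplicative.ofAdd ((0 : F), a.toAdd))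
  rw [qHom_apply] at h
  simp only [toAdd_ofAdd] at h
  rw [qEl, x12_zero, one_mul] at h
  rw [a1Hom_apply]
  simpa using h

/-- [N-UPPER-K2] from the statements of its dependencies -/
theorem upper_k2_of [NeZero k] (hk : 2 ≤ k) (ρ : Representation ℂ (GG F k) V)
    (hcount : ∀ lam : Option (Fˣ × Fin 2) → (Multiplicative (Fin k → F) →* ℂˣ),
      Function.Injective lam →
      ∑ i, finrank ℂ ↥(eigenSub ρ (a2Hom : _ →* GG F k) 1 ⊓ eigenSub ρ (a1Hom : _ →* GG F k) (lam i)) ≤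
        finrank ℂ ↥(eigenSub ρ (a2Hom : _ →* GG F k) 1))
    (hca2 : finrank ℂ ↥(eigenSub ρ (a2Hom : _ →* GG F k) 1) + 1 = cQ ρ + Fintype.card F)
    (hwdim : ∀ ψ : Multiplicative F →* ℂˣ, ψ ≠ 1 → ∀ j : Fin k,
      1 ≤ finrank ℂ ↥(eigenSub ρ (a2Hom : _ →* GG F k) 1 ⊓
        eigenSub ρ (a1Hom : _ →* GG F k) (prChar ψ j)))
    (hpsi : ∃ ψ : Multiplicative F →* ℂˣ, ψ ≠ 1)
    (hscale_ne : ∀ ψ : Multiplicative F →* ℂˣ, ψ ≠ 1 → ∀ t : F, t ≠ 0 → scaleChar ψ t ≠ 1)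
    (hscale_inj : ∀ ψ : Multiplicative F →* ℂˣ, ψ ≠ 1 → Function.Injective (scaleChar ψ))
    (hpr_ne : ∀ ψ : Multiplicative F →* ℂˣ, ψ ≠ 1 → ∀ j : Fin k,
      (prChar ψ j : Multiplicative (Fin k → F) →* ℂˣ) ≠ 1)
    (hpr_inj : ∀ ψ ψ' : Multiplicative F →* ℂˣ, ψ ≠ 1 → ∀ j j' : Fin k,
      (prChar ψ j : Multiplicative (Fin k → F) →* ℂˣ) = prChar ψ' j' → ψ = ψ' ∧ j = j') :
    hR ρ + 1 ≤ cQ ρ := by
  classical
  obtain ⟨ψ₁, hψ₁⟩ := hpsi
  let jj : Fin 2 → Fin k := ![⟨0, by omega⟩, ⟨1, by omega⟩]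
  have hjj : Function.Injective jj := by
    intro a b hab
    fin_cases a <;> fin_cases b <;> simp [jj, Fin.ext_iff] at hab ⊢
  let lam : Option (Fˣ × Fin 2) → (Multiplicative (Fin k → F) →* ℂˣ) := fun o =>
    match o with
    | none => 1
    | some p => prChar (scaleChar ψ₁ (p.1 : F)) (jj p.2)
  have hsc : ∀ t : Fˣ, scaleChar ψ₁ (t : F) ≠ 1 := fun t => hscale_ne ψ₁ hψ₁ _ t.ne_zero
  have hlam : Function.Injective lam := by
    intro o o' h
    cases o with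
    | none =>
      cases o' with
      | none => rfl
      | some p' =>
        exfalso
        exact hpr_ne _ (hsc p'.1) (jj p'.2) h.symm
    | some p =>
      cases o' with
      | none =>
        exfalso
        exact hpr_ne _ (hsc p.1) (jj p.2) h
      | some p' =>
        obtain ⟨h1, h2⟩ := hpr_inj _ _ (hsc p.1) _ _ h
        have e1 : p.1 = p'.1 := Units.ext (hscale_inj ψ₁ hψ₁ h1)
        have e2 : p.2 = p'.2 := hjj h2
        rw [Prod.ext e1 e2]
  have hsum := hcount lam hlam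
  rw [Fintype.sum_option] at hsum
  -- the `none` term
  have hnone : hR ρ ≤ finrank ℂ ↥(eigenSub ρ (a2Hom : _ →* GG F k) 1 ⊓
      eigenSub ρ (a1Hom : _ →* GG F k) (lam none)) := by
    unfold hR
    apply Submodule.finrank_mono
    intro v hv
    exact ⟨hv.2, eigenSub_qHom_le_a1Hom ρ hv.1⟩
  -- the other terms
  have hsome : Fintype.card (Fˣ × Fin 2) ≤ ∑ p : Fˣ × Fin 2,
      finrank ℂ ↥(eigenSub ρ (a2Hom : _ →* GG F k) 1 ⊓
        eigenSub ρ (a1Hom : _ →* GG F k) (lam (some p))) := by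
    have : ∀ p : Fˣ × Fin 2, 1 ≤ finrank ℂ ↥(eigenSub ρ (a2Hom : _ →* GG F k) 1 ⊓
        eigenSub ρ (a1Hom : _ →* GG F k) (lam (some p))) := fun p => hwdim _ (hsc p.1) (jj p.2)
    calc Fintype.card (Fˣ × Fin 2) = ∑ _p : Fˣ × Fin 2, 1 := by simp
      _ ≤ _ := Finset.sum_le_sum fun p _ => this p
  rw [Fintype.card_prod, Fintype.card_units, Fintype.card_fin] at hsome
  have hq : 2 ≤ Fintype.card F := Fintype.one_lt_card
  omega

end Cfsg.Agent.Lib.Helper11.SlmdUpperK2
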