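import Mathlib
import Cfsg.Agent.Lib.Helper32.SLMD.Defs2
import Cfsg.Agent.Lib.Helper11.SlmdUpperK2

/-!
# SLMD-[N-UPPER-K1] (helper11, hedge): `h + 1 ≤ c` for `k = 1`, from-hypotheses form.
The statements of [G-INDEP] (`eigenSub_count`), [N-CA2] (`ca2`), [N-WDIM] (`wdim`), [N-FIX] (`fix_k1`) and [G-PSI] enter as
hypotheses.
-/

set_option autoImplicit false
set_option linter.unusedSectionVars false
set_option linter.unusedVariables false

namespace Cfsg.Agent.Lib.Helper11.SlmdUpperK1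

open Matrix Cfsg.Agent.Lib.Helper41 Cfsg.Agent.Lib.Helper39 Module Cfsg.Agent.Lib.Helper32.SLMD
open Cfsg.Agent.Lib.Helper11.SlmdUpperK2
open scoped LinearAlgebra.Projectivization

variable {F : Type*} [Field F] [Fintype F] [DecidableEq F] {k : ℕ}
variable {V : Type*} [AddCommGroup V] [Module ℂ V] [FiniteDimensional ℂ V]

theorem a1El_zero : (a1El (0 : Fin k → F) : GG F k) = 1 := by
  have h := map_one (a1Hom : Multiplicative (Fin k → F) →* GG F k)
  rw [a1Hom_apply] at h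
  exact h

/-- the action of `x12 s` on a `Q`-eigenvector -/
theorem x12_apply_of_mem (ρ : Representation ℂ (GG F k) V)
    (lam : Multiplicative (F × (Fin k → F)) →* ℂˣ) (v : V)
    (hv : v ∈ eigenSub ρ (qHom : _ →* GG F k) lam) (s : F) :
    ρ (x12 s) v = ((lam (Multiplicative.ofAdd (s, (0 : Fin k → F))) : ℂˣ) : ℂ) • v := by
  rw [mem_eigenSub] at hv
  have h := hv (Multiplicative.ofAdd (s, (0 : Fin k → F)))
  rw [qHom_apply] at h
  simp only [toAdd_ofAdd] at h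
  rw [qEl, a1El_zero, mul_one] at h
  exact h

/-- the action of `a1El a` on a `Q`-eigenvector -/
theorem a1El_apply_of_mem (ρ : Representation ℂ (GG F k) V)
    (lam : Multiplicative (F × (Fin k → F)) →* ℂˣ) (v : V)
    (hv : v ∈ eigenSub ρ (qHom : _ →* GG F k) lam) (a : Fin k → F) :
    ρ (a1El a) v = ((lam (Multiplicative.ofAdd ((0 : F), a)) : ℂˣ) : ℂ) • v := by
  rw [mem_eigenSub] at hv
  have h := hv (Multiplicative.ofAdd ((0 : F), a))
  rw [qHom_apply] at h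
  simp only [toAdd_ofAdd] at h
  rw [qEl, x12_zero, one_mul] at h
  exact h

theorem eigenSub_qHom_le_x12Hom (ρ : Representation ℂ (GG F k) V) :
    eigenSub ρ (qHom : _ →* GG F k) 1 ≤ eigenSub ρ (x12Hom : _ →* GG F k) 1 := by
  intro v hv
  rw [mem_eigenSub]
  intro s
  rw [x12Hom_apply, x12_apply_of_mem ρ 1 v hv]
  simp

/-- a `Q`-eigenvector for `sChar ψ` is fixed by `A₁` and is an `x12`-eigenvector for `ψ` -/
theorem eigenSub_sChar_le (ρ : Representation ℂ (GG F k) V) (ψ : Multiplicative F →* ℂˣ) :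
    eigenSub ρ (qHom : _ →* GG F k) (sChar ψ) ≤
      eigenSub ρ (a1Hom : _ →* GG F k) 1 ⊓ eigenSub ρ (x12Hom : _ →* GG F k) ψ := by
  intro v hv
  refine ⟨?_, ?_⟩
  · rw [SetLike.mem_coe, mem_eigenSub]
    intro a
    rw [a1Hom_apply, a1El_apply_of_mem ρ _ v hv]
    have : sChar ψ (Multiplicative.ofAdd ((0 : F), a.toAdd)) = 1 := by
      show ψ (Multiplicative.ofAdd (0 : F)) = 1
      rw [ofAdd_zero, map_one]
    rw [this]
    simp
  · rw [SetLike.mem_coe, mem_eigenSub]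
    intro s
    rw [x12Hom_apply, x12_apply_of_mem ρ _ v hv]
    rfl

/-- [N-UPPER-K1] from the statements of its dependencies -/
theorem upper_k1_of (ρ : Representation ℂ (GG F 1) V) (hM : M1 ρ)
    (hcount1 : ∀ lam : Option Fˣ → (Multiplicative (Fin 1 → F) →* ℂˣ),
      Function.Injective lam →
      ∑ i, finrank ℂ ↥(eigenSub ρ (a2Hom : _ →* GG F 1) 1 ⊓ eigenSub ρ (a1Hom : _ →* GG F 1) (lam i)) ≤
        finrank ℂ ↥(eigenSub ρ (a2Hom : _ →* GG F 1) 1))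
    (hcount2 : ∀ lam : Option Fˣ → (Multiplicative F →* ℂˣ),
      Function.Injective lam →
      ∑ i, finrank ℂ ↥((eigenSub ρ (a2Hom : _ →* GG F 1) 1 ⊓ eigenSub ρ (a1Hom : _ →* GG F 1) 1) ⊓
          eigenSub ρ (x12Hom : _ →* GG F 1) (lam i)) ≤
        finrank ℂ ↥(eigenSub ρ (a2Hom : _ →* GG F 1) 1 ⊓ eigenSub ρ (a1Hom : _ →* GG F 1) 1))
    (hca2 : finrank ℂ ↥(eigenSub ρ (a2Hom : _ →* GG F 1) 1) + 1 = cQ ρ + Fintype.card F)
    (hwdim : ∀ ψ : Multiplicative F →* ℂˣ, ψ ≠ 1 → ∀ j : Fin 1,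
      1 ≤ finrank ℂ ↥(eigenSub ρ (a2Hom : _ →* GG F 1) 1 ⊓
        eigenSub ρ (a1Hom : _ →* GG F 1) (prChar ψ j)))
    (hfix : ∀ ψ : Multiplicative F →* ℂˣ, ψ ≠ 1 → ∀ ℓ : V,
      ℓ ∈ eigenSub ρ (qHom : _ →* GG F 1) (sChar ψ) → ∀ b : Fin 1 → F, ρ (a2El b) ℓ = ℓ)
    (hpsi : ∃ ψ : Multiplicative F →* ℂˣ, ψ ≠ 1)
    (hscale_ne : ∀ ψ : Multiplicative F →* ℂˣ, ψ ≠ 1 → ∀ t : F, t ≠ 0 → scaleChar ψ t ≠ 1)
    (hscale_inj : ∀ ψ : Multiplicative F →* ℂˣ, ψ ≠ 1 → Function.Injective (scaleChar ψ))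
    (hpr_ne : ∀ ψ : Multiplicative F →* ℂˣ, ψ ≠ 1 → ∀ j : Fin 1,
      (prChar ψ j : Multiplicative (Fin 1 → F) →* ℂˣ) ≠ 1)
    (hpr_inj : ∀ ψ ψ' : Multiplicative F →* ℂˣ, ψ ≠ 1 → ∀ j j' : Fin 1,
      (prChar ψ j : Multiplicative (Fin 1 → F) →* ℂˣ) = prChar ψ' j' → ψ = ψ' ∧ j = j')
    (hs_ne : ∀ ψ : Multiplicative F →* ℂˣ, ψ ≠ 1 →
      (sChar ψ : Multiplicative (F × (Fin 1 → F)) →* ℂˣ) ≠ 1) :
    hR ρ + 1 ≤ cQ ρ := by
  classical
  obtain ⟨ψ₁, hψ₁⟩ := hpsi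
  have hsc : ∀ t : Fˣ, scaleChar ψ₁ (t : F) ≠ 1 := fun t => hscale_ne ψ₁ hψ₁ _ t.ne_zero
  have hq : 2 ≤ Fintype.card F := Fintype.one_lt_card
  -- level 1
  let lam1 : Option Fˣ → (Multiplicative (Fin 1 → F) →* ℂˣ) := fun o =>
    match o with
    | none => 1
    | some t => prChar (scaleChar ψ₁ (t : F)) 0
  have hlam1 : Function.Injective lam1 := by
    intro o o' h
    cases o with
    | none =>
      cases o' with
      | none => rfl
      | some t' =>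
        exfalso
        exact hpr_ne _ (hsc t') 0 h.symm
    | some t =>
      cases o' with
      | none =>
        exfalso
        exact hpr_ne _ (hsc t) 0 h
      | some t' =>
        obtain ⟨h1, -⟩ := hpr_inj _ _ (hsc t) _ _ h
        rw [Units.ext (hscale_inj ψ₁ hψ₁ h1)]
  have hsum1 := hcount1 lam1 hlam1
  rw [Fintype.sum_option] at hsum1
  have hsome1 : Fintype.card Fˣ ≤ ∑ t : Fˣ,
      finrank ℂ ↥(eigenSub ρ (a2Hom : _ →* GG F 1) 1 ⊓
        eigenSub ρ (a1Hom : _ →* GG F 1) (lam1 (some t))) := by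
    have : ∀ t : Fˣ, 1 ≤ finrank ℂ ↥(eigenSub ρ (a2Hom : _ →* GG F 1) 1 ⊓
        eigenSub ρ (a1Hom : _ →* GG F 1) (lam1 (some t))) := fun t => hwdim _ (hsc t) 0
    calc Fintype.card Fˣ = ∑ _t : Fˣ, 1 := by simp
      _ ≤ _ := Finset.sum_le_sum fun t _ => this t
  rw [Fintype.card_units] at hsome1
  have hW' : finrank ℂ ↥(eigenSub ρ (a2Hom : _ →* GG F 1) 1 ⊓
      eigenSub ρ (a1Hom : _ →* GG F 1) 1) ≤ cQ ρ := by
    have : lam1 none = 1 := rfl
    rw [this] at hsum1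
    omega
  -- level 2
  let lam2 : Option Fˣ → (Multiplicative F →* ℂˣ) := fun o =>
    match o with
    | none => 1
    | some t => scaleChar ψ₁ (t : F)
  have hlam2 : Function.Injective lam2 := by
    intro o o' h
    cases o with
    | none =>
      cases o' with
      | none => rfl
      | some t' =>
        exfalso
        exact hsc t' h.symm
    | some t =>
      cases o' with
      | none =>
        exfalso
        exact hsc t h
      | some t' =>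
        rw [Units.ext (hscale_inj ψ₁ hψ₁ h)]
  have hsum2 := hcount2 lam2 hlam2
  rw [Fintype.sum_option] at hsum2
  have hnone2 : hR ρ ≤ finrank ℂ ↥((eigenSub ρ (a2Hom : _ →* GG F 1) 1 ⊓
      eigenSub ρ (a1Hom : _ →* GG F 1) 1) ⊓ eigenSub ρ (x12Hom : _ →* GG F 1) (lam2 none)) := by
    unfold hR
    apply Submodule.finrank_mono
    intro v hv
    exact ⟨⟨hv.2, eigenSub_qHom_le_a1Hom ρ hv.1⟩, eigenSub_qHom_le_x12Hom ρ hv.1⟩
  have hsome2 : Fintype.card Fˣ ≤ ∑ t : Fˣ,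
      finrank ℂ ↥((eigenSub ρ (a2Hom : _ →* GG F 1) 1 ⊓
        eigenSub ρ (a1Hom : _ →* GG F 1) 1) ⊓ eigenSub ρ (x12Hom : _ →* GG F 1) (lam2 (some t))) := by
    have : ∀ t : Fˣ, 1 ≤ finrank ℂ ↥((eigenSub ρ (a2Hom : _ →* GG F 1) 1 ⊓
        eigenSub ρ (a1Hom : _ →* GG F 1) 1) ⊓
          eigenSub ρ (x12Hom : _ →* GG F 1) (lam2 (some t))) := by
      intro t
      have h1 : finrank ℂ ↥(eigenSub ρ (qHom : _ →* GG F 1) (sChar (scaleChar ψ₁ (t : F)))) = 1 :=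
        hM _ (hs_ne _ (hsc t))
      refine le_trans (le_of_eq h1.symm) ?_
      apply Submodule.finrank_mono
      intro v hv
      have h2 := eigenSub_sChar_le ρ _ hv
      refine ⟨⟨?_, h2.1⟩, h2.2⟩
      rw [SetLike.mem_coe, mem_eigenSub]
      intro b
      rw [a2Hom_apply, hfix _ (hsc t) v hv]
      simp
    calc Fintype.card Fˣ = ∑ _t : Fˣ, 1 := by simp
      _ ≤ _ := Finset.sum_le_sum fun t _ => this t
  rw [Fintype.card_units] at hsome2
  omega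

end Cfsg.Agent.Lib.Helper11.SlmdUpperK1
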