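/-
helper11 library (module S2281-[REG] of helper53's project S2281, first half): if `a, u a, …, u^(2n-1) a` are linearly
independent then `(u - 1)^(2n-1) ≠ 0`.
-/
import Mathlib
import Cfsg.Agent.Lib.Helper53.SpReg.Defs
import Cfsg.Agent.Lib.Helper53.SpReg.Act

set_option autoImplicit false

namespace Cfsg.Agent.Lib.Helper11.SpReg

open Matrix Cfsg.Agent.Lib.Helper53.SpReg

variable {n : ℕ} {F : Type*} [Field F]

theorem negOne_pow_mulVec {ι : Type*} [Fintype ι] [DecidableEq ι] (j : ℕ) (v : ι → F) :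
    ((-1 : Matrix ι ι F) ^ j) *ᵥ v = ((-1 : F) ^ j) • v := by
  induction j with
  | zero => simp
  | succ j ih =>
    rw [pow_succ, ← Matrix.mulVec_mulVec, Matrix.neg_mulVec, Matrix.one_mulVec, Matrix.mulVec_neg, ih,
      pow_succ, mul_neg_one, neg_smul]

theorem pow_mulVec_eq_avec (u : Matrix.symplecticGroup (Fin n) F) (a : Fin n ⊕ Fin n → F) (k : ℕ) :
    ((u : Matrix (Fin n ⊕ Fin n) (Fin n ⊕ Fin n) F) ^ k) *ᵥ a = avec u a (k : ℤ) := by
  unfold avec
  rw [zpow_natCast, SubmonoidClass.coe_pow]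

/-- binomial expansion of `(u - 1)^N a` along the orbit -/
theorem sub_one_pow_mulVec (u : Matrix.symplecticGroup (Fin n) F) (a : Fin n ⊕ Fin n → F) (N : ℕ) :
    (((u : Matrix (Fin n ⊕ Fin n) (Fin n ⊕ Fin n) F) - 1) ^ N) *ᵥ a =
      ∑ k ∈ Finset.range (N + 1), ((-1 : F) ^ (N - k) * ((N.choose k : ℕ) : F)) • avec u a (k : ℤ) := by
  have hexp : ((u : Matrix (Fin n ⊕ Fin n) (Fin n ⊕ Fin n) F) - 1) ^ N =
      ∑ k ∈ Finset.range (N + 1), (u : Matrix (Fin n ⊕ Fin n) (Fin n ⊕ Fin n) F) ^ k * (-1) ^ (N - k) *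
        ((N.choose k : ℕ) : Matrix (Fin n ⊕ Fin n) (Fin n ⊕ Fin n) F) := by
    rw [sub_eq_add_neg]
    exact (Commute.neg_one_right _).add_pow N
  rw [hexp, Matrix.sum_mulVec]
  apply Finset.sum_congr rfl
  intro k _
  rw [← Matrix.mulVec_mulVec, ← Matrix.mulVec_mulVec, Matrix.natCast_mulVec, Matrix.mulVec_smul,
    negOne_pow_mulVec, Matrix.mulVec_smul, Matrix.mulVec_smul, pow_mulVec_eq_avec, smul_smul, mul_comm]

/-- module S2281-[REG], with the linear independence as a hypothesis -/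
theorem reg_of_linInd (hn : 1 ≤ n) {u : Matrix.symplecticGroup (Fin n) F} {a : Fin n ⊕ Fin n → F}
    (hli : LinearIndependent F (fun i : Fin (2 * n) => avec u a ((i : ℕ) : ℤ))) :
    ((u : Matrix (Fin n ⊕ Fin n) (Fin n ⊕ Fin n) F) - 1) ^ (2 * n - 1) ≠ 0 := by
  intro h0
  have hN1 : 2 * n - 1 + 1 = 2 * n := by omega
  have h1 := sub_one_pow_mulVec u a (2 * n - 1)
  rw [h0, Matrix.zero_mulVec, hN1, Finset.sum_range] at h1
  have h2 := Fintype.linearIndependent_iff.mp hli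
    (fun i : Fin (2 * n) => (-1 : F) ^ (2 * n - 1 - (i : ℕ)) * (((2 * n - 1).choose (i : ℕ) : ℕ) : F))
    h1.symm ⟨2 * n - 1, by omega⟩
  simp only [Nat.sub_self, pow_zero, Nat.choose_self, Nat.cast_one, mul_one] at h2
  exact one_ne_zero h2

end Cfsg.Agent.Lib.Helper11.SpReg
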