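/-
helper11 library (module S2281-[CONS] of helper53's project S2281): the explicit regular unipotent `uMat n F` is
symplectic, unipotent, and `(uMat, aVec)` is a good pair.
-/
import Mathlib
import Cfsg.Agent.Lib.Helper53.SpReg.Defs
import Cfsg.Agent.Lib.Helper53.SpReg.Act
import Cfsg.Agent.Lib.Helper53.TwoReg.Mats1
import Cfsg.Agent.Lib.Helper13.Symp
import Cfsg.Agent.Lib.Helper11.SpRegRegAux

set_option autoImplicit false

namespace Cfsg.Agent.Lib.Helper11.SpReg

open Matrix Cfsg.Agent.Lib.Helper53.SpReg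

variable {n : ℕ} {F : Type*} [Field F]

/-! ### membership in the symplectic group -/

theorem Amat_eq_Jmat (n : ℕ) :
    Amat n F = (Cfsg.Agent.Lib.Helper39.JordanMat.Jmat n : Matrix (Fin n) (Fin n) F) := by
  ext i j
  rw [Cfsg.Agent.Lib.Helper39.JordanMat.Jmat_apply]
  simp only [Amat, Matrix.of_apply]
  by_cases h1 : i = j
  · rw [if_pos h1, if_pos h1]
  · by_cases h2 : (i : ℕ) + 1 = j
    · rw [if_neg h1, if_neg h1, if_pos h2, if_pos h2.symm]
    · have h2' : ¬ (j : ℕ) = (i : ℕ) + 1 := fun h => h2 h.symm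
      rw [if_neg h1, if_neg h1, if_neg h2, if_neg h2']

theorem Dmat_transpose_eq_Jinv (n : ℕ) :
    (Dmat n F)ᵀ = (Cfsg.Agent.Lib.Helper53.TwoReg.Jinv n : Matrix (Fin n) (Fin n) F) := by
  ext i j
  rw [Cfsg.Agent.Lib.Helper53.TwoReg.Jinv_apply]
  simp only [Dmat, Matrix.of_apply, Matrix.transpose_apply]

theorem Amat_mul_Dmat_transpose (n : ℕ) : Amat n F * (Dmat n F)ᵀ = 1 := by
  rw [Amat_eq_Jmat, Dmat_transpose_eq_Jinv, Cfsg.Agent.Lib.Helper53.TwoReg.Jmat_mul_Jinv]

theorem Dmat_mul_Amat_transpose (n : ℕ) : Dmat n F * (Amat n F)ᵀ = 1 := by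
  have h := congrArg Matrix.transpose (Amat_mul_Dmat_transpose (F := F) n)
  rwa [Matrix.transpose_mul, Matrix.transpose_transpose, Matrix.transpose_one] at h

theorem Cmat_mul_Dmat_transpose_apply (n : ℕ) (i k : Fin n) :
    (Cmat n F * (Dmat n F)ᵀ) i k = (-1) ^ (n + (i : ℕ)) * (-1) ^ (k : ℕ) := by
  have hn : 0 < n := lt_of_le_of_lt (Nat.zero_le _) i.isLt
  rw [Matrix.mul_apply, Finset.sum_eq_single (⟨0, hn⟩ : Fin n)]
  · simp only [Cmat, Dmat, Matrix.of_apply, Matrix.transpose_apply]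
    rw [if_pos trivial, if_pos (Nat.zero_le _), Nat.sub_zero]
  · intro j _ hj
    have : ¬ (j : ℕ) = 0 := fun h => hj (Fin.ext h)
    simp [Cmat, this]
  · intro h; exact absurd (Finset.mem_univ _) h

theorem Cmat_mul_Dmat_transpose_symm (n : ℕ) :
    Dmat n F * (Cmat n F)ᵀ = Cmat n F * (Dmat n F)ᵀ := by
  have h : (Cmat n F * (Dmat n F)ᵀ)ᵀ = Dmat n F * (Cmat n F)ᵀ := by
    rw [Matrix.transpose_mul, Matrix.transpose_transpose]
  rw [← h]
  ext i k
  rw [Matrix.transpose_apply, Cmat_mul_Dmat_transpose_apply, Cmat_mul_Dmat_transpose_apply, pow_add, pow_add]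
  ring

theorem uMat_mem (n : ℕ) : uMat n F ∈ Matrix.symplecticGroup (Fin n) F := by
  rw [SymplecticGroup.mem_iff]
  unfold uMat Matrix.J
  rw [Matrix.fromBlocks_transpose, Matrix.fromBlocks_multiply, Matrix.fromBlocks_multiply]
  simp only [Matrix.mul_zero, Matrix.zero_mul, Matrix.mul_one, Matrix.mul_neg, zero_add, add_zero,
    Matrix.transpose_zero, Matrix.neg_mul]
  rw [Amat_mul_Dmat_transpose, Dmat_mul_Amat_transpose, Cmat_mul_Dmat_transpose_symm, add_neg_cancel]

/-! ### unipotency -/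

/-- a matrix which strictly raises a level function is nilpotent -/
theorem pow_apply_eq_zero_of_level {ι : Type*} [Fintype ι] [DecidableEq ι] (X : Matrix ι ι F) (ℓ : ι → ℕ)
    (hX : ∀ i j, X i j ≠ 0 → ℓ i < ℓ j) :
    ∀ (k : ℕ) (i j : ι), (X ^ k) i j ≠ 0 → ℓ i + k ≤ ℓ j := by
  intro k
  induction k with
  | zero =>
    intro i j h
    rw [pow_zero] at h
    by_cases hij : i = j
    · rw [hij]; omega
    · rw [Matrix.one_apply_ne hij] at h; exact absurd rfl h
  | succ k ih =>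
    intro i j h
    rw [pow_succ, Matrix.mul_apply] at h
    obtain ⟨m, _, hm⟩ := Finset.exists_ne_zero_of_sum_ne_zero h
    have h1 : (X ^ k) i m ≠ 0 := left_ne_zero_of_mul hm
    have h2 : X m j ≠ 0 := right_ne_zero_of_mul hm
    have := ih i m h1
    have := hX m j h2
    omega

theorem isNilpotent_of_level {ι : Type*} [Fintype ι] [DecidableEq ι] (X : Matrix ι ι F) (ℓ : ι → ℕ) (L : ℕ)
    (hL : ∀ i, ℓ i < L) (hX : ∀ i j, X i j ≠ 0 → ℓ i < ℓ j) : X ^ L = 0 := by
  ext i j
  by_contra h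
  have := pow_apply_eq_zero_of_level X ℓ hX L i j h
  have := hL j
  omega

/-- the level function for `uMat - 1` -/
def uLevel (n : ℕ) : Fin n ⊕ Fin n → ℕ
  | Sum.inl j => n + (j : ℕ)
  | Sum.inr i => n - 1 - (i : ℕ)

theorem uMat_sub_one_pow (n : ℕ) : (uMat n F - 1) ^ (2 * n) = 0 := by
  apply isNilpotent_of_level (uMat n F - 1) (uLevel n) (2 * n)
  · rintro (j | i)
    · have := j.isLt; simp only [uLevel]; omega
    · have := i.isLt; simp only [uLevel]; omega
  · rintro (i | i) (j | j) h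
    · -- inl inl: A - 1
      simp only [uLevel]
      by_contra hlt
      apply h
      by_cases hij : i = j
      · subst hij
        simp [uMat, Amat]
      · have h1 : ¬ (i : ℕ) + 1 = j := by omega
        have : (Sum.inl i : Fin n ⊕ Fin n) ≠ Sum.inl j := fun h => hij (Sum.inl.inj h)
        simp [uMat, Amat, hij, h1, Matrix.one_apply_ne this]
    · -- inl inr: 0
      exfalso; apply h
      simp [uMat, Matrix.one_apply_ne]
    · -- inr inl: C
      have := i.isLt
      simp only [uLevel]; omega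
    · -- inr inr: D - 1
      simp only [uLevel]
      by_contra hlt
      apply h
      by_cases hij : i = j
      · subst hij
        simp [uMat, Dmat]
      · have h1 : ¬ (j : ℕ) ≤ i := by
          intro hle
          have : (i : ℕ) ≠ j := fun h => hij (Fin.ext h)
          have := i.isLt
          omega
        have : (Sum.inr i : Fin n ⊕ Fin n) ≠ Sum.inr j := fun h => hij (Sum.inr.inj h)
        rw [Matrix.sub_apply, Matrix.one_apply_ne this, sub_zero]
        show Dmat n F i j = 0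
        simp only [Dmat, Matrix.of_apply]
        rw [if_neg h1]

theorem uMat_nilp (n : ℕ) : IsNilpotent (uMat n F - 1) := ⟨2 * n, uMat_sub_one_pow n⟩

/-! ### the good pair -/

theorem uMat_mulVec_inl (y : Fin n ⊕ Fin n → F) (i : Fin n) :
    (uMat n F *ᵥ y) (Sum.inl i) =
      y (Sum.inl i) + (if h : (i : ℕ) + 1 < n then y (Sum.inl ⟨(i : ℕ) + 1, h⟩) else 0) := by
  unfold uMat
  rw [Matrix.fromBlocks_mulVec, Sum.elim_inl, Matrix.zero_mulVec, add_zero, Matrix.mulVec, dotProduct]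
  have hA : ∀ j : Fin n, Amat n F i j * (y ∘ Sum.inl) j =
      (if i = j then y (Sum.inl j) else 0) + (if (i : ℕ) + 1 = j then y (Sum.inl j) else 0) := by
    intro j
    simp only [Amat, Matrix.of_apply, Function.comp_apply]
    by_cases h1 : i = j
    · have h2 : ¬ (i : ℕ) + 1 = j := by rw [h1]; omega
      rw [if_pos h1, if_pos h1, if_neg h2, one_mul, add_zero]
    · by_cases h2 : (i : ℕ) + 1 = j
      · rw [if_neg h1, if_neg h1, if_pos h2, if_pos h2, one_mul, zero_add]
      · rw [if_neg h1, if_neg h1, if_neg h2, if_neg h2, zero_mul, add_zero]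
  rw [Finset.sum_congr rfl (fun j _ => hA j), Finset.sum_add_distrib, Finset.sum_ite_eq,
    if_pos (Finset.mem_univ _)]
  congr 1
  by_cases h : (i : ℕ) + 1 < n
  · rw [dif_pos h, Finset.sum_eq_single (⟨(i : ℕ) + 1, h⟩ : Fin n)]
    · rw [if_pos rfl]
    · intro j _ hj
      have : ¬ (i : ℕ) + 1 = j := fun h' => hj (Fin.ext h'.symm)
      rw [if_neg this]
    · intro h'; exact absurd (Finset.mem_univ _) h'
  · rw [dif_neg h]
    apply Finset.sum_eq_zero
    intro j _
    have : ¬ (i : ℕ) + 1 = j := by have := j.isLt; omega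
    rw [if_neg this]

theorem uMat_mulVec_inr (hn : 1 ≤ n) (y : Fin n ⊕ Fin n → F) (hy : ∀ j, y (Sum.inr j) = 0) (i : Fin n) :
    (uMat n F *ᵥ y) (Sum.inr i) = (-1) ^ (n + (i : ℕ)) * y (Sum.inl ⟨0, hn⟩) := by
  unfold uMat
  have h0 : y ∘ Sum.inr = 0 := funext hy
  rw [Matrix.fromBlocks_mulVec, Sum.elim_inr, h0, Matrix.mulVec_zero, add_zero, Matrix.mulVec, dotProduct,
    Finset.sum_eq_single (⟨0, hn⟩ : Fin n)]
  · simp only [Cmat, Matrix.of_apply, Function.comp_apply]
    rw [if_pos trivial]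
  · intro j _ hj
    have : ¬ (j : ℕ) = 0 := fun h => hj (Fin.ext h)
    simp only [Cmat, Matrix.of_apply]
    rw [if_neg this, zero_mul]
  · intro h; exact absurd (Finset.mem_univ _) h

/-- the shape of `uMat^k aVec` for `k ≤ n - 1` -/
theorem orbit_shape (hn : 1 ≤ n) : ∀ k : ℕ, k + 1 ≤ n →
    (∀ j, ((uMat n F) ^ k *ᵥ aVec n F) (Sum.inr j) = 0) ∧
    (∀ i : Fin n, (i : ℕ) + k + 1 < n → ((uMat n F) ^ k *ᵥ aVec n F) (Sum.inl i) = 0) ∧
    (∀ i : Fin n, (i : ℕ) + k + 1 = n → ((uMat n F) ^ k *ᵥ aVec n F) (Sum.inl i) = 1) := by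
  intro k
  induction k with
  | zero =>
    intro _
    rw [pow_zero, Matrix.one_mulVec]
    refine ⟨fun j => rfl, fun i hi => ?_, fun i hi => ?_⟩
    · show (if (i : ℕ) + 1 = n then (1 : F) else 0) = 0
      rw [if_neg (by omega)]
    · show (if (i : ℕ) + 1 = n then (1 : F) else 0) = 1
      rw [if_pos (by omega)]
  | succ k ih =>
    intro hk
    obtain ⟨ha, hb, hc⟩ := ih (by omega)
    rw [pow_succ', ← Matrix.mulVec_mulVec]
    refine ⟨fun j => ?_, fun i hi => ?_, fun i hi => ?_⟩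
    · rw [uMat_mulVec_inr hn _ ha, hb ⟨0, hn⟩ (by simp only []; omega), mul_zero]
    · have h1 : (i : ℕ) + 1 < n := by omega
      rw [uMat_mulVec_inl, dif_pos h1, hb i (by omega), hb ⟨(i : ℕ) + 1, h1⟩ (by simp only []; omega),
        add_zero]
    · have h1 : (i : ℕ) + 1 < n := by omega
      rw [uMat_mulVec_inl, dif_pos h1, hb i (by omega), hc ⟨(i : ℕ) + 1, h1⟩ (by simp only []; omega),
        zero_add]

theorem sympForm_aVec (y : Fin n ⊕ Fin n → F) (hn : 1 ≤ n) :
    Cfsg.sympForm n F (aVec n F) y = - y (Sum.inr ⟨n - 1, by omega⟩) := by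
  rw [Cfsg.Agent.Lib.Helper13.sympForm_eq_sum, Finset.sum_eq_single (⟨n - 1, by omega⟩ : Fin n)]
  · show (0 : F) * _ - (if (n - 1) + 1 = n then (1 : F) else 0) * _ = _
    rw [if_pos (by omega)]; ring
  · intro j _ hj
    have : ¬ (j : ℕ) + 1 = n := fun h => hj (Fin.ext (by simp only []; omega))
    show (0 : F) * _ - (if (j : ℕ) + 1 = n then (1 : F) else 0) * _ = _
    rw [if_neg this]; ring
  · intro h; exact absurd (Finset.mem_univ _) h

theorem goodPair_uMat (hn : 1 ≤ n) :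
    GoodPair (⟨uMat n F, uMat_mem n⟩ : Matrix.symplecticGroup (Fin n) F) (aVec n F) := by
  have hav : ∀ k : ℕ, avec (⟨uMat n F, uMat_mem n⟩ : Matrix.symplecticGroup (Fin n) F) (aVec n F) (k : ℤ) =
      (uMat n F) ^ k *ᵥ aVec n F := fun k => (pow_mulVec_eq_avec _ _ k).symm
  constructor
  · intro m hm1 hmn
    rw [hav, sympForm_aVec _ hn, (orbit_shape hn m (by omega)).1, neg_zero]
  · rw [hav, sympForm_aVec _ hn]
    have hn' : n = (n - 1) + 1 := by omega
    obtain ⟨ha, _, hc⟩ := orbit_shape (F := F) hn (n - 1) (by omega)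
    have hpow : ∀ k : ℕ, k = (n - 1) + 1 →
        (uMat n F) ^ k *ᵥ aVec n F = uMat n F *ᵥ ((uMat n F) ^ (n - 1) *ᵥ aVec n F) := by
      intro k hk
      rw [hk, pow_succ', ← Matrix.mulVec_mulVec]
    rw [hpow n hn', uMat_mulVec_inr hn _ ha, hc ⟨0, hn⟩ (by simp only []; omega), mul_one]
    have : n + (n - 1) = 2 * (n - 1) + 1 := by omega
    simp only [this, pow_succ, pow_mul]
    simp

end Cfsg.Agent.Lib.Helper11.SpReg
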