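/-
helper11 library (module S2281-[GRAM] of helper53's project S2281): the orbit `a_k = u^k a` of a good pair and its
Gram matrix.
-/
import Mathlib
import Cfsg.Agent.Lib.Helper53.SpReg.Defs
import Cfsg.Agent.Lib.Helper53.SpReg.Act
import Cfsg.Agent.Lib.Helper13.Symp

set_option autoImplicit false

namespace Cfsg.Agent.Lib.Helper11.SpReg

open Matrix Cfsg.Agent.Lib.Helper53.SpReg

variable {n : ℕ} {F : Type*} [Field F]

theorem avec_zero (u : Matrix.symplecticGroup (Fin n) F) (a : Fin n ⊕ Fin n → F) : avec u a 0 = a := by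
  unfold avec
  rw [zpow_zero, one_mulVec']

theorem avec_zpow (u : Matrix.symplecticGroup (Fin n) F) (a : Fin n ⊕ Fin n → F) (m k : ℤ) :
    ((u ^ m : Matrix.symplecticGroup (Fin n) F) : Matrix (Fin n ⊕ Fin n) (Fin n ⊕ Fin n) F) *ᵥ avec u a k =
      avec u a (k + m) := by
  unfold avec
  rw [← mul_mulVec, ← _root_.zpow_add, add_comm]

theorem avec_succ (u : Matrix.symplecticGroup (Fin n) F) (a : Fin n ⊕ Fin n → F) (k : ℤ) :
    (u : Matrix (Fin n ⊕ Fin n) (Fin n ⊕ Fin n) F) *ᵥ avec u a k = avec u a (k + 1) := by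
  have h := avec_zpow u a 1 k
  rwa [zpow_one] at h

/-- the Gram matrix only depends on the difference of the indices -/
theorem gram_shift (u : Matrix.symplecticGroup (Fin n) F) (a : Fin n ⊕ Fin n → F) (j k : ℤ) :
    Cfsg.sympForm n F (avec u a j) (avec u a k) = Cfsg.sympForm n F a (avec u a (k - j)) := by
  have h1 : avec u a j =
      ((u ^ j : Matrix.symplecticGroup (Fin n) F) : Matrix (Fin n ⊕ Fin n) (Fin n ⊕ Fin n) F) *ᵥ a := rfl
  have h2 : avec u a k =
      ((u ^ j : Matrix.symplecticGroup (Fin n) F) : Matrix (Fin n ⊕ Fin n) (Fin n ⊕ Fin n) F) *ᵥ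
        avec u a (k - j) := by
    rw [avec_zpow, sub_add_cancel]
  rw [h1, h2, form_mulVec]

theorem gram_zero {u : Matrix.symplecticGroup (Fin n) F} {a : Fin n ⊕ Fin n → F} (hp : GoodPair u a) (j k : ℤ)
    (h : |j - k| < (n : ℤ)) : Cfsg.sympForm n F (avec u a j) (avec u a k) = 0 := by
  rw [abs_lt] at h
  have pos : ∀ m : ℤ, 0 < m → m < (n : ℤ) → Cfsg.sympForm n F a (avec u a m) = 0 := by
    intro m hm0 hmn
    have hm : m = ((m.toNat : ℕ) : ℤ) := (Int.toNat_of_nonneg hm0.le).symm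
    rw [hm]
    exact hp.gram0 m.toNat (by omega) (by omega)
  rcases lt_trichotomy j k with hlt | heq | hgt
  · rw [gram_shift]
    exact pos (k - j) (by omega) (by omega)
  · rw [heq]
    exact Cfsg.Agent.Lib.Helper13.sympForm_self _
  · rw [Cfsg.Agent.Lib.Helper13.sympForm_swap, gram_shift, pos (j - k) (by omega) (by omega), neg_zero]

theorem gram_one {u : Matrix.symplecticGroup (Fin n) F} {a : Fin n ⊕ Fin n → F} (hp : GoodPair u a) (j : ℤ) :
    Cfsg.sympForm n F (avec u a j) (avec u a (j + n)) = 1 := by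
  rw [gram_shift, add_sub_cancel_left]
  exact hp.gram1

end Cfsg.Agent.Lib.Helper11.SpReg
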