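/-
helper11 library (module S2281-[REG] of helper53's project S2281): a good pair `(u, a)` has `(u - 1)^(2n-1) ≠ 0`
(so `u` is a regular unipotent when it is unipotent).
-/
import Mathlib
import Cfsg.Agent.Lib.Helper53.SpReg.Defs
import Cfsg.Agent.Lib.Helper53.SpReg.Act
import Cfsg.Agent.Lib.Helper11.SpRegRegAux
import Cfsg.Agent.Lib.Helper93.SpRegBasis

set_option autoImplicit false

namespace Cfsg.Agent.Lib.Helper11.SpReg

open Matrix Cfsg.Agent.Lib.Helper53.SpReg

variable {n : ℕ} {F : Type*} [Field F]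

/-- module S2281-[REG] -/
theorem reg_of_goodPair (hn : 1 ≤ n) {u : Matrix.symplecticGroup (Fin n) F} {a : Fin n ⊕ Fin n → F}
    (hp : GoodPair u a) :
    ((u : Matrix (Fin n ⊕ Fin n) (Fin n ⊕ Fin n) F) - 1) ^ (2 * n - 1) ≠ 0 :=
  reg_of_linInd hn (Cfsg.Agent.Lib.Helper93.SpReg.avec_linInd hp)

end Cfsg.Agent.Lib.Helper11.SpReg
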