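import Mathlib
import Cfsg.Agent.Lib.Helper94.SPMD.Defs

/-!
# SPMD-[C-CASEA] (helper11): the number of standard pairs in the presence of a singular vector
outside the radical of the polar form (characteristic two).
-/

set_option autoImplicit false

namespace Cfsg.Agent.Lib.Helper11.SpmdCaseA

open Matrix Module Cfsg.Agent.Lib.Helper94.SPMD

variable {F : Type*} [Field F] [Fintype F] {n : ℕ}

theorem polar_self_zero (h2 : (2 : F) = 0) (Q : QuadraticForm F (Fin n → F)) (x : Fin n → F) :
    QuadraticMap.polar Q x x = 0 := by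
  rw [QuadraticMap.polar_self]
  have : (2 : ℕ) • Q x = (2 : F) * Q x := by
    rw [nsmul_eq_mul]; norm_num
  rw [this, h2, zero_mul]

/-- `Q (y + c x) = Q y + c² Q x + c B(y,x)` -/
theorem map_add_smul (Q : QuadraticForm F (Fin n → F)) (y x : Fin n → F) (c : F) :
    Q (y + c • x) = Q y + c * c * Q x + c * QuadraticMap.polar Q y x := by
  rw [QuadraticMap.map_add (⇑Q) y (c • x), QuadraticMap.map_smul, QuadraticMap.polar_smul_right,
    smul_eq_mul, smul_eq_mul]

theorem card_vec {q : ℕ} (hq : Fintype.card F = q) : Nat.card (Fin n → F) = q ^ n := by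
  rw [Nat.card_fun, Nat.card_eq_fintype_card, Nat.card_eq_fintype_card, hq, Fintype.card_fin]

/-- the fibres of `stdPairs Q 0 b` over the singular vectors have at most `q^(n-2)` elements,
in product form -/
theorem card_stdPairs_mul_le {q : ℕ} (hq : Fintype.card F = q) (h2 : (2 : F) = 0)
    (Q : QuadraticForm F (Fin n → F)) (b : F) :
    Nat.card (stdPairs Q 0 b) * (q * q) ≤ Nat.card {x : Fin n → F // Q x = 0} * q ^ n := by
  classical
  -- a chosen element of each non-empty fibre
  let y₀ : (Fin n → F) → (Fin n → F) := fun x =>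
    if h : ∃ y, QuadraticMap.polar Q x y = 1 ∧ Q y = b then h.choose else 0
  have hy₀ : ∀ x y, QuadraticMap.polar Q x y = 1 → Q y = b →
      QuadraticMap.polar Q x (y₀ x) = 1 ∧ Q (y₀ x) = b := by
    intro x y h1 h3
    have h : ∃ y, QuadraticMap.polar Q x y = 1 ∧ Q y = b := ⟨y, h1, h3⟩
    have : y₀ x = h.choose := dif_pos h
    rw [this]
    exact h.choose_spec
  let f : (stdPairs Q 0 b) × F × F → {x : Fin n → F // Q x = 0} × (Fin n → F) := fun t =>
    (⟨t.1.1.1, t.1.2.2.1⟩, t.1.1.2 + t.2.1 • t.1.1.1 + t.2.2 • y₀ t.1.1.1)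
  have hf : Function.Injective f := by
    rintro ⟨⟨⟨x, y⟩, hp⟩, c, d⟩ ⟨⟨⟨x', y'⟩, hp'⟩, c', d'⟩ h
    simp only [f, Prod.mk.injEq, Subtype.mk.injEq] at h
    obtain ⟨hx, hv⟩ := h
    subst hx
    obtain ⟨hB, hQx, hQy⟩ := hp
    obtain ⟨hB', -, hQy'⟩ := hp'
    simp only at hB hQx hQy hB' hQy'
    obtain ⟨hy1, -⟩ := hy₀ x y hB hQy
    -- apply `B(x, ·)`
    have e1 : QuadraticMap.polar Q x (y + c • x + d • y₀ x) = 1 + d := by
      rw [QuadraticMap.polar_add_right, QuadraticMap.polar_add_right,
        QuadraticMap.polar_smul_right, QuadraticMap.polar_smul_right, hB, hy1,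
        polar_self_zero h2, smul_eq_mul, smul_eq_mul, mul_zero, add_zero, mul_one]
    have e2 : QuadraticMap.polar Q x (y' + c' • x + d' • y₀ x) = 1 + d' := by
      rw [QuadraticMap.polar_add_right, QuadraticMap.polar_add_right,
        QuadraticMap.polar_smul_right, QuadraticMap.polar_smul_right, hB', hy1,
        polar_self_zero h2, smul_eq_mul, smul_eq_mul, mul_zero, add_zero, mul_one]
    have hd : d = d' := by
      rw [hv, e2] at e1
      exact (add_left_cancel e1).symm
    subst hd
    have hv2 : y + c • x = y' + c' • x := add_right_cancel hv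
    have e3 : Q (y + c • x) = b + c := by
      rw [map_add_smul, hQx, hQy, QuadraticMap.polar_comm, hB, mul_zero, add_zero, mul_one]
    have e4 : Q (y' + c' • x) = b + c' := by
      rw [map_add_smul, hQx, hQy', QuadraticMap.polar_comm, hB', mul_zero, add_zero, mul_one]
    have hc : c = c' := by
      rw [hv2, e4] at e3
      exact (add_left_cancel e3).symm
    subst hc
    have hy : y = y' := add_right_cancel hv2
    subst hy
    rfl
  have h := Nat.card_le_card_of_injective f hf
  rw [Nat.card_prod, Nat.card_prod, Nat.card_prod, card_vec hq, Nat.card_eq_fintype_card (α := F),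
    hq] at h
  exact h

/-- at most `2 q^(n-1)` singular vectors, in product form -/
theorem card_singular_mul_le {q : ℕ} (hq : Fintype.card F = q) (h2 : (2 : F) = 0)
    (Q : QuadraticForm F (Fin n → F)) (x₁ y₁ : Fin n → F) (hx₁ : Q x₁ = 0)
    (h1 : QuadraticMap.polar Q x₁ y₁ = 1) :
    Nat.card {x : Fin n → F // Q x = 0} * q ≤ 2 * q ^ n := by
  classical
  let g : {x : Fin n → F // Q x = 0} × F → Bool × (Fin n → F) := fun t =>
    if QuadraticMap.polar Q t.1.1 x₁ = 0 then (false, t.1.1 + t.2 • y₁)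
    else (true, t.1.1 + t.2 • x₁)
  have hg : Function.Injective g := by
    rintro ⟨⟨x, hx⟩, c⟩ ⟨⟨x', hx'⟩, c'⟩ h
    simp only [g] at h
    by_cases hz : QuadraticMap.polar Q x x₁ = 0
    · by_cases hz' : QuadraticMap.polar Q x' x₁ = 0
      · rw [if_pos hz, if_pos hz'] at h
        have hv : x + c • y₁ = x' + c' • y₁ := (Prod.mk.injEq _ _ _ _ ▸ h).2
        have e1 : QuadraticMap.polar Q (x + c • y₁) x₁ = c := by
          rw [QuadraticMap.polar_add_left, QuadraticMap.polar_smul_left, hz,
            QuadraticMap.polar_comm Q y₁ x₁, h1, smul_eq_mul, mul_one, zero_add]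
        have e2 : QuadraticMap.polar Q (x' + c' • y₁) x₁ = c' := by
          rw [QuadraticMap.polar_add_left, QuadraticMap.polar_smul_left, hz',
            QuadraticMap.polar_comm Q y₁ x₁, h1, smul_eq_mul, mul_one, zero_add]
        have hc : c = c' := by rw [← e1, hv, e2]
        subst hc
        have hxx : x = x' := add_right_cancel hv
        subst hxx
        rfl
      · rw [if_pos hz, if_neg hz'] at h
        simp at h
    · by_cases hz' : QuadraticMap.polar Q x' x₁ = 0
      · rw [if_neg hz, if_pos hz'] at h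
        simp at h
      · rw [if_neg hz, if_neg hz'] at h
        have hv : x + c • x₁ = x' + c' • x₁ := (Prod.mk.injEq _ _ _ _ ▸ h).2
        have e1 : QuadraticMap.polar Q (x + c • x₁) x₁ = QuadraticMap.polar Q x x₁ := by
          rw [QuadraticMap.polar_add_left, QuadraticMap.polar_smul_left, polar_self_zero h2,
            smul_eq_mul, mul_zero, add_zero]
        have e2 : QuadraticMap.polar Q (x' + c' • x₁) x₁ = QuadraticMap.polar Q x' x₁ := by
          rw [QuadraticMap.polar_add_left, QuadraticMap.polar_smul_left, polar_self_zero h2,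
            smul_eq_mul, mul_zero, add_zero]
        have ht : QuadraticMap.polar Q x x₁ = QuadraticMap.polar Q x' x₁ := by
          rw [← e1, hv, e2]
        have e3 : Q (x + c • x₁) = c * QuadraticMap.polar Q x x₁ := by
          rw [map_add_smul, hx, hx₁, mul_zero, add_zero, zero_add]
        have e4 : Q (x' + c' • x₁) = c' * QuadraticMap.polar Q x x₁ := by
          rw [map_add_smul, hx', hx₁, mul_zero, add_zero, zero_add, ht]
        have hc : c = c' := by
          rw [hv, e4] at e3
          exact (mul_right_cancel₀ hz e3).symm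
        subst hc
        have hxx : x = x' := add_right_cancel hv
        subst hxx
        rfl
  have h := Nat.card_le_card_of_injective g hg
  rw [Nat.card_prod, Nat.card_prod, card_vec hq, Nat.card_eq_fintype_card (α := F), hq,
    Nat.card_eq_fintype_card (α := Bool), Fintype.card_bool] at h
  exact h

theorem card_stdPairs_le_of_singular_aux {q : ℕ} (hq : Fintype.card F = q) (h2 : (2 : F) = 0)
    (hn : 2 ≤ n) (Q : QuadraticForm F (Fin n → F)) (x₁ y₁ : Fin n → F) (hx₁ : Q x₁ = 0)
    (h1 : QuadraticMap.polar Q x₁ y₁ = 1) (b : F) :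
    Nat.card (stdPairs Q 0 b) ≤ 2 * (q + 1) * q ^ (2 * (n - 2)) := by
  have hA := card_stdPairs_mul_le hq h2 Q b
  have hB := card_singular_mul_le hq h2 Q x₁ y₁ hx₁ h1
  have hqpos : 0 < q := by
    rw [← hq]; exact Fintype.card_pos
  set P := Nat.card (stdPairs Q 0 b) with hP
  set Z := Nat.card {x : Fin n → F // Q x = 0} with hZ
  -- `P q³ ≤ 2 q^(2n)`
  have h3 : P * (q * q * q) ≤ 2 * q ^ n * q ^ n := by
    calc P * (q * q * q) = (P * (q * q)) * q := by ring
      _ ≤ (Z * q ^ n) * q := Nat.mul_le_mul_right _ hA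
      _ = (Z * q) * q ^ n := by ring
      _ ≤ (2 * q ^ n) * q ^ n := Nat.mul_le_mul_right _ hB
  obtain ⟨m, rfl⟩ : ∃ m, n = m + 2 := ⟨n - 2, by omega⟩
  have e : 2 * q ^ (m + 2) * q ^ (m + 2) = (2 * q * q ^ (2 * m)) * (q * q * q) := by ring
  rw [e] at h3
  have h4 : P ≤ 2 * q * q ^ (2 * m) :=
    Nat.le_of_mul_le_mul_right h3 (by positivity)
  have : m + 2 - 2 = m := by omega
  rw [this]
  calc P ≤ 2 * q * q ^ (2 * m) := h4
    _ ≤ 2 * (q + 1) * q ^ (2 * m) := by
      apply Nat.mul_le_mul_right
      omega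

end Cfsg.Agent.Lib.Helper11.SpmdCaseA

namespace Cfsg.Agent.Lib.Helper94.SPMD

open Matrix Module

variable {F : Type*} [Field F] [Fintype F] {n : ℕ}

/-- **[C-CASEA]** Case A: a singular vector `x₁` outside the radical of the polar form -/
theorem card_stdPairs_le_of_singular {q : ℕ} (hq : Fintype.card F = q) (h2 : (2 : F) = 0)
    (hn : 2 ≤ n) (Q : QuadraticForm F (Fin n → F)) (x₁ y₁ : Fin n → F) (hx₁ : Q x₁ = 0)
    (h1 : QuadraticMap.polar Q x₁ y₁ = 1) :
    Nat.card (stdPairs Q 0 (Q y₁)) ≤ 2 * (q + 1) * q ^ (2 * (n - 2)) :=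
  Cfsg.Agent.Lib.Helper11.SpmdCaseA.card_stdPairs_le_of_singular_aux hq h2 hn Q x₁ y₁ hx₁ h1 (Q y₁)

end Cfsg.Agent.Lib.Helper94.SPMD
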