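import Cfsg.Agent.Lib.Helper51.StrongFusionGlobal
import Cfsg.Agent.Lib.Helper11.QdStable3
import Cfsg.Agent.Lib.Helper11.PQuotGen
import Cfsg.Agent.Lib.Helper33.SectionFusion

/-!
# `Qd(p)`-free groups: `N(W(E))` controls strong fusion, `E` strongly closed (helper11 library)

`W(E) = famInf (gd p b) E` is `Z(J(E))` (`b = true`) or `Ω₁(Z(J_e(E)))` (`b = false`).  For `p` odd, `G` with no section
isomorphic to `Qd(p)`, `Q` a Sylow `p`-subgroup and `E` strongly closed in `Q`, the normalizer of `W(E)` controls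
strong fusion in `Q` (Kızmaz).  Induction on `|G|`: local-to-global (helper33) when `O_p(G) = 1`, the relative
`ZJ`-theorem (`S3079`, through helper51's `local_control`) when `O_p(G)` is centric, and the quotient by `O_p(G)`
(`good_of_pQuot_gen`) otherwise.
-/

set_option autoImplicit false

namespace Cfsg.Agent.Lib.Helper11

open Cfsg Cfsg.Agent.Lib.Helper33 Cfsg.Agent.Lib.Helper51

universe u

/-- in `H`, for every Sylow `p`-subgroup `Q` and every `E` strongly closed in `Q`, the normalizer of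
`famInf (gd p b) E` controls strong fusion in `Q`. -/
def SCCtl (p : ℕ) (b : Bool) (H : Type u) [Group H] : Prop :=
  ∀ (Q : Sylow p H) (E : Subgroup H), IsStronglyClosed E (Q : Subgroup H) →
    ∀ (A : Set H) (h : H), A ⊆ (Q : Subgroup H) → (fun a => h * a * h⁻¹) '' A ⊆ (Q : Subgroup H) →
      ∃ x ∈ Subgroup.normalizer ((famInf (gd p b) E : Subgroup H) : Set H),
        ∀ a ∈ A, x * a * x⁻¹ = h * a * h⁻¹

section quot

variable {G : Type*} [Group G]

/-- strong closure passes to the quotient by a normal subgroup contained in `P`. -/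
theorem isStronglyClosed_map_mk_of_le (N : Subgroup G) [N.Normal] {P E : Subgroup G} (hNP : N ≤ P)
    (hE : IsStronglyClosed E P) :
    IsStronglyClosed (E.map (QuotientGroup.mk' N)) (P.map (QuotientGroup.mk' N)) := by
  refine ⟨Subgroup.map_mono hE.1, ?_⟩
  rintro _ ⟨x, hx, rfl⟩ gb hgb
  obtain ⟨g, rfl⟩ := QuotientGroup.mk'_surjective N gb
  obtain ⟨q, hq, hqe⟩ := hgb
  have hk : q⁻¹ * (g * x * g⁻¹) ∈ N := by
    rw [← QuotientGroup.eq, ← QuotientGroup.mk'_apply, hqe]
    simp
  have h2 : g * x * g⁻¹ ∈ P := by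
    have : g * x * g⁻¹ = q * (q⁻¹ * (g * x * g⁻¹)) := by group
    rw [this]
    exact P.mul_mem hq (hNP hk)
  exact ⟨g * x * g⁻¹, hE.2 x hx g h2, by simp⟩

end quot

section sub

variable {G : Type u} [Group G] [Finite G] {p : ℕ} [Fact p.Prime]

/-- transport of `SCCtl` from the group `↥M` to the subgroup `M` of `G`. -/
theorem scctl_sub (b : Bool) (M : Subgroup G) (hM : SCCtl p b ↥M) (P₁ E₁ : Subgroup G)
    (hsyl : SylIn p P₁ M) (hE₁ : E₁ ≤ P₁)
    (hsc : ∀ x ∈ E₁, ∀ g ∈ M, g * x * g⁻¹ ∈ P₁ → g * x * g⁻¹ ∈ E₁)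
    (A : Set G) (h : G) (hh : h ∈ M) (hA : A ⊆ P₁) (hAh : (fun a => h * a * h⁻¹) '' A ⊆ P₁) :
    ∃ x ∈ M ⊓ Subgroup.normalizer ((famInf (gd p b) E₁ : Subgroup G) : Set G),
      ∀ a ∈ A, x * a * x⁻¹ = h * a * h⁻¹ := by
  have hP₁M : P₁ ≤ M := hsyl.le
  have hEM : E₁ ≤ M := hE₁.trans hP₁M
  let Q : Sylow p ↥M := hsyl.toSylow
  have hQ : (Q : Subgroup ↥M) = P₁.subgroupOf M := hsyl.coe_toSylow
  have hE' : IsStronglyClosed (E₁.subgroupOf M) (Q : Subgroup ↥M) := by
    rw [hQ]
    refine ⟨?_, ?_⟩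
    · intro x hx
      rw [Subgroup.mem_subgroupOf] at hx ⊢
      exact hE₁ hx
    · intro x hx g hg
      rw [Subgroup.mem_subgroupOf] at hx hg ⊢
      exact hsc _ hx _ g.2 hg
  obtain ⟨x', hx'N, hx'⟩ := hM Q (E₁.subgroupOf M) hE' (M.subtype ⁻¹' A) ⟨h, hh⟩
    (by
      intro a ha
      rw [hQ]
      show a ∈ P₁.subgroupOf M
      rw [Subgroup.mem_subgroupOf]
      exact hA ha)
    (by
      rintro _ ⟨a, ha, rfl⟩
      rw [hQ]
      show _ ∈ P₁.subgroupOf M
      rw [Subgroup.mem_subgroupOf]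
      exact hAh ⟨(a : G), ha, rfl⟩)
  have hmapE : (E₁.subgroupOf M).map M.subtype = E₁ := Subgroup.map_subgroupOf_eq_of_le hEM
  have hZmap : (famInf (gd p b) (E₁.subgroupOf M)).map M.subtype = famInf (gd p b) E₁ := by
    rw [← famInf_gd_map_injOn p b M.subtype (E₁.subgroupOf M) (M.subtype_injective.injOn), hmapE]
  refine ⟨(x' : G), ⟨x'.2, ?_⟩, ?_⟩
  · rw [← hZmap]
    exact Subgroup.le_normalizer_map M.subtype ⟨x', hx'N, rfl⟩
  · intro a ha
    have haM : a ∈ M := hP₁M (hA ha)
    have := hx' ⟨a, haM⟩ ha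
    exact congrArg Subtype.val this

/-- control of strong fusion by `wfun` in a subgroup `M` for which `SCCtl` is known. -/
theorem controls_wfun_sub (b : Bool) (P : Sylow p G) (E : Subgroup G)
    (hE : IsStronglyClosed E (P : Subgroup G)) (M : Subgroup G) (hM : SCCtl p b ↥M)
    (hsyl : SylIn p ((P : Subgroup G) ⊓ M) M) :
    ControlsStrongFusionIn p (wfun p b E) M := by
  classical
  refine ⟨(P : Subgroup G) ⊓ M, hsyl.le, hsyl.isPGroup, hsyl.not_dvd, ?_⟩
  intro A h hhM hAP hAh
  obtain ⟨E₁, hE₁, hsc, hW⟩ : ∃ E₁ : Subgroup G, E₁ ≤ (P : Subgroup G) ⊓ M ∧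
      (∀ x ∈ E₁, ∀ g ∈ M, g * x * g⁻¹ ∈ (P : Subgroup G) ⊓ M → g * x * g⁻¹ ∈ E₁) ∧
      wfun p b E ((P : Subgroup G) ⊓ M) = famInf (gd p b) E₁ := by
    by_cases htr : trc E ((P : Subgroup G) ⊓ M) = ⊥
    · refine ⟨(P : Subgroup G) ⊓ M, le_rfl, fun x _ g _ hg => hg, ?_⟩
      unfold wfun
      rw [if_pos htr]
    · refine ⟨(P : Subgroup G) ⊓ M ⊓ E, inf_le_left, ?_, ?_⟩
      · intro x hx g _ hg
        exact ⟨hg, hE.2 x hx.2 g hg.1⟩
      · unfold wfun
        rw [if_neg htr, trc_eq_inf_of_le hE inf_le_left]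
  rw [hW]
  exact scctl_sub b M hM _ E₁ hsyl hE₁ hsc A h hhM hAP hAh

end sub

section main

variable {p : ℕ} [Fact p.Prime]

omit [Fact p.Prime] in
theorem wfun_sylow_eq {G : Type u} [Group G] [Finite G] (b : Bool) (P : Sylow p G) {E : Subgroup G}
    (hE : IsStronglyClosed E (P : Subgroup G)) (hEb : E ≠ ⊥) :
    wfun p b E (P : Subgroup G) = famInf (gd p b) E := by
  classical
  have h1 : trc E (P : Subgroup G) = E := by
    rw [trc_eq_inf_of_le hE le_rfl]
    exact inf_eq_right.mpr hE.1
  unfold wfun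
  rw [h1, if_neg hEb]

/-- **Kızmaz**: in a `Qd(p)`-free group, `p` odd, the normalizer of `W(E)` controls strong fusion in a Sylow
`p`-subgroup in which `E` is strongly closed. -/
theorem scctl_of_noQd (hp : p ≠ 2) (b : Bool) :
    ∀ n : ℕ, ∀ (G : Type u) [Group G] [Finite G], Nat.card G = n →
      ¬ InvolvesGrp ↥(Cfsg.qd p) G → SCCtl p b G := by
  intro n
  induction n using Nat.strong_induction_on with
  | _ n IH =>
  intro G _ _ hn hno P E hE A h hA hAh
  classical
  -- trivial case
  by_cases hEb : E = ⊥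
  · refine ⟨h, ?_, fun a _ => rfl⟩
    have : famInf (gd p b) E = ⊥ := by
      rw [eq_bot_iff, ← hEb]
      exact famInf_gd_le p b E
    rw [this, Subgroup.normalizer_eq_top_iff.mpr (inferInstance : (⊥ : Subgroup G).Normal)]
    trivial
  have hSp : IsPGroup p (P : Subgroup G) := P.isPGroup'
  have hW := isConjugacyFunctor_wfun (p := p) b E
  have h𝓦 : ∀ W ∈ ({wfun p b E} : Set (Subgroup G → Subgroup G)), IsConjugacyFunctor p W := by
    rintro W rfl
    exact hW
  have hWP := wfun_sylow_eq b P hE hEb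
  have hPn : (Cfsg.pCore p G).Normal := Subgroup.sSup_normal _ (fun _ h => h.1)
  have hPS : Cfsg.pCore p G ≤ (P : Subgroup G) := Cfsg.Agent.Lib.Helper76.pCore_le_sylow p P
  have hPmax : ∀ N : Subgroup G, N.Normal → IsPGroup p N → N ≤ Cfsg.pCore p G :=
    fun N hN hNp => Cfsg.Agent.Lib.Helper76.le_pCore p N hN hNp
  -- the constrained case
  by_cases hc : (P : Subgroup G) ⊓ Subgroup.centralizer ((Cfsg.pCore p G : Subgroup G) : Set G) ≤
      Cfsg.pCore p G
  · have hKn : (Cfsg.pPrimeCore p G).Normal := Subgroup.sSup_normal _ (fun _ h => h.1)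
    have hK : (Nat.card (Cfsg.pPrimeCore p G)).Coprime p := Cfsg.Agent.Lib.Helper76.pPrimeCore_coprime p
    have hKmax : ∀ N : Subgroup G, N.Normal → (Nat.card N).Coprime p → N ≤ Cfsg.pPrimeCore p G :=
      fun N hN hNp => Cfsg.Agent.Lib.Helper76.le_pPrimeCore p N hN hNp
    have hcon := constrained_quotient_of_normal_centric P (Cfsg.pCore p G) hPS hc (Cfsg.pPrimeCore p G) hK hKmax
    have hcG : IsPConstrained p G :=
      (Cfsg.Agent.Lib.Helper54.isPConstrained_iff_centralizer_pCore_le p).mpr hcon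
    have hst : IsNormalizerPStable p G := isNormalizerPStable_of_noQd hp hno
    exact local_control hp b P hE hst hcG A h hA hAh
  -- induction hypothesis for proper subgroups
  have IHsub : ∀ M : Subgroup G, M ≠ ⊤ → SCCtl p b ↥M := by
    intro M hM
    refine IH (Nat.card M) ?_ ↥M rfl (fun hinv => hno hinv.of_subgroup)
    rw [← hn, ← Subgroup.card_top (G := G)]
    exact card_lt_card_of_lt (lt_top_iff_ne_top.mpr hM)
  have hlocal : ∀ M : Subgroup G, M ≠ ⊤ → SylIn p ((P : Subgroup G) ⊓ M) M →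
      FamilyControlsStrongFusionIn p {wfun p b E} M := by
    intro M hM hsyl
    exact controls_iff_family_singleton.mp (controls_wfun_sub b P E hE M (IHsub M hM) hsyl)
  -- it suffices to produce a chain
  suffices hgood : Good (stepSet {wfun p b E} ⊤ (P : Subgroup G)) (P : Subgroup G) A h by
    obtain ⟨g', hreach, hagree⟩ := hgood
    rw [stepSet_singleton] at hreach
    refine ⟨g', ?_, hagree⟩
    rw [← hWP]
    exact (hreach.mem_of_subgroup).2
  by_cases hP1 : Cfsg.pCore p G = ⊥
  · -- `O_p(G) = 1`: all local subgroups are proper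
    have hfam : FamilyControlsStrongFusionIn p {wfun p b E} ⊤ := by
      refine familyControls_top_of_local P {wfun p b E} h𝓦 Set.univ ?_ ?_
      · intro Q hQ
        obtain ⟨g, hle, hfn⟩ := exists_fullyNormalized_cj P hQ
        exact ⟨cj g Q, trivial, ⟨g, rfl⟩, hle, hfn⟩
      · intro U _ hUne hUS hUfn
        apply hlocal _ ?_ hUfn.sylIn
        intro htop
        have hUn : U.Normal := Subgroup.normalizer_eq_top_iff.mp htop
        have := hPmax U hUn (hSp.to_le hUS)
        rw [hP1] at this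
        exact hUne (le_bot_iff.mp this)
    exact good_of_familyControls h𝓦 hfam (sylIn_top P) A h (Subgroup.mem_top _) hA hAh
  · -- `O_p(G) ≠ 1` not centric
    by_cases hEQ : E ≤ Cfsg.pCore p G
    · -- `E` is normal in `G`
      have hEn : E.Normal := by
        refine ⟨fun x hx g => ?_⟩
        apply hE.2 x hx g
        exact hPS (hPn.conj_mem x (hEQ hx) g)
      have hZn : Subgroup.normalizer ((famInf (gd p b) E : Subgroup G) : Set G) = ⊤ := by
        rw [eq_top_iff]
        calc (⊤ : Subgroup G) = Subgroup.normalizer (E : Set G) :=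
              (Subgroup.normalizer_eq_top_iff.mpr hEn).symm
          _ ≤ _ := normalizer_le_normalizer_famInf (good := gd p b) (fun φ A hA => gd_map p b _ hA) E
      apply Good.single
      · rw [stepSet_singleton, hWP, hZn]
        exact ⟨Subgroup.mem_top _, Subgroup.mem_top _⟩
      · exact hAh
    · -- the quotient by `O_p(G)`
      set Q₀ := Cfsg.pCore p G with hQ₀
      have hπ : Function.Surjective (QuotientGroup.mk' Q₀) := QuotientGroup.mk'_surjective Q₀
      have hcardq : Nat.card (G ⧸ Q₀) < n := by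
        rw [← hn, Subgroup.card_eq_card_quotient_mul_card_subgroup Q₀]
        have h1 : 1 < Nat.card ↥Q₀ := by
          rw [Subgroup.one_lt_card_iff_ne_bot]
          exact hP1
        have h0 : 0 < Nat.card (G ⧸ Q₀) := Nat.card_pos
        nlinarith
      have IHq : SCCtl p b (G ⧸ Q₀) :=
        IH _ hcardq (G ⧸ Q₀) rfl (fun hinv => hno (InvolvesGrp.of_surjective _ hπ hinv))
      have hEb' : IsStronglyClosed (E.map (QuotientGroup.mk' Q₀))
          ((P.mapSurjective hπ : Sylow p (G ⧸ Q₀)) : Subgroup (G ⧸ Q₀)) := by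
        rw [Sylow.coe_mapSurjective]
        exact isStronglyClosed_map_mk_of_le Q₀ hPS hE
      have hSbp : IsPGroup p ((P : Subgroup G).map (QuotientGroup.mk' Q₀)) := hSp.map _
      set Zb := famInf (gd p b) (E.map (QuotientGroup.mk' Q₀)) with hZb
      have hZbE : Zb ≤ E.map (QuotientGroup.mk' Q₀) := famInf_gd_le p b _
      have hZbne : Zb ≠ ⊥ := by
        apply famInf_gd_ne_bot b (hSbp.to_le (Subgroup.map_mono hE.1))
        intro hbot
        rw [Subgroup.map_eq_bot_iff, QuotientGroup.ker_mk'] at hbot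
        exact hEQ hbot
      -- the preimage of `Zb`
      set X := Zb.comap (QuotientGroup.mk' Q₀) with hX
      have hXS : X ≤ (P : Subgroup G) := by
        have := Subgroup.comap_mono (f := QuotientGroup.mk' Q₀) (hZbE.trans (Subgroup.map_mono hE.1))
        rwa [Subgroup.comap_map_eq, QuotientGroup.ker_mk', sup_eq_left.mpr hPS] at this
      have hNZb : (P : Subgroup G).map (QuotientGroup.mk' Q₀) ≤
          Subgroup.normalizer ((Zb : Subgroup (G ⧸ Q₀)) : Set (G ⧸ Q₀)) := by
        have h1 := le_normalizer_of_isStronglyClosed hEb'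
        rw [Sylow.coe_mapSurjective] at h1
        exact h1.trans (normalizer_le_normalizer_famInf (good := gd p b)
          (fun φ A hA => gd_map p b _ hA) _)
      have hSN : (P : Subgroup G) ≤ Subgroup.normalizer (X : Set G) := by
        intro s hs
        apply Subgroup.le_normalizer_comap (QuotientGroup.mk' Q₀)
        rw [Subgroup.mem_comap]
        exact hNZb (Subgroup.mem_map_of_mem _ hs)
      have hXne : Subgroup.normalizer (X : Set G) ≠ ⊤ := by
        intro htop
        have hXn := Subgroup.normalizer_eq_top_iff.mp htop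
        have hXP := hPmax _ hXn (hSp.to_le hXS)
        apply hZbne
        have h1 := Subgroup.map_mono (f := QuotientGroup.mk' Q₀) hXP
        rw [hX, Subgroup.map_comap_eq_self_of_surjective hπ] at h1
        have hPb : Q₀.map (QuotientGroup.mk' Q₀) = ⊥ := by
          rw [Subgroup.map_eq_bot_iff, QuotientGroup.ker_mk']
        exact le_bot_iff.mp (h1.trans hPb.le)
      have H2' : ∀ Y : Subgroup G, Y ≤ (P : Subgroup G) → (P : Subgroup G) ≤ Subgroup.normalizer (Y : Set G) →
          Subgroup.normalizer (Y : Set G) ≠ ⊤ → ∀ z ∈ Subgroup.normalizer (Y : Set G), ∀ C : Set G,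
            C ⊆ (P : Subgroup G) → lc z C ⊆ (P : Subgroup G) →
            Good (stepSet {wfun p b E} ⊤ (P : Subgroup G)) (P : Subgroup G) C z := by
        intro Y hYS hSNY hne z hz C hC hzC
        have hsyl : SylIn p ((P : Subgroup G) ⊓ Subgroup.normalizer (Y : Set G))
            (Subgroup.normalizer (Y : Set G)) := by
          rw [inf_eq_left.mpr hSNY]
          exact sylIn_of_sylow_le P hSNY
        have := good_of_familyControls h𝓦 (hlocal _ hne hsyl) (sylIn_of_sylow_le P hSNY) C z hz hC hzC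
        exact this.mono (stepSet_subset_top _ _ _) le_rfl le_rfl
      refine good_of_pQuot_gen P Q₀ hPS hPmax hc (stepSet {wfun p b E} ⊤ (P : Subgroup G))
        (fun x hx => stepSet_inv hx)
        ((Subgroup.normalizer ((Zb : Subgroup (G ⧸ Q₀)) : Set (G ⧸ Q₀)) : Subgroup (G ⧸ Q₀)) : Set (G ⧸ Q₀))
        ?_ ?_ H2' A h hA hAh
      · intro Ab gb hAb hgAb
        obtain ⟨xb, hxbN, hxb⟩ := IHq (P.mapSurjective hπ) _ hEb' Ab gb
          (by rw [Sylow.coe_mapSurjective]; exact hAb)
          (by rw [Sylow.coe_mapSurjective]; exact hgAb)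
        refine (Good.single (x := xb) hxbN ?_).congr hxb
        rw [lc_congr hxb]
        exact hgAb
      · intro z hz C hC hzC
        have hzN : z ∈ Subgroup.normalizer (X : Set G) := by
          apply Subgroup.le_normalizer_comap (QuotientGroup.mk' Q₀)
          rw [Subgroup.mem_comap]
          exact hz
        exact H2' X hXS hSN hXne z hzN C hC hzC

end main

end Cfsg.Agent.Lib.Helper11
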