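import Cfsg.Agent.Lib.Helper19.SuzExponent

/-!
# Additive maps on a finite field of characteristic two: coefficients (helper11)
-/

set_option autoImplicit false
set_option linter.style.haveILetI false

namespace Cfsg.Agent.Lib.Helper11.SuzH

open Cfsg.Agent.Lib.Helper19.Suz

section
variable {F : Type*} [Field F] [Fintype F] [CharP F 2]

/-- expansion of additive maps with a total coefficient function -/
theorem exists_coef (f : F →+ F) : ∃ c : (F ≃+* F) → F, ∀ x, f x = ∑ σ : F ≃+* F, c σ * σ x := by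
  classical
  obtain ⟨S, c, hc⟩ := (Cfsg.Agent.S1140.result (F := F)).2.1 f
  refine ⟨fun σ => if σ ∈ S then c σ else 0, fun x => ?_⟩
  rw [hc x, ← Finset.sum_subset (Finset.subset_univ S)]
  · apply Finset.sum_congr rfl
    intro σ hσ
    show c σ * σ x = (if σ ∈ S then c σ else 0) * σ x
    rw [if_pos hσ]
  · intro σ _ hσ
    show (if σ ∈ S then c σ else 0) * σ x = 0
    rw [if_neg hσ, zero_mul]

theorem coef_unique (d : (F ≃+* F) → F) (h : ∀ x, ∑ σ : F ≃+* F, d σ * σ x = 0) : ∀ σ, d σ = 0 := by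
  have hind := Fintype.linearIndependent_iff.mp (aut_indep (F := F))
  apply hind d
  funext x
  simp only [Finset.sum_apply, Pi.smul_apply, smul_eq_mul, Pi.zero_apply]
  exact h x

/-- the coefficients of an additive map -/
noncomputable def coef (f : F →+ F) : (F ≃+* F) → F := Classical.choose (exists_coef f)

theorem coef_spec (f : F →+ F) (x : F) : f x = ∑ σ : F ≃+* F, coef f σ * σ x :=
  Classical.choose_spec (exists_coef f) x

theorem coef_eq_of (f : F →+ F) (c : (F ≃+* F) → F)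
    (h : ∀ x, f x = ∑ σ : F ≃+* F, c σ * σ x) : coef f = c := by
  funext σ
  have := coef_unique (fun σ => coef f σ - c σ) (by
    intro x
    simp only [sub_mul, Finset.sum_sub_distrib]
    rw [← coef_spec, ← h, sub_self]) σ
  exact sub_eq_zero.mp this

theorem coef_add (f g : F →+ F) : coef (f + g) = coef f + coef g := by
  apply coef_eq_of
  intro x
  simp only [AddMonoidHom.add_apply, Pi.add_apply, add_mul, Finset.sum_add_distrib]
  rw [← coef_spec, ← coef_spec]

theorem coef_zero : coef (0 : F →+ F) = 0 := by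
  apply coef_eq_of
  intro x
  simp

theorem eq_zero_of_coef_eq_zero (f : F →+ F) (h : ∀ σ, coef f σ = 0) : f = 0 := by
  ext x
  rw [coef_spec f x]
  simp [h]

/-- two products of two automorphisms agree only in the obvious way -/
theorem ind2 (σ₁ σ₂ σ₃ σ₄ : F ≃+* F) (h : ∀ u : F, σ₁ u * σ₂ u = σ₃ u * σ₄ u) :
    (σ₁ = σ₃ ∧ σ₂ = σ₄) ∨ (σ₁ = σ₄ ∧ σ₂ = σ₃) := by
  classical
  have h2 : ∀ x : F, x + x = 0 := CharTwo.add_self_eq_zero
  have hpol : ∀ x y : F, σ₁ x * σ₂ y + σ₂ x * σ₁ y + σ₃ x * σ₄ y + σ₄ x * σ₃ y = 0 := by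
    intro x y
    have hx := h x
    have hy := h y
    have hxy := h (x + y)
    simp only [map_add] at hxy
    linear_combination hxy - hx - hy + h2 (σ₃ x * σ₄ y) + h2 (σ₃ y * σ₄ x)
  -- the coefficient function
  let d : (F ≃+* F) × (F ≃+* F) → F := fun p =>
    (if p = (σ₁, σ₂) then 1 else 0) + (if p = (σ₂, σ₁) then 1 else 0) +
    (if p = (σ₃, σ₄) then 1 else 0) + (if p = (σ₄, σ₃) then 1 else 0)
  have hd : ∀ p, d p = 0 := by
    apply dbl_indep
    intro x y
    have e : ∀ q : (F ≃+* F) × (F ≃+* F),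
        ∑ p : (F ≃+* F) × (F ≃+* F), (if p = q then (1 : F) else 0) * (p.1 x * p.2 y) =
          q.1 x * q.2 y := by
      intro q
      rw [Finset.sum_eq_single q]
      · rw [if_pos rfl, one_mul]
      · intro p _ hp
        rw [if_neg hp, zero_mul]
      · intro hq
        exact absurd (Finset.mem_univ q) hq
    show ∑ p : (F ≃+* F) × (F ≃+* F), ((if p = (σ₁, σ₂) then 1 else 0) + (if p = (σ₂, σ₁) then 1 else 0) +
      (if p = (σ₃, σ₄) then 1 else 0) + (if p = (σ₄, σ₃) then 1 else 0)) * (p.1 x * p.2 y) = 0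
    simp only [add_mul, Finset.sum_add_distrib]
    rw [e, e, e, e]
    exact hpol x y
  have one_ne : (1 : F) ≠ 0 := one_ne_zero
  have two0 : (1 : F) + 1 = 0 := h2 1
  by_cases h12 : σ₁ = σ₂
  · -- then σ₃ = σ₄ as well
    have h34 : σ₃ = σ₄ := by
      by_contra h34
      have e1 : ((σ₃, σ₄) : (F ≃+* F) × (F ≃+* F)) ≠ (σ₄, σ₃) := by
        intro he
        exact h34 (congrArg Prod.fst he)
      have e2 : (if ((σ₃, σ₄) : (F ≃+* F) × (F ≃+* F)) = (σ₁, σ₂) then (1 : F) else 0) =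
          (if ((σ₃, σ₄) : (F ≃+* F) × (F ≃+* F)) = (σ₂, σ₁) then (1 : F) else 0) := by
        rw [h12]
      have this : (if ((σ₃, σ₄) : (F ≃+* F) × (F ≃+* F)) = (σ₁, σ₂) then (1 : F) else 0) +
        (if ((σ₃, σ₄) : (F ≃+* F) × (F ≃+* F)) = (σ₂, σ₁) then (1 : F) else 0) +
        (if ((σ₃, σ₄) : (F ≃+* F) × (F ≃+* F)) = (σ₃, σ₄) then (1 : F) else 0) +
        (if ((σ₃, σ₄) : (F ≃+* F) × (F ≃+* F)) = (σ₄, σ₃) then (1 : F) else 0) = 0 := hd (σ₃, σ₄)
      rw [e2, if_pos rfl, if_neg e1, h2, zero_add, add_zero] at this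
      exact one_ne this
    left
    have h13 : σ₁ = σ₃ := by
      ext u
      have := h u
      rw [← h12, ← h34] at this
      have h5 : (σ₁ u + σ₃ u) * (σ₁ u + σ₃ u) = 0 := by
        linear_combination this + h2 (σ₁ u * σ₃ u) + h2 (σ₃ u * σ₃ u)
      have h6 := mul_self_eq_zero.mp h5
      have h7 := h2 (σ₃ u)
      linear_combination h6 - h7
    exact ⟨h13, by rw [← h12, h13, h34]⟩
  · have e1 : ((σ₁, σ₂) : (F ≃+* F) × (F ≃+* F)) ≠ (σ₂, σ₁) := by
      intro he
      exact h12 (congrArg Prod.fst he)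
    have this : (if ((σ₁, σ₂) : (F ≃+* F) × (F ≃+* F)) = (σ₁, σ₂) then (1 : F) else 0) +
      (if ((σ₁, σ₂) : (F ≃+* F) × (F ≃+* F)) = (σ₂, σ₁) then (1 : F) else 0) +
      (if ((σ₁, σ₂) : (F ≃+* F) × (F ≃+* F)) = (σ₃, σ₄) then (1 : F) else 0) +
      (if ((σ₁, σ₂) : (F ≃+* F) × (F ≃+* F)) = (σ₄, σ₃) then (1 : F) else 0) = 0 := hd (σ₁, σ₂)
    rw [if_pos rfl, if_neg e1, add_zero] at this
    by_cases c1 : ((σ₁, σ₂) : (F ≃+* F) × (F ≃+* F)) = (σ₃, σ₄)
    · left
      exact ⟨congrArg Prod.fst c1, congrArg Prod.snd c1⟩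
    · by_cases c2 : ((σ₁, σ₂) : (F ≃+* F) × (F ≃+* F)) = (σ₄, σ₃)
      · right
        exact ⟨congrArg Prod.fst c2, congrArg Prod.snd c2⟩
      · rw [if_neg c1, if_neg c2, add_zero, add_zero] at this
        exact absurd this one_ne

end

end Cfsg.Agent.Lib.Helper11.SuzH
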