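import Cfsg.Agent.Lib.Helper11.SuzFpf
import Cfsg.Agent.Lib.Helper11.SuzField

/-!
# Equivariant additive actions on a minimal invariant section are monomial (helper11)
-/

set_option autoImplicit false
set_option linter.style.haveILetI false

namespace Cfsg.Agent.Lib.Helper11.SuzH

open Cfsg.Agent.Lib.Helper19.Suz

variable {P : Type*} [Group P] {K : Subgroup (MulAut P)}
variable {F : Type*} [Field F] [Fintype F] [CharP F 2]

theorem exists_monomial
    (Φ : P → F →+ F) (κ : MulAut P → F)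
    (hΦmul : ∀ g h, Φ (g * h) = Φ g + Φ h)
    (hΦeq : ∀ k ∈ K, ∀ g u, Φ (k g) (κ k * u) = κ k * Φ g u)
    (hκne : ∀ k ∈ K, κ k ≠ 0)
    (hκsurj : ∀ u : F, u ≠ 0 → ∃ k ∈ K, κ k = u)
    (hκone : κ 1 = 1)
    (hK : ∃ k ∈ K, k ≠ 1)
    (C P₁ : Subgroup P) (hC : ∀ g, g ∈ C ↔ Φ g = 0)
    (hcoset : ∀ k ∈ K, k ≠ 1 → ∀ g, g⁻¹ * k g ∈ C → g ∈ C)
    (hP₁ : KInv K P₁) (hCP₁ : C ≤ P₁) (g₀ : P) (hg₀ : g₀ ∈ P₁) (hg₀C : g₀ ∉ C)
    (hmin : ∀ Q : Subgroup P, KInv K Q → C ≤ Q → Q ≤ P₁ → Q = C ∨ Q = P₁) :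
    ∃ (ρ : F ≃+* F) (c : P → F), (∀ g h, c (g * h) = c g + c h) ∧
      (∀ g ∈ P₁, c g = 0 ↔ g ∈ C) ∧ (∀ g ∈ P₁, ∀ u, Φ g u = c g * ρ u) ∧
      (∀ u : F, ∃ g ∈ P₁, c g = u) ∧
      (∀ u v : F, u ≠ 0 → v ≠ 0 → u * ρ v = v * ρ u → u = v) := by
  classical
  have h2 : ∀ x : F, x + x = 0 := CharTwo.add_self_eq_zero
  have hΦ1 : Φ 1 = 0 := by
    have := hΦmul 1 1
    rw [mul_one] at this
    exact left_eq_add.mp this
  -- coefficient functions
  have hc_add : ∀ (σ : F ≃+* F) (g h : P), coef (Φ (g * h)) σ = coef (Φ g) σ + coef (Φ h) σ := by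
    intro σ g h
    rw [hΦmul, coef_add]; rfl
  have hc_eq : ∀ k ∈ K, ∀ (g : P) (σ : F ≃+* F),
      coef (Φ (k g)) σ = κ k * (σ (κ k))⁻¹ * coef (Φ g) σ := by
    intro k hk g σ
    have hk0 := hκne k hk
    refine congrFun (coef_eq_of (Φ (k g)) (fun σ => κ k * (σ (κ k))⁻¹ * coef (Φ g) σ) ?_) σ
    intro x
    have hx : x = κ k * ((κ k)⁻¹ * x) := by field_simp
    conv_lhs => rw [hx]
    rw [hΦeq k hk, coef_spec (Φ g), Finset.mul_sum]
    apply Finset.sum_congr rfl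
    intro τ _
    rw [map_mul, map_inv₀]
    ring
  -- pick a nonzero coefficient
  have hex : ∃ ρ : F ≃+* F, coef (Φ g₀) ρ ≠ 0 := by
    by_contra hall
    push Not at hall
    exact hg₀C ((hC g₀).mpr (eq_zero_of_coef_eq_zero _ hall))
  obtain ⟨ρ, hρ⟩ := hex
  let c : P → F := fun g => coef (Φ g) ρ
  have hcadd : ∀ g h, c (g * h) = c g + c h := hc_add ρ
  have hc1 : c 1 = 0 := by
    show coef (Φ 1) ρ = 0
    rw [hΦ1, coef_zero]; rfl
  have hcinv : ∀ g, c g⁻¹ = c g := by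
    intro g
    have := hcadd g⁻¹ g
    rw [inv_mul_cancel, hc1] at this
    have h3 := h2 (c g)
    linear_combination -this - h3
  have hcK : ∀ k ∈ K, ∀ g, c (k g) = κ k * (ρ (κ k))⁻¹ * c g := fun k hk g => hc_eq k hk g ρ
  -- the kernel of `c` in `P₁`
  let D : Subgroup P :=
    { carrier := {g | g ∈ P₁ ∧ c g = 0}
      one_mem' := ⟨P₁.one_mem, hc1⟩
      mul_mem' := by
        rintro a b ⟨ha, ha0⟩ ⟨hb, hb0⟩
        exact ⟨P₁.mul_mem ha hb, by rw [hcadd, ha0, hb0, add_zero]⟩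
      inv_mem' := by
        rintro a ⟨ha, ha0⟩
        exact ⟨P₁.inv_mem ha, by rw [hcinv, ha0]⟩ }
  have hD_mem : ∀ g, g ∈ D ↔ g ∈ P₁ ∧ c g = 0 := fun g => Iff.rfl
  have hDK : KInv K D := by
    intro k hk g hg
    rw [hD_mem] at hg ⊢
    exact ⟨hP₁ k hk g hg.1, by rw [hcK k hk, hg.2, mul_zero]⟩
  have hCD : C ≤ D := by
    intro g hg
    rw [hD_mem]
    refine ⟨hCP₁ hg, ?_⟩
    show coef (Φ g) ρ = 0
    rw [(hC g).mp hg, coef_zero]; rfl
  have hDP : D ≤ P₁ := fun g hg => hg.1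
  have hDC : D = C := by
    rcases hmin D hDK hCD hDP with h | h
    · exact h
    · exfalso
      have : g₀ ∈ D := by rw [h]; exact hg₀
      exact hρ this.2
  have hker : ∀ g ∈ P₁, c g = 0 ↔ g ∈ C := by
    intro g hg
    rw [← hDC, hD_mem]
    exact ⟨fun h => ⟨hg, h⟩, fun h => h.2⟩
  -- elements of `K` moving `c g` trivially
  have hfixK : ∀ k ∈ K, k ≠ 1 → ∀ g ∈ P₁, c (k g) = c g → g ∈ C := by
    intro k hk hk1 g hg hcg
    apply hcoset k hk hk1
    rw [← hker _ (P₁.mul_mem (P₁.inv_mem hg) (hP₁ k hk g hg)), hcadd, hcinv, hcg]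
    exact h2 _
  -- ρ is not the identity
  have hρ1 : ρ ≠ RingEquiv.refl F := by
    rintro rfl
    obtain ⟨k, hk, hk1⟩ := hK
    apply hg₀C
    apply hfixK k hk hk1 g₀ hg₀
    rw [hcK k hk]
    have hk0 := hκne k hk
    show κ k * (κ k)⁻¹ * c g₀ = c g₀
    rw [mul_inv_cancel₀ hk0, one_mul]
  -- injectivity of u ↦ u / ρ u
  have hχ : ∀ u v : F, u ≠ 0 → v ≠ 0 → u * ρ v = v * ρ u → u = v := by
    intro u v hu hv huv
    have hρv : ρ v ≠ 0 := fun h0 => hv ((map_eq_zero_iff ρ ρ.injective).mp h0)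
    have hρu : ρ u ≠ 0 := fun h0 => hu ((map_eq_zero_iff ρ ρ.injective).mp h0)
    set w := u * v⁻¹ with hw
    have hw0 : w ≠ 0 := mul_ne_zero hu (inv_ne_zero hv)
    have hwρ : ρ w = w := by
      rw [hw, map_mul, map_inv₀]
      field_simp
      linear_combination -huv
    obtain ⟨k, hk, hkw⟩ := hκsurj w hw0
    by_cases hk1 : k = 1
    · rw [hk1, hκone] at hkw
      have : u * v⁻¹ = 1 := hkw.symm
      field_simp at this
      exact this
    · exfalso
      apply hg₀C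
      apply hfixK k hk hk1 g₀ hg₀
      rw [hcK k hk, hkw, hwρ, mul_inv_cancel₀ hw0, one_mul]
  -- surjectivity of `c` on `P₁`
  have hsurj : ∀ t : F, ∃ g ∈ P₁, c g = t := by
    intro t
    by_cases ht : t = 0
    · exact ⟨1, P₁.one_mem, by rw [hc1, ht]⟩
    let χ : Fˣ → Fˣ := fun w => w * (Units.map (ρ : F →* F) w)⁻¹
    have hχinj : Function.Injective χ := by
      intro w w' hww
      have h1 : (w : F) * (ρ (w : F))⁻¹ = (w' : F) * (ρ (w' : F))⁻¹ := by
        have := congrArg (fun x : Fˣ => (x : F)) hww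
        simpa [χ] using this
      have hρw : ρ (w : F) ≠ 0 := fun h0 => w.ne_zero ((map_eq_zero_iff ρ ρ.injective).mp h0)
      have hρw' : ρ (w' : F) ≠ 0 := fun h0 => w'.ne_zero ((map_eq_zero_iff ρ ρ.injective).mp h0)
      apply Units.ext
      apply hχ _ _ w.ne_zero w'.ne_zero
      field_simp at h1
      linear_combination h1
    have hχsurj : Function.Surjective χ := Finite.injective_iff_surjective.mp hχinj
    have hs0 : t * (c g₀)⁻¹ ≠ 0 := mul_ne_zero ht (inv_ne_zero hρ)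
    obtain ⟨w, hw⟩ := hχsurj (Units.mk0 _ hs0)
    have hw' : (w : F) * (ρ (w : F))⁻¹ = t * (c g₀)⁻¹ := by
      have := congrArg (fun x : Fˣ => (x : F)) hw
      simpa [χ] using this
    obtain ⟨k, hk, hkw⟩ := hκsurj (w : F) w.ne_zero
    refine ⟨k g₀, hP₁ k hk g₀ hg₀, ?_⟩
    rw [hcK k hk, hkw, hw']
    field_simp
    exact div_self hρ
  -- the other coefficients vanish on `P₁`
  have hΦeqc : ∀ g ∈ P₁, ∀ g' ∈ P₁, c g = c g' → Φ g = Φ g' := by
    intro g hg g' hg' hcc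
    have h1 : g'⁻¹ * g ∈ C := by
      rw [← hker _ (P₁.mul_mem (P₁.inv_mem hg') hg), hcadd, hcinv, hcc]
      exact h2 _
    have h3 : g = g' * (g'⁻¹ * g) := by group
    rw [h3, hΦmul, (hC _).mp h1, add_zero]
  have hother : ∀ ρ' : F ≃+* F, ρ' ≠ ρ → ∀ g ∈ P₁, coef (Φ g) ρ' = 0 := by
    intro ρ' hρ' g hg
    choose gsel hgsel using hsurj
    let f : F →+ F :=
      { toFun := fun u => coef (Φ (gsel u)) ρ'
        map_zero' := by
          have h1 : Φ (gsel 0) = Φ 1 :=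
            hΦeqc _ (hgsel 0).1 1 P₁.one_mem (by rw [(hgsel 0).2, hc1])
          show coef (Φ (gsel 0)) ρ' = 0
          rw [h1, hΦ1, coef_zero]; rfl
        map_add' := by
          intro u v
          have h1 : Φ (gsel (u + v)) = Φ (gsel u * gsel v) :=
            hΦeqc _ (hgsel (u + v)).1 _ (P₁.mul_mem (hgsel u).1 (hgsel v).1)
              (by rw [(hgsel (u + v)).2, hcadd, (hgsel u).2, (hgsel v).2])
          show coef (Φ (gsel (u + v))) ρ' = coef (Φ (gsel u)) ρ' + coef (Φ (gsel v)) ρ'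
          rw [h1, hc_add] }
    have hf : ∀ g ∈ P₁, coef (Φ g) ρ' = f (c g) := by
      intro g hg
      show coef (Φ g) ρ' = coef (Φ (gsel (c g))) ρ'
      rw [hΦeqc g hg _ (hgsel (c g)).1 (hgsel (c g)).2.symm]
    have hfeq : ∀ k ∈ K, ∀ u : F,
        f (κ k * (ρ (κ k))⁻¹ * u) = κ k * (ρ' (κ k))⁻¹ * f u := by
      intro k hk u
      obtain ⟨hg1, hg2⟩ := hgsel u
      have h1 : κ k * (ρ (κ k))⁻¹ * u = c (k (gsel u)) := by rw [hcK k hk, hg2]
      rw [h1, ← hf _ (hP₁ k hk _ hg1), hc_eq k hk, hf _ hg1, hg2]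
    have hd : ∀ k ∈ K, ∀ σ : F ≃+* F,
        coef f σ * σ (κ k * (ρ (κ k))⁻¹) = κ k * (ρ' (κ k))⁻¹ * coef f σ := by
      intro k hk σ
      have := coef_unique (fun σ => coef f σ * σ (κ k * (ρ (κ k))⁻¹) -
        κ k * (ρ' (κ k))⁻¹ * coef f σ) (by
        intro x
        simp only [sub_mul, Finset.sum_sub_distrib]
        have e1 : ∑ σ : F ≃+* F, coef f σ * σ (κ k * (ρ (κ k))⁻¹) * σ x =
            f (κ k * (ρ (κ k))⁻¹ * x) := by
          rw [coef_spec f]
          apply Finset.sum_congr rfl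
          intro τ _
          rw [map_mul τ (κ k * (ρ (κ k))⁻¹) x]; ring
        have e2 : ∑ σ : F ≃+* F, κ k * (ρ' (κ k))⁻¹ * coef f σ * σ x =
            κ k * (ρ' (κ k))⁻¹ * f x := by
          rw [coef_spec f x, Finset.mul_sum]
          apply Finset.sum_congr rfl
          intro τ _
          ring
        rw [e1, e2, hfeq k hk, sub_self]) σ
      exact sub_eq_zero.mp this
    have hdz : ∀ σ : F ≃+* F, coef f σ = 0 := by
      intro σ
      by_contra hσ
      have hrel : ∀ w : F, σ w * ρ' w = (RingEquiv.refl F) w * (ρ.trans σ) w := by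
        intro w
        show σ w * ρ' w = w * σ (ρ w)
        by_cases hw : w = 0
        · rw [hw]; simp
        obtain ⟨k, hk, hkw⟩ := hκsurj w hw
        have h1 := hd k hk σ
        rw [hkw] at h1
        have h3 : σ (w * (ρ w)⁻¹) = w * (ρ' w)⁻¹ := by
          have h4 : coef f σ * σ (w * (ρ w)⁻¹) = coef f σ * (w * (ρ' w)⁻¹) := by
            rw [h1]; ring
          exact mul_left_cancel₀ hσ h4
        have hρw : ρ w ≠ 0 := fun h0 => hw ((map_eq_zero_iff ρ ρ.injective).mp h0)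
        have hρ'w : ρ' w ≠ 0 := fun h0 => hw ((map_eq_zero_iff ρ' ρ'.injective).mp h0)
        have hσρw : σ (ρ w) ≠ 0 := fun h0 => hρw ((map_eq_zero_iff σ σ.injective).mp h0)
        rw [map_mul, map_inv₀] at h3
        field_simp at h3
        linear_combination h3
      rcases ind2 σ ρ' (RingEquiv.refl F) (ρ.trans σ) hrel with ⟨h1, h3⟩ | ⟨h1, h3⟩
      · apply hρ'
        rw [h3, h1]
        ext u
        rfl
      · apply hρ1
        ext u
        have := congrArg (fun τ : F ≃+* F => τ u) h1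
        have h4 : σ u = σ (ρ u) := this
        exact (σ.injective h4).symm
    rw [hf g hg, eq_zero_of_coef_eq_zero f hdz]
    rfl
  refine ⟨ρ, c, hcadd, hker, ?_, hsurj, hχ⟩
  intro g hg u
  rw [coef_spec (Φ g) u, Finset.sum_eq_single ρ]
  · intro ρ' _ hρ'
    rw [hother ρ' hρ' g hg, zero_mul]
  · intro hn
    exact absurd (Finset.mem_univ ρ) hn

end Cfsg.Agent.Lib.Helper11.SuzH
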