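import Cfsg.Agent.Lib.Helper11.SuzPhi
import Cfsg.Agent.Lib.Helper11.SuzMono

/-!
# Higman's theorem: a Suzuki 2-group has class two, `P' ≤ Z` (helper11)
-/

set_option autoImplicit false
set_option linter.style.haveILetI false

namespace Cfsg.Agent.Lib.Helper11.SuzH

open Cfsg.Agent.Lib.Helper19.Suz
open scoped commutatorElement

variable {P : Type*} [Group P] {K : Subgroup (MulAut P)}

/-- a minimal invariant subgroup properly containing an invariant subgroup -/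
theorem exists_min_over [Finite P] (C : Subgroup P) (_hC : KInv K C) (hne : ∃ g, g ∉ C) :
    ∃ P₁ : Subgroup P, KInv K P₁ ∧ C ≤ P₁ ∧ (∃ g ∈ P₁, g ∉ C) ∧
      ∀ Q : Subgroup P, KInv K Q → C ≤ Q → Q ≤ P₁ → Q = C ∨ Q = P₁ := by
  classical
  let S : Set ℕ := {m | ∃ Q : Subgroup P, KInv K Q ∧ C ≤ Q ∧ Q ≠ C ∧ Nat.card Q = m}
  have hS : ∃ m, m ∈ S := by
    obtain ⟨g, hg⟩ := hne
    refine ⟨Nat.card (⊤ : Subgroup P), ⊤, fun _ _ _ _ => Subgroup.mem_top _, le_top, ?_, rfl⟩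
    intro h
    exact hg (h ▸ Subgroup.mem_top g)
  obtain ⟨Q₀, hQ₀K, hCQ₀, hQ₀C, hcard⟩ := Nat.find_spec hS
  refine ⟨Q₀, hQ₀K, hCQ₀, ?_, ?_⟩
  · by_contra hall
    push Not at hall
    exact hQ₀C (le_antisymm hall hCQ₀)
  · intro Q hQK hCQ hQQ₀
    by_cases hQC : Q = C
    · exact Or.inl hQC
    · right
      have h1 : Nat.find hS ≤ Nat.card Q := Nat.find_min' hS ⟨Q, hQK, hCQ, hQC, rfl⟩
      rw [← hcard] at h1
      exact Subgroup.eq_of_le_of_card_ge hQQ₀ h1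

/-- **Higman.** A non-abelian Suzuki 2-group has `P' ≤ Z`. -/
theorem class_two (h : SuzHyp P K) (hna : ∃ x y : P, x * y ≠ y * x) :
    ∀ x y : P, ⁅x, y⁆ ∈ Z0 P := by
  classical
  haveI := h.fin
  by_contra hcon
  push Not at hcon
  obtain ⟨y₁, hy₁, hy₁Z⟩ := exists_mem_A0_not_mem_Z0 h hcon
  have hsq := sq_surj h hy₁ hy₁Z
  have hCne := exists_not_mem_Csub h hna hy₁ hy₁Z
  obtain ⟨n, az, κ, Φ, haz_mul, haz0, hroot, hκne, hκsurj, hκone, hΦkey, hΦmul, hΦeq, hΦker⟩ :=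
    exists_Phi h hsq
  obtain ⟨P₁, hP₁K, hCP₁, ⟨g₀, hg₀, hg₀C⟩, hmin⟩ := exists_min_over (Csub P) (kinv_Csub (K := K)) hCne
  letI : Fintype (GaloisField 2 n) := Fintype.ofFinite _
  obtain ⟨ρ, c, hcadd, hcker, hΦc, hcsurj, hχ⟩ :=
    exists_monomial Φ κ hΦmul hΦeq hκne hκsurj hκone (exists_ne_one h) (Csub P) P₁ hΦker
      (fun k hk hk1 g hg => fpf_coset h kinv_Csub hk hk1 hg) hP₁K hCP₁ g₀ hg₀ hg₀C hmin
  have h2 : ∀ x : GaloisField 2 n, x + x = 0 := CharTwo.add_self_eq_zero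
  have haz1 : az 1 = 0 := by
    have := haz_mul 1 (Z0 P).one_mem 1 (Z0 P).one_mem
    rw [mul_one] at this
    exact left_eq_add.mp this
  have hρ0 : ∀ u : GaloisField 2 n, ρ u = 0 → u = 0 := fun u hu =>
    (map_eq_zero_iff ρ ρ.injective).mp hu
  have hcommZ : ∀ a ∈ A0 P, ∀ g : P, ⁅a, g⁆ ∈ Z0 P := fun a ha g =>
    (mem_Asub.mp (A0_le_Asub ha)).2 g
  -- (P2) elements of `P₁ \ C` centralise only `Z` in `A₀`
  have hP2 : ∀ g ∈ P₁, g ∉ Csub P → ∀ y ∈ A0 P, ⁅y, g⁆ = 1 → y ∈ Z0 P := by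
    intro g hg hgC y hy hyg
    have h1 := hΦkey g y hy
    rw [hyg, haz1, hΦc g hg] at h1
    have hcg : c g ≠ 0 := fun h0 => hgC ((hcker g hg).mp h0)
    rcases mul_eq_zero.mp h1 with h3 | h3
    · exact absurd h3 hcg
    · have h4 := haz0 _ (sq_mem_Z0_of_A0 hy) (hρ0 _ h3)
      exact h.mem_Z0_iff.mpr h4
  -- Step 8: squares of elements of `P₁ \ C` lie in `Z`
  have hstep8 : ∀ g ∈ P₁, g ∉ Csub P → g * g ∈ Z0 P := by
    intro g hg hgC
    by_contra hgg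
    have hmm : (g * g) * (g * g) ≠ 1 := fun h1 => hgg (h.mem_Z0_iff.mpr h1)
    obtain ⟨m, hm1, hm2⟩ := exists_pow_involution h.pgrp hmm
    set u := (g * g) ^ m with hu
    have huu : u * u = ((g * g) * (g * g)) ^ m := by
      rw [hu, ← pow_add, ← pow_two (g * g), ← pow_mul, two_mul]
    have huC : u ∈ Csub P := Subgroup.pow_mem _ (sq_mem_Csub g) m
    have huuZ : u * u ∈ Z0 P := by
      rw [huu]; exact h.mem_Z0_iff.mpr hm2
    obtain ⟨a, ha, haa⟩ := hsq _ huuZ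
    have huA : u ∈ A0 P := mem_A0_of_sq h huC ha haa.symm
    have hug : ⁅u, g⁆ = 1 := by
      rw [commutatorElement_eq_one_iff_mul_comm, hu, ← pow_two, ← pow_mul, ← pow_succ, ← pow_succ']
    have := hP2 g hg hgC u huA hug
    apply hm1
    rw [← huu]
    exact this.2
  -- two elements of `P₁ \ C` whose product is not in `C`
  have haz_inj : ∀ x ∈ Z0 P, ∀ x' ∈ Z0 P, az x = az x' → x = x' := by
    intro x hx x' hx' hxx
    have h1 : az (x * x') = 0 := by rw [haz_mul x hx x' hx', hxx]; exact h2 _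
    have h3 := haz0 _ ((Z0 P).mul_mem hx hx') h1
    have h4 : x = x'⁻¹ := eq_inv_of_mul_eq_one_left h3
    rw [h4, Z0_inv hx']
  obtain ⟨g₁, g₂, hg₁, hg₂, hg₁C, hg₂C, hg₁₂C⟩ : ∃ g₁ g₂ : P, g₁ ∈ P₁ ∧ g₂ ∈ P₁ ∧ g₁ ∉ Csub P ∧
      g₂ ∉ Csub P ∧ g₁ * g₂ ∉ Csub P := by
    obtain ⟨x, y, hxy, hx1, hx2, hy1, hy2⟩ := h.two
    have hxZ : x ∈ Z0 P := h.mem_Z0_iff.mpr hx2
    have hyZ : y ∈ Z0 P := h.mem_Z0_iff.mpr hy2
    obtain ⟨g₁, hg₁, hcg₁⟩ := hcsurj (az x)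
    obtain ⟨g₂, hg₂, hcg₂⟩ := hcsurj (az y)
    refine ⟨g₁, g₂, hg₁, hg₂, ?_, ?_, ?_⟩
    · intro hC
      have := (hcker g₁ hg₁).mpr hC
      rw [hcg₁] at this
      exact hx1 (haz0 x hxZ this)
    · intro hC
      have := (hcker g₂ hg₂).mpr hC
      rw [hcg₂] at this
      exact hy1 (haz0 y hyZ this)
    · intro hC
      have := (hcker _ (P₁.mul_mem hg₁ hg₂)).mpr hC
      rw [hcadd, hcg₁, hcg₂] at this
      apply hxy
      apply haz_inj x hxZ y hyZ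
      have h3 := h2 (az y)
      linear_combination this - h3
  -- Step 9: `C = A₀`
  have hinvc : ∀ g ∈ P₁, g ∉ Csub P → ∀ d ∈ Csub P, (g⁻¹ * d * g) * d ∈ Z0 P := by
    intro g hg hgC d hd
    have hgd : g * d ∈ P₁ := P₁.mul_mem hg (hCP₁ hd)
    have hgdC : g * d ∉ Csub P := by
      intro hC
      apply hgC
      have : g = (g * d) * d⁻¹ := by group
      rw [this]
      exact (Csub P).mul_mem hC ((Csub P).inv_mem hd)
    have h1 := hstep8 _ hgd hgdC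
    have h3 := hstep8 g hg hgC
    have : (g⁻¹ * d * g) * d = (g * g)⁻¹ * ((g * d) * (g * d)) := by group
    rw [this]
    exact (Z0 P).mul_mem ((Z0 P).inv_mem h3) h1
  have hCsq : ∀ d ∈ Csub P, d * d ∈ Z0 P := by
    intro d hd
    have e1 := hinvc g₁ hg₁ hg₁C d hd
    have e2 := hinvc g₂ hg₂ hg₂C d hd
    have e3 := hinvc _ (P₁.mul_mem hg₁ hg₂) hg₁₂C d hd
    set z₁ := (g₁⁻¹ * d * g₁) * d with hz₁
    set z₂ := (g₂⁻¹ * d * g₂) * d with hz₂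
    set z₃ := ((g₁ * g₂)⁻¹ * d * (g₁ * g₂)) * d with hz₃
    have f1 : g₁⁻¹ * d * g₁ = z₁ * d⁻¹ := by rw [hz₁]; group
    have f2 : g₂⁻¹ * d * g₂ = z₂ * d⁻¹ := by rw [hz₂]; group
    have f3 : (g₁ * g₂)⁻¹ * d * (g₁ * g₂) = z₁ * z₂⁻¹ * d := by
      calc (g₁ * g₂)⁻¹ * d * (g₁ * g₂) = g₂⁻¹ * (g₁⁻¹ * d * g₁) * g₂ := by group
        _ = g₂⁻¹ * (z₁ * d⁻¹) * g₂ := by rw [f1]
        _ = g₂⁻¹ * z₁ * g₂ * (g₂⁻¹ * d * g₂)⁻¹ := by group
        _ = g₂⁻¹ * (z₁ * g₂) * (z₂ * d⁻¹)⁻¹ := by rw [f2]; group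
        _ = g₂⁻¹ * (g₂ * z₁) * (z₂ * d⁻¹)⁻¹ := by rw [Z0_comm e1 g₂]
        _ = z₁ * (d * z₂⁻¹) := by group
        _ = z₁ * (z₂⁻¹ * d) := by rw [← Z0_comm ((Z0 P).inv_mem e2) d]
        _ = z₁ * z₂⁻¹ * d := by group
    have f4 : d * d = (z₁ * z₂⁻¹)⁻¹ * z₃ := by
      have : z₃ = (z₁ * z₂⁻¹ * d) * d := by rw [hz₃, f3]
      rw [this]; group
    rw [f4]
    exact (Z0 P).mul_mem ((Z0 P).inv_mem ((Z0 P).mul_mem e1 ((Z0 P).inv_mem e2))) e3
  have hCA : ∀ d ∈ Csub P, d ∈ A0 P := by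
    intro d hd
    obtain ⟨a, ha, haa⟩ := hsq _ (hCsq d hd)
    exact mem_A0_of_sq h hd ha haa.symm
  -- Step 10
  have hP₁sq : ∀ g ∈ P₁, g * g ∈ Z0 P := by
    intro g hg
    by_cases hgC : g ∈ Csub P
    · exact sq_mem_Z0_of_A0 (hCA g hgC)
    · exact hstep8 g hg hgC
  have hcommA : ∀ g k : P, ⁅g, k⁆ ∈ A0 P := fun g k => hCA _ (comm_mem_Csub g k)
  have hsqA : ∀ b ∈ A0 P, ∀ b' ∈ A0 P, ∀ z ∈ Z0 P,
      (b * z * b') * (b * z * b') = (b * b) * (b' * b') := by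
    intro b hb b' hb' z hz
    calc (b * z * b') * (b * z * b') = b * (z * b') * b * (z * b') := by group
      _ = b * (b' * z) * b * (b' * z) := by rw [Z0_comm hz b']
      _ = b * b' * (z * b) * b' * z := by group
      _ = b * b' * (b * z) * b' * z := by rw [Z0_comm hz b]
      _ = b * (b' * b) * (z * b') * z := by group
      _ = b * (b * b') * (b' * z) * z := by rw [A0_comm hb' hb, Z0_comm hz b']
      _ = (b * b) * (b' * b') * (z * z) := by group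
      _ = (b * b) * (b' * b') := by rw [hz.2, mul_one]
  let γ : P → P → GaloisField 2 n := fun g k => az (⁅g, k⁆ * ⁅g, k⁆)
  have hγ0 : ∀ g k : P, γ g k = 0 ↔ ⁅g, k⁆ ∈ Z0 P := by
    intro g k
    constructor
    · intro h0
      exact h.mem_Z0_iff.mpr (haz0 _ (sq_mem_Z0_of_A0 (hcommA g k)) h0)
    · intro hz
      show az (⁅g, k⁆ * ⁅g, k⁆) = 0
      rw [hz.2, haz1]
  have hγr : ∀ g k k' : P, γ g (k * k') = γ g k + γ g k' := by
    intro g k k'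
    have hb := hcommA g k
    have hb' := hcommA g k'
    have hz : ⁅k, ⁅g, k'⁆⁆ ∈ Z0 P := by
      rw [← commutatorElement_inv]
      exact (Z0 P).inv_mem (hcommZ _ hb' k)
    have h1 : ⁅g, k * k'⁆ = ⁅g, k⁆ * ⁅k, ⁅g, k'⁆⁆ * ⁅g, k'⁆ := by
      rw [commutatorElement_mul_right_eq_mul_conj]
      rw [commutatorElement_def k]; group
    show az (⁅g, k * k'⁆ * ⁅g, k * k'⁆) = az (⁅g, k⁆ * ⁅g, k⁆) + az (⁅g, k'⁆ * ⁅g, k'⁆)
    rw [h1, hsqA _ hb _ hb' _ hz, haz_mul _ (sq_mem_Z0_of_A0 hb) _ (sq_mem_Z0_of_A0 hb')]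
  have hγl : ∀ g g' k : P, γ (g * g') k = γ g k + γ g' k := by
    intro g g' k
    have hb := hcommA g k
    have hb' := hcommA g' k
    have hz : ⁅g, ⁅g', k⁆⁆ ∈ Z0 P := by
      rw [← commutatorElement_inv]
      exact (Z0 P).inv_mem (hcommZ _ hb' g)
    have h1 : ⁅g * g', k⁆ = ⁅g', k⁆ * ⁅g, ⁅g', k⁆⁆ * ⁅g, k⁆ := by
      rw [commutatorElement_mul_left_eq_conj_mul, ← Z0_comm hz ⁅g', k⁆]
      rw [commutatorElement_def g]; group
    show az (⁅g * g', k⁆ * ⁅g * g', k⁆) = az (⁅g, k⁆ * ⁅g, k⁆) + az (⁅g', k⁆ * ⁅g', k⁆)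
    rw [h1, hsqA _ hb' _ hb _ hz, haz_mul _ (sq_mem_Z0_of_A0 hb') _ (sq_mem_Z0_of_A0 hb), add_comm]
  -- Step 11
  have hfix : ∀ g ∈ P₁, g ∉ Csub P → ∀ k : P, c g * ρ (γ g k) = γ g k := by
    intro g hg hgC k
    set b := ⁅g, k⁆ with hb
    have hbA := hcommA g k
    have hgg := hP₁sq g hg
    have h1 : ⁅g * g, k⁆ = 1 := by
      rw [commutatorElement_eq_one_iff_mul_comm]; exact Z0_comm hgg k
    rw [commutatorElement_mul_left_eq_conj_mul, ← hb] at h1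
    have hbg := hcommZ b hbA g
    have h3 : g * b * g⁻¹ = ⁅b, g⁆ * b := by
      have : g * b * g⁻¹ = ⁅b, g⁆⁻¹ * b := by rw [commutatorElement_def]; group
      rw [this, Z0_inv hbg]
    rw [h3] at h1
    have h4 : ⁅b, g⁆ = b * b := by
      have hbb := sq_mem_Z0_of_A0 hbA
      have : ⁅b, g⁆ = (b * b)⁻¹ := by
        rw [eq_inv_iff_mul_eq_one, ← mul_assoc]; exact h1
      rw [this, Z0_inv hbb]
    have h5 := hΦkey g b hbA
    rw [h4, hΦc g hg] at h5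
    exact h5
  -- Claim X
  have hX : ∀ g ∈ P₁, g ∉ Csub P → ∀ g' ∈ P₁, g' ∉ Csub P → ∀ k : P,
      ⁅g, k⁆ ∈ Z0 P → ⁅g', k⁆ ∈ Z0 P := by
    intro g hg hgC g' hg' hg'C k hgk
    by_contra hg'k
    have hγg : γ g k = 0 := (hγ0 g k).mpr hgk
    have hγg' : γ g' k ≠ 0 := fun h0 => hg'k ((hγ0 g' k).mp h0)
    have hsum : γ (g * g') k = γ g' k := by rw [hγl, hγg, zero_add]
    by_cases hC : g * g' ∈ Csub P
    · have : ⁅g * g', k⁆ ∈ Z0 P := hcommZ _ (hCA _ hC) k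
      rw [← hγ0, hsum] at this
      exact hγg' this
    · have e1 := hfix g' hg' hg'C k
      have e2 := hfix _ (P₁.mul_mem hg hg') hC k
      rw [hsum] at e2
      have hρne : ρ (γ g' k) ≠ 0 := fun h0 => hγg' (hρ0 _ h0)
      have e3 : c (g * g') = c g' := by
        apply mul_right_cancel₀ hρne
        rw [e1, e2]
      rw [hcadd] at e3
      have e4 : c g = 0 := by linear_combination e3
      exact hgC ((hcker g hg).mp e4)
  -- Claim Y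
  have hY : ∀ g ∈ P₁, g ∉ Csub P → ∀ k k' : P, ⁅g, k⁆ ∉ Z0 P → ⁅g, k'⁆ ∉ Z0 P →
      ⁅g, k * k'⁆ ∈ Z0 P := by
    intro g hg hgC k k' hk hk'
    have hγk : γ g k ≠ 0 := fun h0 => hk ((hγ0 g k).mp h0)
    have hγk' : γ g k' ≠ 0 := fun h0 => hk' ((hγ0 g k').mp h0)
    have e1 := hfix g hg hgC k
    have e2 := hfix g hg hgC k'
    have e3 : γ g k = γ g k' := by
      apply hχ _ _ hγk hγk'
      calc γ g k * ρ (γ g k') = (c g * ρ (γ g k)) * ρ (γ g k') := by rw [e1]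
        _ = (c g * ρ (γ g k')) * ρ (γ g k) := by ring
        _ = γ g k' * ρ (γ g k) := by rw [e2]
    rw [← hγ0, hγr, e3]
    exact h2 _
  -- the subgroup `H₀`
  obtain ⟨k₀, hk₀, hk₀1⟩ := exists_ne_one h
  have hall : ∀ k : P, ⁅g₁, k⁆ ∈ Z0 P := by
    by_contra hex
    push Not at hex
    obtain ⟨x, hx⟩ := hex
    -- `H₀` as a subgroup
    let H₀ : Subgroup P :=
      { carrier := {k | ∀ g ∈ P₁, ⁅g, k⁆ ∈ Z0 P}
        one_mem' := by
          intro g _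
          rw [commutatorElement_one_right]; exact (Z0 P).one_mem
        mul_mem' := by
          intro a b ha hb g hg
          rw [← hγ0, hγr, (hγ0 g a).mpr (ha g hg), (hγ0 g b).mpr (hb g hg), add_zero]
        inv_mem' := by
          intro a ha g hg
          have h1 := hγr g a⁻¹ a
          rw [inv_mul_cancel] at h1
          have h3 : γ g 1 = 0 := by
            rw [hγ0, commutatorElement_one_right]; exact (Z0 P).one_mem
          rw [h3, (hγ0 g a).mpr (ha g hg), add_zero] at h1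
          exact (hγ0 g a⁻¹).mp h1.symm }
    have hH₀mem : ∀ k, k ∈ H₀ ↔ ∀ g ∈ P₁, ⁅g, k⁆ ∈ Z0 P := fun k => Iff.rfl
    have hH₀K : KInv K H₀ := by
      intro k hk a ha
      rw [hH₀mem] at ha ⊢
      intro g hg
      have h1 : ⁅g, k a⁆ = k ⁅k⁻¹ g, a⁆ := by
        rw [map_commutatorElement]; simp
      rw [h1]
      exact aut_mem_Z0 k (ha _ (hP₁K k⁻¹ (K.inv_mem hk) g hg))
    have hH₀iff : ∀ k, k ∈ H₀ ↔ ⁅g₁, k⁆ ∈ Z0 P := by
      intro k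
      constructor
      · intro hk; exact hk g₁ hg₁
      · intro hk g hg
        by_cases hgC : g ∈ Csub P
        · exact hcommZ _ (hCA g hgC) k
        · exact hX g₁ hg₁ hg₁C g hg hgC k hk
    have hxH : x ∉ H₀ := fun hxH => hx ((hH₀iff x).mp hxH)
    have hkx : k₀ x ∉ H₀ := fun hkx => hxH (hH₀K.inv_mem hk₀ hkx)
    have hxi : x⁻¹ ∉ H₀ := fun hxi => hxH (by simpa using H₀.inv_mem hxi)
    have h1 : x⁻¹ * k₀ x ∈ H₀ := by
      rw [hH₀iff]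
      apply hY g₁ hg₁ hg₁C
      · rw [← hH₀iff]; exact hxi
      · rw [← hH₀iff]; exact hkx
    exact hxH (fpf_coset h hH₀K hk₀ hk₀1 h1)
  -- conclusion: `g₁ ∈ A ≤ C`
  apply hg₁C
  apply Asub_le_Csub
  rw [mem_Asub]
  exact ⟨hP₁sq g₁ hg₁, hall⟩

end Cfsg.Agent.Lib.Helper11.SuzH
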