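import Cfsg.Agent.Lib.Helper19.SuzSqStruct
import Cfsg.Agent.Lib.Helper19.SuzRegField

/-!
# Suzuki 2-groups: fixed-point-freeness and field coordinates on `Z` (helper11)
-/

set_option autoImplicit false
set_option linter.style.haveILetI false

namespace Cfsg.Agent.Lib.Helper11.SuzH

open Cfsg.Agent.Lib.Helper19.Suz

variable {P : Type*} [Group P] {K : Subgroup (MulAut P)}

/-- `K`-invariance of a subgroup -/
def KInv (K : Subgroup (MulAut P)) (N : Subgroup P) : Prop := ∀ k ∈ K, ∀ x ∈ N, k x ∈ N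

theorem KInv.inv_mem {N : Subgroup P} (hN : KInv K N) {k : MulAut P} (hk : k ∈ K) {x : P}
    (hx : k x ∈ N) : x ∈ N := by
  have := hN k⁻¹ (K.inv_mem hk) _ hx
  simpa using this

theorem kinv_Z0 : KInv K (Z0 P) := fun k _ _ hx => aut_mem_Z0 k hx

/-- the action is fixed-point-free -/
theorem fpf (h : SuzHyp P K) {k : MulAut P} (hk : k ∈ K) (hk1 : k ≠ 1) {x : P} (hx : k x = x) :
    x = 1 := by
  by_contra hx1
  haveI := h.fin
  obtain ⟨n, hn1, hn2⟩ := exists_pow_involution h.pgrp hx1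
  exact hk1 (h.semireg k hk _ hn1 hn2 (by rw [map_pow, hx]))

/-- fixed cosets of invariant subgroups are trivial -/
theorem fpf_coset (h : SuzHyp P K) {N : Subgroup P} (hN : KInv K N)
    {k : MulAut P} (hk : k ∈ K) (hk1 : k ≠ 1) {x : P} (hx : x⁻¹ * k x ∈ N) : x ∈ N := by
  haveI := h.fin
  let ψ : ↥N → ↥N := fun n => ⟨n.1⁻¹ * k n.1, N.mul_mem (N.inv_mem n.2) (hN k hk _ n.2)⟩
  have key : ∀ a b : P, a⁻¹ * k a = b⁻¹ * k b → a = b := by
    intro a b hab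
    have h1 : k (b * a⁻¹) = b * a⁻¹ := by
      rw [map_mul, map_inv]
      have h2 : k a = a * (b⁻¹ * k b) := by rw [← hab]; group
      rw [h2]; group
    have h3 := fpf h hk hk1 h1
    have : b = (b * a⁻¹) * a := by group
    rw [this, h3, one_mul]
  have hinj : Function.Injective ψ := by
    intro a b hab
    apply Subtype.ext
    exact key _ _ (congrArg Subtype.val hab)
  have hsurj : Function.Surjective ψ := Finite.injective_iff_surjective.mp hinj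
  obtain ⟨n, hn⟩ := hsurj ⟨x⁻¹ * k x, hx⟩
  have h1 : n.1⁻¹ * k n.1 = x⁻¹ * k x := congrArg Subtype.val hn
  rw [← key _ _ h1]
  exact n.2

/-- `K` is not trivial -/
theorem exists_ne_one (h : SuzHyp P K) : ∃ k ∈ K, k ≠ 1 := by
  obtain ⟨x, y, hxy, hx1, hx2, hy1, hy2⟩ := h.two
  obtain ⟨k, hk, hkx⟩ := h.trans x y hx1 hx2 hy1 hy2
  refine ⟨k, hk, ?_⟩
  rintro rfl
  exact hxy hkx

/-- field coordinates on `Z` -/
theorem exists_coord (h : SuzHyp P K) :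
    ∃ (n : ℕ) (az : P → GaloisField 2 n) (κ : MulAut P → GaloisField 2 n), n ≠ 0 ∧
      Nat.card ↥(Z0 P) = 2 ^ n ∧
      (∀ x ∈ Z0 P, ∀ y ∈ Z0 P, az (x * y) = az x + az y) ∧
      (∀ x ∈ Z0 P, az x = 0 → x = 1) ∧
      (∀ u : GaloisField 2 n, ∃ x ∈ Z0 P, az x = u) ∧
      (∀ k ∈ K, κ k ≠ 0) ∧
      (∀ u : GaloisField 2 n, u ≠ 0 → ∃ k ∈ K, κ k = u) ∧
      (∀ k ∈ K, ∀ l ∈ K, κ (k * l) = κ k * κ l) ∧
      (κ 1 = 1) ∧
      (∀ k ∈ K, κ k = 1 → k = 1) ∧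
      ∀ k ∈ K, ∀ x ∈ Z0 P, az (k x) = κ k * az x := by
  classical
  haveI := h.fin
  haveI : Fact (Nat.Prime 2) := ⟨Nat.prime_two⟩
  obtain ⟨n, hn⟩ := (h.pgrp.to_subgroup (Z0 P)).exists_card_eq
  obtain ⟨u₀, -, -, hu1, hu2, -⟩ := h.two
  have hu₀ : u₀ ∈ Z0 P := h.mem_Z0_iff.mpr hu2
  have hn0 : n ≠ 0 := by
    rintro rfl
    rw [pow_zero] at hn
    have : Subsingleton ↥(Z0 P) := (Nat.card_eq_one_iff_unique.mp hn).1
    have := Subsingleton.elim (⟨u₀, hu₀⟩ : ↥(Z0 P)) 1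
    exact hu1 (congrArg Subtype.val this)
  let F : Type := GaloisField 2 n
  letI : Fintype F := Fintype.ofFinite F
  have hFcard : Fintype.card F = Nat.card ↥(Z0 P) := by
    rw [← Nat.card_eq_fintype_card, GaloisField.card 2 n hn0, hn]
  let z₀ : ↥(Z0 P) := ⟨u₀, hu₀⟩
  have hz₀ : z₀ ≠ 1 := fun h1 => hu1 (congrArg Subtype.val h1)
  have hT : ∀ s t : ↥K, s * t = t * s := by
    intro s t
    apply Subtype.ext
    exact h.comm s.1 s.2 t.1 t.2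
  let ρZ : ↥K → ↥(Z0 P) → ↥(Z0 P) := fun k z => ⟨k.1 z.1, aut_mem_Z0 k.1 z.2⟩
  have hcommZ : ∀ a b : ↥(Z0 P), a * b = b * a := by
    intro a b
    apply Subtype.ext
    exact (Subgroup.mem_center_iff.mp b.2.1) a.1
  have regZ : ∀ z w : ↥(Z0 P), z ≠ 1 → w ≠ 1 → ∃! k : ↥K, ρZ k z = w := by
    intro z w hz hw
    have hz1 : z.1 ≠ 1 := fun h1 => hz (Subtype.ext h1)
    have hw1 : w.1 ≠ 1 := fun h1 => hw (Subtype.ext h1)
    have hz2 := h.mem_Z0_iff.mp z.2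
    obtain ⟨k, hk, hkz⟩ := h.trans z.1 w.1 hz1 hz2 hw1 (h.mem_Z0_iff.mp w.2)
    refine ⟨⟨k, hk⟩, Subtype.ext hkz, ?_⟩
    intro l hl
    have hl1 : l.1 z.1 = w.1 := congrArg Subtype.val hl
    have h3 : (k⁻¹ * l.1) z.1 = z.1 := by
      show k⁻¹ (l.1 z.1) = z.1
      rw [hl1, ← hkz]; simp
    have h4 := h.semireg _ (K.mul_mem (K.inv_mem hk) l.2) z.1 hz1 hz2 h3
    apply Subtype.ext
    show l.1 = k
    have : l.1 = k * (k⁻¹ * l.1) := by group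
    rw [this, h4, mul_one]
  obtain ⟨aZ, κZ, haZbij, haZadd, haZ0, hκZ0, hκZs, hκZm, haZκ⟩ :=
    regField (M := ↥(Z0 P)) hcommZ hT ρZ
      (fun t x y => Subtype.ext (map_mul t.1 x.1 y.1))
      (fun s t x => rfl) (fun x => rfl) regZ z₀ hz₀ F hFcard
  have haZ1 : aZ 1 = 0 := by
    have := haZadd 1 1
    rw [mul_one] at this
    exact left_eq_add.mp this
  have hκ1 : κZ 1 = 1 := by
    have := hκZm 1 1
    rw [mul_one] at this
    have h3 : κZ 1 * 1 = κZ 1 * κZ 1 := by rw [mul_one]; exact this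
    exact (mul_left_cancel₀ (hκZ0 1) h3).symm
  let az : P → F := fun x => if hx : x ∈ Z0 P then aZ ⟨x, hx⟩ else 0
  let κ : MulAut P → F := fun k => if hk : k ∈ K then κZ ⟨k, hk⟩ else 0
  have haz : ∀ x (hx : x ∈ Z0 P), az x = aZ ⟨x, hx⟩ := fun x hx => dif_pos hx
  have hκ : ∀ k (hk : k ∈ K), κ k = κZ ⟨k, hk⟩ := fun k hk => dif_pos hk
  refine ⟨n, az, κ, hn0, hn, ?_, ?_, ?_, ?_, ?_, ?_, ?_, ?_, ?_⟩
  · intro x hx y hy
    rw [haz x hx, haz y hy, haz _ ((Z0 P).mul_mem hx hy), ← haZadd]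
    rfl
  · intro x hx h0
    rw [haz x hx, ← haZ1] at h0
    exact congrArg Subtype.val (haZbij.1 h0)
  · intro u
    obtain ⟨z, hz⟩ := haZbij.2 u
    refine ⟨z.1, z.2, ?_⟩
    rw [haz _ z.2]
    exact hz
  · intro k hk
    rw [hκ k hk]
    exact hκZ0 _
  · intro u hu
    obtain ⟨k, hk⟩ := hκZs u hu
    refine ⟨k.1, k.2, ?_⟩
    rw [hκ _ k.2]
    exact hk
  · intro k hk l hl
    rw [hκ k hk, hκ l hl, hκ _ (K.mul_mem hk hl), ← hκZm]
    rfl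
  · rw [hκ 1 K.one_mem]
    exact hκ1
  · intro k hk hk1
    rw [hκ k hk] at hk1
    have h1 : aZ (ρZ ⟨k, hk⟩ z₀) = aZ z₀ := by rw [haZκ, hk1, one_mul]
    have h3 := congrArg Subtype.val (haZbij.1 h1)
    exact h.semireg k hk u₀ hu1 hu2 h3
  · intro k hk x hx
    rw [hκ k hk, haz x hx, haz _ (aut_mem_Z0 k hx), ← haZκ]

end Cfsg.Agent.Lib.Helper11.SuzH
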