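import Cfsg.Agent.Lib.Helper11.SuzClassTwo
import Cfsg.Agent.Lib.Helper63.QuadCW4

/-!
# Higman's theorem: the order of a Suzuki 2-group is `q²` or `q³` (helper11)
-/

set_option autoImplicit false
set_option linter.style.haveILetI false

namespace Cfsg.Agent.Lib.Helper11.SuzH

open Cfsg.Agent.Lib.Helper19.Suz
open scoped commutatorElement

variable {P : Type*} [Group P] {K : Subgroup (MulAut P)}

/-- squares are central -/
theorem sq_mem_Z0 (h : SuzHyp P K) (hna : ∃ x y : P, x * y ≠ y * x) (x : P) : x * x ∈ Z0 P := by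
  have hcl := class_two h hna
  apply h.mem_Z0_iff.mpr
  apply h.center_sq hna
  rw [Subgroup.mem_center_iff]
  intro g
  have hz := hcl x g
  have h1 : ⁅x * x, g⁆ = 1 := by
    rw [commutatorElement_mul_left_eq_conj_mul]
    have : x * ⁅x, g⁆ * x⁻¹ = ⁅x, g⁆ := by rw [← Z0_comm hz x]; group
    rw [this, hz.2]
  exact ((commutatorElement_eq_one_iff_mul_comm).mp h1).symm

/-- `K` has `q - 1` elements -/
theorem card_K (h : SuzHyp P K) : Nat.card ↥K = Nat.card ↥(Z0 P) - 1 := by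
  haveI := h.fin
  obtain ⟨u, -, -, hu1, hu2, -⟩ := h.two
  let f : ↥K → ↥(Z0 P) := fun k => ⟨k.1 u, aut_mem_Z0 k.1 (h.mem_Z0_iff.mpr hu2)⟩
  have hf : Function.Injective f := by
    intro k l hkl
    have h1 : k.1 u = l.1 u := congrArg Subtype.val hkl
    have h2 : (l.1⁻¹ * k.1) u = u := by
      show l.1⁻¹ (k.1 u) = u
      rw [h1]; simp
    have h3 := h.semireg _ (K.mul_mem (K.inv_mem l.2) k.2) u hu1 hu2 h2
    apply Subtype.ext
    have : k.1 = l.1 * (l.1⁻¹ * k.1) := by group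
    rw [this, h3, mul_one]
  have hrange : Set.range f = ({1} : Set ↥(Z0 P))ᶜ := by
    ext z
    constructor
    · rintro ⟨k, rfl⟩ h1
      have h2 : k.1 u = 1 := congrArg Subtype.val h1
      apply hu1
      have := congrArg k.1⁻¹ h2
      simpa using this
    · intro hz
      have hz1 : z.1 ≠ 1 := fun h1 => hz (Subtype.ext h1)
      obtain ⟨k, hk, hkz⟩ := h.trans u z.1 hu1 hu2 hz1 (h.mem_Z0_iff.mp z.2)
      exact ⟨⟨k, hk⟩, Subtype.ext hkz⟩
  rw [← Set.ncard_range_of_injective hf, hrange, Set.ncard_compl, Set.ncard_singleton]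

/-- the non-identity elements as a `K`-set -/
def nonOne (K : Subgroup (MulAut P)) : SubMulAction ↥K P where
  carrier := {x | x ≠ 1}
  smul_mem' := by
    intro k x hx h1
    apply hx
    have h2 : k.1 x = 1 := h1
    have := congrArg k.1⁻¹ h2
    simpa using this

/-- `|K|` divides `|P| - 1` -/
theorem card_K_dvd (h : SuzHyp P K) : Nat.card ↥K ∣ Nat.card P - 1 := by
  classical
  haveI := h.fin
  have hstab : ∀ b : ↥(nonOne K), MulAction.stabilizer ↥K b = ⊥ := by
    intro b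
    rw [eq_bot_iff]
    intro k hk
    rw [MulAction.mem_stabilizer_iff] at hk
    have h1 : k.1 b.1 = b.1 := congrArg Subtype.val hk
    rw [Subgroup.mem_bot]
    apply Subtype.ext
    show k.1 = 1
    by_contra hk1
    exact b.2 (fpf h k.2 hk1 h1)
  have e := MulAction.selfEquivOrbitsQuotientProd hstab
  have h1 : Nat.card ↥(nonOne K) = Nat.card (Quotient (MulAction.orbitRel ↥K ↥(nonOne K))) * Nat.card ↥K := by
    rw [Nat.card_congr e, Nat.card_prod]
  have h2 : Nat.card ↥(nonOne K) = Nat.card P - 1 := by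
    have : (nonOne K : Set P) = ({1} : Set P)ᶜ := by
      ext x
      exact Iff.rfl
    show Nat.card ((nonOne K : Set P)) = _
    rw [Nat.card_coe_set_eq, this, Set.ncard_compl, Set.ncard_singleton]
  rw [← h2, h1]
  exact dvd_mul_left _ _

/-- **Higman.** `|P| = q²` or `q³`. -/
theorem card_dichotomy (h : SuzHyp P K) (hna : ∃ x y : P, x * y ≠ y * x) :
    Nat.card P = Nat.card ↥(Z0 P) ^ 2 ∨ Nat.card P = Nat.card ↥(Z0 P) ^ 3 := by
  classical
  haveI := h.fin
  haveI : Fact (Nat.Prime 2) := ⟨Nat.prime_two⟩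
  have hcl := class_two h hna
  have hsqZ := sq_mem_Z0 h hna
  have h4 : Cfsg.Agent.Lib.Helper63.Sq4 P := by
    refine ⟨fun a b c => Z0_comm (hcl a b) c, fun x => ?_, fun x y hx hy => ?_⟩
    · have := (hsqZ x).2
      rw [show x ^ 4 = (x * x) * (x * x) by
        rw [show 4 = 2 + 2 by norm_num, pow_add, pow_two]]
      exact this
    · rw [pow_two] at hx hy ⊢
      exact ((Z0 P).mul_mem (h.mem_Z0_iff.mpr hx) (h.mem_Z0_iff.mpr hy)).2
  have hinv : h4.inv = Z0 P := by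
    ext x
    rw [h4.mem_inv, pow_two]
    exact h.mem_Z0_iff.symm
  have hle := h4.relIndex_le ⊤ h4.inv le_rfl (fun a _ => h4.sq_mem a) (fun a b => h4.comm_mem a b)
  rw [Subgroup.relIndex_top_right, hinv] at hle
  obtain ⟨n, hn⟩ := (h.pgrp.to_subgroup (Z0 P)).exists_card_eq
  obtain ⟨N, hN⟩ := h.pgrp.exists_card_eq
  have hmul : Nat.card P = Nat.card ↥(Z0 P) * (Z0 P).index := ((Z0 P).card_mul_index).symm
  -- `Z ≠ P`
  have hlt : Nat.card ↥(Z0 P) < Nat.card P := by
    obtain ⟨x, y, hxy⟩ := hna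
    have hx : x ∉ Z0 P := fun hx => hxy (Z0_comm hx y)
    have hne : Z0 P ≠ ⊤ := fun htop => hx (htop ▸ Subgroup.mem_top x)
    have h1 : (Z0 P).index ≠ 1 := fun h1 => hne (Subgroup.index_eq_one.mp h1)
    have h0 : (Z0 P).index ≠ 0 := Subgroup.index_ne_zero_of_finite
    have hpos : 0 < Nat.card ↥(Z0 P) := Nat.card_pos
    rw [hmul]
    have : 2 ≤ (Z0 P).index := by omega
    nlinarith
  -- divisibility
  have hdvd : 2 ^ n - 1 ∣ 2 ^ N - 1 := by
    have := card_K_dvd h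
    rw [card_K h, hn, hN] at this
    exact this
  have hn0 : n ≠ 0 := by
    rintro rfl
    obtain ⟨u, -, -, hu1, hu2, -⟩ := h.two
    rw [pow_zero] at hn
    have : Subsingleton ↥(Z0 P) := (Nat.card_eq_one_iff_unique.mp hn).1
    have := Subsingleton.elim (⟨u, h.mem_Z0_iff.mpr hu2⟩ : ↥(Z0 P)) 1
    exact hu1 (congrArg Subtype.val this)
  have hmod : N % n = 0 := by
    have h1 := Nat.pow_sub_one_mod_pow_sub_one 2 n N
    rw [Nat.mod_eq_zero_of_dvd hdvd] at h1
    by_contra hne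
    have : 2 ≤ 2 ^ (N % n) := by
      calc 2 = 2 ^ 1 := by norm_num
        _ ≤ 2 ^ (N % n) := Nat.pow_le_pow_right (by norm_num) (Nat.one_le_iff_ne_zero.mpr hne)
    omega
  obtain ⟨t, ht⟩ := Nat.dvd_of_mod_eq_zero hmod
  have hPq : Nat.card P = Nat.card ↥(Z0 P) ^ t := by rw [hN, hn, ht, pow_mul]
  have hq2 : 2 ≤ Nat.card ↥(Z0 P) := by
    rw [hn]
    calc 2 = 2 ^ 1 := by norm_num
      _ ≤ 2 ^ n := Nat.pow_le_pow_right (by norm_num) (Nat.one_le_iff_ne_zero.mpr hn0)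
  have ht1 : 1 < t := by
    by_contra hcon
    push Not at hcon
    have : Nat.card ↥(Z0 P) ^ t ≤ Nat.card ↥(Z0 P) ^ 1 := Nat.pow_le_pow_right (by omega) hcon
    rw [pow_one, ← hPq] at this
    omega
  have ht3 : t ≤ 3 := by
    by_contra hcon
    push Not at hcon
    have h1 : Nat.card ↥(Z0 P) ^ 4 ≤ Nat.card ↥(Z0 P) ^ t := Nat.pow_le_pow_right (by omega) hcon
    rw [← hPq, hmul] at h1
    have h3 : Nat.card ↥(Z0 P) * (Z0 P).index ≤ Nat.card ↥(Z0 P) * Nat.card ↥(Z0 P) ^ 2 :=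
      Nat.mul_le_mul_left _ hle
    have h5 : Nat.card ↥(Z0 P) ^ 3 < Nat.card ↥(Z0 P) ^ 4 := Nat.pow_lt_pow_right (by omega) (by norm_num)
    have h6 : Nat.card ↥(Z0 P) * Nat.card ↥(Z0 P) ^ 2 = Nat.card ↥(Z0 P) ^ 3 := by ring
    omega
  have : t = 2 ∨ t = 3 := by omega
  rcases this with rfl | rfl
  · exact Or.inl hPq
  · exact Or.inr hPq

end Cfsg.Agent.Lib.Helper11.SuzH
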