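import Cfsg.Prelude.Def_LieRecognition
import Cfsg.Agent.Lib.Helper11.SuzOrder

/-!
# From `Cfsg.IsSuzukiTwoGroup` to the hypothesis package (helper11)
-/

set_option autoImplicit false
set_option linter.style.haveILetI false

namespace Cfsg.Agent.Lib.Helper11.SuzH

open Cfsg.Agent.Lib.Helper19.Suz
open scoped commutatorElement

/-- the hypothesis package from the Prelude definition -/
theorem suzHyp_of_isSuzuki {P : Type*} [Group P] (hP : Cfsg.IsSuzukiTwoGroup P) :
    ∃ K : Subgroup (MulAut P), SuzHyp P K ∧ ∃ x y : P, x * y ≠ y * x := by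
  obtain ⟨hfin, hp, hna, htwo, K, hcyc, hreg⟩ := hP
  have hcomm : ∀ a ∈ K, ∀ b ∈ K, a * b = b * a := by
    intro a ha b hb
    have hc : ∀ x y : ↥K, x * y = y * x := by
      intro x y
      letI := @IsCyclic.commGroup ↥K _ hcyc
      exact mul_comm x y
    have := hc ⟨a, ha⟩ ⟨b, hb⟩
    exact congrArg Subtype.val this
  refine ⟨K, ⟨hfin, hp, hcomm, ?_, ?_, htwo⟩, hna⟩
  · intro x y hx1 hx2 hy1 hy2
    obtain ⟨k, hk, -⟩ := hreg x y hx1 hx2 hy1 hy2
    exact ⟨k, k.2, hk⟩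
  · intro k hk x hx1 hx2 hfix
    obtain ⟨k₀, -, huniq⟩ := hreg x x hx1 hx2 hx1 hx2
    have h1 := huniq ⟨k, hk⟩ hfix
    have h2 := huniq 1 rfl
    have : (⟨k, hk⟩ : ↥K) = 1 := h1.trans h2.symm
    exact congrArg Subtype.val this

/-- the centre of a non-abelian Suzuki 2-group is `Z0` -/
theorem center_eq_Z0 {P : Type*} [Group P] {K : Subgroup (MulAut P)} (h : SuzHyp P K)
    (hna : ∃ x y : P, x * y ≠ y * x) : Subgroup.center P = Z0 P := by
  apply le_antisymm
  · intro z hz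
    exact h.mem_Z0_iff.mpr (h.center_sq hna z hz)
  · exact Z0_le_center

/-- main structural facts for Suzuki 2-groups in the sense of the Prelude -/
theorem isSuzuki_facts {P : Type*} [Group P] (hP : Cfsg.IsSuzukiTwoGroup P) :
    (∀ x : P, x * x = 1 ↔ x ∈ Subgroup.center P) ∧
    (∀ x : P, x * x ∈ Subgroup.center P) ∧ (∀ x y : P, ⁅x, y⁆ ∈ Subgroup.center P) ∧
      (Nat.card P = Nat.card (Subgroup.center P) ^ 2 ∨
        Nat.card P = Nat.card (Subgroup.center P) ^ 3) := by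
  obtain ⟨K, h, hna⟩ := suzHyp_of_isSuzuki hP
  have hc := center_eq_Z0 h hna
  rw [hc]
  exact ⟨fun x => h.mem_Z0_iff.symm, sq_mem_Z0 h hna, class_two h hna, card_dichotomy h hna⟩

end Cfsg.Agent.Lib.Helper11.SuzH
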