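import Cfsg.Agent.Lib.Helper11.SuzSub

/-!
# Suzuki 2-groups: the action of `P` on `A₀` in field coordinates (helper11)
-/

set_option autoImplicit false
set_option linter.style.haveILetI false

namespace Cfsg.Agent.Lib.Helper11.SuzH

open Cfsg.Agent.Lib.Helper19.Suz
open scoped commutatorElement

variable {P : Type*} [Group P] {K : Subgroup (MulAut P)}

/-- if `P/Z` is not abelian then `A₀ > Z` -/
theorem exists_mem_A0_not_mem_Z0 (h : SuzHyp P K) (hnc : ∃ x y : P, ⁅x, y⁆ ∉ Z0 P) :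
    ∃ y ∈ A0 P, y ∉ Z0 P := by
  haveI := h.fin
  haveI : Fact (Nat.Prime 2) := ⟨Nat.prime_two⟩
  obtain ⟨x₀, y₀, hxy⟩ := hnc
  let π : P →* P ⧸ Z0 P := QuotientGroup.mk' (Z0 P)
  have hπ : Function.Surjective π := QuotientGroup.mk'_surjective _
  let N : Subgroup (P ⧸ Z0 P) := (commutator P).map π
  haveI : N.Normal := Subgroup.Normal.map inferInstance π hπ
  have hN : N ≠ ⊥ := by
    intro hbot
    have h1 : π ⁅x₀, y₀⁆ ∈ N :=
      Subgroup.mem_map_of_mem π (Subgroup.commutator_mem_commutator (Subgroup.mem_top _) (Subgroup.mem_top _))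
    rw [hbot, Subgroup.mem_bot] at h1
    exact hxy (mk_eq_one_iff.mp h1)
  obtain ⟨w, hwN, hw1, hwc⟩ :=
    Cfsg.Agent.S0184.normal_inf_center_ne_bot (h.pgrp.to_quotient (Z0 P)) N hN
  obtain ⟨n, hn1, hn2⟩ := exists_pow_involution (h.pgrp.to_quotient (Z0 P)) hw1
  obtain ⟨c, hc, rfl⟩ := hwN
  have hy : c ^ n ∈ commutator P := Subgroup.pow_mem _ hc n
  have hπy : π (c ^ n) = π c ^ n := map_pow π c n
  have hyA : c ^ n ∈ Asub P := by
    show π (c ^ n) ∈ Z0 (P ⧸ Z0 P)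
    rw [hπy, mem_Z0]
    refine ⟨?_, hn2⟩
    apply Subgroup.pow_mem
    rw [Subgroup.mem_center_iff]
    exact hwc
  refine ⟨c ^ n, ?_, ?_⟩
  · rw [mem_A0]
    refine ⟨hyA, fun a ha => ?_⟩
    have hle : commutator P ≤ Subgroup.centralizer ({a} : Set P) := by
      rw [commutator_def, Subgroup.commutator_le]
      intro g _ k _
      rw [Subgroup.mem_centralizer_iff]
      intro m hm
      rw [Set.mem_singleton_iff.mp hm, ← commutatorElement_eq_one_iff_mul_comm]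
      exact comm_comm_right ha g k
    have := hle hy
    rw [Subgroup.mem_centralizer_iff] at this
    exact this a rfl
  · intro hz
    apply hn1
    rw [← hπy]
    exact mk_eq_one_iff.mpr hz

/-- squaring maps `A₀` onto `Z` -/
theorem sq_surj (h : SuzHyp P K) {y : P} (hy : y ∈ A0 P) (hyZ : y ∉ Z0 P) :
    ∀ z ∈ Z0 P, ∃ a ∈ A0 P, a * a = z := by
  intro z hz
  by_cases hz1 : z = 1
  · exact ⟨1, (A0 P).one_mem, by rw [hz1, mul_one]⟩
  have hyy : y * y ∈ Z0 P := sq_mem_Z0_of_A0 hy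
  have hyy1 : y * y ≠ 1 := fun h1 => hyZ (h.mem_Z0_iff.mpr h1)
  obtain ⟨k, hk, hkz⟩ := h.trans (y * y) z hyy1 hyy.2 hz1 hz.2
  exact ⟨k y, kinv_A0 k hk y hy, by rw [← map_mul, hkz]⟩

/-- `C ≠ P` -/
theorem exists_not_mem_Csub (h : SuzHyp P K) (hna : ∃ x y : P, x * y ≠ y * x) {y : P}
    (hy : y ∈ A0 P) (hyZ : y ∉ Z0 P) : ∃ g, g ∉ Csub P := by
  by_contra hall
  push Not at hall
  apply hyZ
  apply h.mem_Z0_iff.mpr
  apply h.center_sq hna
  rw [Subgroup.mem_center_iff]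
  intro g
  exact ((mem_Csub.mp (hall g)) y hy).symm

/-- the action of `P` on `A₀` in field coordinates -/
theorem exists_Phi (h : SuzHyp P K) (hsq : ∀ z ∈ Z0 P, ∃ a ∈ A0 P, a * a = z) :
    ∃ (n : ℕ) (az : P → GaloisField 2 n) (κ : MulAut P → GaloisField 2 n)
      (Φ : P → GaloisField 2 n →+ GaloisField 2 n),
      (∀ x ∈ Z0 P, ∀ y ∈ Z0 P, az (x * y) = az x + az y) ∧
      (∀ x ∈ Z0 P, az x = 0 → x = 1) ∧
      (∀ u : GaloisField 2 n, ∃ r ∈ A0 P, az (r * r) = u) ∧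
      (∀ k ∈ K, κ k ≠ 0) ∧
      (∀ u : GaloisField 2 n, u ≠ 0 → ∃ k ∈ K, κ k = u) ∧
      (κ 1 = 1) ∧
      (∀ g, ∀ y ∈ A0 P, Φ g (az (y * y)) = az ⁅y, g⁆) ∧
      (∀ g h, Φ (g * h) = Φ g + Φ h) ∧
      (∀ k ∈ K, ∀ g u, Φ (k g) (κ k * u) = κ k * Φ g u) ∧
      (∀ g, g ∈ Csub P ↔ Φ g = 0) := by
  classical
  obtain ⟨n, az, κ, hn0, hn, haz_mul, haz0, haz_surj, hκne, hκsurj, hκmul, hκone, hκinj, hazκ⟩ :=
    exists_coord h
  have h2 : ∀ x : GaloisField 2 n, x + x = 0 := CharTwo.add_self_eq_zero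
  have haz1 : az 1 = 0 := by
    have := haz_mul 1 (Z0 P).one_mem 1 (Z0 P).one_mem
    rw [mul_one] at this
    exact left_eq_add.mp this
  have haz_inj : ∀ x ∈ Z0 P, ∀ x' ∈ Z0 P, az x = az x' → x = x' := by
    intro x hx x' hx' hxx
    have h1 : az (x * x') = 0 := by rw [haz_mul x hx x' hx', hxx]; exact h2 _
    have h3 := haz0 _ ((Z0 P).mul_mem hx hx') h1
    have h4 : x = x'⁻¹ := eq_inv_of_mul_eq_one_left h3
    rw [h4, Z0_inv hx']
  have hroot : ∀ u : GaloisField 2 n, ∃ r ∈ A0 P, az (r * r) = u := by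
    intro u
    obtain ⟨x, hx, hxu⟩ := haz_surj u
    obtain ⟨a, ha, haa⟩ := hsq x hx
    exact ⟨a, ha, by rw [haa, hxu]⟩
  choose root hrootA hrootu using hroot
  have hcommZ : ∀ a ∈ A0 P, ∀ g : P, ⁅a, g⁆ ∈ Z0 P := fun a ha g =>
    (mem_Asub.mp (A0_le_Asub ha)).2 g
  have hsqmul : ∀ a ∈ A0 P, ∀ b ∈ A0 P, (a * b) * (a * b) = (a * a) * (b * b) := by
    intro a ha b hb
    calc (a * b) * (a * b) = a * (b * a) * b := by group
      _ = a * (a * b) * b := by rw [A0_comm hb ha]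
      _ = (a * a) * (b * b) := by group
  let raw : P → GaloisField 2 n → GaloisField 2 n := fun g u => az ⁅root u, g⁆
  have hkey : ∀ g, ∀ y ∈ A0 P, raw g (az (y * y)) = az ⁅y, g⁆ := by
    intro g y hy
    set r := root (az (y * y)) with hr
    have hrA : r ∈ A0 P := hrootA _
    have hrr : r * r = y * y :=
      haz_inj _ (sq_mem_Z0_of_A0 hrA) _ (sq_mem_Z0_of_A0 hy) (hrootu _)
    have hz : (r⁻¹ * y) * (r⁻¹ * y) = 1 := by
      rw [hsqmul _ ((A0 P).inv_mem hrA) _ hy, ← hrr]; group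
    have hzZ : r⁻¹ * y ∈ Z0 P := h.mem_Z0_iff.mpr hz
    have hy' : y = r * (r⁻¹ * y) := by group
    have h1 : ⁅r⁻¹ * y, g⁆ = 1 := by
      rw [commutatorElement_eq_one_iff_mul_comm]; exact Z0_comm hzZ g
    show az ⁅r, g⁆ = az ⁅y, g⁆
    conv_rhs => rw [hy']
    rw [comm_mul_left (A0_le_Asub hrA) (Z0_le_Asub hzZ), h1, mul_one]
  have hraw_add : ∀ g u v, raw g (u + v) = raw g u + raw g v := by
    intro g u v
    have hu := hrootA u
    have hv := hrootA v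
    have h1 : u + v = az ((root u * root v) * (root u * root v)) := by
      rw [hsqmul _ hu _ hv, haz_mul _ (sq_mem_Z0_of_A0 hu) _ (sq_mem_Z0_of_A0 hv), hrootu, hrootu]
    have h3 : raw g u = az ⁅root u, g⁆ := rfl
    have h4 : raw g v = az ⁅root v, g⁆ := rfl
    rw [h1, hkey g _ ((A0 P).mul_mem hu hv), comm_mul_left (A0_le_Asub hu) (A0_le_Asub hv),
      haz_mul _ (hcommZ _ hu g) _ (hcommZ _ hv g), h3, h4]
  let Φ : P → GaloisField 2 n →+ GaloisField 2 n := fun g => AddMonoidHom.mk' (raw g) (hraw_add g)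
  have hΦkey : ∀ g, ∀ y ∈ A0 P, Φ g (az (y * y)) = az ⁅y, g⁆ := hkey
  refine ⟨n, az, κ, Φ, haz_mul, haz0, fun u => ⟨root u, hrootA u, hrootu u⟩, hκne, hκsurj, hκone,
    hΦkey, ?_, ?_, ?_⟩
  · intro g k
    ext u
    have hu := hrootA u
    rw [← hrootu u, AddMonoidHom.add_apply, hΦkey _ _ hu, hΦkey _ _ hu, hΦkey _ _ hu,
      comm_mul_right (A0_le_Asub hu), haz_mul _ (hcommZ _ hu g) _ (hcommZ _ hu k)]
  · intro k hk g u
    have hu := hrootA u
    have hku : k (root u) ∈ A0 P := kinv_A0 k hk _ hu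
    have h1 : κ k * u = az (k (root u) * k (root u)) := by
      rw [← map_mul, hazκ k hk _ (sq_mem_Z0_of_A0 hu), hrootu]
    rw [h1, hΦkey _ _ hku, ← map_commutatorElement, hazκ k hk _ (hcommZ _ hu g),
      ← hΦkey g _ hu, hrootu]
  · intro g
    rw [mem_Csub_iff_comm]
    constructor
    · intro hg
      ext u
      have hu := hrootA u
      rw [← hrootu u, hΦkey _ _ hu, hg _ hu, haz1]
      rfl
    · intro hg a ha
      apply haz0 _ (hcommZ a ha g)
      rw [← hΦkey g a ha, hg]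
      rfl

end Cfsg.Agent.Lib.Helper11.SuzH
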