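import Cfsg.Agent.Lib.Helper11.SuzOfDef
import Cfsg.Agent.Lib.Helper88.FusionAlperinCR
import Cfsg.Agent.Lib.Helper88.FusionTopNormal

/-!
# Suzuki 2-groups are resistant (helper11)

A general resistance criterion: if every element `x` of the `p`-group `S` with `x ^ 2 = 1` is central
and all commutators square to one, then every centric radical subgroup of a fusion system
over `S` is `S` itself; with Alperin's theorem this makes `S` normal in every saturated fusion
system over it.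
-/

set_option autoImplicit false
set_option linter.style.haveILetI false

namespace Cfsg.Agent.Lib.Helper11.SuzRes

open Cfsg Cfsg.FusionSystem
open Cfsg.Agent.Lib.Helper87 Cfsg.Agent.Lib.Helper88
open scoped commutatorElement

section abstract

variable {R : Type*} [Group R]

/-- the automorphisms fixing all elements of square one and moving every element by an element
of square one, when all elements of square one are central -/
def tSub (hcen : ∀ x : R, x * x = 1 → ∀ y : R, x * y = y * x) : Subgroup (MulAut R) where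
  carrier := {α | (∀ x : R, x * x = 1 → α x = x) ∧ ∀ x : R, (x⁻¹ * α x) * (x⁻¹ * α x) = 1}
  one_mem' := by
    refine ⟨fun x _ => rfl, fun x => ?_⟩
    simp
  mul_mem' := by
    rintro a b ⟨ha1, ha2⟩ ⟨hb1, hb2⟩
    refine ⟨fun x hx => ?_, fun x => ?_⟩
    · rw [MulAut.mul_apply, hb1 x hx, ha1 x hx]
    · rw [MulAut.mul_apply]
      have hu := hb2 x
      have hv := ha2 x
      have hbx : b x = x * (x⁻¹ * b x) := by group
      have hau : a (x⁻¹ * b x) = x⁻¹ * b x := ha1 _ hu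
      have e : x⁻¹ * a (b x) = (x⁻¹ * a x) * (x⁻¹ * b x) := by
        conv_lhs => rw [hbx, map_mul, hau]
        group
      rw [e]
      have hc := hcen _ hu (x⁻¹ * a x)
      calc (x⁻¹ * a x) * (x⁻¹ * b x) * ((x⁻¹ * a x) * (x⁻¹ * b x))
          = (x⁻¹ * a x) * ((x⁻¹ * b x) * (x⁻¹ * a x)) * (x⁻¹ * b x) := by group
        _ = (x⁻¹ * a x) * ((x⁻¹ * a x) * (x⁻¹ * b x)) * (x⁻¹ * b x) := by rw [hc]
        _ = ((x⁻¹ * a x) * (x⁻¹ * a x)) * ((x⁻¹ * b x) * (x⁻¹ * b x)) := by group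
        _ = 1 := by rw [hv, hu, one_mul]
  inv_mem' := by
    rintro a ⟨ha1, ha2⟩
    refine ⟨fun x hx => ?_, fun x => ?_⟩
    · have := ha1 x hx
      calc a⁻¹ x = a⁻¹ (a x) := by rw [this]
        _ = x := MulAut.inv_apply_self _ _ _
    · have hv := ha2 (a⁻¹ x)
      rw [MulAut.apply_inv_self] at hv
      -- hv : ((a⁻¹ x)⁻¹ * x) * ((a⁻¹ x)⁻¹ * x) = 1
      have e : x⁻¹ * a⁻¹ x = ((a⁻¹ x)⁻¹ * x)⁻¹ := by group
      rw [e, ← mul_inv_rev, hv, inv_one]

theorem mem_tSub {hcen : ∀ x : R, x * x = 1 → ∀ y : R, x * y = y * x} {α : MulAut R} :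
    α ∈ tSub hcen ↔
      (∀ x : R, x * x = 1 → α x = x) ∧ ∀ x : R, (x⁻¹ * α x) * (x⁻¹ * α x) = 1 := Iff.rfl

theorem tSub_normal (hcen : ∀ x : R, x * x = 1 → ∀ y : R, x * y = y * x) : (tSub hcen).Normal := by
  constructor
  rintro a ⟨ha1, ha2⟩ b
  refine ⟨fun x hx => ?_, fun x => ?_⟩
  · show b (a (b⁻¹ x)) = x
    have h1 : b⁻¹ x * b⁻¹ x = 1 := by rw [← map_mul, hx, map_one]
    rw [ha1 _ h1, MulAut.apply_inv_self]
  · show (x⁻¹ * b (a (b⁻¹ x))) * (x⁻¹ * b (a (b⁻¹ x))) = 1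
    have hv := ha2 (b⁻¹ x)
    have e : x⁻¹ * b (a (b⁻¹ x)) = b ((b⁻¹ x)⁻¹ * a (b⁻¹ x)) := by
      rw [map_mul, map_inv, MulAut.apply_inv_self]
    rw [e, ← map_mul, hv, map_one]

theorem tSub_sq (hcen : ∀ x : R, x * x = 1 → ∀ y : R, x * y = y * x) {a : MulAut R}
    (ha : a ∈ tSub hcen) : a * a = 1 := by
  obtain ⟨ha1, ha2⟩ := ha
  ext x
  rw [MulAut.mul_apply, MulAut.one_apply]
  have hv := ha2 x
  have hax : a x = x * (x⁻¹ * a x) := by group
  have hau : a (x⁻¹ * a x) = x⁻¹ * a x := ha1 _ hv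
  conv_lhs => rw [hax, map_mul, hau]
  calc a x * (x⁻¹ * a x) = x * ((x⁻¹ * a x) * (x⁻¹ * a x)) := by group
    _ = x := by rw [hv, mul_one]

theorem tSub_isPGroup (hcen : ∀ x : R, x * x = 1 → ∀ y : R, x * y = y * x) :
    IsPGroup 2 (tSub hcen) := by
  intro g
  refine ⟨1, ?_⟩
  apply Subtype.ext
  have := tSub_sq hcen g.2
  rw [pow_one, pow_two]
  exact this

end abstract

variable {Ω : Type*} [Group Ω] {S : Subgroup Ω}

/-- a centric radical subgroup is everything, when elements of square one of `S` are central and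
commutators square to one -/
theorem eq_top_of_centric_radical [Finite S] (hS : IsPGroup 2 S) (F : FusionSystem S)
    (h1 : ∀ x : S, x * x = 1 → x ∈ Subgroup.center S)
    (h2 : ∀ x y : S, ⁅x, y⁆ * ⁅x, y⁆ = 1)
    {R : Subgroup Ω} (hcen : F.IsCentric R) (hrad : F.IsRadical 2 R) : R = S := by
  haveI : Fact (Nat.Prime 2) := ⟨Nat.prime_two⟩
  have hRS : R ≤ S := hcen.1
  by_contra hne
  obtain ⟨g, hgN, hgR⟩ := exists_mem_normalizerIn_not_mem hS hRS hne
  have hgS : g ∈ S := hgN.1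
  -- elements of square one are central in R
  have hcenR : ∀ x : R, x * x = 1 → ∀ y : R, x * y = y * x := by
    intro x hx y
    have hx' : (⟨x, hRS x.2⟩ : S) * ⟨x, hRS x.2⟩ = 1 := by
      apply Subtype.ext
      exact congrArg (fun z : R => (z : Ω)) hx
    have := Subgroup.mem_center_iff.mp (h1 _ hx') ⟨y, hRS y.2⟩
    apply Subtype.ext
    have := congrArg Subtype.val this
    exact this.symm
  let cg : MulAut R := conjAut R g hgN.2
  have hcgF : cg ∈ F.autGroup R := by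
    apply autInducedBy_le_autGroup F hRS
    rw [mem_autInducedBy_iff]
    exact ⟨g, hgS, fun x => rfl⟩
  have hcgT : cg ∈ tSub hcenR := by
    refine ⟨fun x hx => ?_, fun x => ?_⟩
    · have hx' : (⟨x, hRS x.2⟩ : S) * ⟨x, hRS x.2⟩ = 1 := by
        apply Subtype.ext
        exact congrArg (fun z : R => (z : Ω)) hx
      have := Subgroup.mem_center_iff.mp (h1 _ hx') ⟨g, hgS⟩
      have hc : g * (x : Ω) = (x : Ω) * g := congrArg Subtype.val this
      apply Subtype.ext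
      show g * (x : Ω) * g⁻¹ = x
      rw [hc]; group
    · have := h2 (⟨x, hRS x.2⟩⁻¹ : S) ⟨g, hgS⟩
      have hc := congrArg Subtype.val this
      apply Subtype.ext
      show ((x : Ω)⁻¹ * (g * (x : Ω) * g⁻¹)) * ((x : Ω)⁻¹ * (g * (x : Ω) * g⁻¹)) = 1
      have e : (x : Ω)⁻¹ * (g * (x : Ω) * g⁻¹) = (x : Ω)⁻¹ * g * ((x : Ω)⁻¹)⁻¹ * g⁻¹ := by group
      rw [e]
      exact hc
  -- `T ∩ Aut_F(R)` is a normal 2-subgroup of `Aut_F(R)`
  have hTn : ((tSub hcenR).subgroupOf (F.autGroup R)).Normal := by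
    haveI := tSub_normal hcenR
    infer_instance
  have hTp : IsPGroup 2 ((tSub hcenR).subgroupOf (F.autGroup R)) := by
    intro x
    refine ⟨1, ?_⟩
    have hx : ((x : F.autGroup R) : MulAut R) ∈ tSub hcenR := Subgroup.mem_subgroupOf.mp x.2
    have := tSub_sq hcenR hx
    apply Subtype.ext
    apply Subtype.ext
    rw [pow_one, pow_two]
    exact this
  have hle : (tSub hcenR).subgroupOf (F.autGroup R) ≤ pCore 2 (F.autGroup R) :=
    le_sSup ⟨hTn, hTp⟩
  have hmem : cg ∈ (pCore 2 (F.autGroup R)).map (F.autGroup R).subtype :=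
    ⟨⟨cg, hcgF⟩, hle (Subgroup.mem_subgroupOf.mpr hcgT), rfl⟩
  rw [hrad.2] at hmem
  obtain ⟨r, hr⟩ := hmem
  -- `r⁻¹ g` centralizes `R`
  have hcent : (r : Ω)⁻¹ * g ∈ centralizerIn S R := by
    refine ⟨S.mul_mem (S.inv_mem (hRS r.2)) hgS, ?_⟩
    show (r : Ω)⁻¹ * g ∈ Subgroup.centralizer (R : Set Ω)
    rw [Subgroup.mem_centralizer_iff]
    intro x hx
    have := congrArg (fun a : MulAut R => ((a ⟨x, hx⟩ : R) : Ω)) hr
    have hh : (r : Ω) * x * (r : Ω)⁻¹ = g * x * g⁻¹ := this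
    calc x * ((r : Ω)⁻¹ * g) = (r : Ω)⁻¹ * ((r : Ω) * x * (r : Ω)⁻¹) * g := by group
      _ = (r : Ω)⁻¹ * (g * x * g⁻¹) * g := by rw [hh]
      _ = (r : Ω)⁻¹ * g * x := by group
  have hin : (r : Ω)⁻¹ * g ∈ R := hcen.2 R (isConj_refl F hRS) hcent
  apply hgR
  have : g = (r : Ω) * ((r : Ω)⁻¹ * g) := by group
  rw [this]
  exact R.mul_mem r.2 hin

/-- resistance criterion -/
theorem isNormal_top_of_sq_central [Finite S] (hS : IsPGroup 2 S) (F : FusionSystem S)
    (hF : F.IsSaturated 2)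
    (h1 : ∀ x : S, x * x = 1 → x ∈ Subgroup.center S)
    (h2 : ∀ x y : S, ⁅x, y⁆ * ⁅x, y⁆ = 1) : F.IsNormal S := by
  haveI : Fact (Nat.Prime 2) := ⟨Nat.prime_two⟩
  apply isNormal_top_of_le_autRestrictSystem F
  apply alperin_cr F (autRestrictSystem F) hS hF
  intro R _ hcen hrad _ _ α hα
  obtain rfl : R = S := eq_top_of_centric_radical hS F h1 h2 hcen hrad
  exact isIso_autRestrictSystem F hα

/-- Suzuki 2-groups are resistant -/
theorem isNormal_top_of_isSuzuki [Finite S] (hS : IsPGroup 2 S) (F : FusionSystem S)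
    (hF : F.IsSaturated 2) (hsz : Cfsg.IsSuzukiTwoGroup ↥S) : F.IsNormal S := by
  obtain ⟨f1, -, f3, -⟩ := Cfsg.Agent.Lib.Helper11.SuzH.isSuzuki_facts hsz
  apply isNormal_top_of_sq_central hS F hF
  · intro x hx
    exact (f1 x).mp hx
  · intro x y
    exact (f1 _).mpr (f3 x y)

end Cfsg.Agent.Lib.Helper11.SuzRes
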