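import Cfsg.Agent.Lib.Helper11.SuzFpf
import Cfsg.Agent.Lib.Helper19.SuzMain
import Cfsg.Agent.S0184

/-!
# Suzuki 2-groups: the subgroups `A`, `A₀`, `C` (helper11)

`A / Z = Ω₁(Z(P / Z))`, `A₀ = Z(A)`, `C = C_P(A₀)`.
-/

set_option autoImplicit false
set_option linter.style.haveILetI false

namespace Cfsg.Agent.Lib.Helper11.SuzH

open Cfsg.Agent.Lib.Helper19.Suz
open scoped commutatorElement

variable {P : Type*} [Group P] {K : Subgroup (MulAut P)}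

theorem Z0_comm {z : P} (hz : z ∈ Z0 P) (g : P) : z * g = g * z :=
  ((Subgroup.mem_center_iff.mp hz.1) g).symm

theorem Z0_inv {z : P} (hz : z ∈ Z0 P) : z⁻¹ = z := inv_eq_of_mul_eq_one_left hz.2

/-- preimage of `Ω₁(Z(P/Z))` -/
def Asub (P : Type*) [Group P] : Subgroup P :=
  (Z0 (P ⧸ Z0 P)).comap (QuotientGroup.mk' (Z0 P))

theorem mem_Asub {x : P} : x ∈ Asub P ↔ x * x ∈ Z0 P ∧ ∀ g, ⁅x, g⁆ ∈ Z0 P := by
  unfold Asub
  rw [Subgroup.mem_comap, mem_Z0, Subgroup.mem_center_iff]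
  constructor
  · rintro ⟨h1, h2⟩
    refine ⟨?_, fun g => ?_⟩
    · rw [← mk_eq_one_iff]
      exact h2
    · rw [← mk_eq_one_iff]
      have := h1 (QuotientGroup.mk g)
      show (QuotientGroup.mk (x * g * x⁻¹ * g⁻¹) : P ⧸ Z0 P) = 1
      rw [QuotientGroup.mk_mul, QuotientGroup.mk_mul, QuotientGroup.mk_mul, QuotientGroup.mk_inv,
        QuotientGroup.mk_inv]
      have h3 : (QuotientGroup.mk x : P ⧸ Z0 P) * QuotientGroup.mk g =
          QuotientGroup.mk g * QuotientGroup.mk x := (h1 (QuotientGroup.mk g)).symm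
      rw [h3]; group
  · rintro ⟨h1, h2⟩
    refine ⟨fun v => ?_, ?_⟩
    · induction v using QuotientGroup.induction_on with
      | H g =>
      have := mk_eq_one_iff.mpr (h2 g)
      have h3 : (QuotientGroup.mk (x * g * x⁻¹ * g⁻¹) : P ⧸ Z0 P) = 1 := this
      rw [QuotientGroup.mk_mul, QuotientGroup.mk_mul, QuotientGroup.mk_mul, QuotientGroup.mk_inv,
        QuotientGroup.mk_inv] at h3
      show (QuotientGroup.mk g : P ⧸ Z0 P) * QuotientGroup.mk x = QuotientGroup.mk x * QuotientGroup.mk g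
      have h4 : (QuotientGroup.mk x : P ⧸ Z0 P) * QuotientGroup.mk g =
        ((QuotientGroup.mk x : P ⧸ Z0 P) * QuotientGroup.mk g * (QuotientGroup.mk x)⁻¹ *
          (QuotientGroup.mk g)⁻¹) * (QuotientGroup.mk g * QuotientGroup.mk x) := by group
      rw [h4, h3, one_mul]
    · exact mk_eq_one_iff.mpr h1

instance Asub_normal : (Asub P).Normal := by
  unfold Asub
  infer_instance

theorem Z0_le_Asub : Z0 P ≤ Asub P := by
  intro z hz
  rw [mem_Asub]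
  refine ⟨by rw [hz.2]; exact Subgroup.one_mem _, fun g => ?_⟩
  have : ⁅z, g⁆ = 1 := by
    rw [commutatorElement_eq_one_iff_mul_comm]
    exact Z0_comm hz g
  rw [this]; exact Subgroup.one_mem _

theorem kinv_Asub : KInv K (Asub P) := by
  intro k _ x hx
  rw [mem_Asub] at hx ⊢
  refine ⟨?_, fun g => ?_⟩
  · rw [← map_mul]; exact aut_mem_Z0 k hx.1
  · have h1 : ⁅k x, g⁆ = k ⁅x, k⁻¹ g⁆ := by
      rw [map_commutatorElement]
      simp
    rw [h1]; exact aut_mem_Z0 k (hx.2 _)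

/-- for `a ∈ A` the commutator with `a` is multiplicative -/
theorem comm_mul_right {a : P} (ha : a ∈ Asub P) (g h : P) : ⁅a, g * h⁆ = ⁅a, g⁆ * ⁅a, h⁆ := by
  have hz := (mem_Asub.mp ha).2 h
  rw [commutatorElement_mul_right_eq_mul_conj]
  have : g * ⁅a, h⁆ * g⁻¹ = ⁅a, h⁆ := by
    rw [← Z0_comm hz g]; group
  rw [mul_assoc, mul_assoc, ← mul_assoc g, this]

theorem comm_mul_left {a b : P} (ha : a ∈ Asub P) (hb : b ∈ Asub P) (g : P) :
    ⁅a * b, g⁆ = ⁅a, g⁆ * ⁅b, g⁆ := by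
  have hz := (mem_Asub.mp hb).2 g
  have hz' := (mem_Asub.mp ha).2 g
  rw [commutatorElement_mul_left_eq_conj_mul]
  have : a * ⁅b, g⁆ * a⁻¹ = ⁅b, g⁆ := by
    rw [← Z0_comm hz a]; group
  rw [this, Z0_comm hz]

theorem comm_sq {a : P} (ha : a ∈ Asub P) (g : P) : ⁅a, g⁆ * ⁅a, g⁆ = 1 :=
  ((mem_Asub.mp ha).2 g).2

theorem comm_inv_right {a : P} (ha : a ∈ Asub P) (g : P) : ⁅a, g⁻¹⁆ = ⁅a, g⁆ := by
  have h1 := comm_mul_right ha g g⁻¹
  rw [mul_inv_cancel, commutatorElement_one_right] at h1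
  have h2 := comm_sq ha g
  calc ⁅a, g⁻¹⁆ = (⁅a, g⁆ * ⁅a, g⁆) * ⁅a, g⁻¹⁆ := by rw [h2, one_mul]
    _ = ⁅a, g⁆ * (⁅a, g⁆ * ⁅a, g⁻¹⁆) := by group
    _ = ⁅a, g⁆ := by rw [← h1, mul_one]

/-- elements of `A` commute with squares -/
theorem comm_sq_right {a : P} (ha : a ∈ Asub P) (g : P) : ⁅a, g * g⁆ = 1 := by
  rw [comm_mul_right ha, comm_sq ha]

/-- elements of `A` commute with commutators -/
theorem comm_comm_right {a : P} (ha : a ∈ Asub P) (g h : P) : ⁅a, ⁅g, h⁆⁆ = 1 := by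
  rw [commutatorElement_def g h, comm_mul_right ha, comm_mul_right ha, comm_mul_right ha,
    comm_inv_right ha, comm_inv_right ha]
  have hg := (mem_Asub.mp ha).2 g
  have hh := (mem_Asub.mp ha).2 h
  calc ⁅a, g⁆ * ⁅a, h⁆ * ⁅a, g⁆ * ⁅a, h⁆ = ⁅a, g⁆ * (⁅a, h⁆ * ⁅a, g⁆) * ⁅a, h⁆ := by group
    _ = ⁅a, g⁆ * (⁅a, g⁆ * ⁅a, h⁆) * ⁅a, h⁆ := by rw [Z0_comm hh]
    _ = (⁅a, g⁆ * ⁅a, g⁆) * (⁅a, h⁆ * ⁅a, h⁆) := by group
    _ = 1 := by rw [hg.2, hh.2, one_mul]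

/-- `A₀ = Z(A)` -/
def A0 (P : Type*) [Group P] : Subgroup P := Asub P ⊓ Subgroup.centralizer (Asub P : Set P)

theorem mem_A0 {x : P} : x ∈ A0 P ↔ x ∈ Asub P ∧ ∀ a ∈ Asub P, a * x = x * a := by
  unfold A0
  rw [Subgroup.mem_inf, Subgroup.mem_centralizer_iff]
  rfl

theorem A0_le_Asub : A0 P ≤ Asub P := fun _ hx => (mem_A0.mp hx).1

theorem A0_comm {x y : P} (hx : x ∈ A0 P) (hy : y ∈ A0 P) : x * y = y * x :=
  (mem_A0.mp hy).2 x (A0_le_Asub hx)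

theorem Z0_le_A0 : Z0 P ≤ A0 P := by
  intro z hz
  rw [mem_A0]
  exact ⟨Z0_le_Asub hz, fun a _ => (Z0_comm hz a).symm⟩

theorem kinv_A0 : KInv K (A0 P) := by
  intro k hk x hx
  rw [mem_A0] at hx ⊢
  refine ⟨kinv_Asub k hk x hx.1, fun a ha => ?_⟩
  have h1 : k⁻¹ a ∈ Asub P := kinv_Asub k⁻¹ (K.inv_mem hk) a ha
  have h2 := hx.2 _ h1
  have h3 := congrArg k h2
  simpa using h3

theorem sq_mem_Z0_of_A0 {x : P} (hx : x ∈ A0 P) : x * x ∈ Z0 P := (mem_Asub.mp (A0_le_Asub hx)).1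

/-- `C = C_P(A₀)` -/
def Csub (P : Type*) [Group P] : Subgroup P := Subgroup.centralizer (A0 P : Set P)

theorem mem_Csub {g : P} : g ∈ Csub P ↔ ∀ a ∈ A0 P, a * g = g * a := by
  unfold Csub
  rw [Subgroup.mem_centralizer_iff]
  rfl

theorem mem_Csub_iff_comm {g : P} : g ∈ Csub P ↔ ∀ a ∈ A0 P, ⁅a, g⁆ = 1 := by
  rw [mem_Csub]
  constructor
  · intro h a ha
    rw [commutatorElement_eq_one_iff_mul_comm]; exact h a ha
  · intro h a ha
    rw [← commutatorElement_eq_one_iff_mul_comm]; exact h a ha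

theorem Asub_le_Csub : Asub P ≤ Csub P := by
  intro a ha
  rw [mem_Csub]
  intro x hx
  exact ((mem_A0.mp hx).2 a ha).symm

theorem A0_le_Csub : A0 P ≤ Csub P := A0_le_Asub.trans Asub_le_Csub

theorem kinv_Csub : KInv K (Csub P) := by
  intro k hk g hg
  rw [mem_Csub] at hg ⊢
  intro a ha
  have h1 : k⁻¹ a ∈ A0 P := kinv_A0 k⁻¹ (K.inv_mem hk) a ha
  have h2 := hg _ h1
  have h3 := congrArg k h2
  simpa using h3

theorem sq_mem_Csub (g : P) : g * g ∈ Csub P := by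
  rw [mem_Csub_iff_comm]
  intro a ha
  exact comm_sq_right (A0_le_Asub ha) g

theorem comm_mem_Csub (g h : P) : ⁅g, h⁆ ∈ Csub P := by
  rw [mem_Csub_iff_comm]
  intro a ha
  exact comm_comm_right (A0_le_Asub ha) g h

instance Csub_normal : (Csub P).Normal := by
  constructor
  intro c hc g
  have : g * c * g⁻¹ = ⁅g, c⁆ * c := by group
  rw [this]
  exact (Csub P).mul_mem (comm_mem_Csub g c) hc

/-- square roots: an element of `C` whose square is the square of an element of `A₀` lies in `A₀` -/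
theorem mem_A0_of_sq (h : SuzHyp P K) {c a : P} (hc : c ∈ Csub P) (ha : a ∈ A0 P)
    (hca : c * c = a * a) : c ∈ A0 P := by
  have hcomm : a * c = c * a := (mem_Csub.mp hc) a ha
  have h1 : (c * a⁻¹) * (c * a⁻¹) = 1 := by
    calc (c * a⁻¹) * (c * a⁻¹) = c * (a⁻¹ * c) * a⁻¹ := by group
      _ = c * (c * a⁻¹) * a⁻¹ := by
          have : a⁻¹ * c = c * a⁻¹ := by
            calc a⁻¹ * c = a⁻¹ * (c * a) * a⁻¹ := by group
              _ = a⁻¹ * (a * c) * a⁻¹ := by rw [hcomm]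
              _ = c * a⁻¹ := by group
          rw [this]
      _ = (c * c) * (a * a)⁻¹ := by group
      _ = 1 := by rw [hca, mul_inv_cancel]
  have h2 : c * a⁻¹ ∈ Z0 P := h.mem_Z0_iff.mpr h1
  have : c = (c * a⁻¹) * a := by group
  rw [this]
  exact (A0 P).mul_mem (Z0_le_A0 h2) ha

end Cfsg.Agent.Lib.Helper11.SuzH
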