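import Mathlib
import Cfsg.Agent.Lib.Helper6.SzCh.Asm
import Cfsg.Agent.Lib.Helper41.SzCov.Defs
import Cfsg.Agent.Lib.Helper41.SzCov.TorusVal

/-!
# SZCOV-[TORUS-5] (helper11, for helper41's project SZCOV): a self-centralising T.I. torus `A` of order 5 with
`|N_G(A)| = 20`: every irreducible character is a constant integer `v`, `|v| ≤ 2`, on `A ∖ 1`, and `5 ∣ χ(1) - v`.
-/

set_option autoImplicit false

namespace Cfsg.Agent.Lib.Helper11.SzCov

open Cfsg Cfsg.Agent.Lib.Helper6.SzCh Cfsg.Agent.Lib.Helper78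
open scoped ComplexConjugate Classical

universe u

variable {G : Type u} [Group G]

/-- all non-identity elements of `A` are conjugate (the `N_G(A)`-orbit of `y` has `20 / 5 = 4` elements) -/
theorem isConj_of_mem_five [Fintype G] (A : Subgroup G)
    (hcent : ∀ a ∈ A, a ≠ 1 → Subgroup.centralizer ({a} : Set G) = A)
    (hnorm : Nat.card ↥(Subgroup.normalizer (A : Set G)) = 4 * Nat.card A)
    (h5 : Nat.card A = 5) {y y' : G} (hy : y ∈ A) (hy1 : y ≠ 1) (hy' : y' ∈ A) (hy'1 : y' ≠ 1) :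
    IsConj y y' := by
  let Nf : Finset G := Finset.univ.filter (· ∈ Subgroup.normalizer (A : Set G))
  let Af : Finset G := Finset.univ.filter (· ∈ A)
  have hNf : Nf.card = 20 := by
    have h1 : Nat.card ↥(Subgroup.normalizer (A : Set G)) = Nf.card := by
      rw [Nat.card_eq_fintype_card]
      exact Fintype.card_of_subtype Nf (by simp [Nf])
    omega
  have hAf : Af.card = 5 := by
    have h1 : Nat.card ↥A = Af.card := by
      rw [Nat.card_eq_fintype_card]
      exact Fintype.card_of_subtype Af (by simp [Af])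
    omega
  let f : G → G := fun n => n * y * n⁻¹
  have hsub : Nf.image f ⊆ Af.erase 1 := by
    intro z hz
    obtain ⟨n, hn, rfl⟩ := Finset.mem_image.mp hz
    have hnN : n ∈ Subgroup.normalizer (A : Set G) := (Finset.mem_filter.mp hn).2
    rw [Finset.mem_erase]
    refine ⟨?_, Finset.mem_filter.mpr ⟨Finset.mem_univ _, (Subgroup.mem_normalizer_iff.mp hnN y).mp hy⟩⟩
    intro h
    apply hy1
    have h2 : y = n⁻¹ * (n * y * n⁻¹) * n := by group
    have h3 : n * y * n⁻¹ = 1 := h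
    rw [h2, h3]
    group
  have hfib : ∀ z ∈ Nf.image f, (Nf.filter (fun a => f a = z)).card ≤ 5 := by
    intro z hz
    obtain ⟨n₀, hn₀, rfl⟩ := Finset.mem_image.mp hz
    have hsub2 : Nf.filter (fun a => f a = f n₀) ⊆ Af.image (fun a => n₀ * a) := by
      intro n hn
      obtain ⟨-, hfn⟩ := Finset.mem_filter.mp hn
      rw [Finset.mem_image]
      refine ⟨n₀⁻¹ * n, Finset.mem_filter.mpr ⟨Finset.mem_univ _, ?_⟩, by group⟩
      rw [← hcent y hy hy1, Subgroup.mem_centralizer_iff]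
      intro x hx
      rw [Set.mem_singleton_iff] at hx
      subst hx
      have h2 : n * x * n⁻¹ = n₀ * x * n₀⁻¹ := hfn
      calc x * (n₀⁻¹ * n) = n₀⁻¹ * (n₀ * x * n₀⁻¹) * n := by group
        _ = n₀⁻¹ * (n * x * n⁻¹) * n := by rw [h2]
        _ = n₀⁻¹ * n * x := by group
    calc (Nf.filter (fun a => f a = f n₀)).card ≤ (Af.image (fun a => n₀ * a)).card :=
          Finset.card_le_card hsub2
      _ ≤ Af.card := Finset.card_image_le
      _ = 5 := hAf
  have hcard := Finset.card_le_mul_card_image Nf 5 hfib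
  have hA1 : (Af.erase 1).card = 4 := by
    rw [Finset.card_erase_of_mem (Finset.mem_filter.mpr ⟨Finset.mem_univ _, A.one_mem⟩), hAf]
  have heq : Nf.image f = Af.erase 1 := Finset.eq_of_subset_of_card_le hsub (by omega)
  have hy'mem : y' ∈ Af.erase 1 :=
    Finset.mem_erase.mpr ⟨hy'1, Finset.mem_filter.mpr ⟨Finset.mem_univ _, hy'⟩⟩
  rw [← heq] at hy'mem
  obtain ⟨n, -, hn⟩ := Finset.mem_image.mp hy'mem
  exact isConj_iff.mpr ⟨n, hn⟩

/-- a subgroup of order 5 has a non-identity element -/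
theorem exists_ne_one_of_card_five (A : Subgroup G) (h5 : Nat.card A = 5) : ∃ y ∈ A, y ≠ 1 := by
  by_contra hcon
  push Not at hcon
  have : A = ⊥ := by
    rw [Subgroup.eq_bot_iff_forall]
    exact hcon
  rw [this, Subgroup.card_bot] at h5
  omega

/-- the sum of a character over a subgroup is a natural multiple of the order of the subgroup -/
theorem sum_subgroup_eq [Fintype G] (A : Subgroup G) {χ : G → ℂ} (hχ : IsCharacter G χ) :
    ∃ n : ℕ, ∑ a : ↥A, χ (a : G) = (Nat.card A : ℂ) * n := by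
  have hres := Cfsg.Agent.Lib.Helper80.isCharacter_restrict A hχ
  obtain ⟨n, hn⟩ := IsCharacter.exists_nat_classInner hres ⟨fun _ => 1, isIrrCharacter_one⟩
  refine ⟨n, ?_⟩
  unfold classInner at hn
  have hApos : (Nat.card A : ℂ) ≠ 0 := by
    have : 0 < Nat.card A := Nat.card_pos
    exact_mod_cast this.ne'
  have h1 : ∑ a : ↥A, χ (a : G) * conj ((1 : ℂ)) = ∑ a : ↥A, χ (a : G) := by
    apply Finset.sum_congr rfl
    intro a _
    simp
  rw [← h1]
  field_simp at hn
  linear_combination hn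

/-- every irreducible character is a constant integer on `A ∖ 1` -/
theorem torus_five_int [Fintype G] (A : Subgroup G)
    (hcent : ∀ a ∈ A, a ≠ 1 → Subgroup.centralizer ({a} : Set G) = A)
    (hnorm : Nat.card ↥(Subgroup.normalizer (A : Set G)) = 4 * Nat.card A)
    (h5 : Nat.card A = 5) (χ : IrrCharacter G) :
    ∃ v : ℤ, ∀ y ∈ A, y ≠ 1 → (χ : G → ℂ) y = (v : ℂ) := by
  obtain ⟨y₀, hy₀, hy₀1⟩ := exists_ne_one_of_card_five A h5
  have hχ : IsCharacter G (χ : G → ℂ) := IsIrrCharacter.isCharacter χ.2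
  have hconst : ∀ y ∈ A, y ≠ 1 → (χ : G → ℂ) y = (χ : G → ℂ) y₀ := fun y hy hy1 =>
    IsClassFunction.eq_of_isConj (isClassFunction_irr χ) (isConj_of_mem_five A hcent hnorm h5 hy hy1 hy₀ hy₀1)
  obtain ⟨n, hn⟩ := sum_subgroup_eq A hχ
  have hsplit := Finset.add_sum_erase Finset.univ (fun a : ↥A => (χ : G → ℂ) (a : G)) (Finset.mem_univ (1 : ↥A))
  have hrest : ∑ a ∈ (Finset.univ : Finset ↥A).erase 1, (χ : G → ℂ) (a : G) = 4 * (χ : G → ℂ) y₀ := by
    have : ∀ a ∈ (Finset.univ : Finset ↥A).erase 1, (χ : G → ℂ) (a : G) = (χ : G → ℂ) y₀ := by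
      intro a ha
      have hne : a ≠ 1 := (Finset.mem_erase.mp ha).1
      exact hconst a a.2 (fun h => hne (Subtype.ext h))
    rw [Finset.sum_congr rfl this, Finset.sum_const, Finset.card_erase_of_mem (Finset.mem_univ _),
      Finset.card_univ, ← Nat.card_eq_fintype_card, h5, nsmul_eq_mul]
    norm_num
  have hone : (χ : G → ℂ) ((1 : ↥A) : G) = (charDegree (χ : G → ℂ) : ℂ) := by
    rw [Subgroup.coe_one]
    exact IsCharacter.apply_one_eq_charDegree hχ
  rw [hrest, hone, hn, h5] at hsplit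
  -- `m + 4 c = 5 n`
  set m : ℕ := charDegree (χ : G → ℂ) with hm
  set c : ℂ := (χ : G → ℂ) y₀ with hc
  have hint : IsIntegral ℤ (c + (m : ℂ)) := IsIntegral.add (IsCharacter.isIntegral hχ y₀) (isIntegral_natCast m)
  have hquot : c + (m : ℂ) = ((5 * n + 3 * m : ℕ) : ℂ) / ((4 : ℕ) : ℂ) := by
    push_cast
    field_simp
    linear_combination hsplit
  rw [hquot] at hint
  obtain ⟨k, hk⟩ := Cfsg.Agent.Lib.Helper79.dvd_of_isIntegral_div (by norm_num) hint
  refine ⟨(k : ℤ) - m, ?_⟩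
  intro y hy hy1
  rw [hconst y hy hy1]
  have hkC : ((5 * n + 3 * m : ℕ) : ℂ) = ((4 * k : ℕ) : ℂ) := by rw [hk]
  push_cast at hkC ⊢
  linear_combination (1 / 4 : ℂ) * hsplit + (1 / 4 : ℂ) * hkC

/-- SZCOV-[TORUS-5] -/
theorem torus_val_five [Fintype G] (A : Subgroup G)
    (hcent : ∀ a ∈ A, a ≠ 1 → Subgroup.centralizer ({a} : Set G) = A)
    (hnorm : Nat.card ↥(Subgroup.normalizer (A : Set G)) = 4 * Nat.card A)
    (h5 : Nat.card A = 5) (χ : IrrCharacter G) :
    ∃ v : ℤ, (∀ y ∈ A, y ≠ 1 → (χ : G → ℂ) y = (v : ℂ)) ∧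
        |v| ≤ 2 ∧ (5 : ℤ) ∣ (charDegree (χ : G → ℂ) : ℤ) - v := by
  choose v hv using fun χ : IrrCharacter G => torus_five_int A hcent hnorm h5 χ
  refine ⟨v χ, hv χ, ?_, ?_⟩
  · obtain ⟨y₀, hy₀, hy₀1⟩ := exists_ne_one_of_card_five A h5
    have hso := second_orthogonality_of_isConj (IsConj.refl y₀)
    rw [hcent y₀ hy₀ hy₀1, h5] at hso
    have hsum : ∑ χ' : IrrCharacter G, (v χ') ^ 2 = 5 := by
      have h1 : ∑ χ' : IrrCharacter G, (χ' : G → ℂ) y₀ * conj ((χ' : G → ℂ) y₀)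
          = ((∑ χ' : IrrCharacter G, (v χ') ^ 2 : ℤ) : ℂ) := by
        push_cast
        apply Finset.sum_congr rfl
        intro χ' _
        rw [hv χ' y₀ hy₀ hy₀1, map_intCast]
        ring
      rw [h1] at hso
      exact_mod_cast hso
    have hv0 : v (Cfsg.Agent.Lib.Helper41.SzCov.trivIrr G) = 1 := by
      have h := hv (Cfsg.Agent.Lib.Helper41.SzCov.trivIrr G) y₀ hy₀ hy₀1
      have h' : (1 : ℂ) = (v (Cfsg.Agent.Lib.Helper41.SzCov.trivIrr G) : ℂ) := h
      exact_mod_cast h'.symm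
    by_cases hχ0 : χ = Cfsg.Agent.Lib.Helper41.SzCov.trivIrr G
    · rw [hχ0, hv0]
      norm_num
    · have hsplit := Finset.add_sum_erase (Finset.univ : Finset (IrrCharacter G)) (fun χ' => v χ' ^ 2)
        (Finset.mem_univ (Cfsg.Agent.Lib.Helper41.SzCov.trivIrr G))
      have hmemχ : χ ∈ (Finset.univ : Finset (IrrCharacter G)).erase (Cfsg.Agent.Lib.Helper41.SzCov.trivIrr G) :=
        Finset.mem_erase.mpr ⟨hχ0, Finset.mem_univ _⟩
      have hle : v χ ^ 2 ≤ ∑ χ' ∈ (Finset.univ : Finset (IrrCharacter G)).erase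
          (Cfsg.Agent.Lib.Helper41.SzCov.trivIrr G), v χ' ^ 2 :=
        Finset.single_le_sum (f := fun χ' => v χ' ^ 2) (fun i _ => sq_nonneg _) hmemχ
      simp only [hv0] at hsplit
      have h3 : v χ ^ 2 ≤ 4 := by linarith
      exact abs_le.mpr ⟨by nlinarith, by nlinarith⟩
  · have h := Cfsg.Agent.Lib.Helper41.SzCov.dvd_degree_sub_of_const A (IsIrrCharacter.isCharacter χ.2) (v χ) (hv χ)
    rw [h5] at h
    exact_mod_cast h

end Cfsg.Agent.Lib.Helper11.SzCov
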