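/-
helper11: S5707 module [OP-A] (helper99's project): basic algebra of `op i N`
(the matrix `N` acting in the `i`-th tensor factor of `F^(Fin t → Fin k)`).
Statements verbatim from `notes/helper99_S5707_modules.lean.txt`.
-/
import Mathlib
import Cfsg.Prelude.Def_GeometricClasses
import Cfsg.Agent.Lib.Helper99.TWDefs

set_option autoImplicit false

namespace Cfsg.Agent.Lib.Helper11.TW

open Cfsg.Agent.Lib.Helper99.TW Matrix

section op
variable {F : Type*} [Field F] {k t : ℕ}

/-! ### [OP-A] -/
theorem sum_agree (i : Fin t) (b : Idx k t) (G : Idx k t → F) :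
    (∑ d : Idx k t, if (∀ j, j ≠ i → d j = b j) then G d else 0) =
      ∑ s : Fin k, G (Function.update b i s) := by
  classical
  rw [← Finset.sum_filter]
  symm
  apply Finset.sum_bij (fun s _ => Function.update b i s)
  · intro s _
    rw [Finset.mem_filter]
    refine ⟨Finset.mem_univ _, ?_⟩
    intro j hj
    rw [Function.update_of_ne hj]
  · intro s _ s' _ h
    have := congrFun h i
    simpa using this
  · intro d hd
    refine ⟨d i, Finset.mem_univ _, ?_⟩
    funext j
    by_cases hj : j = i
    · subst hj
      simp
    · rw [Function.update_of_ne hj]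
      exact ((Finset.mem_filter.1 hd).2 j hj).symm
  · intro s _
    rfl

/-- the "agree away from `i`" relation is symmetric -/
theorem agree_symm (i : Fin t) (a b : Idx k t) :
    (∀ j, j ≠ i → a j = b j) ↔ (∀ j, j ≠ i → b j = a j) :=
  ⟨fun h j hj => (h j hj).symm, fun h j hj => (h j hj).symm⟩

/-- variant of `sum_agree` with the agreement condition written the other way round -/
theorem sum_agree' (i : Fin t) (b : Idx k t) (G : Idx k t → F) :
    (∑ d : Idx k t, if (∀ j, j ≠ i → b j = d j) then G d else 0) =
      ∑ s : Fin k, G (Function.update b i s) := by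
  rw [← sum_agree i b G]
  refine Finset.sum_congr rfl fun d _ => ?_
  by_cases h : ∀ j, j ≠ i → d j = b j
  · rw [if_pos h, if_pos ((agree_symm i d b).1 h)]
  · rw [if_neg h, if_neg (fun h' => h ((agree_symm i b d).1 h'))]

theorem agree_update_iff (i : Fin t) (a b : Idx k t) (s : Fin k) :
    (∀ j, j ≠ i → a j = Function.update b i s j) ↔ (∀ j, j ≠ i → a j = b j) := by
  constructor
  · intro h j hj
    have := h j hj
    rwa [Function.update_of_ne hj] at this
  · intro h j hj
    rw [Function.update_of_ne hj]
    exact h j hj

theorem update_agree_iff (i : Fin t) (a b : Idx k t) (s : Fin k) :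
    (∀ j, j ≠ i → Function.update a i s j = b j) ↔ (∀ j, j ≠ i → a j = b j) := by
  constructor
  · intro h j hj
    have := h j hj
    rwa [Function.update_of_ne hj] at this
  · intro h j hj
    rw [Function.update_of_ne hj]
    exact h j hj

theorem op_apply (i : Fin t) (N : Matrix (Fin k) (Fin k) F) (a b : Idx k t) :
    op i N a b = if ∀ j, j ≠ i → a j = b j then N (a i) (b i) else 0 := rfl

theorem op_one (i : Fin t) : op i (1 : Matrix (Fin k) (Fin k) F) = 1 := by
  ext a b
  rw [op_apply]
  by_cases hab : a = b
  · subst hab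
    rw [if_pos (fun _ _ => rfl)]
    simp
  · rw [Matrix.one_apply_ne hab]
    by_cases h : ∀ j, j ≠ i → a j = b j
    · rw [if_pos h]
      have : a i ≠ b i := by
        intro hi
        apply hab
        funext j
        by_cases hj : j = i
        · subst hj; exact hi
        · exact h j hj
      exact Matrix.one_apply_ne this
    · rw [if_neg h]

theorem op_zero (i : Fin t) : op i (0 : Matrix (Fin k) (Fin k) F) = 0 := by
  ext a b
  rw [op_apply]
  simp

theorem op_add (i : Fin t) (N N' : Matrix (Fin k) (Fin k) F) :
    op i (N + N') = op i N + op i N' := by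
  ext a b
  rw [Matrix.add_apply, op_apply, op_apply, op_apply]
  by_cases h : ∀ j, j ≠ i → a j = b j
  · rw [if_pos h, if_pos h, if_pos h, Matrix.add_apply]
  · rw [if_neg h, if_neg h, if_neg h, add_zero]

theorem op_smul (i : Fin t) (c : F) (N : Matrix (Fin k) (Fin k) F) :
    op i (c • N) = c • op i N := by
  ext a b
  rw [Matrix.smul_apply, op_apply, op_apply]
  by_cases h : ∀ j, j ≠ i → a j = b j
  · rw [if_pos h, if_pos h, Matrix.smul_apply]
  · rw [if_neg h, if_neg h, smul_zero]

theorem op_mul (i : Fin t) (N N' : Matrix (Fin k) (Fin k) F) :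
    op i (N * N') = op i N * op i N' := by
  ext a b
  rw [Matrix.mul_apply, op_apply]
  have h1 : ∀ d : Idx k t, op i N a d * op i N' d b =
      if (∀ j, j ≠ i → d j = b j) then op i N a d * N' (d i) (b i) else 0 := by
    intro d
    rw [op_apply i N' d b]
    by_cases h : ∀ j, j ≠ i → d j = b j
    · rw [if_pos h, if_pos h]
    · rw [if_neg h, if_neg h, mul_zero]
  rw [Finset.sum_congr rfl (fun d _ => h1 d), sum_agree i b]
  by_cases h : ∀ j, j ≠ i → a j = b j
  · rw [if_pos h, Matrix.mul_apply]
    refine Finset.sum_congr rfl fun s _ => ?_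
    rw [op_apply, if_pos ((agree_update_iff i a b s).2 h)]
    simp
  · rw [if_neg h]
    symm
    refine Finset.sum_eq_zero fun s _ => ?_
    rw [op_apply, if_neg (fun h' => h ((agree_update_iff i a b s).1 h')), zero_mul]

theorem op_mul_apply_of_ne (i j : Fin t) (hij : i ≠ j) (N N' : Matrix (Fin k) (Fin k) F)
    (a b : Idx k t) :
    (op i N * op j N') a b =
      if (∀ l, l ≠ i → l ≠ j → a l = b l) then N (a i) (b i) * N' (a j) (b j) else 0 := by
  rw [Matrix.mul_apply]
  have h1 : ∀ d : Idx k t, op i N a d * op j N' d b =
      if (∀ l, l ≠ j → d l = b l) then op i N a d * N' (d j) (b j) else 0 := by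
    intro d
    rw [op_apply j N' d b]
    by_cases h : ∀ l, l ≠ j → d l = b l
    · rw [if_pos h, if_pos h]
    · rw [if_neg h, if_neg h, mul_zero]
  rw [Finset.sum_congr rfl (fun d _ => h1 d), sum_agree j b]
  by_cases h : ∀ l, l ≠ i → l ≠ j → a l = b l
  · rw [if_pos h]
    rw [Finset.sum_eq_single (a j)]
    · rw [op_apply, if_pos, Function.update_self, Function.update_of_ne hij]
      intro l hl
      by_cases hlj : l = j
      · subst hlj
        rw [Function.update_self]
      · rw [Function.update_of_ne hlj]
        exact h l hl hlj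
    · intro s _ hs
      rw [op_apply, if_neg, zero_mul]
      intro h'
      apply hs
      have := h' j (Ne.symm hij)
      rw [Function.update_self] at this
      exact this.symm
    · intro h'
      exact absurd (Finset.mem_univ _) h'
  · rw [if_neg h]
    refine Finset.sum_eq_zero fun s _ => ?_
    rw [op_apply, if_neg, zero_mul]
    intro h'
    apply h
    intro l hl hlj
    have := h' l hl
    rwa [Function.update_of_ne hlj] at this

theorem op_comm (i j : Fin t) (hij : i ≠ j) (N N' : Matrix (Fin k) (Fin k) F) :
    op i N * op j N' = op j N' * op i N := by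
  ext a b
  rw [op_mul_apply_of_ne i j hij, op_mul_apply_of_ne j i (Ne.symm hij)]
  by_cases h : ∀ l, l ≠ i → l ≠ j → a l = b l
  · rw [if_pos h, if_pos (fun l hl hl' => h l hl' hl), mul_comm]
  · rw [if_neg h, if_neg (fun h' => h (fun l hl hl' => h' l hl' hl))]

theorem op_transpose (i : Fin t) (N : Matrix (Fin k) (Fin k) F) : (op i N)ᵀ = op i Nᵀ := by
  ext a b
  rw [Matrix.transpose_apply, op_apply, op_apply]
  by_cases h : ∀ j, j ≠ i → b j = a j
  · rw [if_pos h, if_pos ((agree_symm i b a).1 h), Matrix.transpose_apply]
  · rw [if_neg h, if_neg (fun h' => h ((agree_symm i a b).1 h'))]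

theorem op_injective (i : Fin t) :
    Function.Injective (op i : Matrix (Fin k) (Fin k) F → Matrix (Idx k t) (Idx k t) F) := by
  intro N N' h
  ext r s
  have h1 := congrFun (congrFun h (fun _ => r)) (Function.update (fun _ => r) i s)
  rw [op_apply, op_apply] at h1
  have h2 : ∀ j, j ≠ i → (fun _ : Fin t => r) j = Function.update (fun _ : Fin t => r) i s j := by
    intro j hj
    rw [Function.update_of_ne hj]
  rw [if_pos h2, if_pos h2, Function.update_self] at h1
  exact h1

theorem op_apply_of_two (i : Fin t) (N : Matrix (Fin k) (Fin k) F) (a b : Idx k t) (j j' : Fin t)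
    (hjj' : j ≠ j') (hj : a j ≠ b j) (hj' : a j' ≠ b j') : op i N a b = 0 := by
  rw [op_apply, if_neg]
  intro h
  by_cases hji : j = i
  · subst hji
    exact hj' (h j' (Ne.symm hjj'))
  · exact hj (h j hji)

theorem op_mulVec_single (i : Fin t) (N : Matrix (Fin k) (Fin k) F) (a : Idx k t) :
    op i N *ᵥ (Pi.single a 1 : Idx k t → F) =
      ∑ s : Fin k, N s (a i) • (Pi.single (Function.update a i s) 1 : Idx k t → F) := by
  classical
  funext c
  rw [Matrix.mulVec_single_one, Matrix.col_apply, Finset.sum_apply, op_apply]
  by_cases h : ∀ j, j ≠ i → c j = a j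
  · rw [if_pos h, Finset.sum_eq_single (c i)]
    · have : Function.update a i (c i) = c := by
        funext j
        by_cases hj : j = i
        · subst hj
          rw [Function.update_self]
        · rw [Function.update_of_ne hj]
          exact (h j hj).symm
      rw [this, Pi.smul_apply, Pi.single_eq_same, smul_eq_mul, mul_one]
    · intro s _ hs
      rw [Pi.smul_apply, Pi.single_eq_of_ne, smul_zero]
      intro hc
      apply hs
      rw [hc, Function.update_self]
    · intro h'
      exact absurd (Finset.mem_univ _) h'
  · rw [if_neg h]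
    symm
    refine Finset.sum_eq_zero fun s _ => ?_
    rw [Pi.smul_apply, Pi.single_eq_of_ne, smul_zero]
    intro hc
    apply h
    intro j hj
    rw [hc, Function.update_of_ne hj]

theorem prod_update_idx (i : Fin t) (xs : Fin t → Fin k → F) (a : Idx k t) (s : Fin k) :
    ∏ l, xs l (Function.update a i s l) =
      xs i s * ∏ l ∈ Finset.univ.erase i, xs l (a l) := by
  rw [← Finset.mul_prod_erase Finset.univ _ (Finset.mem_univ i), Function.update_self]
  congr 1
  refine Finset.prod_congr rfl fun l hl => ?_
  rw [Function.update_of_ne (Finset.ne_of_mem_erase hl)]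

theorem op_mulVec_pureV (i : Fin t) (N : Matrix (Fin k) (Fin k) F) (xs : Fin t → Fin k → F) :
    op i N *ᵥ pureV xs = pureV (Function.update xs i (N *ᵥ xs i)) := by
  funext a
  rw [Matrix.mulVec, dotProduct]
  have h1 : ∀ d : Idx k t, op i N a d * pureV xs d =
      if (∀ j, j ≠ i → a j = d j) then N (a i) (d i) * pureV xs d else 0 := by
    intro d
    rw [op_apply]
    by_cases h : ∀ j, j ≠ i → a j = d j
    · rw [if_pos h, if_pos h]
    · rw [if_neg h, if_neg h, zero_mul]
  rw [Finset.sum_congr rfl (fun d _ => h1 d), sum_agree' i a]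
  unfold pureV
  rw [← Finset.mul_prod_erase Finset.univ _ (Finset.mem_univ i), Function.update_self,
    Matrix.mulVec, dotProduct, Finset.sum_mul]
  refine Finset.sum_congr rfl fun s _ => ?_
  rw [Function.update_self, prod_update_idx, mul_assoc]
  congr 2
  refine Finset.prod_congr rfl fun l hl => ?_
  rw [Function.update_of_ne (Finset.ne_of_mem_erase hl)]

end op

end Cfsg.Agent.Lib.Helper11.TW
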