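/-
helper11: S5707 module [OP-B] (helper99's project): pure tensors of matrices `ptM` and factor
permutation matrices `pmM`.  Statements verbatim from `notes/helper99_S5707_modules.lean.txt`.
-/
import Mathlib
import Cfsg.Prelude.Def_GeometricClasses
import Cfsg.Agent.Lib.Helper99.TWDefs
import Cfsg.Agent.Lib.Helper11.TWOpA

set_option autoImplicit false

namespace Cfsg.Agent.Lib.Helper11.TW

open Cfsg.Agent.Lib.Helper99.TW Matrix

section op
variable {F : Type*} [Field F] {k t : ℕ}

theorem ptM_apply (gs : Fin t → Matrix (Fin k) (Fin k) F) (a b : Idx k t) :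
    ptM gs a b = ∏ i, gs i (a i) (b i) := rfl

theorem pmM_apply (σ : Equiv.Perm (Fin t)) (a b : Idx k t) :
    (pmM σ : Matrix (Idx k t) (Idx k t) F) a b = if b = a ∘ σ then 1 else 0 := rfl

theorem pureV_apply (xs : Fin t → Fin k → F) (a : Idx k t) :
    pureV xs a = ∏ i, xs i (a i) := rfl

/-! ### [OP-B] -/
theorem ptM_mul (gs gs' : Fin t → Matrix (Fin k) (Fin k) F) :
    ptM gs * ptM gs' = ptM (fun i => gs i * gs' i) := by
  ext a b
  rw [Matrix.mul_apply, ptM_apply]
  simp only [Matrix.mul_apply, ptM_apply]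
  rw [Fintype.prod_sum]
  refine Finset.sum_congr rfl fun d _ => ?_
  rw [Finset.prod_mul_distrib]

theorem ptM_one : ptM (fun _ : Fin t => (1 : Matrix (Fin k) (Fin k) F)) = 1 := by
  ext a b
  rw [ptM_apply]
  by_cases hab : a = b
  · subst hab
    simp
  · rw [Matrix.one_apply_ne hab]
    obtain ⟨i, hi⟩ : ∃ i, a i ≠ b i := by
      by_contra h
      push Not at h
      exact hab (funext h)
    exact Finset.prod_eq_zero (Finset.mem_univ i) (Matrix.one_apply_ne hi)

theorem ptM_transpose (gs : Fin t → Matrix (Fin k) (Fin k) F) :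
    (ptM gs)ᵀ = ptM (fun i => (gs i)ᵀ) := by
  ext a b
  rw [Matrix.transpose_apply, ptM_apply, ptM_apply]
  rfl

theorem ptM_mulVec_pureV (gs : Fin t → Matrix (Fin k) (Fin k) F) (xs : Fin t → Fin k → F) :
    ptM gs *ᵥ pureV xs = pureV (fun i => gs i *ᵥ xs i) := by
  funext a
  rw [Matrix.mulVec, dotProduct, pureV_apply]
  simp only [Matrix.mulVec, dotProduct, ptM_apply, pureV_apply]
  rw [Fintype.prod_sum]
  refine Finset.sum_congr rfl fun d _ => ?_
  rw [Finset.prod_mul_distrib]

theorem ptM_mul_op_apply (gs : Fin t → Matrix (Fin k) (Fin k) F) (i : Fin t)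
    (N : Matrix (Fin k) (Fin k) F) (a b : Idx k t) :
    (ptM gs * op i N) a b =
      (gs i * N) (a i) (b i) * ∏ l ∈ Finset.univ.erase i, gs l (a l) (b l) := by
  rw [Matrix.mul_apply]
  have h1 : ∀ d : Idx k t, ptM gs a d * op i N d b =
      if (∀ j, j ≠ i → d j = b j) then ptM gs a d * N (d i) (b i) else 0 := by
    intro d
    rw [op_apply]
    by_cases h : ∀ j, j ≠ i → d j = b j
    · rw [if_pos h, if_pos h]
    · rw [if_neg h, if_neg h, mul_zero]
  rw [Finset.sum_congr rfl (fun d _ => h1 d), sum_agree i b, Matrix.mul_apply, Finset.sum_mul]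
  refine Finset.sum_congr rfl fun s _ => ?_
  rw [ptM_apply, Function.update_self,
    ← Finset.mul_prod_erase Finset.univ _ (Finset.mem_univ i), Function.update_self]
  have : ∏ l ∈ Finset.univ.erase i, gs l (a l) (Function.update b i s l) =
      ∏ l ∈ Finset.univ.erase i, gs l (a l) (b l) := by
    refine Finset.prod_congr rfl fun l hl => ?_
    rw [Function.update_of_ne (Finset.ne_of_mem_erase hl)]
  rw [this]
  ring

theorem op_mul_ptM_apply (gs : Fin t → Matrix (Fin k) (Fin k) F) (i : Fin t)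
    (N : Matrix (Fin k) (Fin k) F) (a b : Idx k t) :
    (op i N * ptM gs) a b =
      (N * gs i) (a i) (b i) * ∏ l ∈ Finset.univ.erase i, gs l (a l) (b l) := by
  rw [Matrix.mul_apply]
  have h1 : ∀ d : Idx k t, op i N a d * ptM gs d b =
      if (∀ j, j ≠ i → a j = d j) then N (a i) (d i) * ptM gs d b else 0 := by
    intro d
    rw [op_apply]
    by_cases h : ∀ j, j ≠ i → a j = d j
    · rw [if_pos h, if_pos h]
    · rw [if_neg h, if_neg h, zero_mul]
  rw [Finset.sum_congr rfl (fun d _ => h1 d), sum_agree' i a, Matrix.mul_apply, Finset.sum_mul]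
  refine Finset.sum_congr rfl fun s _ => ?_
  rw [ptM_apply, Function.update_self,
    ← Finset.mul_prod_erase Finset.univ _ (Finset.mem_univ i), Function.update_self]
  have : ∏ l ∈ Finset.univ.erase i, gs l (Function.update a i s l) (b l) =
      ∏ l ∈ Finset.univ.erase i, gs l (a l) (b l) := by
    refine Finset.prod_congr rfl fun l hl => ?_
    rw [Function.update_of_ne (Finset.ne_of_mem_erase hl)]
  rw [this]
  ring

theorem ptM_op (gs : Fin t → Matrix (Fin k) (Fin k) F) (i : Fin t)
    (N N' : Matrix (Fin k) (Fin k) F) (h : gs i * N = N' * gs i) :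
    ptM gs * op i N = op i N' * ptM gs := by
  ext a b
  rw [ptM_mul_op_apply, op_mul_ptM_apply, h]

theorem pmM_mul (σ τ : Equiv.Perm (Fin t)) :
    (pmM σ : Matrix (Idx k t) (Idx k t) F) * pmM τ = pmM (σ * τ) := by
  ext a b
  rw [Matrix.mul_apply, Finset.sum_eq_single (a ∘ σ)]
  · rw [pmM_apply, pmM_apply, pmM_apply, if_pos rfl, one_mul]
    rfl
  · intro d _ hd
    rw [pmM_apply, if_neg hd, zero_mul]
  · intro h'
    exact absurd (Finset.mem_univ _) h'

theorem pmM_one : (pmM (1 : Equiv.Perm (Fin t)) : Matrix (Idx k t) (Idx k t) F) = 1 := by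
  ext a b
  rw [pmM_apply, Matrix.one_apply]
  have : (b = a ∘ ⇑(1 : Equiv.Perm (Fin t))) ↔ a = b := by
    rw [Equiv.Perm.coe_one, Function.comp_id]
    exact eq_comm
  by_cases hab : a = b
  · rw [if_pos hab, if_pos (this.2 hab)]
  · rw [if_neg hab, if_neg (fun h' => hab (this.1 h'))]

theorem pmM_mulVec_pureV (σ : Equiv.Perm (Fin t)) (xs : Fin t → Fin k → F) :
    (pmM σ : Matrix (Idx k t) (Idx k t) F) *ᵥ pureV xs = pureV (fun j => xs (σ⁻¹ j)) := by
  funext a
  rw [Matrix.mulVec, dotProduct, Finset.sum_eq_single (a ∘ σ)]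
  · rw [pmM_apply, if_pos rfl, one_mul, pureV_apply, pureV_apply]
    rw [← Equiv.prod_comp σ (fun j => xs (σ⁻¹ j) (a j))]
    refine Finset.prod_congr rfl fun i _ => ?_
    simp
  · intro d _ hd
    rw [pmM_apply, if_neg hd, zero_mul]
  · intro h'
    exact absurd (Finset.mem_univ _) h'

theorem pmM_op (σ : Equiv.Perm (Fin t)) (i : Fin t) (N : Matrix (Fin k) (Fin k) F) :
    (pmM σ : Matrix (Idx k t) (Idx k t) F) * op i N = op (σ i) N * pmM σ := by
  ext a b
  have hL : ((pmM σ : Matrix (Idx k t) (Idx k t) F) * op i N) a b = op i N (a ∘ σ) b := by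
    rw [Matrix.mul_apply, Finset.sum_eq_single (a ∘ σ)]
    · rw [pmM_apply, if_pos rfl, one_mul]
    · intro d _ hd
      rw [pmM_apply, if_neg hd, zero_mul]
    · intro h'
      exact absurd (Finset.mem_univ _) h'
  have hR : (op (σ i) N * (pmM σ : Matrix (Idx k t) (Idx k t) F)) a b =
      op (σ i) N a (b ∘ σ.symm) := by
    rw [Matrix.mul_apply, Finset.sum_eq_single (b ∘ σ.symm)]
    · rw [pmM_apply, if_pos, mul_one]
      funext j
      simp
    · intro d _ hd
      rw [pmM_apply, if_neg, mul_zero]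
      intro hb
      apply hd
      rw [hb]
      funext j
      simp
    · intro h'
      exact absurd (Finset.mem_univ _) h'
  rw [hL, hR, op_apply, op_apply]
  have hiff : (∀ j, j ≠ i → (a ∘ σ) j = b j) ↔ (∀ j, j ≠ σ i → a j = (b ∘ σ.symm) j) := by
    constructor
    · intro h j hj
      have h1 := h (σ.symm j) (by
        intro h2
        apply hj
        rw [← h2, Equiv.apply_symm_apply])
      simpa using h1
    · intro h j hj
      have h1 := h (σ j) (by
        intro h2
        exact hj (σ.injective h2))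
      simpa using h1
  by_cases h : ∀ j, j ≠ i → (a ∘ σ) j = b j
  · rw [if_pos h, if_pos (hiff.1 h)]
    simp
  · rw [if_neg h, if_neg (fun h' => h (hiff.2 h'))]

end op

end Cfsg.Agent.Lib.Helper11.TW
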