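/-
helper11: S3117 module [TI-AUT4] (helper29's project): `Perm U` is solvable for `|U| ≤ 4`; a finite
group without nontrivial elements of odd order is a 2-group.
-/
import Mathlib
import Cfsg.Agent.S0144

set_option autoImplicit false

namespace Cfsg.Agent.Lib.Helper11.ThreeInv

theorem perm_solvable_of_card_le_four {U : Type*} [Finite U] (hU : Nat.card U ≤ 4) :
    Group.IsSolvable (Equiv.Perm U) := by
  obtain ⟨n, hn⟩ : ∃ n, Nat.card U = n := ⟨_, rfl⟩
  rw [hn] at hU
  have hcard : Nat.card (Equiv.Perm U) = n.factorial := by rw [Nat.card_perm, hn]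
  interval_cases n
  · exact Cfsg.Agent.S0144.result 2 3 0 0 Nat.prime_two Nat.prime_three (by rw [hcard]; rfl)
  · exact Cfsg.Agent.S0144.result 2 3 0 0 Nat.prime_two Nat.prime_three (by rw [hcard]; rfl)
  · exact Cfsg.Agent.S0144.result 2 3 1 0 Nat.prime_two Nat.prime_three (by rw [hcard]; rfl)
  · exact Cfsg.Agent.S0144.result 2 3 1 1 Nat.prime_two Nat.prime_three (by rw [hcard]; rfl)
  · exact Cfsg.Agent.S0144.result 2 3 3 1 Nat.prime_two Nat.prime_three (by rw [hcard]; rfl)

theorem isPGroup_two_of_odd_trivial {G : Type*} [Group G] [Finite G]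
    (h : ∀ g : G, Odd (orderOf g) → g = 1) : IsPGroup 2 G := by
  intro g
  have hpos : orderOf g ≠ 0 := (orderOf_pos g).ne'
  obtain ⟨k, m, hm, hkm⟩ := Nat.exists_eq_two_pow_mul_odd hpos
  refine ⟨k, ?_⟩
  apply h
  have hdvd : 2 ^ k ∣ orderOf g := ⟨m, hkm⟩
  rw [orderOf_pow_of_dvd (pow_ne_zero k two_ne_zero) hdvd, hkm,
    Nat.mul_div_cancel_left m (pow_pos two_pos k)]
  exact hm

end Cfsg.Agent.Lib.Helper11.ThreeInv
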