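/-
helper11: S3117 module [TI-GU4] (helper29's project): `|Z(X)/Z(X)²| ≤ 4` for a finite group with at
most three involutions.
-/
import Mathlib
import Cfsg.Agent.Lib.Helper29.ThreeInvGDefs

set_option autoImplicit false

universe u

namespace Cfsg.Agent.Lib.Helper11.ThreeInv

open Cfsg.Agent.Lib.Helper29.ThreeInv

open scoped IsMulCommutative

theorem card_UX_le {X : Type u} [Group X] [Finite X]
    (h4 : Nat.card {x : X // orderOf x = 2} ≤ 3) : Nat.card (UX X) ≤ 4 := by
  classical
  -- `|Z / Z²| = |ker (squaring)|`
  set f : Subgroup.center X →* Subgroup.center X := powMonoidHom 2 with hf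
  have h1 : Nat.card (UX X) = (sqZ X).index := rfl
  have h2 : (sqZ X).index * Nat.card (sqZ X) = Nat.card (Subgroup.center X) :=
    (sqZ X).index_mul_card
  have h3 : Nat.card f.ker * Nat.card f.range = Nat.card (Subgroup.center X) := by
    have e := QuotientGroup.quotientKerEquivRange f
    have hc : Nat.card (Subgroup.center X ⧸ f.ker) = Nat.card f.range := Nat.card_congr e.toEquiv
    rw [← hc, mul_comm]
    have := f.ker.index_mul_card
    rw [Subgroup.index_eq_card] at this
    exact this
  have h4' : Nat.card (sqZ X) = Nat.card f.range := rfl
  have hpos : 0 < Nat.card f.range := Nat.card_pos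
  have h5 : (sqZ X).index = Nat.card f.ker := by
    rw [h4'] at h2
    have : (sqZ X).index * Nat.card f.range = Nat.card f.ker * Nat.card f.range := by
      rw [h2, h3]
    exact Nat.eq_of_mul_eq_mul_right hpos this
  rw [h1, h5]
  -- the kernel injects into `{1} ∪ involutions`
  have hinj : Nat.card f.ker ≤ Nat.card (Option {x : X // orderOf x = 2}) := by
    apply Nat.card_le_card_of_injective
      (fun z : f.ker => if h : orderOf ((z : Subgroup.center X) : X) = 2 then
        some ⟨((z : Subgroup.center X) : X), h⟩ else none)
    intro z w hzw
    have hz : ((z : Subgroup.center X) : X) ^ 2 = 1 := by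
      have := z.2
      rw [MonoidHom.mem_ker] at this
      have h' := congrArg Subtype.val this
      simpa [hf] using h'
    have hw : ((w : Subgroup.center X) : X) ^ 2 = 1 := by
      have := w.2
      rw [MonoidHom.mem_ker] at this
      have h' := congrArg Subtype.val this
      simpa [hf] using h'
    have hz' : orderOf ((z : Subgroup.center X) : X) = 2 ∨ ((z : Subgroup.center X) : X) = 1 := by
      by_cases h1' : ((z : Subgroup.center X) : X) = 1
      · exact Or.inr h1'
      · exact Or.inl (orderOf_eq_prime hz h1')
    have hw' : orderOf ((w : Subgroup.center X) : X) = 2 ∨ ((w : Subgroup.center X) : X) = 1 := by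
      by_cases h1' : ((w : Subgroup.center X) : X) = 1
      · exact Or.inr h1'
      · exact Or.inl (orderOf_eq_prime hw h1')
    apply Subtype.ext
    apply Subtype.ext
    simp only at hzw
    rcases hz' with hz2 | hz1
    · rcases hw' with hw2 | hw1
      · rw [dif_pos hz2, dif_pos hw2] at hzw
        have := Option.some.inj hzw
        exact congrArg (fun y : {x : X // orderOf x = 2} => (y : X)) this
      · rw [dif_pos hz2, dif_neg (by rw [hw1, orderOf_one]; decide)] at hzw
        exact absurd hzw (by simp)
    · rcases hw' with hw2 | hw1
      · rw [dif_neg (by rw [hz1, orderOf_one]; decide), dif_pos hw2] at hzw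
        exact absurd hzw (by simp)
      · rw [hz1, hw1]
  have hopt : Nat.card (Option {x : X // orderOf x = 2}) =
      Nat.card {x : X // orderOf x = 2} + 1 := Finite.card_option
  omega

end Cfsg.Agent.Lib.Helper11.ThreeInv
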