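/-
helper11: S3117 module [TI-KER2] (helper29's project): an odd-order automorphism of a 2-group with central
squares that is trivial on `X/Z(X)` and on `Z(X)/Z(X)²` is trivial.
-/
import Mathlib
import Cfsg.Agent.Lib.Helper29.ThreeInvGDefs
import Cfsg.Agent.Lib.Helper51.GCritical

set_option autoImplicit false

universe u

namespace Cfsg.Agent.Lib.Helper11.ThreeInv

open Cfsg.Agent.Lib.Helper29.ThreeInv

/-- (i): `α` fixes the centre pointwise -/
theorem aut_fix_center {X : Type u} [Group X] [Finite X] (h2 : IsPGroup 2 X) (α : MulAut X)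
    (hodd : Odd (orderOf α)) (hU : rhoU α = 1) :
    ∀ y ∈ Subgroup.center X, α y = y := by
  have : Fact (Nat.Prime 2) := ⟨Nat.prime_two⟩
  have hcop : (orderOf α).Coprime 2 := Nat.coprime_two_right.mpr hodd
  -- squares
  have hsq : ∀ z : Subgroup.center X, ∃ s : Subgroup.center X, s ^ 2 = z⁻¹ * autZ α z := by
    intro z
    have h := rhoU_sigX α z
    rw [hU, Equiv.Perm.one_apply] at h
    exact (sigX_eq_iff z (autZ α z)).mp h
  -- the claim `P i`
  have hP : ∀ k i : ℕ, i + k = Nat.card X → ∀ y ∈ Subgroup.center X, α (y ^ (2 ^ i)) = y ^ (2 ^ i) := by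
    intro k
    induction k with
    | zero =>
      intro i hi y _
      have hy : y ^ (2 ^ i) = 1 := by
        obtain ⟨n, hn⟩ := h2.exists_card_eq
        have h1 : y ^ (2 ^ n) = 1 := by rw [← hn]; exact pow_card_eq_one'
        have hle : n ≤ i := by
          have : n < 2 ^ n := Nat.lt_two_pow_self
          omega
        obtain ⟨d, rfl⟩ := Nat.exists_eq_add_of_le hle
        rw [pow_add, pow_mul, h1, one_pow]
      rw [hy, map_one]
    | succ k ih =>
      intro i hi y hy
      have hnext := ih (i + 1) (by omega)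
      set x := y ^ (2 ^ i) with hx
      apply Cfsg.Agent.Lib.Helper51.aut_fix_of_fix_comm h2 α hcop x
      obtain ⟨s, hs⟩ := hsq ⟨y, hy⟩
      have hs' : (s : X) ^ 2 = y⁻¹ * α y := by
        have := congrArg Subtype.val hs
        simpa [autZ] using this
      have hαy : α y ∈ Subgroup.center X := aut_mem_center α hy
      have hcomm : Commute y⁻¹ (α y) := by
        exact Subgroup.mem_center_iff.mp hαy y⁻¹
      have e : x⁻¹ * α x = (s : X) ^ (2 ^ (i + 1)) := by
        rw [hx, map_pow, ← inv_pow, ← hcomm.mul_pow, ← hs', ← pow_mul, pow_succ']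
      rw [e]
      exact hnext (s : X) s.2
  intro y hy
  have := hP (Nat.card X) 0 (by omega) y hy
  simpa using this

theorem aut_eq_one_of_trivial {X : Type u} [Group X] [Finite X] (h2 : IsPGroup 2 X)
    (h1 : SqCentral X) (α : MulAut X)
    (hodd : Odd (orderOf α)) (hV : rhoV h1 α = 1) (hU : rhoU α = 1) : α = 1 := by
  have : Fact (Nat.Prime 2) := ⟨Nat.prime_two⟩
  have hcop : (orderOf α).Coprime 2 := Nat.coprime_two_right.mpr hodd
  have hZ := aut_fix_center h2 α hodd hU
  apply MulEquiv.ext
  intro x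
  rw [MulAut.one_apply]
  apply Cfsg.Agent.Lib.Helper51.aut_fix_of_fix_comm h2 α hcop x
  apply hZ
  have h := rhoV_piX h1 α x
  rw [hV, Equiv.Perm.one_apply] at h
  exact (piX_eq_iff h1 x (α x)).mp h

end Cfsg.Agent.Lib.Helper11.ThreeInv
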