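import Mathlib
import Cfsg.Agent.Lib.Helper29.ThreeInvGDefs
import Cfsg.Agent.Lib.Helper51.GCritical

/-!
# S3117-[TI-RED] : reduction to a characteristic subgroup with central squares and central involutions
(module for helper29's S3117 project)
-/

set_option autoImplicit false

universe u

namespace Cfsg.Agent.Lib.Helper11.ThreeInv

open Cfsg.Agent.Lib.Helper29.ThreeInv

/-- in a `2`-group with at most three involutions, elements of square one commute. -/
theorem commute_of_sq_eq_one {X : Type u} [Group X] [Finite X] (h2 : IsPGroup 2 X)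
    (h4 : Nat.card {x : X // orderOf x = 2} ≤ 3) {s t : X} (hs : s ^ 2 = 1) (ht : t ^ 2 = 1) :
    s * t = t * s := by
  classical
  by_contra hne
  have hsinv : s⁻¹ = s := by
    rw [inv_eq_iff_mul_eq_one, ← pow_two]; exact hs
  have htinv : t⁻¹ = t := by
    rw [inv_eq_iff_mul_eq_one, ← pow_two]; exact ht
  have hss : s * s = 1 := by rw [← pow_two]; exact hs
  have htt : t * t = 1 := by rw [← pow_two]; exact ht
  have hs1 : s ≠ 1 := by
    rintro rfl; exact hne (by simp)
  have ht1 : t ≠ 1 := by
    rintro rfl; exact hne (by simp)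
  have hst : s ≠ t := by
    rintro rfl; exact hne rfl
  have hos : orderOf s = 2 := orderOf_eq_prime hs hs1
  have hot : orderOf t = 2 := orderOf_eq_prime ht ht1
  have hosts : orderOf (s * t * s) = 2 := by
    have : s * t * s = s * t * s⁻¹ := by rw [hsinv]
    rw [this, ← (SemiconjBy.conj_mk s t).orderOf_eq s]; exact hot
  have hotst : orderOf (t * s * t) = 2 := by
    have : t * s * t = t * s * t⁻¹ := by rw [htinv]
    rw [this, ← (SemiconjBy.conj_mk t s).orderOf_eq t]; exact hos
  -- the six inequalities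
  have h1 : s ≠ s * t * s := by
    intro h
    have : t = s := by
      have h3 : s * (t * s) = s * 1 := by rw [← mul_assoc, mul_one]; exact h.symm
      have h4 := mul_left_cancel h3
      -- t * s = 1
      have : t = s⁻¹ := eq_inv_of_mul_eq_one_left h4
      rw [this, hsinv]
    exact hst this.symm
  have h2' : s ≠ t * s * t := by
    intro h
    apply hne
    -- s * t = t * s * t * t = t * s
    calc s * t = (t * s * t) * t := by rw [← h]
      _ = t * s := by rw [mul_assoc, htt, mul_one]
  have h3 : t ≠ s * t * s := by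
    intro h
    apply hne
    calc s * t = s * (s * t * s) := by rw [← h]
      _ = t * s := by rw [← mul_assoc, ← mul_assoc, hss, one_mul]
  have h5 : t ≠ t * s * t := by
    intro h
    have h3' : t * (s * t) = t * 1 := by rw [← mul_assoc, mul_one]; exact h.symm
    have h4' := mul_left_cancel h3'
    have : s = t⁻¹ := eq_inv_of_mul_eq_one_left h4'
    rw [htinv] at this
    exact hst this
  have h6 : s * t * s ≠ t * s * t := by
    intro h
    have hcube : (s * t) ^ 3 = 1 := by
      calc (s * t) ^ 3 = (s * t * s) * (t * s * t) := by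
            rw [pow_succ, pow_two]; group
        _ = (t * s * t) * (t * s * t) := by rw [h]
        _ = t * s * (t * t) * s * t := by group
        _ = 1 := by rw [htt, mul_one, mul_assoc t s s, hss, mul_one, htt]
    obtain ⟨k, hk⟩ := h2 (s * t)
    have d1 : orderOf (s * t) ∣ 3 := orderOf_dvd_of_pow_eq_one hcube
    have d2 : orderOf (s * t) ∣ 2 ^ k := orderOf_dvd_of_pow_eq_one hk
    have hcop : Nat.Coprime 3 (2 ^ k) := Nat.Coprime.pow_right k (by norm_num)
    have h1' : orderOf (s * t) = 1 := Nat.eq_one_of_dvd_coprimes hcop d1 d2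
    have h1'' : s * t = 1 := orderOf_eq_one_iff.mp h1'
    have : s = t⁻¹ := eq_inv_of_mul_eq_one_left h1''
    rw [htinv] at this
    exact hst this
  -- counting
  have hfin : {x : X | orderOf x = 2}.Finite := Set.toFinite _
  have hsub : ({s, t, s * t * s, t * s * t} : Finset X) ⊆ hfin.toFinset := by
    intro x hx
    simp only [Finset.mem_insert, Finset.mem_singleton] at hx
    rw [Set.Finite.mem_toFinset, Set.mem_ofPred_eq]
    rcases hx with rfl | rfl | rfl | rfl
    · exact hos
    · exact hot
    · exact hosts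
    · exact hotst
  have hcard4 : ({s, t, s * t * s, t * s * t} : Finset X).card = 4 := by
    rw [Finset.card_insert_of_notMem (by
        simp only [Finset.mem_insert, Finset.mem_singleton, not_or]; exact ⟨hst, h1, h2'⟩),
      Finset.card_insert_of_notMem (by
        simp only [Finset.mem_insert, Finset.mem_singleton, not_or]; exact ⟨h3, h5⟩),
      Finset.card_insert_of_notMem (by
        simp only [Finset.mem_singleton]; exact h6), Finset.card_singleton]
  have hle := Finset.card_le_card hsub
  have hcardI : hfin.toFinset.card = Nat.card {x : X // orderOf x = 2} := by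
    rw [← Set.ncard_eq_toFinset_card _ hfin]
    exact (_root_.Nat.card_coe_set_eq _).symm
  omega

theorem exists_char_sqCentral {X : Type u} [Group X] [Finite X] (h2 : IsPGroup 2 X)
    (h4 : Nat.card {x : X // orderOf x = 2} ≤ 3) :
    ∃ C : Subgroup X, (∀ α : MulAut X, ∀ x ∈ C, α x ∈ C) ∧ SqCentral C ∧
      (∀ x : C, x ^ 2 = 1 → x ∈ Subgroup.center C) ∧
      (∀ α : MulAut X, Odd (orderOf α) → (∀ x ∈ C, α x = x) → α = 1) := by
  classical
  have : Fact (Nat.Prime 2) := ⟨Nat.prime_two⟩
  set X₁ : Subgroup X := Subgroup.centralizer {x : X | x ^ 2 = 1} with hX₁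
  have hmemX₁ : ∀ y : X, y ∈ X₁ ↔ ∀ t : X, t ^ 2 = 1 → t * y = y * t := by
    intro y
    rw [hX₁, Subgroup.mem_centralizer_iff]
    rfl
  have hinvolX₁ : ∀ t : X, t ^ 2 = 1 → t ∈ X₁ := by
    intro t ht
    rw [hmemX₁]
    intro s hs
    exact commute_of_sq_eq_one h2 h4 hs ht
  have hX₁inv : ∀ α : MulAut X, ∀ y ∈ X₁, α y ∈ X₁ := by
    intro α y hy
    rw [hmemX₁] at hy ⊢
    intro t ht
    have ht' : (α⁻¹ t) ^ 2 = 1 := by rw [← map_pow, ht, map_one]
    have h := congrArg α (hy _ ht')
    rw [map_mul, map_mul] at h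
    simpa using h
  have hGInv : Cfsg.Agent.Lib.Helper51.GInv (⊤ : Subgroup (MulAut X)) X₁ :=
    fun α _ x hx => hX₁inv α x hx
  obtain ⟨C, hCinv, hCle, _hcomm, hsq, hcent⟩ :=
    Cfsg.Agent.Lib.Helper51.exists_gCritical h2 (G := (⊤ : Subgroup (MulAut X))) le_top X₁ hGInv
  have hCn : C.Normal := Cfsg.Agent.Lib.Helper51.GInv.normal le_top hCinv
  refine ⟨C, fun α x hx => hCinv α (Subgroup.mem_top α) x hx, ?_, ?_, ?_⟩
  · -- squares central
    intro x
    rw [Subgroup.mem_center_iff]
    intro g
    apply Subtype.ext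
    have := (hsq x.1 x.2 g.1 g.2).eq
    simp only [Subgroup.coe_mul, Subgroup.coe_pow]
    exact this.symm
  · -- involutions central
    intro x hx
    rw [Subgroup.mem_center_iff]
    intro g
    apply Subtype.ext
    simp only [Subgroup.coe_mul]
    have hx' : (x : X) ^ 2 = 1 := by
      have := congrArg (Subtype.val) hx
      simpa using this
    have hg : (g : X) ∈ X₁ := hCle g.2
    rw [hmemX₁] at hg
    exact (hg _ hx').symm
  · -- faithfulness
    intro α hodd hfix
    have hcop : (orderOf α).Coprime 2 := Nat.coprime_two_right.mpr hodd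
    -- on X₁
    have hfixX₁ : ∀ g ∈ X₁, α g = g := by
      intro g hg
      have hc1 : g⁻¹ * α g ∈ X₁ := X₁.mul_mem (X₁.inv_mem hg) (hX₁inv α g hg)
      have hc2 : g⁻¹ * α g ∈ Subgroup.centralizer (C : Set X) :=
        Cfsg.Agent.Lib.Helper51.inv_mul_apply_mem_centralizer hCn α hfix g
      have hc : g⁻¹ * α g ∈ C := hcent ⟨hc1, hc2⟩
      exact Cfsg.Agent.Lib.Helper51.aut_fix_of_fix_comm h2 α hcop g (hfix _ hc)
    ext g
    rw [MulAut.one_apply]
    have hc1 : g⁻¹ * α g ∈ X₁ := by
      rw [hmemX₁]
      intro t ht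
      have ht1 : α t = t := hfixX₁ t (hinvolX₁ t ht)
      have hgt : (g * t * g⁻¹) ^ 2 = 1 := by
        rw [pow_two]
        have : g * t * g⁻¹ * (g * t * g⁻¹) = g * (t * t) * g⁻¹ := by group
        rw [this, ← pow_two, ht, mul_one, mul_inv_cancel]
      have h3 : α (g * t * g⁻¹) = g * t * g⁻¹ := hfixX₁ _ (hinvolX₁ _ hgt)
      rw [map_mul, map_mul, ht1, map_inv] at h3
      -- α g * t * (α g)⁻¹ = g * t * g⁻¹
      have h4 : t * (g⁻¹ * α g) = g⁻¹ * (g * t * g⁻¹) * α g := by group
      rw [h4, ← h3]
      group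
    exact Cfsg.Agent.Lib.Helper51.aut_fix_of_fix_comm h2 α hcop g (hfixX₁ _ hc1)

end Cfsg.Agent.Lib.Helper11.ThreeInv
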