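/-
helper11 library (module S2279-[END] of helper53's project S2279): a subgroup of `SL_{m+4}(F)` containing the
Jordan block `J` and all the root elements `1 + s • e_last (e₀ J^w)ᵀ` (`w ≤ m + 2`) is everything.
-/
import Mathlib
import Cfsg.Agent.Lib.Helper39.RankOne
import Cfsg.Agent.Lib.Helper39.JordanMat
import Cfsg.Agent.Lib.Helper39.JordanGen
import Cfsg.Agent.Lib.Helper5.SLGen
import Cfsg.Agent.Lib.Helper53.TwoReg.Defs
import Cfsg.Agent.Lib.Helper53.TwoReg.Mats1

set_option autoImplicit false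
set_option linter.unusedSectionVars false

namespace Cfsg.Agent.Lib.Helper11.TwoRegEnd

open Matrix Cfsg.Agent.Lib.Helper39.RankOne Cfsg.Agent.Lib.Helper39.JordanMat
  Cfsg.Agent.Lib.Helper39.JordanGen Cfsg.Agent.Lib.Helper53.TwoReg

variable {F : Type*} [Field F]

/-- row `j` of `Jmat` (`j` not the last index) -/
theorem single_vecMul_Jmat_succ {n : ℕ} (j j' : Fin n) (hj : j'.val = j.val + 1) :
    Pi.single j (1 : F) ᵥ* (Jmat n : Matrix (Fin n) (Fin n) F) = Pi.single j 1 + Pi.single j' 1 := by
  ext k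
  rw [Matrix.single_one_vecMul]
  simp only [Matrix.row_apply, Jmat_apply, Pi.add_apply, Pi.single_apply]
  by_cases h1 : k = j
  · subst h1
    have h2 : ¬ k = j' := fun h => by rw [← h] at hj; omega
    simp [h2]
  · have h1' : ¬ j = k := fun h => h1 h.symm
    by_cases h2 : k = j'
    · subst h2
      simp [h1, h1', hj]
    · have h3 : ¬ k.val = j.val + 1 := fun h => h2 (Fin.ext (by omega))
      simp [h1, h1', h2, h3]

theorem xw_apply (m w : ℕ) (i : Fin (m + 4)) :
    ((Jmat (m + 4) : Matrix (Fin (m + 4)) (Fin (m + 4)) F) ^ w *ᵥ eLast m) i =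
      ((w.choose (m + 3 - i.val) : ℕ) : F) := by
  unfold eLast
  rw [Matrix.mulVec_single_one, Matrix.col_apply, Jmat_pow_apply]
  have h : i.val ≤ (Fin.last (m + 3)).val := by
    have := i.isLt
    simp only [Fin.val_last]
    omega
  rw [if_pos h]
  simp only [Fin.val_last]

theorem InH_pow {n : ℕ} {H : Subgroup (SpecialLinearGroup (Fin n) F)} {M : Matrix (Fin n) (Fin n) F}
    (h : InH H M) (k : ℕ) : InH H (M ^ k) := by
  induction k with
  | zero => rw [pow_zero]; exact InH.one H
  | succ k ih => rw [pow_succ]; exact ih.mul h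

section main

variable (m : ℕ) (H : Subgroup (SpecialLinearGroup (Fin (m + 4)) F))
  (hJ : InH H (Jmat (m + 4) : Matrix (Fin (m + 4)) (Fin (m + 4)) F))
  (hall : ∀ w, w + 2 ≤ m + 4 → ∀ s : F, InH H (tv (s • avec m 0) (acov m w)))

include hJ hall

theorem A_step (w : ℕ) (hw : w + 2 ≤ m + 4) (s : F) :
    InH H (tv (s • ((Jmat (m + 4) : Matrix (Fin (m + 4)) (Fin (m + 4)) F) ^ w *ᵥ eLast m)) (eZero m)) := by
  have hdet : IsUnit ((Jmat (m + 4) : Matrix (Fin (m + 4)) (Fin (m + 4)) F) ^ w).det := by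
    rw [Matrix.det_pow, det_Jmat, one_pow]; exact isUnit_one
  have hGG' := Matrix.mul_nonsing_inv _ hdet
  have h := (InH_pow hJ w).conj hGG' (hall w hw s)
  have e1 : (avec m 0 : Fin (m + 4) → F) = eLast m := by
    unfold avec; rw [pow_zero, Matrix.one_mulVec]
  have e2 : (acov m w : Fin (m + 4) → F) ᵥ*
      ((Jmat (m + 4) : Matrix (Fin (m + 4)) (Fin (m + 4)) F) ^ w)⁻¹ = eZero m := by
    unfold acov; rw [Matrix.vecMul_vecMul, hGG', Matrix.vecMul_one]
  rw [e1, e2, Matrix.mulVec_smul] at h
  exact h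

theorem B_all : ∀ w, w + 2 ≤ m + 4 → ∀ x : Fin (m + 4) → F,
    (∀ i : Fin (m + 4), i.val + w < m + 3 → x i = 0) → InH H (tv x (eZero m)) := by
  intro w
  induction w with
  | zero =>
    intro hw x hx
    have hx' : x = x (Fin.last (m + 3)) •
        ((Jmat (m + 4) : Matrix (Fin (m + 4)) (Fin (m + 4)) F) ^ 0 *ᵥ eLast m) := by
      rw [pow_zero, Matrix.one_mulVec]
      ext i
      unfold eLast
      rw [Pi.smul_apply, smul_eq_mul, Pi.single_apply]
      by_cases hi : i = Fin.last (m + 3)
      · rw [if_pos hi, mul_one, hi]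
      · rw [if_neg hi, mul_zero]
        apply hx
        have : i.val ≠ m + 3 := fun h => hi (Fin.ext (by simpa using h))
        have := i.isLt
        omega
    rw [hx']
    exact A_step m H hJ hall 0 hw _
  | succ w ih =>
    intro hw x hx
    have hr : m + 2 - w < m + 4 := by omega
    set r : Fin (m + 4) := ⟨m + 2 - w, hr⟩ with hrdef
    set xw : Fin (m + 4) → F :=
      (Jmat (m + 4) : Matrix (Fin (m + 4)) (Fin (m + 4)) F) ^ (w + 1) *ᵥ eLast m with hxw
    have hxr : xw r = 1 := by
      rw [hxw, xw_apply]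
      have : m + 3 - r.val = w + 1 := by simp only [hrdef]; omega
      rw [this, Nat.choose_self, Nat.cast_one]
    have hx0 : xw 0 = 0 := by
      rw [hxw, xw_apply]
      have : w + 1 < m + 3 - (0 : Fin (m + 4)).val := by simp only [Fin.val_zero]; omega
      rw [Nat.choose_eq_zero_of_lt this, Nat.cast_zero]
    set y : Fin (m + 4) → F := x - x r • xw with hy
    have hy0 : ∀ i : Fin (m + 4), i.val + w < m + 3 → y i = 0 := by
      intro i hi
      by_cases hir : i = r
      · rw [hir, hy, Pi.sub_apply, Pi.smul_apply, smul_eq_mul, hxr, mul_one, sub_self]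
      · have hne : i.val ≠ m + 2 - w := fun h => hir (Fin.ext (by simpa [hrdef] using h))
        have hlt : i.val + (w + 1) < m + 3 := by omega
        have hxi : xw i = 0 := by
          rw [hxw, xw_apply]
          have : w + 1 < m + 3 - i.val := by omega
          rw [Nat.choose_eq_zero_of_lt this, Nat.cast_zero]
        rw [hy, Pi.sub_apply, Pi.smul_apply, smul_eq_mul, hxi, mul_zero, sub_zero]
        exact hx i hlt
    have h1 := ih (by omega) y hy0
    have h2 := A_step m H hJ hall (w + 1) hw (x r)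
    have h3 := h1.mul h2
    have hz : (eZero m : Fin (m + 4) → F) ⬝ᵥ (x r • xw) = 0 := by
      unfold eZero
      rw [single_one_dot, Pi.smul_apply, hx0, smul_zero]
    rw [tv_mul_tv _ _ _ hz] at h3
    have : y + x r • xw = x := by rw [hy]; abel
    rwa [this] at h3

theorem P_zero (x : Fin (m + 4) → F) (hx : x 0 = 0) : InH H (tv x (Pi.single (0 : Fin (m + 4)) 1)) := by
  have := B_all m H hJ hall (m + 2) (by omega) x (by
    intro i hi
    have : i = 0 := Fin.ext (by simp only [Fin.val_zero]; omega)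
    rw [this]; exact hx)
  exact this

theorem P_all (j : Fin (m + 4)) (a : Fin (m + 4) → F) (ha : a j = 0) : InH H (tv a (Pi.single j 1)) := by
  have hJJ' : (Jmat (m + 4) : Matrix (Fin (m + 4)) (Fin (m + 4)) F) * (Jmat (m + 4))⁻¹ = 1 :=
    Matrix.mul_nonsing_inv _ (by rw [det_Jmat]; exact isUnit_one)
  have hJ'J : (Jmat (m + 4) : Matrix (Fin (m + 4)) (Fin (m + 4)) F)⁻¹ * Jmat (m + 4) = 1 :=
    Matrix.nonsing_inv_mul _ (by rw [det_Jmat]; exact isUnit_one)
  have hJ' : InH H ((Jmat (m + 4) : Matrix (Fin (m + 4)) (Fin (m + 4)) F)⁻¹) := hJ.of_mul_eq_one hJJ'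
  have main : ∀ k : ℕ, ∀ j : Fin (m + 4), j.val = k → ∀ a : Fin (m + 4) → F, a j = 0 →
      InH H (tv a (Pi.single j 1)) := by
    intro k
    induction k with
    | zero =>
      intro j hj a ha
      have : j = 0 := Fin.ext (by simpa using hj)
      subst this
      exact P_zero m H hJ hall a ha
    | succ k ih =>
      intro j' hj' a ha
      have hkn : k < m + 4 := by have := j'.isLt; omega
      set j : Fin (m + 4) := ⟨k, hkn⟩ with hjdef
      have hjj' : j ≠ j' := by intro h; have := congrArg Fin.val h; simp [hjdef] at this; omega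
      have ihP := ih j rfl
      set δ : Fin (m + 4) → F := Pi.single j 1 + Pi.single j' 1 with hδ
      have hrow : Pi.single j (1 : F) ᵥ* (Jmat (m + 4) : Matrix (Fin (m + 4)) (Fin (m + 4)) F) = δ :=
        single_vecMul_Jmat_succ j j' (by simpa [hjdef] using hj')
      -- (i) the transvection group with covector δ
      have hPδ : ∀ b : Fin (m + 4) → F, δ ⬝ᵥ b = 0 → InH H (tv b δ) := by
        intro b hb
        have h0 : ((Jmat (m + 4) : Matrix (Fin (m + 4)) (Fin (m + 4)) F) *ᵥ b) j = 0 := by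
          rw [← single_one_dot j ((Jmat (m + 4) : Matrix (Fin (m + 4)) (Fin (m + 4)) F) *ᵥ b),
            Matrix.dotProduct_mulVec, hrow, hb]
        have h1 := ihP _ h0
        have h2 := hJ'.conj hJ'J h1
        rwa [Matrix.mulVec_mulVec, hJ'J, Matrix.one_mulVec, hrow] at h2
      -- (ii) move δ to e_j'
      set w : Fin (m + 4) → F := Pi.single j' 1 with hw
      have hwj : w j = 0 := Pi.single_eq_of_ne hjj' _
      have hwj' : w j' = 1 := Pi.single_eq_same _ _
      have hjw : Pi.single j (1 : F) ⬝ᵥ w = 0 := by rw [single_one_dot, hwj]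
      have hg : InH H (tv w (Pi.single j 1)) := ihP w hwj
      have hgg : tv w (Pi.single j (1 : F)) * tv (-w) (Pi.single j 1) = 1 := tv_mul_tv_neg _ _ hjw
      have hδw : δ ⬝ᵥ w = 1 := by
        rw [hδ, add_dotProduct, single_one_dot, hwj, single_one_dot, hwj', zero_add]
      have hδtv : δ ᵥ* tv (-w) (Pi.single j 1) = Pi.single j' 1 := by
        rw [vecMul_tv, dotProduct_neg, hδw, hδ]
        ext i
        simp only [Pi.add_apply, Pi.smul_apply, smul_eq_mul]
        ring
      set b' : Fin (m + 4) → F := tv (-w) (Pi.single j 1) *ᵥ a with hb'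
      have hb'eq : b' = a + (a j) • (-w) := by rw [hb', tv_mulVec, single_one_dot]
      have hδb' : δ ⬝ᵥ b' = 0 := by
        rw [hb'eq, hδ, add_dotProduct, single_one_dot, single_one_dot]
        simp only [Pi.add_apply, Pi.smul_apply, Pi.neg_apply, smul_eq_mul, hwj, hwj', ha]
        ring
      have h3 := hPδ b' hδb'
      have h4 := hg.conj hgg h3
      rwa [hδtv, hb', Matrix.mulVec_mulVec, hgg, Matrix.one_mulVec] at h4
  exact main j.val j rfl a ha

/-- module S2279-[END] -/
theorem eq_top_of_all' : H = ⊤ := by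
  have hD := P_all m H hJ hall
  rw [eq_top_iff, ← Cfsg.Agent.Lib.Helper5.closure_transvection_eq_top, Subgroup.closure_le]
  rintro g ⟨i, j, hij, c, rfl⟩
  apply InH.mem
  rw [SpecialLinearGroup.transvection_coe, one_add_single_eq_tv]
  exact hD j _ (Pi.single_eq_of_ne (Ne.symm hij) _)

end main

/-- module S2279-[END], exact statement of helper53's sheet -/
theorem eq_top_of_all {F : Type*} [Field F] (m : ℕ) (H : Subgroup (SpecialLinearGroup (Fin (m + 4)) F))
    (hJ : InH H (Jmat (m + 4) : Matrix (Fin (m + 4)) (Fin (m + 4)) F))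
    (hall : ∀ w, w + 2 ≤ m + 4 → ∀ s : F, InH H (tv (s • avec m 0) (acov m w))) : H = ⊤ :=
  eq_top_of_all' m H hJ hall

end Cfsg.Agent.Lib.Helper11.TwoRegEnd
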