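/-
helper11 library (module UDEC-[C2N] of helper94's project UDEC = S5655 part 2, `_of` form): all isotropic vectors of
the sum of two members, from the sums of two isotropic vectors.  The statement of [EX8] `ex_split` is a hypothesis.
-/
import Mathlib
import Cfsg.Agent.Lib.Helper94.UDec.Core

set_option autoImplicit false
set_option linter.unusedSectionVars false
set_option linter.unusedVariables false

namespace Cfsg.Agent.Lib.Helper11.UDec

open Cfsg.Agent.Lib.Helper94 Cfsg.Agent.Lib.Helper94.SympData Cfsg.Agent.Lib.Helper94.UDec Module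

variable {K V : Type*} [Field K] [AddCommGroup V] [Module K V] [FiniteDimensional K V]
variable {σ : K →+* K} {h : V → V → K}
variable {t k : ℕ} {D : Fin t → Submodule K V}

/-- [C2N] with the statement of [EX8] as a hypothesis -/
theorem pair_all_of (C : UCtx σ h k D) {M : Subgroup (V ≃ₗ[K] V)}
    (hsplit : ∀ W : Submodule K V, NdOn h W → 2 ≤ finrank K W → ∀ v ∈ W, h v v ≠ 0 → ∀ ξ : K,
      ∃ e ∈ W, ∃ f ∈ W, h e e = 0 ∧ h f f = 0 ∧ e + f = v ∧ h e f ≠ ξ)
    (hMU : M ≤ UG h) (hHM : HG h D ≤ M)
    {a b : Fin t} (hab : a ≠ b)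
    (hI : ∀ u ∈ D a, ∀ v ∈ D b, h u u = 0 → h v v = 0 → u + v ∈ UXa C.herm M)
    {u v : V} (hu : u ∈ D a) (hv : v ∈ D b) (huv : h (u + v) (u + v) = 0) :
    u + v ∈ UXa C.herm M := by
  have huv0 : h u v = 0 := C.orth a b hab u hu v hv
  have hvu0 : h v u = 0 := C.orth b a hab.symm v hv u hu
  have hN : h u u + h v v = 0 := by
    rw [C.herm.add_left, C.herm.add_right, C.herm.add_right, huv0, hvu0] at huv
    linear_combination huv
  by_cases huu : h u u = 0
  · have hvv : h v v = 0 := by rw [huu, zero_add] at hN; exact hN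
    exact hI u hu v hv huu hvv
  · have hvv : h v v ≠ 0 := by
      intro h0; rw [h0, add_zero] at hN; exact huu hN
    have hka : 2 ≤ finrank K (D a) := by rw [C.ld.finrank_eq]; exact C.two_le
    have hkb : 2 ≤ finrank K (D b) := by rw [C.ld.finrank_eq]; exact C.two_le
    obtain ⟨e, he, f, hf, hee, hff, hefu, -⟩ := hsplit (D a) (C.nd a) hka u hu huu 0
    obtain ⟨e', he', f', hf', hee', hff', hefv, hne⟩ :=
      hsplit (D b) (C.nd b) hkb v hv hvv (-(h e f))
    have hp : e + e' ∈ UXa C.herm M := hI e he e' he' hee hee'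
    have hp' : f + f' ∈ UXa C.herm M := hI f hf f' hf' hff hff'
    have hpp' : h (e + e') (f + f') ≠ 0 := by
      rw [C.herm.add_left, C.herm.add_right, C.herm.add_right, C.orth a b hab e he f' hf',
        C.orth b a hab.symm e' he' f hf]
      intro h0
      apply hne
      linear_combination h0
    have hsum : (e + e') + (f + f') = u + v := by
      rw [← hefu, ← hefv]; abel
    have := C.uxa_add hMU hp hp' hpp' (by rw [hsum]; exact huv)
    rwa [hsum] at this

end Cfsg.Agent.Lib.Helper11.UDec
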