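/-
helper11 library (hedge of module UDEC-[EX8] of helper94's project UDEC = S5655 part 2): a non-isotropic vector of a
non-degenerate subspace `W` is a sum of two isotropic vectors of `W` whose product avoids a given value.
Also the exact form of [C2N] `pair_all`.
-/
import Mathlib
import Cfsg.Agent.Lib.Helper94.UDec.Core
import Cfsg.Agent.Lib.Helper94.UDec.Ex0
import Cfsg.Agent.Lib.Helper11.UDecC2NOf

set_option autoImplicit false
set_option linter.unusedSectionVars false
set_option linter.unusedVariables false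
set_option linter.unusedSimpArgs false

namespace Cfsg.Agent.Lib.Helper11.UDec

open Cfsg.Agent.Lib.Helper94 Cfsg.Agent.Lib.Helper94.SympData Cfsg.Agent.Lib.Helper94.UDec Module

variable {K V : Type*} [Field K] [AddCommGroup V] [Module K V] [FiniteDimensional K V]
variable {σ : K →+* K} {h : V → V → K}

section EX
variable (F : FCtx σ h) {W : Submodule K V} (hW : NdOn h W)
include F hW

/-- [EX8] a non-isotropic vector of `W` is a sum of two isotropic vectors of `W` whose product
avoids a given value -/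
theorem ex_split (hk : 2 ≤ finrank K W) {v : V} (hv : v ∈ W) (hvv : h v v ≠ 0) (ξ : K) :
    ∃ e ∈ W, ∃ f ∈ W, h e e = 0 ∧ h f f = 0 ∧ e + f = v ∧ h e f ≠ ξ := by
  have hH := F.herm
  set α : K := h v v with hα
  have hσα : σ α = α := σ_norm hH v
  -- `w ∈ v^⊥ ∩ W` with `N w = -α`
  obtain ⟨W', hW'W, hW'nd, hW'perp, hW'rk, -⟩ := ex_perp_aniso F hW hv hvv
  obtain ⟨d, hdW', hdd⟩ := ex_aniso F hW'nd (by omega)
  have hσd : σ (h d d) = h d d := σ_norm hH d
  obtain ⟨l, hl⟩ := F.nm_surj (-α / h d d) (by rw [map_div₀, map_neg, hσα, hσd])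
  set w : V := l • d with hw
  have hwW : w ∈ W := W.smul_mem _ (hW'W hdW')
  have hww : h w w = -α := by
    rw [hw, hH.smul_left, hH.smul_right]
    have : l * (σ l * h d d) = (l * σ l) * h d d := by ring
    rw [this, hl]
    field_simp
  have hwv : h w v = 0 := by rw [hw, hH.smul_left, hW'perp d hdW', mul_zero]
  have hvw : h v w = 0 := by rw [hH.conj w v, hwv, map_zero]
  -- `s` with `s + σ s = 1` and `α s ≠ ξ`
  obtain ⟨s₀, hs₀⟩ := F.tr_surj 1 (map_one σ)
  obtain ⟨c, hc0, hc⟩ := F.tz
  obtain ⟨s, hs, hsξ⟩ : ∃ s : K, s + σ s = 1 ∧ α * s ≠ ξ := by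
    by_cases h1 : α * s₀ = ξ
    · refine ⟨s₀ + c, by rw [map_add]; linear_combination hs₀ + hc, ?_⟩
      intro h2
      have : α * c = 0 := by linear_combination h2 - h1
      rcases mul_eq_zero.mp this with h3 | h3
      · exact hvv h3
      · exact hc0 h3
    · exact ⟨s₀, hs₀, h1⟩
  have hσs : σ s = 1 - s := by linear_combination hs
  refine ⟨s • v + s • w, W.add_mem (W.smul_mem _ hv) (W.smul_mem _ hwW),
    (1 - s) • v - s • w, W.sub_mem (W.smul_mem _ hv) (W.smul_mem _ hwW), ?_, ?_, ?_, ?_⟩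
  · simp only [hH.add_left, hH.add_right, hH.smul_left, hH.smul_right, hvw, hwv, hww, mul_zero, add_zero,
      zero_add]
    rw [← hα]
    ring
  · simp only [h_sub_left hH, h_sub_right hH, hH.smul_left, hH.smul_right, hvw, hwv, hww, mul_zero,
      sub_zero, zero_sub, map_sub, map_one]
    rw [← hα, hσs]
    ring
  · module
  · simp only [hH.add_left, h_sub_right hH, hH.smul_left, hH.smul_right, hvw, hwv, hww, mul_zero,
      sub_zero, zero_sub, map_sub, map_one]
    rw [← hα, hσs]
    intro h2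
    apply hsξ
    linear_combination h2

end EX

/-! ### the exact form of [C2N] -/

variable {t k : ℕ} {D : Fin t → Submodule K V}

/-- [C2N] all isotropic vectors of the sum of the two members -/
theorem pair_all (C : UCtx σ h k D) {M : Subgroup (V ≃ₗ[K] V)} (hMU : M ≤ UG h) (hHM : HG h D ≤ M)
    {a b : Fin t} (hab : a ≠ b)
    (hI : ∀ u ∈ D a, ∀ v ∈ D b, h u u = 0 → h v v = 0 → u + v ∈ UXa C.herm M)
    {u v : V} (hu : u ∈ D a) (hv : v ∈ D b) (huv : h (u + v) (u + v) = 0) :
    u + v ∈ UXa C.herm M :=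
  pair_all_of C (fun W hW hk v hv hvv ξ => ex_split C.toFCtx hW hk hv hvv ξ) hMU hHM hab hI hu hv huv

end Cfsg.Agent.Lib.Helper11.UDec
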