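/-
helper11 library (module UDEC-[SG] of helper94's project UDEC = S5655 part 2): Siegel elements of the unitary group.
-/
import Mathlib
import Cfsg.Agent.Lib.Helper94.UDec.Core

set_option autoImplicit false
set_option linter.unusedSectionVars false
set_option linter.unusedVariables false
set_option linter.unusedSimpArgs false

namespace Cfsg.Agent.Lib.Helper11.UDec

open Cfsg.Agent.Lib.Helper94 Cfsg.Agent.Lib.Helper94.SympData Cfsg.Agent.Lib.Helper94.UDec Module

variable {K V : Type*} [Field K] [AddCommGroup V] [Module K V] [FiniteDimensional K V]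
variable {σ : K →+* K} {h : V → V → K}

/-- [SG] Siegel elements -/
theorem ex_siegel (F : FCtx σ h) {z u : V} (hzz : h z z = 0) (huz : h u z = 0) {β : K}
    (hβ : β + σ β + h u u = 0) :
    ∃ g : V ≃ₗ[K] V, g ∈ UG h ∧ LinearEquiv.det g = 1 ∧
      ∀ x, g x = x + h x z • (u + β • z) - h x u • z := by
  have hH := F.herm
  have hzu : h z u = 0 := by rw [hH.conj u z, huz, map_zero]
  -- the two transvections
  have h2 : hH.hfun z (u + (β + h u u) • z) = 0 := by
    rw [HermData.hfun_apply, hH.add_left, hH.smul_left, huz, hzz, mul_zero, add_zero]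
  have h1 : (-(hH.hfun u)) z = 0 := by
    rw [LinearMap.neg_apply, HermData.hfun_apply, hzu, neg_zero]
  set T₂ : V ≃ₗ[K] V := LinearEquiv.transvection (f := hH.hfun z) (v := u + (β + h u u) • z) h2 with hT₂
  set T₁ : V ≃ₗ[K] V := LinearEquiv.transvection (f := -(hH.hfun u)) (v := z) h1 with hT₁
  have happ : ∀ x, (T₁ * T₂) x = x + h x z • (u + β • z) - h x u • z := by
    intro x
    rw [LinearEquiv.mul_apply, hT₁, hT₂]
    simp only [LinearEquiv.transvection.apply, LinearMap.neg_apply, HermData.hfun_apply, map_add, map_smul,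
      hH.add_left, hH.smul_left, hzu, mul_zero, add_zero, smul_eq_mul]
    module
  refine ⟨T₁ * T₂, ?_, ?_, happ⟩
  · -- unitarity
    intro x y
    rw [happ, happ]
    have hzy : h z y = σ (h y z) := hH.conj y z
    have huy : h u y = σ (h y u) := hH.conj y u
    simp only [h_sub_left hH, h_sub_right hH, hH.add_left, hH.add_right, hH.smul_left, hH.smul_right,
      hzz, huz, hzu, mul_zero, add_zero, zero_add, sub_zero, map_add, map_mul]
    rw [hzy, huy]
    have hσσ : ∀ a, σ (σ a) = a := F.invol
    linear_combination (h x z * σ (h y z)) * hβ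
  · -- determinant
    rw [map_mul, hT₁, hT₂, LinearEquiv.transvection.det_eq_one, LinearEquiv.transvection.det_eq_one, one_mul]

end Cfsg.Agent.Lib.Helper11.UDec
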