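import Mathlib
import Cfsg.Agent.Lib.Helper12.W2pDefs

/-!
# Wielandt degree `2p` project (S0720), module [IIC] (helper11)

In case (II) with `d > 2` the even part `G ⊓ Alt(α)` of `G` is still primitive.
-/

set_option autoImplicit false

namespace Cfsg.Agent.Lib.Helper11.W2p

open Equiv.Perm MulAction
open scoped Pointwise
open Cfsg.Agent.Lib.Helper12.W2p

variable {α : Type*} [Fintype α] [DecidableEq α] {p : ℕ}

/-- a permutation of odd order is even -/
theorem sign_eq_one_of_odd_orderOf (σ : Equiv.Perm α) (h : Odd (orderOf σ)) : Equiv.Perm.sign σ = 1 := by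
  have h1 : Equiv.Perm.sign σ ^ orderOf σ = 1 := by
    rw [← map_pow, pow_orderOf_eq_one, map_one]
  rcases Int.units_eq_one_or (Equiv.Perm.sign σ) with h2 | h2
  · exact h2
  · rw [h2, h.neg_one_pow] at h1
    exact absurd h1 (by decide)

/-- every `G`-translate of `B` is a `G⁺`-translate, if `τ B` is one and `τ` is odd. -/
theorem exists_even_smul_eq (G : Subgroup (Equiv.Perm α)) (B : Set α) (τ : Equiv.Perm α) (hτG : τ ∈ G)
    (hsign : Equiv.Perm.sign τ = -1) (g₀ : Equiv.Perm α) (hg₀ : g₀ ∈ G ⊓ alternatingGroup α)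
    (hτB : τ • B = g₀ • B) (g : Equiv.Perm α) (hg : g ∈ G) :
    ∃ g' : Equiv.Perm α, g' ∈ G ⊓ alternatingGroup α ∧ g • B = g' • B := by
  rcases Int.units_eq_one_or (Equiv.Perm.sign g) with h1 | h1
  · exact ⟨g, Subgroup.mem_inf.mpr ⟨hg, mem_alternatingGroup.mpr h1⟩, rfl⟩
  · have hg₀' := Subgroup.mem_inf.mp hg₀
    refine ⟨g * τ⁻¹ * g₀, Subgroup.mem_inf.mpr ⟨mul_mem (mul_mem hg (inv_mem hτG)) hg₀'.1, ?_⟩, ?_⟩
    · rw [mem_alternatingGroup, map_mul, map_mul, map_inv, h1, hsign, mem_alternatingGroup.mp hg₀'.2]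
      decide
    · rw [mul_smul, ← hτB, mul_smul, inv_smul_smul]

theorem isBlock_of_even_isBlock (G : Subgroup (Equiv.Perm α)) (B : Set α)
    (hB : IsBlock ↥(G ⊓ alternatingGroup α) B) (τ : Equiv.Perm α) (hτG : τ ∈ G)
    (hsign : Equiv.Perm.sign τ = -1) (g₀ : Equiv.Perm α) (hg₀ : g₀ ∈ G ⊓ alternatingGroup α)
    (hτB : τ • B = g₀ • B) : IsBlock ↥G B := by
  intro g₁ g₂ hne
  obtain ⟨g₁', hg₁', h1⟩ := exists_even_smul_eq G B τ hτG hsign g₀ hg₀ hτB g₁.1 g₁.2
  obtain ⟨g₂', hg₂', h2⟩ := exists_even_smul_eq G B τ hτG hsign g₀ hg₀ hτB g₂.1 g₂.2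
  have e1 : g₁ • B = (⟨g₁', hg₁'⟩ : ↥(G ⊓ alternatingGroup α)) • B := h1
  have e2 : g₂ • B = (⟨g₂', hg₂'⟩ : ↥(G ⊓ alternatingGroup α)) • B := h2
  rw [e1, e2] at hne ⊢
  exact hB hne

/-- `G⁺` is transitive if `G` is primitive and some even element of `G` moves a point. -/
theorem even_isPretransitive (G : Subgroup (Equiv.Perm α)) (hprim : MulAction.IsPreprimitive G α)
    (π : Equiv.Perm α) (hπG : π ∈ G) (hπs : Equiv.Perm.sign π = 1) (a : α) (hπa : π a ≠ a) :
    MulAction.IsPretransitive ↥(G ⊓ alternatingGroup α) α := by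
  set N : Subgroup ↥G := (alternatingGroup α).subgroupOf G with hN
  haveI : N.Normal := Subgroup.Normal.subgroupOf inferInstance G
  have hblk : IsBlock ↥G (orbit ↥N a) := IsBlock.orbit_of_normal a
  have htriv := hprim.isTrivialBlock_of_isBlock hblk
  have horb : orbit ↥N a = Set.univ := by
    rcases htriv with hs | hu
    · exfalso
      have h1 : a ∈ orbit ↥N a := mem_orbit_self a
      have h2 : π a ∈ orbit ↥N a :=
        ⟨⟨⟨π, hπG⟩, Subgroup.mem_subgroupOf.mpr (mem_alternatingGroup.mpr hπs)⟩, rfl⟩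
      exact hπa (hs h2 h1)
    · exact hu
  rw [isPretransitive_iff_base a]
  intro y
  have hy : y ∈ orbit ↥N a := by rw [horb]; trivial
  obtain ⟨n, hn⟩ := hy
  exact ⟨⟨n.1.1, Subgroup.mem_inf.mpr ⟨n.1.2, Subgroup.mem_subgroupOf.mp n.2⟩⟩, hn⟩

theorem eq_compl_of_disjoint_of_ncard (hα : Fintype.card α = 2 * p) (B X : Set α) (hB : B.ncard = p)
    (hX : X.ncard = p) (hd : Disjoint X B) : X = Bᶜ := by
  apply Set.eq_of_subset_of_ncard_le hd.subset_compl_right _ (Set.toFinite _)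
  have h1 : B.ncard + Bᶜ.ncard = Nat.card α := Set.ncard_add_ncard_compl B
  rw [Nat.card_eq_fintype_card, hα] at h1
  omega

/-- blocks of size two through `a₁` -/
theorem isBlock_of_ncard_two {G : Subgroup (Equiv.Perm α)} (τ : ↥G)
    (hsign : Equiv.Perm.sign (τ : Equiv.Perm α) = -1) (a₁ : α)
    (hfix : ∀ x : α, (τ ^ 2) • x = x ↔ (x = a₁ ∨ x = τ • a₁))
    (B : Set α) (ha₁B : a₁ ∈ B) (hB : IsBlock ↥(G ⊓ alternatingGroup α) B) (hcard : B.ncard = 2) :
    IsBlock ↥G B := by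
  set τ' : Equiv.Perm α := (τ : Equiv.Perm α) with hτ'
  have hfix' : ∀ x : α, (τ' ^ 2) x = x ↔ (x = a₁ ∨ x = τ' a₁) := hfix
  obtain ⟨γ, hγ, hBγ⟩ : ∃ γ, γ ≠ a₁ ∧ B = {a₁, γ} := by
    obtain ⟨x, y, hxy, hBxy⟩ := Set.ncard_eq_two.mp hcard
    rw [hBxy] at ha₁B
    rcases ha₁B with h | h
    · exact ⟨y, fun hy => hxy (by rw [← h, hy]), by rw [hBxy, h]⟩
    · rw [Set.mem_singleton_iff] at h
      exact ⟨x, fun hx => hxy (by rw [hx, ← h]), by rw [hBxy, h, Set.pair_comm]⟩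
  have hs2 : τ' ^ 2 ∈ G ⊓ alternatingGroup α := by
    refine Subgroup.mem_inf.mpr ⟨pow_mem τ.2 2, ?_⟩
    rw [mem_alternatingGroup, map_pow, hsign]
    decide
  set s : ↥(G ⊓ alternatingGroup α) := ⟨τ' ^ 2, hs2⟩ with hs
  have hsa : s • a₁ = a₁ := (hfix' a₁).mpr (Or.inl rfl)
  have hsB : s • B = B := (isBlock_iff_smul_eq_of_mem.mp hB) ha₁B (by rw [hsa]; exact ha₁B)
  have hγB : γ ∈ B := by rw [hBγ]; exact Set.mem_insert_of_mem _ rfl
  have hsγ : s • γ ∈ B := by
    rw [← hsB]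
    exact Set.smul_mem_smul_set hγB
  have hγτ : γ = τ' a₁ := by
    rw [hBγ] at hsγ
    rcases hsγ with h | h
    · exfalso
      apply hγ
      have : s • γ = s • a₁ := by rw [h, hsa]
      exact smul_left_cancel s this
    · rw [Set.mem_singleton_iff] at h
      rcases (hfix' γ).mp h with h1 | h1
      · exact absurd h1 hγ
      · exact h1
  have hτB : τ' • B = (1 : Equiv.Perm α) • B := by
    rw [one_smul, hBγ, hγτ]
    show (fun x => τ' • x) '' {a₁, τ' a₁} = {a₁, τ' a₁}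
    rw [Set.image_pair]
    have : τ' • τ' a₁ = a₁ := (hfix' a₁).mpr (Or.inl rfl)
    rw [this, Set.pair_comm]
    rfl
  exact isBlock_of_even_isBlock G B hB τ' τ.2 hsign 1 (one_mem _) hτB

/-- blocks of size `p` through `a₁` -/
theorem isBlock_of_ncard_prime {G : Subgroup (Equiv.Perm α)} (h : Ctx p G) (π : ↥G) (hπ : orderOf π = p)
    (τ : ↥G) (hτN : τ * π * τ⁻¹ ∈ Subgroup.zpowers π)
    (hsign : Equiv.Perm.sign (τ : Equiv.Perm α) = -1)
    (hswap : ∀ (x : α) (j : ℕ), τ • x ≠ (π ^ j) • x) (a₁ : α)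
    [IsPretransitive ↥(G ⊓ alternatingGroup α) α]
    (B : Set α) (ha₁B : a₁ ∈ B) (hB : IsBlock ↥(G ⊓ alternatingGroup α) B) (hcard : B.ncard = p) :
    IsBlock ↥G B := by
  have hp := h.hp
  have hp0 : 0 < p := hp.pos
  have hpodd : Odd p := hp.odd_of_ne_two h.hp2
  set π' : Equiv.Perm α := (π : Equiv.Perm α) with hπ'
  set τ' : Equiv.Perm α := (τ : Equiv.Perm α) with hτ'
  have hπ'o : orderOf π' = p := by rw [hπ', Subgroup.orderOf_coe, hπ]
  have hπp : π' ^ p = 1 := by rw [← hπ'o]; exact pow_orderOf_eq_one π'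
  have hπs : Equiv.Perm.sign π' = 1 := sign_eq_one_of_odd_orderOf π' (by rw [hπ'o]; exact hpodd)
  have hπfpf : ∀ x, π' x ≠ x := h.fpf π' π.2 hπ'o
  have hπmem : π' ∈ G ⊓ alternatingGroup α :=
    Subgroup.mem_inf.mpr ⟨π.2, mem_alternatingGroup.mpr hπs⟩
  have hswap' : ∀ (x : α) (j : ℕ), τ' x ≠ (π' ^ j) x := hswap
  have hdich : ∀ g : Equiv.Perm α, g ∈ G ⊓ alternatingGroup α → g • B = B ∨ Disjoint (g • B) B := by
    intro g hg
    exact (isBlock_iff_smul_eq_or_disjoint.mp hB) ⟨g, hg⟩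
  -- (i) `π` fixes `B`
  have hπB : π' • B = B := by
    rcases hdich π' hπmem with h1 | h1
    · exact h1
    · exfalso
      have h2 : π' • B = Bᶜ :=
        eq_compl_of_disjoint_of_ncard h.hα B _ hcard (by rw [Set.ncard_smul_set]; exact hcard) h1
      have h3 : π' • π' • B = B := by rw [h2, Set.smul_set_compl, h2, compl_compl]
      have h4 : ∀ n : ℕ, (π' ^ (2 * n)) • B = B := by
        intro n
        induction n with
        | zero => simp
        | succ n ih => rw [Nat.mul_succ, pow_add, mul_smul, pow_two, mul_smul, h3, ih]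
      obtain ⟨n, hn⟩ := hpodd
      have h5 : (π' ^ p) • B = Bᶜ := by
        rw [hn, pow_succ, mul_smul, h2, Set.smul_set_compl, h4]
      rw [hπp, one_smul] at h5
      have : a₁ ∈ Bᶜ := by rw [← h5]; exact ha₁B
      exact this ha₁B
  -- (ii) the `π`-orbit of `a₁` is inside `B`
  have hpow : ∀ j : ℕ, (π' ^ j) a₁ ∈ B := by
    intro j
    induction j with
    | zero => simpa using ha₁B
    | succ j ih =>
      rw [pow_succ', Equiv.Perm.mul_apply, ← hπB]
      exact Set.smul_mem_smul_set ih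
  -- nontrivial powers are fixed point free
  have hfixpow : ∀ k : ℕ, 0 < k → k < p → ∀ x, (π' ^ k) x ≠ x := by
    intro k hk0 hkp x hx
    have hcop : k.Coprime (orderOf π') := by
      rw [hπ'o]
      exact ((Nat.Prime.coprime_iff_not_dvd hp).mpr (Nat.not_dvd_of_pos_of_lt hk0 hkp)).symm
    obtain ⟨m, hm⟩ := exists_pow_eq_self_of_coprime hcop
    have := Equiv.Perm.pow_apply_eq_self_of_apply_eq_self hx m
    rw [hm] at this
    exact hπfpf x this
  have hinj : Set.InjOn (fun j : ℕ => (π' ^ j) a₁) (Finset.range p : Set ℕ) := by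
    have key : ∀ i j : ℕ, i ≤ j → j < p → (π' ^ i) a₁ = (π' ^ j) a₁ → i = j := by
      intro i j hij hjp he
      by_contra hne
      have hlt : i < j := lt_of_le_of_ne hij hne
      have h1 : (π' ^ (j - i)) a₁ = a₁ := by
        have h2 : (π' ^ j) a₁ = (π' ^ i) ((π' ^ (j - i)) a₁) := by
          rw [← Equiv.Perm.mul_apply, ← pow_add, Nat.add_sub_cancel' hij]
        rw [h2] at he
        exact ((π' ^ i).injective he).symm
      exact hfixpow (j - i) (by omega) (by omega) a₁ h1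
    intro i hi j hj he
    rw [Finset.coe_range, Set.mem_Iio] at hi hj
    rcases le_total i j with hij | hij
    · exact key i j hij hj he
    · exact (key j i hij hi he.symm).symm
  have hBform : ∀ x ∈ B, ∃ j : ℕ, x = (π' ^ j) a₁ := by
    set F : Finset α := (Finset.range p).image (fun j : ℕ => (π' ^ j) a₁) with hF
    have hFcard : F.card = p := by
      rw [hF, Finset.card_image_of_injOn hinj, Finset.card_range]
    have hFB : (F : Set α) ⊆ B := by
      intro x hx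
      rw [Finset.mem_coe, hF, Finset.mem_image] at hx
      obtain ⟨j, _, rfl⟩ := hx
      exact hpow j
    have hFeq : (F : Set α) = B := by
      apply Set.eq_of_subset_of_ncard_le hFB _ (Set.toFinite _)
      rw [Set.ncard_coe_finset, hFcard, hcard]
    intro x hx
    rw [← hFeq, Finset.mem_coe, hF, Finset.mem_image] at hx
    obtain ⟨j, _, rfl⟩ := hx
    exact ⟨j, rfl⟩
  have hτa : τ' a₁ ∉ B := by
    intro hmem
    obtain ⟨j, hj⟩ := hBform _ hmem
    exact hswap' a₁ j hj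
  -- `τ` normalizes `⟨π⟩`
  obtain ⟨k, hk⟩ : ∃ k : ℕ, π' ^ k = τ' * π' * τ'⁻¹ := by
    have h1 : τ * π * τ⁻¹ ∈ Submonoid.powers π := mem_powers_iff_mem_zpowers.mpr hτN
    obtain ⟨k, hk⟩ := (Submonoid.mem_powers_iff _ _).mp h1
    exact ⟨k, congrArg Subtype.val hk⟩
  have hconj : ∀ j : ℕ, τ' ((π' ^ j) a₁) = (π' ^ (k * j)) (τ' a₁) := by
    intro j
    have h1 : (π' ^ k) ^ j = τ' * π' ^ j * τ'⁻¹ := by rw [hk, conj_pow]
    rw [pow_mul, h1]
    simp
  -- (iv) `τ B` is disjoint from `B`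
  have hτdisj : Disjoint (τ' • B) B := by
    rw [Set.disjoint_left]
    rintro y ⟨x, hxB, rfl⟩ hyB
    obtain ⟨j, rfl⟩ := hBform x hxB
    obtain ⟨i, hi⟩ := hBform _ hyB
    apply hswap' a₁ ((p - 1) * (k * j) + i)
    have h2 : (π' ^ (k * j)) ((π' ^ ((p - 1) * (k * j) + i)) a₁) = (π' ^ i) a₁ := by
      have e : k * j + ((p - 1) * (k * j) + i) = p * (k * j) + i := by
        obtain ⟨q, rfl⟩ : ∃ q, p = q + 1 := ⟨p - 1, by omega⟩
        simp only [Nat.add_sub_cancel]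
        ring
      rw [← Equiv.Perm.mul_apply, ← pow_add, e, pow_add, pow_mul, hπp, one_pow, one_mul]
    have h1 : (π' ^ (k * j)) (τ' a₁) = (π' ^ (k * j)) ((π' ^ ((p - 1) * (k * j) + i)) a₁) := by
      rw [h2, ← hconj]
      exact hi
    exact (π' ^ (k * j)).injective h1
  -- (v) an even element mapping `a₁` to `τ a₁`
  obtain ⟨g₀, hg₀⟩ := exists_smul_eq ↥(G ⊓ alternatingGroup α) a₁ (τ' a₁)
  have hg₀B : Disjoint ((g₀ : Equiv.Perm α) • B) B := by
    rcases hdich g₀.1 g₀.2 with h1 | h1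
    · exfalso
      apply hτa
      rw [← h1, ← hg₀]
      exact Set.smul_mem_smul_set (a := (g₀ : Equiv.Perm α)) ha₁B
    · exact h1
  have e1 : τ' • B = Bᶜ :=
    eq_compl_of_disjoint_of_ncard h.hα B _ hcard (by rw [Set.ncard_smul_set]; exact hcard) hτdisj
  have e2 : (g₀ : Equiv.Perm α) • B = Bᶜ :=
    eq_compl_of_disjoint_of_ncard h.hα B _ hcard (by rw [Set.ncard_smul_set]; exact hcard) hg₀B
  exact isBlock_of_even_isBlock G B hB τ' τ.2 hsign g₀.1 g₀.2 (by rw [e1, e2])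

/-- **Module [IIC]**: in case (II) the even part of `G` is primitive. -/
theorem caseII_prim {G : Subgroup (Equiv.Perm α)} (h : Ctx p G) (π : ↥G) (hπ : orderOf π = p) (τ : ↥G)
    (hτN : τ * π * τ⁻¹ ∈ Subgroup.zpowers π) (hsign : Equiv.Perm.sign (τ : Equiv.Perm α) = -1)
    (hswap : ∀ (x : α) (j : ℕ), τ • x ≠ (π ^ j) • x) (a₁ : α)
    (hfix : ∀ x : α, (τ ^ 2) • x = x ↔ (x = a₁ ∨ x = τ • a₁)) :
    MulAction.IsPreprimitive (G ⊓ alternatingGroup α : Subgroup (Equiv.Perm α)) α := by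
  classical
  have hp := h.hp
  have hp2 : 2 ≤ p := hp.two_le
  have hp3 : 3 ≤ p := by
    have := h.hp2
    omega
  have hpodd : Odd p := hp.odd_of_ne_two h.hp2
  have hπ'o : orderOf (π : Equiv.Perm α) = p := by rw [Subgroup.orderOf_coe, hπ]
  have hπs : Equiv.Perm.sign (π : Equiv.Perm α) = 1 :=
    sign_eq_one_of_odd_orderOf _ (by rw [hπ'o]; exact hpodd)
  have hπfpf : ∀ x, (π : Equiv.Perm α) x ≠ x := h.fpf _ π.2 hπ'o
  haveI : IsPretransitive ↥(G ⊓ alternatingGroup α) α :=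
    even_isPretransitive G h.prim _ π.2 hπs a₁ (hπfpf a₁)
  apply IsPreprimitive.of_isTrivialBlock_base a₁
  intro B ha₁B hB
  have hBne : B.Nonempty := ⟨a₁, ha₁B⟩
  have hdvd : B.ncard ∣ 2 * p := by
    have := hB.ncard_dvd_card hBne
    rwa [Nat.card_eq_fintype_card, h.hα] at this
  have hcontra : IsBlock ↥G B → 2 ≤ B.ncard → B.ncard < 2 * p → False := by
    intro hGB h2 hlt
    rcases h.prim.isTrivialBlock_of_isBlock hGB with hs | hu
    · have := Set.ncard_le_one_iff_subsingleton.mpr hs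
      omega
    · rw [hu, Set.ncard_univ, Nat.card_eq_fintype_card, h.hα] at hlt
      omega
  obtain ⟨k₁, k₂, hk₁, hk₂, hk⟩ := (Nat.dvd_mul).mp hdvd
  have hk₁' : k₁ = 1 ∨ k₁ = 2 := (Nat.dvd_prime Nat.prime_two).mp hk₁
  have hk₂' : k₂ = 1 ∨ k₂ = p := (Nat.dvd_prime hp).mp hk₂
  rcases hk₁' with e1 | e1 <;> rcases hk₂' with e2 | e2 <;> rw [e1, e2] at hk
  · left
    apply Set.ncard_le_one_iff_subsingleton.mp
    omega
  · exfalso
    have hc : B.ncard = p := by omega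
    exact hcontra (isBlock_of_ncard_prime h π hπ τ hτN hsign hswap a₁ B ha₁B hB hc) (by omega) (by omega)
  · exfalso
    have hc : B.ncard = 2 := by omega
    exact hcontra (isBlock_of_ncard_two τ hsign a₁ hfix B ha₁B hB hc) (by omega) (by omega)
  · right
    apply hB.eq_univ_of_card_lt
    rw [Nat.card_eq_fintype_card, h.hα, ← hk]
    omega

end Cfsg.Agent.Lib.Helper11.W2p
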