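import Mathlib

/-!
# Wielandt degree `2p` project (S0720), module [SIGN] (helper11)

A permutation `τ` of even order `d` on `2 + 2dm` points, whose odd powers are fixed-point-free and whose
even powers (not the identity) have exactly two fixed points, is odd.
-/

set_option autoImplicit false

namespace Cfsg.Agent.Lib.Helper11.W2p

open Equiv.Perm

variable {α : Type*} [Fintype α] [DecidableEq α]

/-- The points of a cycle factor of length `n` are fixed by `τ ^ n`. -/
theorem pow_card_support_apply_of_mem {τ c : Equiv.Perm α} (hc : c ∈ τ.cycleFactorsFinset) {x : α}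
    (hx : x ∈ c.support) : (τ ^ c.support.card) x = x := by
  have h1 : c = τ.cycleOf x := cycle_is_cycleOf hx hc
  have hcyc : c.IsCycle := (mem_cycleFactorsFinset_iff.mp hc).1
  rw [← cycleOf_pow_apply_self, ← h1, ← hcyc.orderOf, pow_orderOf_eq_one]
  rfl

theorem sign_eq_neg_one_of_fix (τ : Equiv.Perm α) (d m : ℕ) (hd : orderOf τ = d) (hde : Even d)
    (hcard : Fintype.card α = 2 + d * (2 * m))
    (hodd : ∀ j : ℕ, Odd j → ∀ x : α, (τ ^ j) x ≠ x)
    (heven : ∀ j : ℕ, Even j → ¬ d ∣ j → (Finset.univ.filter fun x : α => (τ ^ j) x = x).card = 2) :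
    Equiv.Perm.sign τ = -1 := by
  classical
  have hdpos : 0 < d := by rw [← hd]; exact orderOf_pos τ
  set C := τ.cycleFactorsFinset with hC
  have hfixc : ∀ c ∈ C, ∀ y ∈ c.support, (τ ^ c.support.card) y = y :=
    fun c hc y hy => pow_card_support_apply_of_mem hc hy
  have hlen : ∀ c ∈ C, c.support.card = 2 ∨ c.support.card = d := by
    intro c hc
    have hcyc : c.IsCycle := (mem_cycleFactorsFinset_iff.mp hc).1
    have h2 : 2 ≤ c.support.card := hcyc.two_le_card_support
    obtain ⟨x, hx⟩ : c.support.Nonempty := by
      rw [← Finset.card_pos]; omega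
    have hev : Even c.support.card := by
      by_contra hne
      exact hodd _ (Nat.not_even_iff_odd.mp hne) x (hfixc c hc x hx)
    have hdvd : c.support.card ∣ d := by
      rw [← hd]
      apply dvd_of_mem_cycleType
      rw [cycleType_def]
      exact Multiset.mem_map.mpr ⟨c, hc, rfl⟩
    by_cases hdn : d ∣ c.support.card
    · right; exact Nat.dvd_antisymm hdvd hdn
    · left
      have h3 := heven _ hev hdn
      have h4 : c.support ⊆ Finset.univ.filter fun x : α => (τ ^ c.support.card) x = x := by
        intro y hy
        simp only [Finset.mem_filter, Finset.mem_univ, true_and]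
        exact hfixc c hc y hy
      have := Finset.card_le_card h4
      omega
  -- the supports cover everything
  have hsupp : τ.support = Finset.univ := by
    ext x
    simp only [Finset.mem_univ, iff_true, mem_support]
    have := hodd 1 odd_one x
    simpa using this
  have hsum : ∑ c ∈ C, c.support.card = Fintype.card α := by
    have h1 := sum_cycleType τ
    rw [cycleType_def, hsupp, Finset.card_univ] at h1
    rw [← h1]
    rfl
  have hcardC : Multiset.card τ.cycleType = C.card := by
    rw [cycleType_def, Multiset.card_map]
    rfl
  have hsign : Equiv.Perm.sign τ = (-1 : ℤˣ) ^ (Fintype.card α + C.card) := by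
    rw [sign_of_cycleType, hcardC, sum_cycleType, hsupp, Finset.card_univ]
  -- parity of the number of cycles
  have hCodd : C.card = 1 + 2 * m := by
    by_cases hd2 : d = 2
    · have h1 : ∑ c ∈ C, c.support.card = ∑ _c ∈ C, 2 := by
        apply Finset.sum_congr rfl
        intro c hc
        rcases hlen c hc with h | h <;> omega
      rw [Finset.sum_const, smul_eq_mul] at h1
      rw [hsum, hcard, hd2] at h1
      omega
    · have hd4 : 4 ≤ d := by
        obtain ⟨k, hk⟩ := hde
        omega
      set C2 := C.filter (fun c => c.support.card = 2) with hC2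
      set Cd := C.filter (fun c => ¬ c.support.card = 2) with hCd
      have hsplit : ∑ c ∈ C2, c.support.card + ∑ c ∈ Cd, c.support.card = ∑ c ∈ C, c.support.card :=
        Finset.sum_filter_add_sum_filter_not C _ _
      have hs2 : ∑ c ∈ C2, c.support.card = 2 * C2.card := by
        have : ∑ c ∈ C2, c.support.card = ∑ _c ∈ C2, 2 := by
          apply Finset.sum_congr rfl
          intro c hc
          exact (Finset.mem_filter.mp hc).2
        rw [this, Finset.sum_const, smul_eq_mul, mul_comm]
      have hsd : ∑ c ∈ Cd, c.support.card = d * Cd.card := by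
        have : ∑ c ∈ Cd, c.support.card = ∑ _c ∈ Cd, d := by
          apply Finset.sum_congr rfl
          intro c hc
          obtain ⟨hcC, hne⟩ := Finset.mem_filter.mp hc
          rcases hlen c hcC with h | h
          · exact absurd h hne
          · exact h
        rw [this, Finset.sum_const, smul_eq_mul, mul_comm]
      have hcards : C2.card + Cd.card = C.card := Finset.card_filter_add_card_filter_not (s := C) _
      -- at most one 2-cycle
      have hC2le : 2 * C2.card ≤ 2 := by
        have h2 : ¬ d ∣ 2 := fun h => by
          have := Nat.le_of_dvd (by norm_num) h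
          omega
        have h3 := heven 2 even_two h2
        have hdisj : ∀ x ∈ C2, ∀ y ∈ C2, x ≠ y → Disjoint x.support y.support := by
          intro x hx y hy hxy
          exact (cycleFactorsFinset_pairwise_disjoint τ (Finset.mem_filter.mp hx).1
            (Finset.mem_filter.mp hy).1 hxy).disjoint_support
        have h4 := Finset.card_biUnion hdisj
        rw [hs2] at h4
        rw [← h4, ← h3]
        apply Finset.card_le_card
        intro y hy
        obtain ⟨c, hc, hyc⟩ := Finset.mem_biUnion.mp hy
        obtain ⟨hcC, hc2⟩ := Finset.mem_filter.mp hc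
        simp only [Finset.mem_filter, Finset.mem_univ, true_and]
        have := hfixc c hcC y hyc
        rwa [hc2] at this
      have htot : 2 * C2.card + d * Cd.card = 2 + d * (2 * m) := by
        rw [← hs2, ← hsd, hsplit, hsum, hcard]
      have hC2 : C2.card = 0 ∨ C2.card = 1 := by omega
      rcases hC2 with h0 | h1
      · exfalso
        rw [h0] at htot
        have hdvd : d ∣ 2 := by
          have h5 : d ∣ 2 + d * (2 * m) := ⟨Cd.card, by omega⟩
          exact (Nat.dvd_add_left (dvd_mul_right d (2 * m))).mp h5
        have := Nat.le_of_dvd (by norm_num) hdvd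
        omega
      · rw [h1] at htot
        have h5 : d * Cd.card = d * (2 * m) := by omega
        have h6 : Cd.card = 2 * m := Nat.eq_of_mul_eq_mul_left hdpos h5
        omega
  rw [hsign, hCodd, hcard]
  apply Odd.neg_one_pow
  obtain ⟨k, hk⟩ := hde
  refine ⟨1 + k * (2 * m) + m, ?_⟩
  rw [hk]
  ring

end Cfsg.Agent.Lib.Helper11.W2p
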