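/-
helper11 library (module S2244-[NILP] of helper5's project S2244): in a nilpotent group, a normal subgroup `A`
with `A ≤ X ⊔ ⁅A, ⊤⁆` (`X` normal) is contained in `X`.
-/
import Mathlib

set_option autoImplicit false

namespace Cfsg.Agent.Lib.Helper11.WC

/-- in a nilpotent group a subgroup contained in its own commutator with the whole group is trivial -/
theorem eq_bot_of_le_commutator_top {Q : Type*} [Group Q] [Group.IsNilpotent Q] (B : Subgroup Q)
    (h : B ≤ ⁅B, (⊤ : Subgroup Q)⁆) : B = ⊥ := by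
  have key : ∀ n : ℕ, B ≤ (⊤ : Subgroup Q).lowerCentralSeries n := by
    intro n
    induction n with
    | zero => rw [Subgroup.lowerCentralSeries_zero]; exact le_top
    | succ n ih =>
      calc B ≤ ⁅B, (⊤ : Subgroup Q)⁆ := h
        _ ≤ ⁅(⊤ : Subgroup Q).lowerCentralSeries n, (⊤ : Subgroup Q)⁆ :=
            Subgroup.commutator_mono ih le_rfl
        _ = (⊤ : Subgroup Q).lowerCentralSeries (n + 1) := rfl
  obtain ⟨n, hn⟩ := Subgroup.nilpotent_iff_lowerCentralSeries.mp (inferInstance : Group.IsNilpotent Q)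
  exact le_bot_iff.mp (hn ▸ key n)

/-- module S2244-[NILP] -/
theorem le_of_le_sup_commutator {G : Type*} [Group G] [Group.IsNilpotent G] (A X : Subgroup G)
    [A.Normal] [X.Normal] (h : A ≤ X ⊔ ⁅A, (⊤ : Subgroup G)⁆) : A ≤ X := by
  have hsurj : Function.Surjective (QuotientGroup.mk' X) := QuotientGroup.mk'_surjective X
  have h1 : A.map (QuotientGroup.mk' X) ≤ ⁅A.map (QuotientGroup.mk' X), (⊤ : Subgroup (G ⧸ X))⁆ := by
    calc A.map (QuotientGroup.mk' X) ≤ (X ⊔ ⁅A, (⊤ : Subgroup G)⁆).map (QuotientGroup.mk' X) :=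
          Subgroup.map_mono h
      _ = ⁅A.map (QuotientGroup.mk' X), (⊤ : Subgroup (G ⧸ X))⁆ := by
          rw [Subgroup.map_sup, QuotientGroup.map_mk'_self, bot_sup_eq, Subgroup.map_commutator,
            Subgroup.map_top_of_surjective _ hsurj]
  have h2 := eq_bot_of_le_commutator_top _ h1
  have h3 := (Subgroup.map_eq_bot_iff A).mp h2
  rwa [QuotientGroup.ker_mk'] at h3

end Cfsg.Agent.Lib.Helper11.WC
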