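/-
helper11, project WAT (S4644, owner helper77).  Module WAT-[FRONT] in the "from hypotheses" form:
`stmt4644_of_BP_of` takes the `Q = ⊥` instance of WAT-[IND] (`rk_eq_rk_sup`) as a hypothesis.
-/
import Mathlib
import Cfsg.Agent.Lib.Helper77.WAT.Defs
import Cfsg.Agent.Lib.Helper16.BPNilDefs
import Cfsg.Agent.Lib.Helper16.BPNorm
import Cfsg.Agent.Lib.Helper16.NormPair
import Cfsg.Agent.Lib.Helper16.NilCentralizer
import Cfsg.Agent.Lib.Helper16.NilFusion
import Cfsg.Agent.Lib.Helper16.StabGroup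
import Cfsg.Agent.Lib.Helper16.WATCtrl
import Cfsg.Agent.Lib.Helper77.WatLoc

set_option autoImplicit false
set_option linter.unusedSectionVars false

namespace Cfsg.Agent.Lib.Helper11.WatFront

open Cfsg Cfsg.Agent.Lib.Helper16 Cfsg.Agent.Lib.Helper16.BP Cfsg.Agent.Lib.Helper77.WAT
  Cfsg.Agent.Lib.Helper82

universe u

section

variable {G : Type u} [Group G] [Fintype G] {M : Ideal AlgInt} {p : ℕ} [Fact p.Prime]
  {B : Set (IrrCharacter G)} {P : Subgroup G}
  {e : Set (IrrCharacter (Subgroup.centralizer (P : Set G)))}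

/-- a block of `H = C_G(Q)` induced from `e` inside `H` is `f_Q` -/
theorem rk_kk_of_induced (hM : IsPModular p M) (hmax : IsMaximalBrauerPair p M B P e)
    (hPab : ∀ x ∈ P, ∀ y ∈ P, x * y = y * x) {Q : Subgroup G} (hQP : Q ≤ P) (H : Subgroup G)
    (hH : H = Subgroup.centralizer (Q : Set G)) (f : Set (IrrCharacter H))
    (hf : IsInducedBlockIn M H (Subgroup.centralizer (P : Set G)) e f) :
    blockRank p f = rk p M P e Q ∧ Nat.card f = kk p M P e Q := by
  have hMp := isPModular_isPrime hM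
  subst hH
  have h1 := isInducedBlockIn_unique hf (isInducedBlockIn_subFQ hM hmax hPab hQP)
  subst h1
  exact ⟨rfl, rfl⟩

/-- `f_⊥` corresponds to `B` -/
theorem rk_kk_bot (hM : IsPModular p M) (hmax : IsMaximalBrauerPair p M B P e) :
    rk p M P e ⊥ = blockRank p B ∧ kk p M P e ⊥ = Nat.card B := by
  have h1 : (Subgroup.zpowers (1 : G)) = ⊥ := Subgroup.zpowers_one_eq_bot
  have h2 := subF_eq_subFQ hM hmax.1.1 (one_mem P)
  constructor
  · rw [← h1]
    unfold rk
    rw [← h2]
    exact blockRank_subF_of_central hM hmax (one_mem P) locC_one_eq_top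
  · rw [← h1]
    unfold kk
    rw [← h2]
    exact card_subF_of_central hM hmax (one_mem P) locC_one_eq_top

theorem isInertial_of_stab {T : Subgroup G}
    (hT : ∀ g : G, g ∈ T ↔ (g ∈ Subgroup.normalizer (P : Set G) ∧
      StabilizesBlock (Subgroup.centralizer (P : Set G)) e g)) : IsInertial T P e := by
  intro t
  rw [hT t]
  constructor
  · rintro ⟨ht, hst⟩
    exact conjPair_eq_self_of_stabilizes ht hst
  · intro h
    exact stabilizes_of_conjPair_eq_self h

theorem centralizer_singleton_eq (u : G) :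
    Subgroup.centralizer ({u} : Set G) =
      Subgroup.centralizer (((⊥ : Subgroup G) ⊔ Subgroup.zpowers u : Subgroup G) : Set G) := by
  rw [bot_sup_eq]
  ext g
  rw [Subgroup.mem_centralizer_iff, Subgroup.mem_centralizer_iff]
  constructor
  · intro h x hx
    obtain ⟨n, rfl⟩ := Subgroup.mem_zpowers_iff.mp hx
    have hc : Commute u g := h u rfl
    exact (hc.zpow_left n).eq
  · intro h x hx
    rw [Set.mem_singleton_iff] at hx
    subst hx
    exact h x (Subgroup.mem_zpowers x)

end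

/-- WAT-[FRONT], from the `Q = ⊥` instance of WAT-[IND] as a hypothesis. -/
theorem stmt4644_of_BP_of {G : Type u} [Group G] [Finite G] (p : ℕ) [Fact p.Prime]
    (M : Ideal Cfsg.AlgInt) (hM : Cfsg.IsPModular p M)
    (B : Set (Cfsg.IrrCharacter G)) (hB : Cfsg.IsPBlock M B) (P : Subgroup G)
    (hPD : Cfsg.IsDefectGroup p M B P) (hPab : ∀ x ∈ P, ∀ y ∈ P, x * y = y * x)
    (c : Set (Cfsg.IrrCharacter (Subgroup.centralizer (P : Set G))))
    (hIND : IsMaximalBrauerPair p M B P c → ∀ T : Subgroup G, IsInertial T P c → ∀ u : G, u ∈ P →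
      (∀ t ∈ T, t ∈ Subgroup.centralizer (((⊥ : Subgroup G) : Subgroup G) : Set G) →
        t * u * t⁻¹ = u) →
      rk p M P c ⊥ = rk p M P c (⊥ ⊔ Subgroup.zpowers u) ∧
        kk p M P c ⊥ = kk p M P c (⊥ ⊔ Subgroup.zpowers u))
    (hc : Cfsg.IsInducedBlock M (Subgroup.centralizer (P : Set G)) c B) (T : Subgroup G)
    (hT : ∀ g : G, g ∈ T ↔ (g ∈ Subgroup.normalizer (P : Set G) ∧
      Cfsg.StabilizesBlock (Subgroup.centralizer (P : Set G)) c g)) (u : G) (hu : u ∈ P)
    (huT : ∀ g ∈ T, g * u * g⁻¹ = u) (H : Subgroup G)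
    (hH : H = Subgroup.centralizer ({u} : Set G)) (f : Set (Cfsg.IrrCharacter H))
    (hf : Cfsg.IsInducedBlockIn M H (Subgroup.centralizer (P : Set G)) c f) :
    Cfsg.blockRank p B = Cfsg.blockRank p f ∧ Nat.card B = Nat.card f := by
  classical
  have : Fintype G := Fintype.ofFinite G
  have hPp : IsPGroup p P := isPGroup_of_isDefectGroup hPD
  have hpairB : IsBrauerPairOf p M B P c := isBrauerPairOf_of_isInducedBlock hM hPp hc
  have hmax : IsMaximalBrauerPair p M B P c := isMaximalBrauerPair_of_isDefectGroup hM hpairB hPD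
  have hTi : IsInertial T P c := isInertial_of_stab hT
  obtain ⟨h1, h2⟩ := hIND hmax T hTi u hu (fun t ht _ => huT t ht)
  obtain ⟨hb1, hb2⟩ := rk_kk_bot hM hmax
  have hQP : (⊥ : Subgroup G) ⊔ Subgroup.zpowers u ≤ P :=
    sup_le bot_le ((Subgroup.zpowers_le).mpr hu)
  obtain ⟨hf1, hf2⟩ := rk_kk_of_induced hM hmax hPab hQP H
    (hH.trans (centralizer_singleton_eq u)) f hf
  exact ⟨by rw [← hb1, h1, hf1], by rw [← hb2, h2, hf2]⟩

end Cfsg.Agent.Lib.Helper11.WatFront
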