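import Mathlib

/-!
# Module [S4015-WR] (helper15): a faithful representation of `S` induces one of `S ≀ᵣ C` on `C → U`
-/

set_option autoImplicit false

namespace Cfsg.Agent.Lib.Helper11.WreathRep

open RegularWreathProduct

section
variable {F : Type*} [Field F] {S C : Type*} [Group S] [Group C]
  {U : Type*} [AddCommGroup U] [Module F U]

/-- The action of `w` on `C → U`: `(w • v) x = ρ (w.left x) (v (w.right⁻¹ * x))`. -/
def wrLin (ρ : S →* (U ≃ₗ[F] U)) (w : S ≀ᵣ C) : (C → U) →ₗ[F] (C → U) where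
  toFun v := fun x => ρ (w.left x) (v (w.right⁻¹ * x))
  map_add' v v' := by
    funext x
    simp
  map_smul' c v := by
    funext x
    simp

@[simp] lemma wrLin_apply (ρ : S →* (U ≃ₗ[F] U)) (w : S ≀ᵣ C) (v : C → U) (x : C) :
    wrLin ρ w v x = ρ (w.left x) (v (w.right⁻¹ * x)) := rfl

/-- The monoid hom into endomorphisms. -/
def wrEnd (ρ : S →* (U ≃ₗ[F] U)) : (S ≀ᵣ C) →* Module.End F (C → U) where
  toFun w := wrLin ρ w
  map_one' := by
    apply LinearMap.ext
    intro v
    funext x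
    simp
  map_mul' a b := by
    apply LinearMap.ext
    intro v
    funext x
    simp [mul_left, mul_right, mul_assoc]

@[simp] lemma wrEnd_apply (ρ : S →* (U ≃ₗ[F] U)) (w : S ≀ᵣ C) (v : C → U) (x : C) :
    wrEnd ρ w v x = ρ (w.left x) (v (w.right⁻¹ * x)) := rfl

end

theorem exists_faithful_wreath_rep {F : Type*} [Field F] {S C : Type*} [Group S] [Group C]
    {U : Type*} [AddCommGroup U] [Module F U] [Nontrivial U]
    (ρ : S →* (U ≃ₗ[F] U)) (hρ : Function.Injective ρ) :
    ∃ ρ' : (S ≀ᵣ C) →* ((C → U) ≃ₗ[F] (C → U)), Function.Injective ρ' := by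
  classical
  let e := LinearMap.GeneralLinearGroup.generalLinearEquiv F (C → U)
  let ρ' : (S ≀ᵣ C) →* ((C → U) ≃ₗ[F] (C → U)) := e.toMonoidHom.comp (wrEnd ρ).toHomUnits
  have hρ' : ∀ (w : S ≀ᵣ C) (v : C → U) (x : C),
      ρ' w v x = ρ (w.left x) (v (w.right⁻¹ * x)) := by
    intro w v x
    rfl
  refine ⟨ρ', ?_⟩
  rw [injective_iff_map_eq_one]
  intro w hw
  have h1 : ∀ (v : C → U) (x : C), ρ (w.left x) (v (w.right⁻¹ * x)) = v x := by
    intro v x
    rw [← hρ', hw]
    rfl
  obtain ⟨u, hu⟩ := exists_ne (0 : U)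
  have hr : w.right = 1 := by
    by_contra hne
    have h2 := h1 (Pi.single (1 : C) u) (w.right * 1)
    rw [inv_mul_cancel_left, Pi.single_eq_same] at h2
    have h3 : (Pi.single (1 : C) u : C → U) (w.right * 1) = 0 := by
      apply Pi.single_eq_of_ne
      simpa using hne
    rw [h3] at h2
    exact hu ((LinearEquiv.map_eq_zero_iff _).mp h2)
  have hl : w.left = 1 := by
    funext x
    apply hρ
    rw [Pi.one_apply, map_one]
    apply LinearEquiv.ext
    intro u'
    have := h1 (fun _ => u') x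
    simpa using this
  have : w = ⟨w.left, w.right⟩ := rfl
  rw [this, hl, hr]
  rfl

end Cfsg.Agent.Lib.Helper11.WreathRep
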