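import Mathlib
import Cfsg.Prelude.Def_PLocal
import Cfsg.Prelude.Def_Local
import Cfsg.Agent.Lib.Helper11.ZJ2

/-!
# `p`-stability passes to `G / O_{p'}(G)` (in the element-wise form used by the ZJ-theorem)
-/

set_option autoImplicit false
open Cfsg

namespace Cfsg.Agent.Lib.Helper11

open scoped commutatorElement

section ZJ3

/-- A `p`-element of a quotient lifts to an element of a Sylow `p`-subgroup. -/
theorem exists_mem_sylow_map_eq {G H : Type*} [Group G] [Finite G] [Group H] (f : G →* H)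
    (hf : Function.Surjective f) {p : ℕ} [Fact p.Prime] (y : H)
    (hy : IsPGroup p (Subgroup.zpowers y)) :
    ∃ T : Sylow p G, ∃ a ∈ (T : Subgroup G), f a = y := by
  have : Finite H := Finite.of_surjective f hf
  obtain ⟨Q, hQ⟩ := hy.exists_le_sylow
  obtain ⟨T, rfl⟩ := Sylow.mapSurjective_surjective hf p Q
  have h1 : y ∈ ((T.mapSurjective hf : Sylow p H) : Subgroup H) := hQ (Subgroup.mem_zpowers y)
  rw [Sylow.coe_mapSurjective] at h1
  obtain ⟨a, ha, rfl⟩ := h1
  exact ⟨T, a, ha, rfl⟩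

theorem hst_quotient_of_isPStable {G : Type*} [Group G] [Finite G] {p : ℕ} [Fact p.Prime]
    (hs : IsPStable p G) :
    ∀ (V : Subgroup (G ⧸ pPrimeCore p G)) [V.Normal], IsPGroup p V →
      ∀ a : G ⧸ pPrimeCore p G, IsPGroup p (Subgroup.zpowers a) →
      ⁅⁅V, Subgroup.zpowers a⁆, Subgroup.zpowers a⁆ = ⊥ →
      (QuotientGroup.mk a : (G ⧸ pPrimeCore p G) ⧸ Subgroup.centralizer (V : Set (G ⧸ pPrimeCore p G))) ∈
        pCore p ((G ⧸ pPrimeCore p G) ⧸ Subgroup.centralizer (V : Set (G ⧸ pPrimeCore p G))) := by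
  intro V hVn hVp abar habar hquad
  have hπ : Function.Surjective (QuotientGroup.mk' (pPrimeCore p G)) :=
    QuotientGroup.mk'_surjective _
  obtain ⟨T, a, haT, rfl⟩ := exists_mem_sylow_map_eq (QuotientGroup.mk' (pPrimeCore p G)) hπ abar habar
  have hLn : (V.comap (QuotientGroup.mk' (pPrimeCore p G))).Normal := inferInstance
  have hKL : pPrimeCore p G ≤ V.comap (QuotientGroup.mk' (pPrimeCore p G)) := by
    intro k hk
    rw [Subgroup.mem_comap, QuotientGroup.mk'_apply, (QuotientGroup.eq_one_iff k).mpr hk]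
    exact one_mem _
  generalize hL : V.comap (QuotientGroup.mk' (pPrimeCore p G)) = L at hLn hKL
  have hmemL : ∀ x : G, x ∈ L ↔ (QuotientGroup.mk x : G ⧸ pPrimeCore p G) ∈ V := by
    intro x; rw [← hL]; rfl
  obtain ⟨P₂', hP₂'⟩ := Cfsg.Agent.Lib.Helper47.exists_sylow_eq_subgroupOf_of_normal T L
  have hP₂map : (P₂' : Subgroup ↥L).map L.subtype = (T : Subgroup G) ⊓ L := by
    rw [hP₂', Subgroup.subgroupOf_map_subtype]
  have hfrat := Sylow.normalizer_sup_eq_top P₂'
  rw [hP₂map] at hfrat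
  have hLle : L ≤ ((T : Subgroup G) ⊓ L) ⊔ pPrimeCore p G := by
    intro l hl
    obtain ⟨s, hs, c, hc, rfl⟩ := Cfsg.Agent.Lib.Helper97.exists_mem_sylow_mk_eq
      (pPrimeCore p G) V hVp T ((hmemL l).mp hl)
    have hsL : s ∈ L := by
      have : s = (s * c) * c⁻¹ := by group
      rw [this]; exact L.mul_mem hl (L.inv_mem (hKL hc))
    exact Subgroup.mul_mem_sup ⟨hs, hsL⟩ hc
  have hsupL : pPrimeCore p G ⊔ ((T : Subgroup G) ⊓ L) = L :=
    le_antisymm (sup_le hKL inf_le_right) (by rw [sup_comm]; exact hLle)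
  have hP₂p : IsPGroup p ↥((T : Subgroup G) ⊓ L) := T.isPGroup'.to_le inf_le_left
  have hzT : Subgroup.zpowers a ≤ T := (Subgroup.zpowers_le).mpr haT
  have hAp : IsPGroup p (Subgroup.zpowers a) := T.isPGroup'.to_le hzT
  have hAnorm : ∀ b ∈ Subgroup.zpowers a, ∀ x ∈ (T : Subgroup G) ⊓ L,
      b * x * b⁻¹ ∈ (T : Subgroup G) ⊓ L := fun b hb x hx =>
    ⟨Subgroup.mul_mem _ (Subgroup.mul_mem _ (hzT hb) hx.1) (Subgroup.inv_mem _ (hzT hb)),
      hLn.conj_mem x hx.2 b⟩
  have hP₂le : (T : Subgroup G) ⊓ L ≤ pPrimePCore p G := by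
    intro x hx
    rw [Cfsg.Agent.Lib.Helper54.mem_pPrimePCore_iff]
    exact Cfsg.Agent.Lib.Helper97.le_pCore_of_normal hVn hVp ((hmemL x).mp hx.2)
  have hnormal : (pPrimeCore p G ⊔ ((T : Subgroup G) ⊓ L)).Normal := by rw [hsupL]; exact hLn
  have hdisj : ∀ x, x ∈ pPrimeCore p G → x ∈ (T : Subgroup G) ⊓ L → x = 1 := fun x hxK hxP =>
    Cfsg.Agent.Lib.Helper54.eq_one_of_mem_pGroup_of_mem_coprime hP₂p
      (Cfsg.Agent.Lib.Helper54.card_pPrimeCore_coprime p) hxP hxK
  have hzN : Subgroup.zpowers a ≤ Subgroup.normalizer (((T : Subgroup G) ⊓ L : Subgroup G) : Set G) := by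
    intro b hb
    apply Subgroup.mem_normalizer_fintype
    intro x hx
    exact hAnorm b hb x hx
  have hquadG : ⁅⁅(T : Subgroup G) ⊓ L, Subgroup.zpowers a⁆, Subgroup.zpowers a⁆ = ⊥ := by
    have h1 : ⁅(T : Subgroup G) ⊓ L, Subgroup.zpowers a⁆ ≤ (T : Subgroup G) ⊓ L :=
      Subgroup.le_normalizer_iff_commutator_le_left.mp hzN
    have h2 : ⁅⁅(T : Subgroup G) ⊓ L, Subgroup.zpowers a⁆, Subgroup.zpowers a⁆ ≤
        (T : Subgroup G) ⊓ L := (Subgroup.commutator_mono h1 le_rfl).trans h1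
    have h3 : ⁅⁅(T : Subgroup G) ⊓ L, Subgroup.zpowers a⁆, Subgroup.zpowers a⁆ ≤ pPrimeCore p G := by
      have h4 : (⁅⁅(T : Subgroup G) ⊓ L, Subgroup.zpowers a⁆, Subgroup.zpowers a⁆).map
          (QuotientGroup.mk' (pPrimeCore p G)) ≤ ⊥ := by
        rw [Subgroup.map_commutator, Subgroup.map_commutator, MonoidHom.map_zpowers, ← hquad]
        refine Subgroup.commutator_mono (Subgroup.commutator_mono ?_ le_rfl) le_rfl
        rw [Subgroup.map_le_iff_le_comap, hL]
        exact inf_le_right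
      intro x hx
      have h5 := h4 (Subgroup.mem_map_of_mem _ hx)
      rw [Subgroup.mem_bot] at h5
      exact (QuotientGroup.eq_one_iff x).mp h5
    rw [eq_bot_iff]
    intro x hx
    rw [Subgroup.mem_bot]
    exact hdisj x (h3 hx) (h2 hx)
  have key := hs.2.2 (Subgroup.zpowers a) ((T : Subgroup G) ⊓ L) hAp hP₂p hAnorm hP₂le hnormal hquadG
  have haN : a ∈ Subgroup.normalizer (((T : Subgroup G) ⊓ L : Subgroup G) : Set G) :=
    hzN (Subgroup.mem_zpowers a)
  have h2 := key (Subgroup.mem_map_of_mem _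
    (show (⟨a, haN⟩ : ↥(Subgroup.normalizer (((T : Subgroup G) ⊓ L : Subgroup G) : Set G))) ∈
      (Subgroup.zpowers a).subgroupOf (Subgroup.normalizer (((T : Subgroup G) ⊓ L : Subgroup G) : Set G))
      from Subgroup.mem_subgroupOf.mpr (Subgroup.mem_zpowers a)))
  -- the comparison map
  have hsurj : Function.Surjective ((QuotientGroup.mk' (pPrimeCore p G)).comp
      (Subgroup.normalizer (((T : Subgroup G) ⊓ L : Subgroup G) : Set G)).subtype) := by
    intro gbar
    obtain ⟨g, rfl⟩ := hπ gbar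
    have hg : g ∈ Subgroup.normalizer (((T : Subgroup G) ⊓ L : Subgroup G) : Set G) ⊔
        pPrimeCore p G := by
      have hle : Subgroup.normalizer (((T : Subgroup G) ⊓ L : Subgroup G) : Set G) ⊔ L ≤
          Subgroup.normalizer (((T : Subgroup G) ⊓ L : Subgroup G) : Set G) ⊔ pPrimeCore p G := by
        exact sup_le le_sup_left
          (hLle.trans (sup_le (Subgroup.le_normalizer.trans le_sup_left) le_sup_right))
      apply hle
      rw [hfrat]; exact Subgroup.mem_top g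
    obtain ⟨n, hn, k, hk, rfl⟩ := Subgroup.mem_sup_of_normal_right.mp hg
    refine ⟨⟨n, hn⟩, ?_⟩
    simp only [MonoidHom.comp_apply, Subgroup.coe_subtype, QuotientGroup.mk'_apply,
      QuotientGroup.mk_mul]
    rw [(QuotientGroup.eq_one_iff k).mpr hk, mul_one]
  have hVmap : ∀ v ∈ V, ∃ s ∈ (T : Subgroup G) ⊓ L,
      (QuotientGroup.mk s : G ⧸ pPrimeCore p G) = v := by
    intro v hv
    obtain ⟨l, rfl⟩ := hπ v
    have hl : l ∈ L := (hmemL l).mpr hv
    obtain ⟨s, hs, k, hk, rfl⟩ := Subgroup.mem_sup_of_normal_right.mp (hLle hl)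
    refine ⟨s, hs, ?_⟩
    rw [QuotientGroup.mk'_apply, QuotientGroup.mk_mul, (QuotientGroup.eq_one_iff k).mpr hk, mul_one]
  have hCeq : (Subgroup.centralizer (((T : Subgroup G) ⊓ L : Subgroup G) : Set G)).subgroupOf
      (Subgroup.normalizer (((T : Subgroup G) ⊓ L : Subgroup G) : Set G)) =
      (Subgroup.centralizer (V : Set (G ⧸ pPrimeCore p G))).comap
        ((QuotientGroup.mk' (pPrimeCore p G)).comp
          (Subgroup.normalizer (((T : Subgroup G) ⊓ L : Subgroup G) : Set G)).subtype) := by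
    ext ⟨x, hx⟩
    rw [Subgroup.mem_subgroupOf, Subgroup.mem_comap]
    simp only [MonoidHom.comp_apply, Subgroup.coe_subtype, QuotientGroup.mk'_apply]
    constructor
    · intro hxc
      rw [Subgroup.mem_centralizer_iff]
      intro v hv
      obtain ⟨s, hs, rfl⟩ := hVmap v hv
      rw [← QuotientGroup.mk_mul, ← QuotientGroup.mk_mul,
        Subgroup.mem_centralizer_iff.mp hxc s hs]
    · intro hxc
      rw [Subgroup.mem_centralizer_iff]
      intro y hy
      have hyV : (QuotientGroup.mk y : G ⧸ pPrimeCore p G) ∈ V := (hmemL y).mp hy.2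
      have h5 := Subgroup.mem_centralizer_iff.mp hxc _ hyV
      have hwK : x * y * x⁻¹ * y⁻¹ ∈ pPrimeCore p G := by
        rw [← QuotientGroup.eq_one_iff]
        simp only [QuotientGroup.mk_mul, QuotientGroup.mk_inv]
        rw [← h5]; group
      have hwP : x * y * x⁻¹ * y⁻¹ ∈ (T : Subgroup G) ⊓ L :=
        Subgroup.mul_mem _ ((Subgroup.mem_normalizer_iff.mp hx y).mp hy) (Subgroup.inv_mem _ hy)
      have hw := hdisj _ hwK hwP
      calc y * x = (x * y * x⁻¹ * y⁻¹)⁻¹ * (x * y) := by group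
        _ = x * y := by rw [hw, inv_one, one_mul]
  exact (mem_pCore_quotient_iff_of_surjective (p := p) _ hsurj _ _ hCeq ⟨a, haN⟩).mp h2

end ZJ3

end Cfsg.Agent.Lib.Helper11
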