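import Mathlib
import Cfsg.Prelude.Def_PLocal
import Cfsg.Agent.Lib.Helper11.ZJ2

/-!
# Glauberman's ZJ-theorem, relative version: the family only needs to be closed under
conjugation and replacement inside the fixed Sylow subgroup (e.g. abelian subgroups of a strongly
closed subgroup).
-/

set_option autoImplicit false
open Cfsg

namespace Cfsg.Agent.Lib.Helper11

open scoped commutatorElement

section ZJ4

variable {G : Type*} [Group G]

/-- `good` is closed under conjugations that keep the subgroup inside `P`. -/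
def ConjClosedIn (good : Subgroup G → Prop) (P : Subgroup G) : Prop :=
  ∀ (g : G) (A : Subgroup G), good A → A ≤ P → A.map (MulAut.conj g).toMonoidHom ≤ P →
    good (A.map (MulAut.conj g).toMonoidHom)

/-- `good` is closed under Glauberman replacement inside `P`. -/
def ReplClosedIn (good : Subgroup G → Prop) (P : Subgroup G) : Prop :=
  ∀ (B A : Subgroup ↥P) [B.Normal] (b : ↥P),
    IsMulCommutative A → ⁅B, B⁆ ≤ A → b ∈ B →
    b ∈ Subgroup.normalizer ((Subgroup.normalizer (A : Set ↥P) : Subgroup ↥P) : Set ↥P) →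
    good (A.map P.subtype) → good ((starA A b).map P.subtype)

theorem fam_conj_rel {good : Subgroup G → Prop} {P : Subgroup G} (hconj : ConjClosedIn good P)
    {T A : Subgroup G} (hTP : T ≤ P) (g : G) (hg : g ∈ Subgroup.normalizer (T : Set G))
    (hA : A ∈ fam good T) : A.map (MulAut.conj g).toMonoidHom ∈ fam good T := by
  have hT : T.map (MulAut.conj g).toMonoidHom = T := Subgroup.mem_normalizer_iff_map_conj_eq.mp hg
  have hT' : T.map (MulAut.conj g⁻¹).toMonoidHom = T :=
    Subgroup.mem_normalizer_iff_map_conj_eq.mp (Subgroup.inv_mem _ hg)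
  have hAT : A.map (MulAut.conj g).toMonoidHom ≤ T := by
    rw [← hT]; exact Subgroup.map_mono hA.1
  refine ⟨hAT, hconj g A hA.2.1 (hA.1.trans hTP) (hAT.trans hTP), ?_⟩
  intro V hVT hV
  have hVT' : V.map (MulAut.conj g⁻¹).toMonoidHom ≤ T := by
    rw [← hT']; exact Subgroup.map_mono hVT
  have h3 := hA.2.2 _ hVT' (hconj g⁻¹ V hV (hVT.trans hTP) (hVT'.trans hTP))
  rw [Subgroup.card_map_of_injective (MulAut.conj g⁻¹).injective] at h3
  rw [Subgroup.card_map_of_injective (MulAut.conj g).injective]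
  exact h3

theorem normalizer_le_normalizer_famInf_rel [Finite G] {good : Subgroup G → Prop} {P : Subgroup G}
    (hconj : ConjClosedIn good P) (T : Subgroup G) (hTP : T ≤ P) :
    Subgroup.normalizer (T : Set G) ≤ Subgroup.normalizer ((famInf good T : Subgroup G) : Set G) := by
  intro g hg
  apply Subgroup.mem_normalizer_fintype
  intro x hx
  have hx' : x ∈ famInf good T := hx
  show g * x * g⁻¹ ∈ famInf good T
  unfold famInf at hx' ⊢
  rw [Subgroup.mem_sInf] at hx' ⊢
  intro A hA
  have hg' : g⁻¹ ∈ Subgroup.normalizer (T : Set G) := Subgroup.inv_mem _ hg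
  have hA' := fam_conj_rel hconj hTP g⁻¹ hg' hA
  have h1 := hx' _ hA'
  obtain ⟨y, hy, hyx⟩ := h1
  have : g * x * g⁻¹ = y := by
    rw [← hyx]
    simp only [MulEquiv.coe_toMonoidHom, MulAut.conj_apply, inv_inv]
    group
  rw [this]; exact hy

theorem replacement_in_rel [Finite G] {p : ℕ} [Fact p.Prime] (hp : p ≠ 2) {good : Subgroup G → Prop}
    (hcomm : ∀ A, good A → IsMulCommutative A)
    (P : Subgroup G) (hP : IsPGroup p P) (hrep : ReplClosedIn good P) (B : Subgroup G) [hBn : B.Normal] (hBP : B ≤ P)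
    (U : Subgroup G) (hU : U ∈ fam good P) (hBU : ⁅B, B⁆ ≤ U) (hnBU : ¬ B ≤ U) :
    ∃ A ∈ fam good P, ⁅B, B⁆ ≤ A ∧ ¬ B ≤ A ∧ B ≤ Subgroup.normalizer (A : Set G) := by
  classical
  let 𝒜 : Set (Subgroup ↥P) := {A' | A'.map P.subtype ∈ fam good P}
  have hB2 : p = 2 → IsMulCommutative (B.subgroupOf P) := fun h => absurd h hp
  have hab : ∀ A' ∈ 𝒜, IsMulCommutative A' := fun A' hA' =>
    isMulCommutative_of_map_subtype P A' (hcomm _ hA'.2.1)
  have hcomm_sub : ∀ (V : Subgroup G), ⁅B, B⁆ ≤ V → ⁅B.subgroupOf P, B.subgroupOf P⁆ ≤ V.subgroupOf P := by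
    intro V hV
    rw [Subgroup.commutator_le]
    intro x hx y hy
    rw [Subgroup.mem_subgroupOf] at hx hy ⊢
    exact hV (Subgroup.commutator_mem_commutator hx hy)
  have hstar : ∀ A' ∈ 𝒜, ∀ b ∈ B.subgroupOf P, ⁅B.subgroupOf P, B.subgroupOf P⁆ ≤ A' →
      b ∈ Subgroup.normalizer ((Subgroup.normalizer (A' : Set ↥P) : Subgroup ↥P) : Set ↥P) →
      b ∉ Subgroup.normalizer (A' : Set ↥P) → starA A' b ∈ 𝒜 := by
    intro A' hA' b hb hBA hbN _
    have hA'c := hab A' hA'
    refine ⟨Subgroup.map_subtype_le _, hrep (B.subgroupOf P) A' b hA'c hBA hb hbN hA'.2.1, ?_⟩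
    intro V hVP hV
    rw [Subgroup.card_map_of_injective P.subtype_injective,
      card_starA hP A' (B.subgroupOf P) b hB2 hA'c hBA hb hbN,
      ← Subgroup.card_map_of_injective (K := A') P.subtype_injective]
    exact hA'.2.2 V hVP hV
  have hUmap : (U.subgroupOf P).map P.subtype = U := Subgroup.map_subgroupOf_eq_of_le hU.1
  have hex : ∃ U' ∈ 𝒜, ⁅B.subgroupOf P, B.subgroupOf P⁆ ≤ U' ∧ ¬ B.subgroupOf P ≤ U' := by
    refine ⟨U.subgroupOf P, ?_, hcomm_sub U hBU, ?_⟩
    · show (U.subgroupOf P).map P.subtype ∈ fam good P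
      rw [hUmap]; exact hU
    · intro hle
      apply hnBU
      intro x hx
      have : (⟨x, hBP hx⟩ : ↥P) ∈ U.subgroupOf P := hle (by rw [Subgroup.mem_subgroupOf]; exact hx)
      rw [Subgroup.mem_subgroupOf] at this
      exact this
  obtain ⟨A', hA', h1, h2, h3⟩ :=
    Cfsg.Agent.S0651.replacement_max hP 𝒜 (B.subgroupOf P) hB2 hab hstar hex
  refine ⟨A'.map P.subtype, hA', ?_, ?_, ?_⟩
  · rw [Subgroup.commutator_le]
    intro x hx y hy
    have : ⁅(⟨x, hBP hx⟩ : ↥P), (⟨y, hBP hy⟩ : ↥P)⁆ ∈ A' := by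
      apply h1
      apply Subgroup.commutator_mem_commutator
      · rw [Subgroup.mem_subgroupOf]; exact hx
      · rw [Subgroup.mem_subgroupOf]; exact hy
    exact ⟨_, this, rfl⟩
  · intro hle
    apply h2
    intro x hx
    rw [Subgroup.mem_subgroupOf] at hx
    obtain ⟨y, hy, hyx⟩ := hle hx
    have : y = x := Subtype.ext hyx
    rw [← this]; exact hy
  · intro x hx
    have hx' : (⟨x, hBP hx⟩ : ↥P) ∈ Subgroup.normalizer (A' : Set ↥P) :=
      h3 (by rw [Subgroup.mem_subgroupOf]; exact hx)
    exact Subgroup.le_normalizer_map P.subtype ⟨_, hx', rfl⟩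

/-- The key step of the ZJ-theorem: `Z ⊓ B` is normal for every normal `p`-subgroup `B`. -/
theorem famInf_inf_normal_rel [Finite G] {p : ℕ} [Fact p.Prime] (hp : p ≠ 2) (P : Sylow p G)
    {good : Subgroup G → Prop} (hbot : good ⊥)
    (hcomm : ∀ A, good A → IsMulCommutative A)
    (hconj : ConjClosedIn good (P : Subgroup G))
    (hrep : ReplClosedIn good (P : Subgroup G))
    (hst : ∀ (V : Subgroup G) [V.Normal], IsPGroup p V → ∀ a : G, IsPGroup p (Subgroup.zpowers a) →
      ⁅⁅V, Subgroup.zpowers a⁆, Subgroup.zpowers a⁆ = ⊥ →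
      (QuotientGroup.mk a : G ⧸ Subgroup.centralizer (V : Set G)) ∈
        pCore p (G ⧸ Subgroup.centralizer (V : Set G))) :
    ∀ (n : ℕ) (B : Subgroup G), Nat.card B ≤ n → B.Normal → IsPGroup p B →
      (famInf good (P : Subgroup G) ⊓ B).Normal := by
  intro n
  induction n with
  | zero =>
    intro B hn
    have := Nat.card_pos (α := B)
    omega
  | succ n ih =>
    intro B hcard hBn hBp
    have := hBn
    have hZP : famInf good (P : Subgroup G) ≤ P := famInf_le hbot _
    have hPNZ : (P : Subgroup G) ≤ Subgroup.normalizer (famInf good (P : Subgroup G) : Set G) :=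
      Subgroup.le_normalizer.trans (normalizer_le_normalizer_famInf_rel hconj _ le_rfl)
    have hBP : B ≤ P := hBp.le_sylow_of_normal P
    by_cases hBbot : B = ⊥
    · rw [hBbot, inf_bot_eq]; infer_instance
    have hB₁B : Subgroup.normalClosure ((famInf good (P : Subgroup G) ⊓ B : Subgroup G) : Set G) ≤ B :=
      Subgroup.normalClosure_le_normal (fun x hx => hx.2)
    have hZ₁B₁ : famInf good (P : Subgroup G) ⊓ B ≤
        Subgroup.normalClosure ((famInf good (P : Subgroup G) ⊓ B : Subgroup G) : Set G) :=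
      Subgroup.subset_normalClosure
    by_cases hB₁ : Subgroup.normalClosure ((famInf good (P : Subgroup G) ⊓ B : Subgroup G) : Set G) = B
    swap
    · have hlt : Nat.card (Subgroup.normalClosure
          ((famInf good (P : Subgroup G) ⊓ B : Subgroup G) : Set G)) < Nat.card B :=
        card_lt_of_lt (lt_of_le_of_ne hB₁B hB₁)
      have hn1 := ih _ (by omega) Subgroup.normalClosure_normal (hBp.to_le hB₁B)
      have : famInf good (P : Subgroup G) ⊓ Subgroup.normalClosure
          ((famInf good (P : Subgroup G) ⊓ B : Subgroup G) : Set G) =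
          famInf good (P : Subgroup G) ⊓ B :=
        le_antisymm (inf_le_inf_left _ hB₁B) (le_inf inf_le_left hZ₁B₁)
      rw [this] at hn1; exact hn1
    -- now B is the normal closure of Z ⊓ B
    have hDlt : ⁅B, B⁆ < B := commutator_lt_of_isPGroup B hBp hBbot
    have hDn : (⁅B, B⁆).Normal := Subgroup.commutator_normal B B
    have hDcard : Nat.card ↥⁅B, B⁆ < Nat.card B := card_lt_of_lt hDlt
    have hYn : (famInf good (P : Subgroup G) ⊓ ⁅B, B⁆).Normal :=
      ih _ (by omega) hDn (hBp.to_le hDlt.le)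
    -- Claim 1
    have hc1 : ∀ z ∈ famInf good (P : Subgroup G) ⊓ B, ∀ b ∈ B,
        ⁅z, b⁆ ∈ famInf good (P : Subgroup G) ⊓ ⁅B, B⁆ := by
      intro z hz b hb
      refine ⟨?_, Subgroup.commutator_mem_commutator hz.2 hb⟩
      have hbN : b ∈ Subgroup.normalizer (famInf good (P : Subgroup G) : Set G) := hPNZ (hBP hb)
      have h1 : b * z⁻¹ * b⁻¹ ∈ famInf good (P : Subgroup G) :=
        (Subgroup.mem_normalizer_iff.mp hbN z⁻¹).mp (Subgroup.inv_mem _ hz.1)
      have h2 : ⁅z, b⁆ = z * (b * z⁻¹ * b⁻¹) := by rw [commutatorElement_def]; group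
      show ⁅z, b⁆ ∈ famInf good (P : Subgroup G)
      rw [h2]; exact Subgroup.mul_mem _ hz.1 h1
    -- Claim 2
    have hc2 : ⁅B, B⁆ ≤ famInf good (P : Subgroup G) ⊓ ⁅B, B⁆ := by
      have hcl : Subgroup.closure (Group.conjugatesOfSet
          ((famInf good (P : Subgroup G) ⊓ B : Subgroup G) : Set G)) = B := hB₁
      have key := Cfsg.Agent.S0648.commutator_closure_le (Group.conjugatesOfSet
          ((famInf good (P : Subgroup G) ⊓ B : Subgroup G) : Set G))
          (famInf good (P : Subgroup G) ⊓ ⁅B, B⁆)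
          (by rw [Subgroup.normalizer_eq_top]; exact le_top) ?_
      · rwa [hcl] at key
      · intro x hx y hy
        have hyB : y ∈ B := by rw [← hcl]; exact Subgroup.subset_closure hy
        rw [Group.mem_conjugatesOfSet_iff] at hx
        obtain ⟨z, hz, hzx⟩ := hx
        obtain ⟨g, rfl⟩ := isConj_iff.mp hzx
        have h1 := hc1 z hz (g⁻¹ * y * g) (by
          have := hBn.conj_mem y hyB g⁻¹
          simpa using this)
        have h2 : ⁅g * z * g⁻¹, y⁆ = g * ⁅z, g⁻¹ * y * g⁆ * g⁻¹ := by
          simp only [commutatorElement_def]; group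
        rw [h2]; exact hYn.conj_mem _ h1 g
    -- Claim 3
    by_cases hall : ∀ U ∈ fam good (P : Subgroup G), B ≤ U
    · have hBZ : B ≤ famInf good (P : Subgroup G) := le_sInf hall
      rw [inf_of_le_right hBZ]; exact hBn
    push Not at hall
    obtain ⟨U, hU, hnBU⟩ := hall
    have hDU : ⁅B, B⁆ ≤ U := hc2.trans (inf_le_left.trans (famInf_le_mem hU))
    obtain ⟨A, hA, hDA, hnBA, hBNA⟩ :=
      replacement_in_rel hp hcomm (P : Subgroup G) P.isPGroup' hrep B hBP U hU hDU hnBU
    exfalso; apply hnBA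
    have hAc : IsMulCommutative A := hcomm A hA.2.1
    -- p-stability
    have hquad : ∀ a ∈ A, (QuotientGroup.mk a : G ⧸ Subgroup.centralizer (B : Set G)) ∈
        pCore p (G ⧸ Subgroup.centralizer (B : Set G)) := by
      intro a ha
      have hza : Subgroup.zpowers a ≤ A := (Subgroup.zpowers_le).mpr ha
      apply hst B hBp a (P.isPGroup'.to_le (hza.trans hA.1))
      have h1 : ⁅B, Subgroup.zpowers a⁆ ≤ A :=
        (Subgroup.commutator_mono le_rfl hza).trans
          (Subgroup.le_normalizer_iff_commutator_le_right.mp hBNA)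
      rw [eq_bot_iff]
      calc ⁅⁅B, Subgroup.zpowers a⁆, Subgroup.zpowers a⁆ ≤ ⁅A, A⁆ := Subgroup.commutator_mono h1 hza
        _ = ⊥ := Subgroup.commutator_self_eq_bot_iff.mpr hAc
    have hCn : (Subgroup.centralizer (B : Set G)).Normal := Subgroup.normal_centralizer
    have hKn : ((pCore p (G ⧸ Subgroup.centralizer (B : Set G))).comap
        (QuotientGroup.mk' (Subgroup.centralizer (B : Set G)))).Normal := inferInstance
    have hAK : A ≤ (pCore p (G ⧸ Subgroup.centralizer (B : Set G))).comap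
        (QuotientGroup.mk' (Subgroup.centralizer (B : Set G))) := fun a ha => hquad a ha
    have hCK : Subgroup.centralizer (B : Set G) ≤
        (pCore p (G ⧸ Subgroup.centralizer (B : Set G))).comap
        (QuotientGroup.mk' (Subgroup.centralizer (B : Set G))) := by
      intro c hc
      rw [Subgroup.mem_comap, QuotientGroup.mk'_apply, (QuotientGroup.eq_one_iff c).mpr hc]
      exact one_mem _
    generalize hK : (pCore p (G ⧸ Subgroup.centralizer (B : Set G))).comap
        (QuotientGroup.mk' (Subgroup.centralizer (B : Set G))) = K at hKn hAK hCK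
    have := hKn
    obtain ⟨T', hT'⟩ := Cfsg.Agent.Lib.Helper47.exists_sylow_eq_subgroupOf_of_normal P K
    have hfrat := Sylow.normalizer_sup_eq_top T'
    have hTmap : (T' : Subgroup ↥K).map K.subtype = (P : Subgroup G) ⊓ K := by
      rw [hT', Subgroup.subgroupOf_map_subtype]
    rw [hTmap] at hfrat
    have hAT : A ≤ (P : Subgroup G) ⊓ K := le_inf hA.1 hAK
    have hTP : (P : Subgroup G) ⊓ K ≤ P := inf_le_left
    have hKTC : K ≤ ((P : Subgroup G) ⊓ K) ⊔ Subgroup.centralizer (B : Set G) := by
      intro k hk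
      have hk' : (QuotientGroup.mk k : G ⧸ Subgroup.centralizer (B : Set G)) ∈
          pCore p (G ⧸ Subgroup.centralizer (B : Set G)) := by
        rw [← hK] at hk; exact hk
      obtain ⟨s, hs, c, hc, rfl⟩ := Cfsg.Agent.Lib.Helper97.exists_mem_sylow_mk_eq
        (Subgroup.centralizer (B : Set G)) (pCore p (G ⧸ Subgroup.centralizer (B : Set G)))
        (Cfsg.Agent.Lib.Helper97.isPGroup_pCore p _) P hk'
      have hsK : s ∈ K := by
        have : s = (s * c) * c⁻¹ := by group
        rw [this]; exact K.mul_mem hk (K.inv_mem (hCK hc))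
      exact Subgroup.mul_mem_sup ⟨hs, hsK⟩ hc
    have hZX : famInf good (P : Subgroup G) ≤ famInf good ((P : Subgroup G) ⊓ K) :=
      famInf_le_of_le hA hAT hTP
    have hXA : famInf good ((P : Subgroup G) ⊓ K) ≤ A := famInf_le_mem (fam_mem_of_le hA hAT hTP)
    have hNT : Subgroup.normalizer (((P : Subgroup G) ⊓ K : Subgroup G) : Set G) ≤
        Subgroup.normalizer ((famInf good ((P : Subgroup G) ⊓ K) ⊓ B : Subgroup G) : Set G) := by
      intro g hg
      have hgX := normalizer_le_normalizer_famInf_rel hconj _ inf_le_left hg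
      rw [Subgroup.mem_normalizer_iff] at hgX ⊢
      intro x
      constructor
      · rintro ⟨hx1, hx2⟩; exact ⟨(hgX x).mp hx1, hBn.conj_mem x hx2 g⟩
      · rintro ⟨hx1, hx2⟩
        refine ⟨(hgX x).mpr hx1, ?_⟩
        have := hBn.conj_mem _ hx2 g⁻¹
        simpa [mul_assoc] using this
    have hNC : Subgroup.centralizer (B : Set G) ≤
        Subgroup.normalizer ((famInf good ((P : Subgroup G) ⊓ K) ⊓ B : Subgroup G) : Set G) := by
      intro c hc
      apply Subgroup.mem_normalizer_fintype
      intro x hx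
      have hxB : x ∈ B := hx.2
      have h1 : x * c = c * x := Subgroup.mem_centralizer_iff.mp hc x hxB
      have : c * x * c⁻¹ = x := by rw [← h1]; group
      rw [this]; exact hx
    have hNX : (famInf good ((P : Subgroup G) ⊓ K) ⊓ B).Normal := by
      rw [← Subgroup.normalizer_eq_top_iff, eq_top_iff, ← hfrat]
      apply sup_le hNT
      exact hKTC.trans (sup_le (Subgroup.le_normalizer.trans hNT) hNC)
    have hfin := Subgroup.normalClosure_le_normal (N := famInf good ((P : Subgroup G) ⊓ K) ⊓ B)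
      (s := ((famInf good (P : Subgroup G) ⊓ B : Subgroup G) : Set G))
      (fun x hx => ⟨hZX hx.1, hx.2⟩)
    rw [hB₁] at hfin
    exact hfin.trans (inf_le_left.trans hXA)

/-- The ZJ-theorem, normal version. -/
theorem famInf_normal_rel [Finite G] {p : ℕ} [Fact p.Prime] (hp : p ≠ 2) (P : Sylow p G)
    {good : Subgroup G → Prop} (hbot : good ⊥)
    (hcomm : ∀ A, good A → IsMulCommutative A)
    (hconj : ConjClosedIn good (P : Subgroup G))
    (hrep : ReplClosedIn good (P : Subgroup G))
    (hc : Subgroup.centralizer (pCore p G : Set G) ≤ pCore p G)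
    (hst : ∀ (V : Subgroup G) [V.Normal], IsPGroup p V → ∀ a : G, IsPGroup p (Subgroup.zpowers a) →
      ⁅⁅V, Subgroup.zpowers a⁆, Subgroup.zpowers a⁆ = ⊥ →
      (QuotientGroup.mk a : G ⧸ Subgroup.centralizer (V : Set G)) ∈
        pCore p (G ⧸ Subgroup.centralizer (V : Set G))) :
    (famInf good (P : Subgroup G)).Normal := by
  have hQn : (pCore p G).Normal := inferInstance
  have hQp : IsPGroup p (pCore p G) := Cfsg.Agent.Lib.Helper97.isPGroup_pCore p G
  have h1 := famInf_inf_normal_rel hp P hbot hcomm hconj hrep hst _ (pCore p G) le_rfl hQn hQp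
  have hPNZ : (P : Subgroup G) ≤ Subgroup.normalizer (famInf good (P : Subgroup G) : Set G) :=
    Subgroup.le_normalizer.trans (normalizer_le_normalizer_famInf_rel hconj _ le_rfl)
  have hQP : pCore p G ≤ P := Cfsg.Agent.Lib.Helper97.pCore_le_sylow' P
  have hZc := famInf_isMulCommutative hbot hcomm (P : Subgroup G)
  have hZQ : famInf good (P : Subgroup G) ≤ pCore p G := by
    intro z hz
    have hquad : ⁅⁅pCore p G, Subgroup.zpowers z⁆, Subgroup.zpowers z⁆ = ⊥ := by
      have hzz : Subgroup.zpowers z ≤ famInf good (P : Subgroup G) := (Subgroup.zpowers_le).mpr hz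
      have h2 : ⁅pCore p G, Subgroup.zpowers z⁆ ≤ famInf good (P : Subgroup G) :=
        (Subgroup.commutator_mono le_rfl hzz).trans
          (Subgroup.le_normalizer_iff_commutator_le_right.mp (hQP.trans hPNZ))
      rw [eq_bot_iff]
      calc ⁅⁅pCore p G, Subgroup.zpowers z⁆, Subgroup.zpowers z⁆
          ≤ ⁅famInf good (P : Subgroup G), famInf good (P : Subgroup G)⁆ :=
            Subgroup.commutator_mono h2 hzz
        _ = ⊥ := Subgroup.commutator_self_eq_bot_iff.mpr hZc
    have hmk := hst (pCore p G) hQp z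
      (P.isPGroup'.to_le (((Subgroup.zpowers_le).mpr hz).trans (famInf_le hbot _))) hquad
    have hCn : (Subgroup.centralizer (pCore p G : Set G)).Normal := Subgroup.normal_centralizer
    have hLn : ((pCore p (G ⧸ Subgroup.centralizer (pCore p G : Set G))).comap
        (QuotientGroup.mk' (Subgroup.centralizer (pCore p G : Set G)))).Normal := inferInstance
    have hLp : IsPGroup p ((pCore p (G ⧸ Subgroup.centralizer (pCore p G : Set G))).comap
        (QuotientGroup.mk' (Subgroup.centralizer (pCore p G : Set G)))) := by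
      apply (Cfsg.Agent.Lib.Helper97.isPGroup_pCore p _).comap_of_ker_isPGroup
      rw [QuotientGroup.ker_mk']
      exact hQp.to_le hc
    exact Cfsg.Agent.Lib.Helper97.le_pCore_of_normal hLn hLp hmk
  rw [inf_of_le_left hZQ] at h1; exact h1


end ZJ4

end Cfsg.Agent.Lib.Helper11
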