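import Mathlib
import Cfsg.Agent.Lib.Helper11.PStab
import Cfsg.Agent.Lib.Helper11.CoatomSylow
import Cfsg.Agent.Lib.Helper11.ZJ2
import Cfsg.Agent.Lib.Helper2.Burnside
import Cfsg.Agent.Lib.Helper34.NormalPComplement

set_option autoImplicit false

namespace Cfsg.Agent.Lib.Helper11

open Cfsg
open scoped commutatorElement

variable {X : Type*} [Group X]

/-- The image of a maximal Sylow subgroup in `X / O_p(X)` is still maximal. -/
theorem isCoatom_map_mk_pCore [Finite X] {p : ℕ} [Fact p.Prime] (T : Sylow p X)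
    (hT : IsCoatom (T : Subgroup X)) :
    IsCoatom ((T : Subgroup X).map (QuotientGroup.mk' (pCore p X))) := by
  have hOT : pCore p X ≤ (T : Subgroup X) := Cfsg.Agent.Lib.Helper97.pCore_le_sylow' T
  have hsurj := QuotientGroup.mk'_surjective (pCore p X)
  have hcm : ((T : Subgroup X).map (QuotientGroup.mk' (pCore p X))).comap
      (QuotientGroup.mk' (pCore p X)) = (T : Subgroup X) := by
    rw [QuotientGroup.comap_map_mk']
    exact sup_eq_right.mpr hOT
  constructor
  · intro h
    apply hT.1
    rw [← hcm, h, Subgroup.comap_top]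
  · intro B hB
    have h1 : (T : Subgroup X) < B.comap (QuotientGroup.mk' (pCore p X)) := by
      rw [← hcm]
      refine lt_of_le_of_ne (Subgroup.comap_mono hB.le) ?_
      intro h
      apply hB.ne
      have := congrArg (Subgroup.map (QuotientGroup.mk' (pCore p X))) h
      rwa [Subgroup.map_comap_eq_self_of_surjective hsurj,
        Subgroup.map_comap_eq_self_of_surjective hsurj] at this
    have h2 := hT.2 _ h1
    have := congrArg (Subgroup.map (QuotientGroup.mk' (pCore p X))) h2
    rwa [Subgroup.map_comap_eq_self_of_surjective hsurj, Subgroup.map_top_of_surjective _ hsurj]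
      at this

/-- `p`-stability (element form) of a group `X` whose Sylow `p`-subgroups are maximal subgroups and
with `X / O_p(X)` `p`-nilpotent; `p` odd. -/
theorem hst_of_coatom_sylow [Finite X] {p : ℕ} [Fact p.Prime] (hp : p ≠ 2)
    (hq : HasNormalPComplement p (X ⧸ pCore p X)) (T : Sylow p X)
    (hT : IsCoatom (T : Subgroup X)) :
    ∀ (V : Subgroup X) [V.Normal], IsPGroup p V → ∀ a : X, IsPGroup p (Subgroup.zpowers a) →
      ⁅⁅V, Subgroup.zpowers a⁆, Subgroup.zpowers a⁆ = ⊥ →
      (QuotientGroup.mk a : X ⧸ Subgroup.centralizer (V : Set X)) ∈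
        pCore p (X ⧸ Subgroup.centralizer (V : Set X)) := by
  set O := pCore p X with hO
  have hsurj := QuotientGroup.mk'_surjective O
  set T' : Sylow p (X ⧸ O) := Sylow.mapSurjective hsurj T with hT'
  have hT'c : IsCoatom (T' : Subgroup (X ⧸ O)) := by
    rw [hT', Sylow.coe_mapSurjective]
    exact isCoatom_map_mk_pCore T hT
  obtain ⟨K, hKn, hK⟩ := Cfsg.Agent.Lib.Helper2.exists_normal_complement_of_hasNormalPComplement hq T'
  have hcomm := comm_of_coatom_sylow T' hT'c K hK
  have hKcop : (Nat.card K).Coprime p := Cfsg.Agent.Lib.Helper34.card_coprime_of_isComplement' T' K hK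
  set L : Subgroup X := K.comap (QuotientGroup.mk' O) with hL
  have hLn : L.Normal := hKn.comap _
  apply hst_of_series hp L ?_ (Nat.card K) hKcop ?_ ?_
  · rw [Subgroup.commutator_le]
    intro x hx y hy
    rw [← QuotientGroup.eq_one_iff, ← QuotientGroup.mk'_apply, map_commutatorElement,
      commutatorElement_eq_one_iff_mul_comm]
    exact hcomm _ hx _ hy
  · intro y hy
    rw [← QuotientGroup.eq_one_iff, QuotientGroup.mk_pow]
    have := pow_card_eq_one' (G := K) (x := ⟨_, hy⟩)
    have h2 := congrArg Subtype.val this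
    rw [Subgroup.coe_pow, Subgroup.coe_one] at h2
    exact h2
  · intro x
    have hidx : K.index = Nat.card (T' : Subgroup (X ⧸ O)) := hK.symm.index_eq_card
    obtain ⟨m, hm⟩ := IsPGroup.iff_card.mp T'.isPGroup'
    have hqp : IsPGroup p ((X ⧸ O) ⧸ K) :=
      IsPGroup.of_card (n := m) (by rw [← Subgroup.index_eq_card, hidx, hm])
    obtain ⟨k, hk⟩ := hqp (QuotientGroup.mk (QuotientGroup.mk x))
    refine ⟨k, ?_⟩
    rw [← QuotientGroup.mk_pow, QuotientGroup.eq_one_iff, ← QuotientGroup.mk_pow] at hk
    exact hk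

/-- The local form of Glauberman's ZJ-theorem used in the Glauberman–Thompson normal `p`-complement
theorem. -/
theorem zj_normal_of_coatom_sylow [Finite X] {p : ℕ} [Fact p.Prime] (hp : p ≠ 2)
    (hc : Subgroup.centralizer (pCore p X : Set X) ≤ pCore p X)
    (hq : HasNormalPComplement p (X ⧸ pCore p X)) (T : Sylow p X)
    (hT : IsCoatom (T : Subgroup X)) : (zj (T : Subgroup X)).Normal :=
  famInf_normal' hp isMulCommutative_bot'' (fun _ h => h)
    (fun _ _ _ => Subgroup.map_isMulCommutative _ _) (replClosed_comm hp) hc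
    (hst_of_coatom_sylow hp hq T hT) T

end Cfsg.Agent.Lib.Helper11
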